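import Mathlib
import Cfsg.Prelude.Def_LieExceptional
import Cfsg.Agent.Helper15.Zassenhaus
import Cfsg.Agent.Helper60.Zass

set_option autoImplicit false

namespace Cfsg.Agent.Helper6

open MulAction
open scoped Pointwise

section ZassNormal

variable {G Ω : Type*} [Group G] [MulAction G Ω]

theorem zs_finite [Finite Ω] (hZ : Cfsg.IsZassenhausGroup G Ω) : Finite G := by
  have := hZ.1
  exact Finite.of_injective (MulAction.toPerm : G → Equiv.Perm Ω) MulAction.toPerm_injective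

/-- a non-trivial normal subgroup of a Zassenhaus group is transitive -/
theorem zs_normal_trans (hZ : Cfsg.IsZassenhausGroup G Ω) (N : Subgroup G) [hNn : N.Normal]
    (hN : N ≠ ⊥) (a b : Ω) : ∃ n ∈ N, n • a = b := by
  by_cases hab : a = b
  · exact ⟨1, N.one_mem, by rw [one_smul, hab]⟩
  obtain ⟨n, hn, hn1⟩ : ∃ n ∈ N, n ≠ 1 := by
    by_contra h
    push Not at h
    exact hN ((Subgroup.eq_bot_iff_forall N).2 h)
  obtain ⟨c, hc⟩ := Cfsg.Agent.Helper15.zass_exists_moved hZ hn1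
  obtain ⟨g, hg1, hg2⟩ := Cfsg.Agent.Helper15.zass_two_trans hZ (fun h => hc h.symm) hab
  refine ⟨g * n * g⁻¹, hNn.conj_mem n hn g, ?_⟩
  rw [mul_smul, mul_smul, ← hg1, inv_smul_smul, hg2]

theorem zs_exists_ne [Finite Ω] (hZ : Cfsg.IsZassenhausGroup G Ω) (a : Ω) : ∃ b : Ω, b ≠ a := by
  have h3 := Cfsg.Agent.Helper15.zass_three_le_card hZ
  by_contra h
  push Not at h
  have : Subsingleton Ω := ⟨fun x y => by rw [h x, h y]⟩
  have := Finite.card_le_one_iff_subsingleton.2 this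
  omega

theorem zs_exists_ne₂ [Finite Ω] (hZ : Cfsg.IsZassenhausGroup G Ω) (a b : Ω) :
    ∃ c : Ω, c ≠ a ∧ c ≠ b := by
  have h3 := Cfsg.Agent.Helper15.zass_three_le_card hZ
  by_contra h
  push Not at h
  have := Fintype.ofFinite Ω
  rw [Nat.card_eq_fintype_card] at h3
  have h2 : 2 < Fintype.card Ω := h3
  rw [Fintype.two_lt_card_iff] at h2
  obtain ⟨x, y, z, hxy, hxz, hyz⟩ := h2
  have key : ∀ c : Ω, c = a ∨ c = b := fun c => by
    by_cases hc : c = a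
    · exact Or.inl hc
    · exact Or.inr (h c hc)
  rcases key x with hx | hx <;> rcases key y with hy | hy <;> rcases key z with hz | hz <;>
    simp_all

/-- the Frobenius kernel of a point stabiliser of a Zassenhaus group -/
theorem zs_kernel [Finite Ω] (hZ : Cfsg.IsZassenhausGroup G Ω) (a : Ω) :
    ∃ K : Subgroup G, (∀ k ∈ K, k • a = a) ∧ (∀ g : G, g • a = a → ∀ k ∈ K, g * k * g⁻¹ ∈ K) ∧
      (∀ k ∈ K, k ≠ 1 → ∀ c : Ω, c ≠ a → k • c ≠ c) ∧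
      (∀ c d : Ω, c ≠ a → d ≠ a → ∃ k ∈ K, k • c = d) := by
  have hfin := zs_finite hZ
  have hmemX : ∀ x : Ω, x ∈ SubMulAction.ofStabilizer G a ↔ x ≠ a :=
    fun x => SubMulAction.mem_ofStabilizer_iff G a
  have htrans : IsPretransitive (stabilizer G a) (SubMulAction.ofStabilizer G a) := ⟨fun x y => by
    have hx : a ≠ x.1 := fun h => ((hmemX _).1 x.2) h.symm
    have hy : a ≠ y.1 := fun h => ((hmemX _).1 y.2) h.symm
    obtain ⟨g, hg1, hg2⟩ := Cfsg.Agent.Helper15.zass_two_trans hZ hx hy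
    exact ⟨⟨g, hg1⟩, Subtype.ext hg2⟩⟩
  obtain ⟨b, hb⟩ := zs_exists_ne hZ a
  obtain ⟨c, hca, hcb⟩ := zs_exists_ne₂ hZ a b
  have hfix : ∀ g : stabilizer G a, g ≠ 1 → ∀ c d : SubMulAction.ofStabilizer G a,
      g • c = c → g • d = d → c = d := by
    intro g hg c d hc hd
    by_contra hcd
    apply hg
    apply Subtype.ext
    have hc' : a ≠ c.1 := fun h => ((hmemX _).1 c.2) h.symm
    have hd' : a ≠ d.1 := fun h => ((hmemX _).1 d.2) h.symm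
    exact hZ.2.2.1 g.1 a c.1 d.1 hc' (fun h => hcd (Subtype.ext h)) hd' g.2
      (congrArg Subtype.val hc) (congrArg Subtype.val hd)
  have hne : stabilizer (stabilizer G a)
      (⟨b, (hmemX _).2 hb⟩ : SubMulAction.ofStabilizer G a) ≠ ⊥ := by
    obtain ⟨g, hg1, hga, hgb⟩ := Cfsg.Agent.Helper15.zass_exists_stab_inf_ne_one hZ (Ne.symm hb)
    intro h
    have hmem : (⟨g, hga⟩ : stabilizer G a) ∈ stabilizer (stabilizer G a)
        (⟨b, (hmemX _).2 hb⟩ : SubMulAction.ofStabilizer G a) := by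
      rw [mem_stabilizer_iff]
      exact Subtype.ext hgb
    rw [h, Subgroup.mem_bot] at hmem
    exact hg1 (congrArg Subtype.val hmem)
  obtain ⟨M, hMn, hMmem, hMtr, -⟩ := Cfsg.Agent.Helper60.frob_perm
    (L := stabilizer G a) (X := SubMulAction.ofStabilizer G a) hfix
    ⟨b, (hmemX _).2 hb⟩ hne
    ⟨⟨c, (hmemX _).2 hca⟩, fun h => hcb (congrArg Subtype.val h)⟩
  refine ⟨M.map (stabilizer G a).subtype, ?_, ?_, ?_, ?_⟩
  · rintro _ ⟨m, -, rfl⟩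
    exact m.2
  · rintro g hg _ ⟨m, hm, rfl⟩
    exact ⟨⟨g, hg⟩ * m * (⟨g, hg⟩ : stabilizer G a)⁻¹, hMn.conj_mem m hm ⟨g, hg⟩, rfl⟩
  · rintro _ ⟨m, hm, rfl⟩ hm1 c hc hfixc
    rcases (hMmem m).1 hm with h | h
    · apply hm1
      rw [h]
      rfl
    · exact h ⟨c, (hmemX _).2 hc⟩ (Subtype.ext hfixc)
  · intro c d hc hd
    obtain ⟨g, hg, h⟩ := hMtr ⟨c, (hmemX _).2 hc⟩
      ⟨d, (hmemX _).2 hd⟩
    exact ⟨g.1, ⟨g, hg, rfl⟩, congrArg Subtype.val h⟩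

/-- a non-trivial normal subgroup of a Zassenhaus group contains a non-identity element fixing two
points -/
theorem zs_exists_fix_two [Finite Ω] (hZ : Cfsg.IsZassenhausGroup G Ω) (N : Subgroup G)
    [hNn : N.Normal] (hN : N ≠ ⊥) :
    ∃ x ∈ N, x ≠ 1 ∧ ∃ a b : Ω, a ≠ b ∧ x • a = a ∧ x • b = b := by
  by_contra hcon
  push Not at hcon
  have hfin := zs_finite hZ
  have htr : IsPretransitive N Ω := ⟨fun x y => by
    obtain ⟨n, hn, h⟩ := zs_normal_trans hZ N hN x y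
    exact ⟨⟨n, hn⟩, h⟩⟩
  obtain ⟨a, ha⟩ := hZ.2.2.2.2 N hNn htr
  obtain ⟨b, hb⟩ := zs_exists_ne hZ a
  obtain ⟨M, hMn, hMmem, hMtr, -⟩ := Cfsg.Agent.Helper60.frob_perm (L := N) (X := Ω)
    (fun g hg c d hc hd => by
      by_contra hcd
      exact hcon g.1 g.2 (fun h => hg (Subtype.ext h)) c d hcd hc hd) a ha ⟨b, hb⟩
  have hM'n : (M.map N.subtype).Normal := ⟨by
    rintro _ ⟨m, hm, rfl⟩ g
    refine ⟨⟨g * m.1 * g⁻¹, hNn.conj_mem _ m.2 g⟩, ?_, rfl⟩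
    rw [SetLike.mem_coe, hMmem]
    rcases (hMmem m).1 hm with h | h
    · left
      subst h
      apply Subtype.ext
      simp
    · right
      intro c hc
      apply h (g⁻¹ • c)
      have hc' : (g * m.1 * g⁻¹) • c = c := hc
      rw [mul_smul, mul_smul] at hc'
      show m.1 • g⁻¹ • c = g⁻¹ • c
      rw [eq_inv_smul_iff]
      exact hc'⟩
  have hM'tr : IsPretransitive (M.map N.subtype) Ω := ⟨fun x y => by
    obtain ⟨g, hg, h⟩ := hMtr x y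
    exact ⟨⟨g.1, ⟨g, hg, rfl⟩⟩, h⟩⟩
  obtain ⟨c, hc⟩ := hZ.2.2.2.2 _ hM'n hM'tr
  apply hc
  rw [eq_bot_iff]
  rintro ⟨_, ⟨m, hm, rfl⟩⟩ hfix
  rw [Subgroup.mem_bot]
  apply Subtype.ext
  rcases (hMmem m).1 hm with h | h
  · subst h
    rfl
  · exact absurd (mem_stabilizer_iff.1 hfix) (h c)

theorem zs_exists_fix_two' [Finite Ω] (hZ : Cfsg.IsZassenhausGroup G Ω) (N : Subgroup G)
    [hNn : N.Normal] (hN : N ≠ ⊥) {a b : Ω} (hab : a ≠ b) :
    ∃ x ∈ N, x ≠ 1 ∧ x • a = a ∧ x • b = b := by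
  obtain ⟨x, hx, hx1, c, d, hcd, hc, hd⟩ := zs_exists_fix_two hZ N hN
  obtain ⟨g, rfl, rfl⟩ := Cfsg.Agent.Helper15.zass_two_trans hZ hcd hab
  refine ⟨g * x * g⁻¹, hNn.conj_mem x hx g, fun h => hx1 (conj_eq_one_iff.1 h), ?_, ?_⟩
  · rw [mul_smul, mul_smul, inv_smul_smul, hc]
  · rw [mul_smul, mul_smul, inv_smul_smul, hd]

/-- the Frobenius kernel of a point stabiliser lies in every non-trivial normal subgroup -/
theorem zs_kernel_le [Finite Ω] (hZ : Cfsg.IsZassenhausGroup G Ω) (N : Subgroup G)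
    [hNn : N.Normal] (hN : N ≠ ⊥) (a : Ω) (K : Subgroup G) (hKa : ∀ k ∈ K, k • a = a)
    (hKn : ∀ g : G, g • a = a → ∀ k ∈ K, g * k * g⁻¹ ∈ K)
    (hKf : ∀ k ∈ K, k ≠ 1 → ∀ c : Ω, c ≠ a → k • c ≠ c) : K ≤ N := by
  obtain ⟨b, hb⟩ := zs_exists_ne hZ a
  obtain ⟨x, hxN, hx1, hxa, hxb⟩ := zs_exists_fix_two' hZ N hN (Ne.symm hb)
  have hfin := zs_finite hZ
  let φ : K → K := fun k => ⟨k.1 * x * k.1⁻¹ * x⁻¹, by
    have : k.1 * x * k.1⁻¹ * x⁻¹ = k.1 * (x * k.1⁻¹ * x⁻¹) := by group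
    rw [this]
    exact K.mul_mem k.2 (hKn x hxa _ (K.inv_mem k.2))⟩
  have hinj : Function.Injective φ := by
    intro k k' h
    have h' : k.1 * x * k.1⁻¹ * x⁻¹ = k'.1 * x * k'.1⁻¹ * x⁻¹ := congrArg Subtype.val h
    have h'' := mul_right_cancel h'
    have hd : (k'.1⁻¹ * k.1) * x = x * (k'.1⁻¹ * k.1) := by
      calc k'.1⁻¹ * k.1 * x = k'.1⁻¹ * (k.1 * x * k.1⁻¹) * k.1 := by group
        _ = k'.1⁻¹ * (k'.1 * x * k'.1⁻¹) * k.1 := by rw [h'']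
        _ = x * (k'.1⁻¹ * k.1) := by group
    by_contra hne
    have hd1 : k'.1⁻¹ * k.1 ≠ 1 := fun h1 => hne (Subtype.ext (inv_mul_eq_one.1 h1).symm)
    have hdK : k'.1⁻¹ * k.1 ∈ K := K.mul_mem (K.inv_mem k'.2) k.2
    have hmove := hKf _ hdK hd1 b hb
    have hxd : x • ((k'.1⁻¹ * k.1) • b) = (k'.1⁻¹ * k.1) • b := by
      rw [← mul_smul, ← hd, mul_smul, hxb]
    have hda : (k'.1⁻¹ * k.1) • b ≠ a := by
      intro h
      have := hKa _ hdK
      exact hb (smul_left_cancel _ (h.trans this.symm))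
    exact hx1 (hZ.2.2.1 x a b ((k'.1⁻¹ * k.1) • b) (Ne.symm hb) (Ne.symm hmove) (Ne.symm hda)
      hxa hxb hxd)
  have hsurj := Finite.injective_iff_surjective.1 hinj
  intro k hk
  obtain ⟨k₀, hk₀⟩ := hsurj ⟨k, hk⟩
  have : k = k₀.1 * x * k₀.1⁻¹ * x⁻¹ := (congrArg Subtype.val hk₀).symm
  rw [this]
  exact N.mul_mem (hNn.conj_mem x hxN k₀.1) (N.inv_mem hxN)

/-- a non-trivial normal subgroup of a Zassenhaus group is doubly transitive -/
theorem zs_normal_two_trans [Finite Ω] (hZ : Cfsg.IsZassenhausGroup G Ω) (N : Subgroup G)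
    [hNn : N.Normal] (hN : N ≠ ⊥) {a b c d : Ω} (hab : a ≠ b) (hcd : c ≠ d) :
    ∃ n ∈ N, n • a = c ∧ n • b = d := by
  obtain ⟨n₁, hn₁, h1⟩ := zs_normal_trans hZ N hN a c
  obtain ⟨K, hKa, hKn, hKf, hKt⟩ := zs_kernel hZ c
  have hKN := zs_kernel_le hZ N hN c K hKa hKn hKf
  have hne : n₁ • b ≠ c := by
    rw [← h1]
    exact fun h => hab (smul_left_cancel _ h).symm
  obtain ⟨k, hk, h2⟩ := hKt (n₁ • b) d hne (Ne.symm hcd)
  exact ⟨k * n₁, N.mul_mem (hKN hk) hn₁, by rw [mul_smul, h1, hKa k hk], by rw [mul_smul, h2]⟩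

/-- a non-trivial normal subgroup of a Zassenhaus group has no regular normal subgroup -/
theorem zs_no_regular [Finite Ω] (hZ : Cfsg.IsZassenhausGroup G Ω) (N : Subgroup G)
    [hNn : N.Normal] (hN : N ≠ ⊥) (M : Subgroup G)
    (hMn : ∀ n ∈ N, ∀ m ∈ M, n * m * n⁻¹ ∈ M) (hMt : ∀ x y : Ω, ∃ m ∈ M, m • x = y)
    (hMr : ∀ m ∈ M, ∀ a : Ω, m • a = a → m = 1) (hMN : M ≤ N) : False := by
  have hfin := zs_finite hZ
  have hfaith := hZ.1
  obtain ⟨a, -⟩ : ∃ a : Ω, a = a := by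
    obtain ⟨g, hg, a, b, hab, ha, hb⟩ := hZ.2.2.2.1
    exact ⟨a, rfl⟩
  -- all non-identity elements of `M` are conjugate under `N`
  have hconj : ∀ m ∈ M, m ≠ 1 → ∀ m' ∈ M, m' ≠ 1 → ∃ n ∈ N, n * m * n⁻¹ = m' := by
    intro m hm hm1 m' hm' hm'1
    have h1 : a ≠ m • a := fun h => hm1 (hMr m hm a h.symm)
    have h2 : a ≠ m' • a := fun h => hm'1 (hMr m' hm' a h.symm)
    obtain ⟨n, hn, hna, hnm⟩ := zs_normal_two_trans hZ N hN h1 h2
    refine ⟨n, hn, ?_⟩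
    have hmem : m'⁻¹ * (n * m * n⁻¹) ∈ M := M.mul_mem (M.inv_mem hm') (hMn n hn m hm)
    have hna' : n⁻¹ • a = a := inv_smul_eq_iff.2 hna.symm
    have hfix : (m'⁻¹ * (n * m * n⁻¹)) • a = a := by
      rw [mul_smul, mul_smul, mul_smul, hna', hnm, inv_smul_smul]
    exact (inv_mul_eq_one.1 (hMr _ hmem a hfix)).symm
  -- `M` is non-trivial
  obtain ⟨b, hb⟩ := zs_exists_ne hZ a
  obtain ⟨mb, hmb, hmb'⟩ := hMt a b
  have hmb1 : mb ≠ 1 := by
    rintro rfl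
    rw [one_smul] at hmb'
    exact hb hmb'.symm
  have hnt : Nontrivial M := ⟨⟨⟨mb, hmb⟩, 1, fun h => hmb1 (congrArg Subtype.val h)⟩⟩
  -- `M` is abelian
  have hab : ∀ m₁ ∈ M, ∀ m₂ ∈ M, m₁ * m₂ = m₂ * m₁ := by
    have hcard : Nat.card M ≠ 1 := by
      intro h
      have := (Nat.card_eq_one_iff_unique.1 h).1
      exact not_subsingleton M this
    have hp := Nat.minFac_prime hcard
    have : Fact (Nat.card M).minFac.Prime := ⟨hp⟩
    obtain ⟨m₀, hm₀⟩ := exists_prime_orderOf_dvd_card' (G := M) (Nat.card M).minFac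
      (Nat.minFac_dvd _)
    have hm₀1 : m₀.1 ≠ 1 := by
      intro h
      have : m₀ = 1 := Subtype.ext h
      rw [this, orderOf_one] at hm₀
      exact hp.one_lt.ne hm₀
    have hm₀p : m₀.1 ^ (Nat.card M).minFac = 1 := by
      have := pow_orderOf_eq_one m₀
      rw [hm₀] at this
      exact congrArg Subtype.val this
    have hpg : IsPGroup (Nat.card M).minFac M := by
      intro m
      refine ⟨1, ?_⟩
      rw [pow_one]
      apply Subtype.ext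
      by_cases hm1 : m.1 = 1
      · rw [Subgroup.coe_pow, hm1, one_pow]
        rfl
      · obtain ⟨n, hn, e⟩ := hconj m₀.1 m₀.2 hm₀1 m.1 m.2 hm1
        rw [Subgroup.coe_pow, ← e, conj_pow, hm₀p, mul_one, mul_inv_cancel]
        rfl
    have hcen := hpg.center_nontrivial
    obtain ⟨⟨z, hz⟩, hz1⟩ := exists_ne (1 : Subgroup.center M)
    have hz1' : z.1 ≠ 1 := fun h => hz1 (Subtype.ext (Subtype.ext h))
    have hzc : ∀ y ∈ M, z.1 * y = y * z.1 := fun y hy => by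
      have := Subgroup.mem_center_iff.1 hz ⟨y, hy⟩
      exact (congrArg Subtype.val this).symm
    intro m₁ hm₁ m₂ hm₂
    by_cases h1 : m₁ = 1
    · rw [h1, one_mul, mul_one]
    · obtain ⟨n, hn, e⟩ := hconj z.1 z.2 hz1' m₁ hm₁ h1
      have hy : n⁻¹ * m₂ * n⁻¹⁻¹ ∈ M := hMn n⁻¹ (N.inv_mem hn) m₂ hm₂
      have e2 := hzc _ hy
      rw [← e]
      calc n * z.1 * n⁻¹ * m₂ = n * (z.1 * (n⁻¹ * m₂ * n⁻¹⁻¹)) * n⁻¹ := by group
        _ = n * ((n⁻¹ * m₂ * n⁻¹⁻¹) * z.1) * n⁻¹ := by rw [e2]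
        _ = m₂ * (n * z.1 * n⁻¹) := by group
  -- `M` is its own centraliser
  have hcent : ∀ c : G, (∀ m ∈ M, c * m = m * c) → c ∈ M := by
    intro c hc
    obtain ⟨m₀, hm₀, h⟩ := hMt a (c • a)
    have hfixa : (m₀⁻¹ * c) • a = a := by rw [mul_smul, ← h, inv_smul_smul]
    have h1 : m₀⁻¹ * c = 1 := by
      apply eq_of_smul_eq_smul (α := Ω)
      intro y
      obtain ⟨m, hm, rfl⟩ := hMt a y
      rw [one_smul, ← mul_smul]
      have : m₀⁻¹ * c * m = m * (m₀⁻¹ * c) := by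
        rw [mul_assoc, hc m hm, ← mul_assoc, ← mul_assoc, hab m hm m₀⁻¹ (M.inv_mem hm₀)]
      rw [this, mul_smul, hfixa]
    rw [inv_mul_eq_one] at h1
    rw [← h1]
    exact hm₀
  -- `M` is normal in `G`
  have key : ∀ g : G, ∀ m ∈ M, g⁻¹ * m * g ∈ M := by
    intro g
    by_cases hB : ∃ z ∈ M, z ≠ 1 ∧ g⁻¹ * z * g ∈ M
    · obtain ⟨z, hz, hz1, hzg⟩ := hB
      intro m hm
      by_cases hm1 : m = 1
      · rw [hm1, mul_one, inv_mul_cancel]
        exact M.one_mem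
      · obtain ⟨n, hn, e⟩ := hconj z hz hz1 m hm hm1
        have hn' : g⁻¹ * n * g⁻¹⁻¹ ∈ N := hNn.conj_mem n hn g⁻¹
        have := hMn _ hn' _ hzg
        have e2 : g⁻¹ * m * g = g⁻¹ * n * g⁻¹⁻¹ * (g⁻¹ * z * g) * (g⁻¹ * n * g⁻¹⁻¹)⁻¹ := by
          rw [← e]
          group
        rw [e2]
        exact this
    · exfalso
      push Not at hB
      have hm₂N : g * mb * g⁻¹ ∈ N := hNn.conj_mem mb (hMN hmb) g
      have hcomm : ∀ m₁ ∈ M, (g * mb * g⁻¹) * m₁ = m₁ * (g * mb * g⁻¹) := by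
        intro m₁ hm₁
        have hw : m₁ * (g * mb * g⁻¹) * m₁⁻¹ * (g * mb * g⁻¹)⁻¹ ∈ M := by
          have h1 := hMn _ hm₂N _ (M.inv_mem hm₁)
          have e : m₁ * (g * mb * g⁻¹) * m₁⁻¹ * (g * mb * g⁻¹)⁻¹ =
              m₁ * ((g * mb * g⁻¹) * m₁⁻¹ * (g * mb * g⁻¹)⁻¹) := by group
          rw [e]
          exact M.mul_mem hm₁ h1
        have hw' : g⁻¹ * (m₁ * (g * mb * g⁻¹) * m₁⁻¹ * (g * mb * g⁻¹)⁻¹) * g ∈ M := by
          have hn' : g⁻¹ * m₁ * g⁻¹⁻¹ ∈ N := hNn.conj_mem m₁ (hMN hm₁) g⁻¹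
          have h1 := hMn _ hn' _ hmb
          have e : g⁻¹ * (m₁ * (g * mb * g⁻¹) * m₁⁻¹ * (g * mb * g⁻¹)⁻¹) * g =
              (g⁻¹ * m₁ * g⁻¹⁻¹) * mb * (g⁻¹ * m₁ * g⁻¹⁻¹)⁻¹ * mb⁻¹ := by group
          rw [e]
          exact M.mul_mem h1 (M.inv_mem hmb)
        have hw1 : m₁ * (g * mb * g⁻¹) * m₁⁻¹ * (g * mb * g⁻¹)⁻¹ = 1 := by
          by_contra hne
          exact hB _ hw hne hw'
        have e3 : m₁ * (g * mb * g⁻¹) = (g * mb * g⁻¹) * m₁ := by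
          have := mul_eq_one_iff_eq_inv.1 hw1
          rw [inv_inv] at this
          exact mul_inv_eq_iff_eq_mul.1 this
        exact e3.symm
      have hin := hcent _ hcomm
      have hne : g * mb * g⁻¹ ≠ 1 := fun h => hmb1 (conj_eq_one_iff.1 h)
      apply hB _ hin hne
      have e : g⁻¹ * (g * mb * g⁻¹) * g = mb := by group
      rw [e]
      exact hmb
  have hMnormal : M.Normal := ⟨fun m hm g => by
    have := key g⁻¹ m hm
    rwa [inv_inv] at this⟩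
  have hMtr : IsPretransitive M Ω := ⟨fun x y => by
    obtain ⟨m, hm, h⟩ := hMt x y
    exact ⟨⟨m, hm⟩, h⟩⟩
  obtain ⟨c, hc⟩ := hZ.2.2.2.2 M hMnormal hMtr
  apply hc
  rw [eq_bot_iff]
  rintro ⟨m, hm⟩ hfix
  rw [Subgroup.mem_bot]
  exact Subtype.ext (hMr m hm c (mem_stabilizer_iff.1 hfix))

/-- a non-trivial normal subgroup of a Zassenhaus group is a Zassenhaus group -/
theorem zs_normal_zassenhaus [Finite Ω] (hZ : Cfsg.IsZassenhausGroup G Ω) (N : Subgroup G)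
    [hNn : N.Normal] (hN : N ≠ ⊥) : Cfsg.IsZassenhausGroup N Ω := by
  have hfin := zs_finite hZ
  have hfaith := hZ.1
  refine ⟨?_, ?_, ?_, ?_, ?_⟩
  · exact ⟨fun {n₁ n₂} h => Subtype.ext (eq_of_smul_eq_smul (α := Ω) (fun a => h a))⟩
  · rw [MulAction.is_two_pretransitive_iff]
    intro a b c d hab hcd
    obtain ⟨n, hn, h1, h2⟩ := zs_normal_two_trans hZ N hN hab hcd
    exact ⟨⟨n, hn⟩, h1, h2⟩
  · intro g a b c hab hbc hac ha hb hc
    exact Subtype.ext (hZ.2.2.1 g.1 a b c hab hbc hac ha hb hc)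
  · obtain ⟨x, hx, hx1, a, b, hab, ha, hb⟩ := zs_exists_fix_two hZ N hN
    exact ⟨⟨x, hx⟩, fun h => hx1 (congrArg Subtype.val h), a, b, hab, ha, hb⟩
  · intro M hMn hMt
    by_contra hcon
    push Not at hcon
    refine zs_no_regular hZ N hN (M.map N.subtype) ?_ ?_ ?_ ?_
    · rintro n hn _ ⟨m, hm, rfl⟩
      exact ⟨⟨n, hn⟩ * m * (⟨n, hn⟩ : N)⁻¹, hMn.conj_mem m hm ⟨n, hn⟩, rfl⟩
    · intro x y
      obtain ⟨m, hm⟩ := MulAction.exists_smul_eq M x y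
      exact ⟨m.1.1, ⟨m.1, m.2, rfl⟩, hm⟩
    · rintro _ ⟨m, hm, rfl⟩ a hfix
      have : (⟨m, hm⟩ : M) ∈ stabilizer M a := mem_stabilizer_iff.2 hfix
      rw [hcon a, Subgroup.mem_bot] at this
      have h1 : m = 1 := congrArg Subtype.val this
      rw [h1]
      rfl
    · rintro _ ⟨m, -, rfl⟩
      exact m.2

end ZassNormal

end Cfsg.Agent.Helper6
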