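import Mathlib
import Cfsg.Prelude.Def_LieExceptional

set_option autoImplicit false

namespace Cfsg.Agent.Helper6

open Matrix
open scoped Pointwise

section SzField
variable {F : Type*} [Field F] [Fintype F] {m : ℕ}

theorem sz_charP (hF : Fintype.card F = 2 ^ (2 * m + 1)) : CharP F 2 := by
  obtain ⟨p, hp⟩ := CharP.exists F
  have := hp
  have : Fact p.Prime := ⟨CharP.char_is_prime F p⟩
  obtain ⟨n, hn, hcard⟩ := FiniteField.card F p
  have : p ∣ 2 ^ (2 * m + 1) := by
    rw [← hF, hcard]; exact dvd_pow_self p (PNat.ne_zero n)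
  have h2 : p = 2 := (Nat.prime_dvd_prime_iff_eq hn Nat.prime_two).1 (hn.dvd_of_dvd_pow this)
  subst h2; exact hp

variable [CharP F 2]

/-- the field endomorphism `x ↦ x ^ 2 ^ (m + 1)` -/
noncomputable def szS (F : Type*) [Field F] [CharP F 2] (m : ℕ) : F →+* F :=
  iterateFrobenius F 2 (m + 1)

omit [Fintype F] in
theorem szS_apply (x : F) : szS F m x = x ^ 2 ^ (m + 1) := by
  simp [szS, iterateFrobenius_def]

theorem szS_szS (hF : Fintype.card F = 2 ^ (2 * m + 1)) (x : F) :
    szS F m (szS F m x) = x ^ 2 := by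
  rw [szS_apply, szS_apply, ← pow_mul]
  have : 2 ^ (m + 1) * 2 ^ (m + 1) = 2 ^ (2 * m + 1) * 2 := by ring
  rw [this, pow_mul, ← hF, FiniteField.pow_card]

omit [Fintype F] in
theorem sz_two : (2 : F) = 0 := CharP.cast_eq_zero F 2

/-- the Suzuki–Tits function -/
noncomputable def szf (m : ℕ) (x y : F) : F := x * y + szS F m x * x ^ 2 + szS F m y

/-- the affine ovoid vectors -/
noncomputable def szv (m : ℕ) (x y : F) : Fin 4 → F := ![szf m x y, y, x, 1]

omit [Fintype F] in
theorem szv_eq (x y : F) :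
    ![x * y + x ^ (2 ^ (m + 1) + 2) + y ^ (2 ^ (m + 1)), y, x, 1] = szv m x y := by
  simp [szv, szf, szS_apply, pow_add]

omit [Fintype F] in
theorem szv_ne_zero (x y : F) : szv m x y ≠ 0 := by
  intro h
  have := congrFun h 3
  simp [szv] at this

omit [Fintype F] in
theorem szv_inj {x y x' y' : F} (h : szv m x y = szv m x' y') : x = x' ∧ y = y' := by
  have h1 := congrFun h 1
  have h2 := congrFun h 2
  simp [szv] at h1 h2
  exact ⟨h2, h1⟩

theorem szf_eq_zero (hF : Fintype.card F = 2 ^ (2 * m + 1)) {x y : F} (h : szf m x y = 0) :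
    x = 0 ∧ y = 0 := by
  have h2 : (2 : F) = 0 := sz_two
  have hs := congrArg (szS F m) h
  simp only [szf, map_add, map_mul, map_pow, szS_szS hF, map_zero] at hs
  unfold szf at h
  have key : y * (szS F m x * x + y) = 0 := by
    linear_combination hs + szS F m x * h -
      (szS F m x * szS F m y + x ^ 2 * szS F m x ^ 2) * h2
  have hx0 : szS F m x * x ^ 2 = 0 → x = 0 := by
    intro h0
    rcases mul_eq_zero.1 h0 with h1 | h1
    · exact (map_eq_zero _).1 h1
    · exact pow_eq_zero_iff (two_ne_zero) |>.1 h1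
  rcases mul_eq_zero.1 key with hy | hy
  · subst hy
    have : szS F m x * x ^ 2 = 0 := by simpa using h
    exact ⟨hx0 this, rfl⟩
  · have hy' : y = szS F m x * x := by linear_combination hy - szS F m x * x * h2
    subst hy'
    have : szS F m x * x ^ 2 = 0 := by
      simp only [map_mul, szS_szS hF] at h
      linear_combination h - szS F m x * x ^ 2 * h2
    have hx := hx0 this
    subst hx
    simp

omit [Fintype F] in
theorem szf_zero : szf m (0 : F) 0 = 0 := by simp [szf]

/-- translation matrices -/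
noncomputable def szTm (m : ℕ) (a b : F) : Matrix (Fin 4) (Fin 4) F :=
  !![1, a, b + szS F m a * a, szf m a b; 0, 1, szS F m a, b; 0, 0, 1, a; 0, 0, 0, 1]

omit [Fintype F] in
theorem szTm_det (a b : F) : (szTm m a b).det = 1 := by
  rw [Matrix.det_of_isUpperTriangular]
  · simp [Fin.prod_univ_four, szTm]
  · intro i j hij
    fin_cases i <;> fin_cases j <;> simp [szTm] at hij ⊢

/-- translations, in the special linear group -/
noncomputable def szT (m : ℕ) (a b : F) : SpecialLinearGroup (Fin 4) F :=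
  ⟨szTm m a b, szTm_det a b⟩

theorem szT_smul_szv (hF : Fintype.card F = 2 ^ (2 * m + 1)) (a b x y : F) :
    szT m a b • szv m x y = szv m (x + a) (y + b + szS F m a * x) := by
  have h2 : (2 : F) = 0 := sz_two
  rw [Matrix.SpecialLinearGroup.smul_def]
  ext i
  fin_cases i
  · simp only [szT, szTm, szv, szf, Matrix.smul_eq_mulVec, Matrix.mulVec, dotProduct,
      Fin.sum_univ_four, map_add, map_mul, szS_szS hF]
    simp
    linear_combination (-((1) * a * szS F m a * x + (1) * a * szS F m x * x + (1) * a ^ 2 * szS F m x + (1) * szS F m a * x ^ 2)) * h2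
  · simp [szT, szTm, szv, Matrix.smul_eq_mulVec, Matrix.mulVec, dotProduct, Fin.sum_univ_four]
    ring
  · simp [szT, szTm, szv, Matrix.smul_eq_mulVec, Matrix.mulVec, dotProduct, Fin.sum_univ_four]
  · simp [szT, szTm, szv, Matrix.smul_eq_mulVec, Matrix.mulVec, dotProduct, Fin.sum_univ_four]

omit [Fintype F] in
theorem szT_smul_e0 (a b : F) : szT m a b • (![1, 0, 0, 0] : Fin 4 → F) = ![1, 0, 0, 0] := by
  rw [Matrix.SpecialLinearGroup.smul_def]
  ext i
  fin_cases i <;>
    simp [szT, szTm, Matrix.smul_eq_mulVec, Matrix.mulVec, dotProduct, Fin.sum_univ_four]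

/-- the inversion matrix -/
def szWm (F : Type*) [Field F] : Matrix (Fin 4) (Fin 4) F :=
  !![0, 0, 0, 1; 0, 0, 1, 0; 0, 1, 0, 0; 1, 0, 0, 0]

omit [Fintype F] [CharP F 2] in
theorem szWm_mul_self : szWm F * szWm F = 1 := by
  ext i j
  fin_cases i <;> fin_cases j <;> simp [szWm, Matrix.mul_apply, Fin.sum_univ_four]

omit [Fintype F] in
theorem szWm_det : (szWm F).det = 1 := by
  have h2 : (2 : F) = 0 := sz_two
  have h := congrArg Matrix.det (szWm_mul_self (F := F))
  rw [Matrix.det_mul, Matrix.det_one] at h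
  have h3 : ((szWm F).det - 1) ^ 2 = 0 := by
    linear_combination h - (szWm F).det * h2 + h2
  exact sub_eq_zero.1 ((pow_eq_zero_iff two_ne_zero).1 h3)

/-- the inversion, in the special linear group -/
def szW (F : Type*) [Field F] [CharP F 2] : SpecialLinearGroup (Fin 4) F :=
  ⟨szWm F, szWm_det⟩

omit [Fintype F] in
theorem szW_mul_self : szW F * szW F = 1 := by
  apply Subtype.ext
  show szWm F * szWm F = 1
  exact szWm_mul_self

omit [Fintype F] in
theorem szW_inv : (szW F)⁻¹ = szW F := by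
  rw [inv_eq_iff_mul_eq_one, szW_mul_self]

omit [Fintype F] in
theorem szW_smul (v : Fin 4 → F) : szW F • v = ![v 3, v 2, v 1, v 0] := by
  rw [Matrix.SpecialLinearGroup.smul_def]
  ext i
  fin_cases i <;>
    simp [szW, szWm, Matrix.smul_eq_mulVec, Matrix.mulVec, dotProduct, Fin.sum_univ_four]

theorem szf_inv (hF : Fintype.card F = 2 ^ (2 * m + 1)) {x y : F} (h : szf m x y ≠ 0) :
    szf m (y / szf m x y) (x / szf m x y) = 1 / szf m x y := by
  have h2 : (2 : F) = 0 := sz_two
  have hs : szS F m (szf m x y) ≠ 0 := by simpa using h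
  have hsf : szS F m (szf m x y) =
      szS F m x * szS F m y + x ^ 2 * szS F m x ^ 2 + y ^ 2 := by
    simp only [szf, map_add, map_mul, map_pow, szS_szS hF]
  have hfd : szf m x y = x * y + szS F m x * x ^ 2 + szS F m y := rfl
  generalize szf m x y = f at h hfd hs hsf
  generalize hg : szS F m f = g at hs hsf
  have id1 : x * y * g + szS F m y * y ^ 2 + szS F m x * f ^ 2 = g * f := by
    subst hfd hsf
    linear_combination ((1) * szS F m x * szS F m y * x * y + (1) * szS F m x ^ 2 * x ^ 3 * y) * h2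
  have e : szf m (y / f) (x / f) =
      (x * y * g + szS F m y * y ^ 2 + szS F m x * f ^ 2) / (g * f ^ 2) := by
    unfold szf
    simp only [map_div₀, hg]
    field_simp
  rw [e, id1]
  field_simp

theorem szW_smul_szv (hF : Fintype.card F = 2 ^ (2 * m + 1)) {x y : F} (h : szf m x y ≠ 0) :
    szW F • szv m x y = szf m x y • szv m (y / szf m x y) (x / szf m x y) := by
  rw [szW_smul]
  ext i
  fin_cases i
  · simp only [szv, Fin.zero_eta, Matrix.cons_val_zero, Pi.smul_apply, smul_eq_mul]
    simp only [Matrix.cons_val]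
    rw [szf_inv hF h]
    field_simp
  · simp [szv]
    field_simp
  · simp [szv]
    field_simp
  · simp [szv]

/-- affine points of the ovoid -/
noncomputable def szP (m : ℕ) (x y : F) : Projectivization F (Fin 4 → F) :=
  Projectivization.mk F (szv m x y) (szv_ne_zero x y)

omit [Fintype F] in
theorem szv_zero : szv m (0 : F) 0 = ![0, 0, 0, 1] := by
  simp [szv, szf]

omit [Fintype F] in
theorem szP_zero : szP m (0 : F) 0 = Cfsg.suzukiPointZero F := by
  unfold szP Cfsg.suzukiPointZero
  congr 1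
  exact szv_zero

omit [Fintype F] in
theorem szP_ne_inf (x y : F) : szP m x y ≠ Cfsg.suzukiPointInfinity F := by
  intro h
  unfold szP Cfsg.suzukiPointInfinity at h
  rw [Projectivization.mk_eq_mk_iff] at h
  obtain ⟨a, ha⟩ := h
  have := congrFun ha 3
  simp [szv] at this

omit [Fintype F] in
theorem szP_inj {x y x' y' : F} (h : szP m x y = szP m x' y') : x = x' ∧ y = y' := by
  unfold szP at h
  rw [Projectivization.mk_eq_mk_iff] at h
  obtain ⟨a, ha⟩ := h
  have h3 := congrFun ha 3
  have h2 := congrFun ha 2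
  have h1 := congrFun ha 1
  simp [szv] at h3 h2 h1
  have ha1 : (a : F) = 1 := by
    simpa [Units.smul_def] using h3
  rw [Units.smul_def, ha1, one_smul] at h2 h1
  exact ⟨h2.symm, h1.symm⟩

omit [Fintype F] in
theorem mem_ovoid_iff (p : Projectivization F (Fin 4 → F)) :
    p ∈ Cfsg.suzukiOvoid F m ↔ p = Cfsg.suzukiPointInfinity F ∨ ∃ x y : F, p = szP m x y := by
  constructor
  · rintro ⟨v, hv, rfl, h | ⟨x, y, h⟩⟩
    · subst h
      exact Or.inl rfl
    · right
      refine ⟨x, y, ?_⟩
      unfold szP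
      congr 1
      rw [h, szv_eq]
  · rintro (h | ⟨x, y, h⟩)
    · subst h
      exact ⟨![1, 0, 0, 0], by simp, rfl, Or.inl rfl⟩
    · subst h
      exact ⟨szv m x y, szv_ne_zero x y, rfl, Or.inr ⟨x, y, (szv_eq x y).symm⟩⟩

omit [Fintype F] in
theorem inf_mem_ovoid : Cfsg.suzukiPointInfinity F ∈ Cfsg.suzukiOvoid F m :=
  (mem_ovoid_iff _).2 (Or.inl rfl)

omit [Fintype F] in
theorem szP_mem_ovoid (x y : F) : szP m x y ∈ Cfsg.suzukiOvoid F m :=
  (mem_ovoid_iff _).2 (Or.inr ⟨x, y, rfl⟩)

theorem szT_smul_szP (hF : Fintype.card F = 2 ^ (2 * m + 1)) (a b x y : F) :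
    szT m a b • szP m x y = szP m (x + a) (y + b + szS F m a * x) := by
  unfold szP
  rw [Projectivization.smul_mk]
  congr 1
  exact szT_smul_szv hF a b x y

omit [Fintype F] in
theorem szT_smul_inf (a b : F) :
    szT m a b • Cfsg.suzukiPointInfinity F = Cfsg.suzukiPointInfinity F := by
  unfold Cfsg.suzukiPointInfinity
  rw [Projectivization.smul_mk]
  congr 1
  exact szT_smul_e0 a b

omit [Fintype F] in
theorem szW_smul_inf : szW F • Cfsg.suzukiPointInfinity F = szP m 0 0 := by
  unfold Cfsg.suzukiPointInfinity szP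
  rw [Projectivization.smul_mk]
  congr 1
  rw [szW_smul, szv_zero]
  simp

omit [Fintype F] in
theorem szW_smul_szP_zero : szW F • szP m 0 0 = Cfsg.suzukiPointInfinity F := by
  unfold Cfsg.suzukiPointInfinity szP
  rw [Projectivization.smul_mk]
  congr 1
  rw [szW_smul, szv_zero]
  simp

theorem szW_smul_szP (hF : Fintype.card F = 2 ^ (2 * m + 1)) {x y : F} (h : szf m x y ≠ 0) :
    szW F • szP m x y = szP m (y / szf m x y) (x / szf m x y) := by
  unfold szP
  rw [Projectivization.smul_mk, Projectivization.mk_eq_mk_iff]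
  exact ⟨Units.mk0 _ h, (szW_smul_szv hF h).symm⟩

theorem szT_mem (hF : Fintype.card F = 2 ^ (2 * m + 1)) (a b : F) : szT m a b ∈ Cfsg.Sz F m := by
  rw [MulAction.mem_stabilizer_set_iff_smul_set_subset (Set.toFinite _), Set.smul_set_subset_iff]
  intro p hp
  rcases (mem_ovoid_iff p).1 hp with h | ⟨x, y, h⟩
  · subst h
    rw [szT_smul_inf]
    exact inf_mem_ovoid
  · subst h
    rw [szT_smul_szP hF]
    exact szP_mem_ovoid _ _

theorem szW_mem (hF : Fintype.card F = 2 ^ (2 * m + 1)) : szW F ∈ Cfsg.Sz F m := by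
  rw [MulAction.mem_stabilizer_set_iff_smul_set_subset (Set.toFinite _), Set.smul_set_subset_iff]
  intro p hp
  rcases (mem_ovoid_iff p).1 hp with h | ⟨x, y, h⟩
  · subst h
    rw [szW_smul_inf (m := m)]
    exact szP_mem_ovoid _ _
  · subst h
    by_cases hf : szf m x y = 0
    · obtain ⟨rfl, rfl⟩ := szf_eq_zero hF hf
      rw [szW_smul_szP_zero]
      exact inf_mem_ovoid
    · rw [szW_smul_szP hF hf]
      exact szP_mem_ovoid _ _

omit [Fintype F] [CharP F 2] in
theorem sz_mem_smul_mem {g : SpecialLinearGroup (Fin 4) F} (hg : g ∈ Cfsg.Sz F m)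
    {p : Projectivization F (Fin 4 → F)} (hp : p ∈ Cfsg.suzukiOvoid F m) :
    g • p ∈ Cfsg.suzukiOvoid F m := by
  have h : g • Cfsg.suzukiOvoid F m = Cfsg.suzukiOvoid F m := hg
  rw [← h]
  exact Set.smul_mem_smul_set hp

/-- every point of the ovoid can be moved to the point at infinity -/
theorem sz_exists_smul_eq_inf (hF : Fintype.card F = 2 ^ (2 * m + 1))
    {p : Projectivization F (Fin 4 → F)} (hp : p ∈ Cfsg.suzukiOvoid F m) :
    ∃ g ∈ Cfsg.Sz F m, g • p = Cfsg.suzukiPointInfinity F := by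
  rcases (mem_ovoid_iff p).1 hp with h | ⟨x, y, h⟩
  · exact ⟨1, one_mem _, by rw [one_smul, h]⟩
  · subst h
    refine ⟨szW F * (szT m x y)⁻¹, mul_mem (szW_mem hF) (inv_mem (szT_mem hF x y)), ?_⟩
    have : szT m x y • szP m 0 0 = szP m x y := by
      rw [szT_smul_szP hF]
      simp
    rw [mul_smul, ← this, inv_smul_smul, szW_smul_szP_zero]

omit [Fintype F] in
theorem sz_indep_core {x₁ y₁ x₂ y₂ : F} (hne : ¬ (x₁ = x₂ ∧ y₁ = y₂)) {a b c : F}
    (h : a • (![1, 0, 0, 0] : Fin 4 → F) + b • szv m x₁ y₁ + c • szv m x₂ y₂ = 0) :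
    a = 0 ∧ b = 0 ∧ c = 0 := by
  have h0 := congrFun h 0
  have h1 := congrFun h 1
  have h2 := congrFun h 2
  have h3 := congrFun h 3
  simp [szv] at h0 h1 h2 h3
  have hc : c = -b := by linear_combination h3
  subst hc
  have hb : b = 0 := by
    by_contra hb
    apply hne
    constructor
    · have : b * (x₁ - x₂) = 0 := by linear_combination h2
      rcases mul_eq_zero.1 this with h' | h'
      · exact absurd h' hb
      · exact sub_eq_zero.1 h'
    · have : b * (y₁ - y₂) = 0 := by linear_combination h1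
      rcases mul_eq_zero.1 this with h' | h'
      · exact absurd h' hb
      · exact sub_eq_zero.1 h'
  subst hb
  simp at h0
  exact ⟨h0, rfl, by simp⟩

/-- any three distinct points of the ovoid are independent -/
theorem sz_independent (hF : Fintype.card F = 2 ^ (2 * m + 1))
    (p : Fin 3 ↪ Cfsg.suzukiOvoid F m) :
    Projectivization.Independent (fun i => (p i : Projectivization F (Fin 4 → F))) := by
  rw [Projectivization.independent_iff, Fintype.linearIndependent_iff]
  intro c hc
  obtain ⟨g, hg, hg0⟩ := sz_exists_smul_eq_inf hF (p 0).2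
  have hmem : ∀ i, g • (p i).1 ∈ Cfsg.suzukiOvoid F m := fun i => sz_mem_smul_mem hg (p i).2
  have hne : ∀ i j, i ≠ j → g • (p i).1 ≠ g • (p j).1 := by
    intro i j hij h
    exact hij (p.injective (Subtype.ext (smul_left_cancel g h)))
  obtain ⟨x₁, y₁, h1⟩ : ∃ x y, g • (p 1).1 = szP m x y := by
    rcases (mem_ovoid_iff _).1 (hmem 1) with h | h
    · exact absurd (h.trans hg0.symm) (hne 1 0 (by decide))
    · exact h
  obtain ⟨x₂, y₂, h2⟩ : ∃ x y, g • (p 2).1 = szP m x y := by
    rcases (mem_ovoid_iff _).1 (hmem 2) with h | h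
    · exact absurd (h.trans hg0.symm) (hne 2 0 (by decide))
    · exact h
  have hxy : ¬ (x₁ = x₂ ∧ y₁ = y₂) := by
    rintro ⟨rfl, rfl⟩
    exact hne 1 2 (by decide) (h1.trans h2.symm)
  have key : ∀ (q : Projectivization F (Fin 4 → F)) (v : Fin 4 → F) (hv : v ≠ 0),
      g • q = Projectivization.mk F v hv → ∃ k : F, k ≠ 0 ∧ g • q.rep = k • v := by
    intro q v hv h
    rw [← Projectivization.mk_rep q, Projectivization.smul_mk, Projectivization.mk_eq_mk_iff] at h
    obtain ⟨a, ha⟩ := h
    exact ⟨a, a.ne_zero, ha.symm⟩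
  obtain ⟨k0, hk0, e0⟩ := key (p 0).1 _ _ hg0
  obtain ⟨k1, hk1, e1⟩ := key (p 1).1 _ _ h1
  obtain ⟨k2, hk2, e2⟩ := key (p 2).1 _ _ h2
  have hsum := congrArg (fun v => g • v) hc
  simp only [Fin.sum_univ_three, smul_add, smul_zero, Function.comp] at hsum
  rw [smul_comm g, smul_comm g, smul_comm g, e0, e1, e2, smul_smul, smul_smul, smul_smul] at hsum
  obtain ⟨ha, hb, hc'⟩ := sz_indep_core hxy hsum
  intro i
  fin_cases i
  · exact (mul_eq_zero.1 ha).resolve_right hk0
  · exact (mul_eq_zero.1 hb).resolve_right hk1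
  · exact (mul_eq_zero.1 hc').resolve_right hk2

end SzField
end Cfsg.Agent.Helper6
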