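import Mathlib
import Cfsg.Prelude.Def_LieExceptional
import Cfsg.Agent.Helper6.Suzuki

set_option autoImplicit false

namespace Cfsg.Agent.Helper6

open Matrix
open scoped Pointwise

section SzStructure
variable {F : Type*} [Field F] [Fintype F] {m : ℕ} [CharP F 2]

omit [Fintype F] [CharP F 2] in
theorem sl4_smul_apply (g : SpecialLinearGroup (Fin 4) F) (v : Fin 4 → F) (i : Fin 4) :
    (g • v) i = g i 0 * v 0 + g i 1 * v 1 + g i 2 * v 2 + g i 3 * v 3 := by
  rw [Matrix.SpecialLinearGroup.smul_def]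
  simp [Matrix.smul_eq_mulVec, Matrix.mulVec, dotProduct, Fin.sum_univ_four]

/-- the diagonal matrices -/
noncomputable def szDm (m : ℕ) (t : Fˣ) : Matrix (Fin 4) (Fin 4) F :=
  Matrix.diagonal ![szS F m t * (t : F) ^ 2, szS F m t, (szS F m t)⁻¹, (szS F m t * (t : F) ^ 2)⁻¹]

omit [Fintype F] in
theorem szS_unit_ne_zero (t : Fˣ) : szS F m (t : F) ≠ 0 := by
  simp

omit [Fintype F] in
theorem szDm_det (t : Fˣ) : (szDm m t).det = 1 := by
  have h1 := szS_unit_ne_zero (m := m) t
  have h2 : (t : F) ≠ 0 := t.ne_zero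
  simp only [szDm, Matrix.det_diagonal, Fin.prod_univ_four]
  simp
  field_simp

/-- the diagonal elements, in the special linear group -/
noncomputable def szD (m : ℕ) (t : Fˣ) : SpecialLinearGroup (Fin 4) F :=
  ⟨szDm m t, szDm_det t⟩

omit [Fintype F] in
theorem szD_mul (s t : Fˣ) : szD m (s * t) = szD m s * szD m t := by
  apply Subtype.ext
  show szDm m (s * t) = szDm m s * szDm m t
  unfold szDm
  rw [Matrix.diagonal_mul_diagonal]
  congr 1
  ext i
  fin_cases i <;> simp <;> ring

omit [Fintype F] in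
theorem szD_one : szD m (1 : Fˣ) = 1 := by
  apply Subtype.ext
  show szDm m 1 = 1
  unfold szDm
  rw [← Matrix.diagonal_one]
  congr 1
  ext i
  fin_cases i <;> simp

/-- the diagonal elements as a homomorphism -/
noncomputable def szDhom (F : Type*) [Field F] [CharP F 2] (m : ℕ) :
    Fˣ →* SpecialLinearGroup (Fin 4) F where
  toFun := szD m
  map_one' := szD_one
  map_mul' := szD_mul

omit [Fintype F] in
theorem szD_apply (t : Fˣ) (i j : Fin 4) :
    (szD m t) i j = (Matrix.diagonal ![szS F m t * (t : F) ^ 2, szS F m t, (szS F m t)⁻¹,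
      (szS F m t * (t : F) ^ 2)⁻¹] : Matrix (Fin 4) (Fin 4) F) i j := rfl

theorem szD_smul_szv (hF : Fintype.card F = 2 ^ (2 * m + 1)) (t : Fˣ) (x y : F) :
    szD m t • szv m x y = (szS F m t * (t : F) ^ 2)⁻¹ •
      szv m ((t : F) ^ 2 * x) (szS F m t ^ 2 * (t : F) ^ 2 * y) := by
  have h1 := szS_unit_ne_zero (m := m) t
  have h2 : (t : F) ≠ 0 := t.ne_zero
  ext i
  rw [sl4_smul_apply]
  fin_cases i
  · simp [szD_apply, szv, szf, szS_szS hF]
    field_simp
  · simp [szD_apply, szv]
    field_simp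
  · simp [szD_apply, szv]
    field_simp
  · simp [szD_apply, szv]

theorem szD_smul_szP (hF : Fintype.card F = 2 ^ (2 * m + 1)) (t : Fˣ) (x y : F) :
    szD m t • szP m x y = szP m ((t : F) ^ 2 * x) (szS F m t ^ 2 * (t : F) ^ 2 * y) := by
  unfold szP
  rw [Projectivization.smul_mk, Projectivization.mk_eq_mk_iff]
  have h1 := szS_unit_ne_zero (m := m) t
  have h2 : (t : F) ≠ 0 := t.ne_zero
  refine ⟨Units.mk0 ((szS F m t * (t : F) ^ 2)⁻¹) (by positivity), ?_⟩
  exact (szD_smul_szv hF t x y).symm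

omit [Fintype F] in
theorem szD_smul_e0 (t : Fˣ) : szD m t • (![1, 0, 0, 0] : Fin 4 → F) =
    (szS F m t * (t : F) ^ 2) • ![1, 0, 0, 0] := by
  ext i
  rw [sl4_smul_apply]
  fin_cases i <;> simp [szD_apply]

omit [Fintype F] in
theorem szD_smul_inf (t : Fˣ) :
    szD m t • Cfsg.suzukiPointInfinity F = Cfsg.suzukiPointInfinity F := by
  unfold Cfsg.suzukiPointInfinity
  rw [Projectivization.smul_mk, Projectivization.mk_eq_mk_iff]
  have h1 := szS_unit_ne_zero (m := m) t
  have h2 : (t : F) ≠ 0 := t.ne_zero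
  refine ⟨Units.mk0 (szS F m t * (t : F) ^ 2) (mul_ne_zero h1 (pow_ne_zero 2 h2)), ?_⟩
  exact (szD_smul_e0 t).symm

theorem szD_smul_zero (hF : Fintype.card F = 2 ^ (2 * m + 1)) (t : Fˣ) :
    szD m t • szP m (0 : F) 0 = szP m 0 0 := by
  rw [szD_smul_szP hF]
  simp

theorem szD_mem (hF : Fintype.card F = 2 ^ (2 * m + 1)) (t : Fˣ) : szD m t ∈ Cfsg.Sz F m := by
  rw [MulAction.mem_stabilizer_set_iff_smul_set_subset (Set.toFinite _), Set.smul_set_subset_iff]
  intro p hp
  rcases (mem_ovoid_iff p).1 hp with h | ⟨x, y, h⟩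
  · subst h
    rw [szD_smul_inf]
    exact inf_mem_ovoid
  · subst h
    rw [szD_smul_szP hF]
    exact szP_mem_ovoid _ _

omit [Field F] [CharP F 2] in
theorem sz_sigma_lt (hm : 1 ≤ m) (hF : Fintype.card F = 2 ^ (2 * m + 1)) :
    4 ≤ 2 ^ (m + 1) ∧ 2 ^ (m + 1) + 2 < Fintype.card F := by
  have h4 : 4 ≤ 2 ^ (m + 1) := by
    have : 2 ^ 2 ≤ 2 ^ (m + 1) := Nat.pow_le_pow_right (by norm_num) (by omega)
    simpa using this
  refine ⟨h4, ?_⟩
  rw [hF]
  have : 2 ^ (2 * m + 1) = 2 ^ m * 2 ^ (m + 1) := by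
    rw [← pow_add]
    congr 1
    omega
  have h2m : 2 ≤ 2 ^ m := by
    calc 2 = 2 ^ 1 := by norm_num
      _ ≤ 2 ^ m := Nat.pow_le_pow_right (by norm_num) hm
  nlinarith

/-- a polynomial function `A y² + B y^(σ+2) + C y^σ` vanishing identically has zero coefficients -/
theorem sz_poly_vanish (hm : 1 ≤ m) (hF : Fintype.card F = 2 ^ (2 * m + 1)) {A B C : F}
    (h : ∀ y : F, A * y ^ 2 + B * (szS F m y * y ^ 2) + C * szS F m y = 0) :
    A = 0 ∧ B = 0 ∧ C = 0 := by
  classical
  obtain ⟨hσ4, hq⟩ := sz_sigma_lt hm hF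
  generalize hσ : 2 ^ (m + 1) = σ at hσ4 hq
  let p : Polynomial F := Polynomial.C A * Polynomial.X ^ 2 +
    Polynomial.C B * Polynomial.X ^ (σ + 2) + Polynomial.C C * Polynomial.X ^ σ
  have hdeg : p.natDegree ≤ σ + 2 := by
    apply Polynomial.natDegree_add_le_of_degree_le
    · apply Polynomial.natDegree_add_le_of_degree_le
      · exact (Polynomial.natDegree_C_mul_X_pow_le _ _).trans (by omega)
      · exact Polynomial.natDegree_C_mul_X_pow_le _ _
    · exact (Polynomial.natDegree_C_mul_X_pow_le _ _).trans (by omega)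
  have hp : p = 0 := by
    apply Polynomial.eq_zero_of_natDegree_lt_card_of_eval_eq_zero p (f := id)
      Function.injective_id
    · intro y
      simp only [p, id, Polynomial.eval_add, Polynomial.eval_mul, Polynomial.eval_C,
        Polynomial.eval_pow, Polynomial.eval_X]
      have := h y
      rw [szS_apply, hσ] at this
      rw [pow_add]
      linear_combination this
    · exact lt_of_le_of_lt hdeg hq
  have c2 := congrArg (fun p => Polynomial.coeff p 2) hp
  have cσ := congrArg (fun p => Polynomial.coeff p σ) hp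
  have cσ2 := congrArg (fun p => Polynomial.coeff p (σ + 2)) hp
  have e2 : ¬ (2 = σ) := by omega
  have e3 : ¬ (σ = 2) := by omega
  have e5 : ¬ (σ = 0) := by omega
  simp [p, Polynomial.coeff_C_mul, Polynomial.coeff_X_pow, Polynomial.coeff_C, e2, e3, e5] at c2 cσ cσ2
  exact ⟨c2, cσ2, cσ⟩

omit [Fintype F] in
/-- an element of the Suzuki group fixing the point at infinity has first column `(α,0,0,0)` and
last row `(0,0,0,δ)` -/
theorem sz_fix_inf_shape {g : SpecialLinearGroup (Fin 4) F} (hg : g ∈ Cfsg.Sz F m)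
    (h : g • Cfsg.suzukiPointInfinity F = Cfsg.suzukiPointInfinity F) :
    g 1 0 = 0 ∧ g 2 0 = 0 ∧ g 3 0 = 0 ∧ g 3 1 = 0 ∧ g 3 2 = 0 := by
  have hcol : ∃ α : F, g • (![1, 0, 0, 0] : Fin 4 → F) = α • ![1, 0, 0, 0] := by
    have h' := h
    unfold Cfsg.suzukiPointInfinity at h'
    rw [Projectivization.smul_mk, Projectivization.mk_eq_mk_iff] at h'
    obtain ⟨a, ha⟩ := h'
    exact ⟨a, ha.symm⟩
  obtain ⟨α, hα⟩ := hcol
  have c1 := congrFun hα 1
  have c2 := congrFun hα 2
  have c3 := congrFun hα 3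
  rw [sl4_smul_apply] at c1 c2 c3
  simp at c1 c2 c3
  have key : ∀ x y : F, g 3 1 * y + g 3 2 * x + g 3 3 ≠ 0 := by
    intro x y h0
    have hmem := sz_mem_smul_mem hg (szP_mem_ovoid (m := m) x y)
    rcases (mem_ovoid_iff _).1 hmem with h' | ⟨x', y', h'⟩
    · rw [← h] at h'
      exact szP_ne_inf x y (smul_left_cancel g h')
    · unfold szP at h'
      rw [Projectivization.smul_mk, Projectivization.mk_eq_mk_iff] at h'
      obtain ⟨a, ha⟩ := h'
      have h3 := congrFun ha 3
      rw [sl4_smul_apply] at h3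
      simp only [szv, c3, Pi.smul_apply, Units.smul_def, smul_eq_mul] at h3
      simp at h3
      rw [h0] at h3
      exact a.ne_zero h3
  refine ⟨c1, c2, c3, ?_, ?_⟩
  · by_contra h1
    exact key 0 (-(g 3 3) / g 3 1) (by field_simp; ring)
  · by_contra h2
    exact key (-(g 3 3) / g 3 2) 0 (by field_simp; ring)

omit [Fintype F] in
theorem szW_conj_apply (g : SpecialLinearGroup (Fin 4) F) (i j : Fin 4) :
    (szW F * g * szW F) i j = g (Fin.rev i) (Fin.rev j) := by
  show (szWm F * g.1 * szWm F) i j = _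
  fin_cases i <;> fin_cases j <;>
    simp [szWm, Matrix.mul_apply, Fin.sum_univ_four, Fin.rev, Matrix.vecMul, dotProduct]

/-- an element of the Suzuki group fixing both the point at infinity and the point zero is one of the
diagonal elements -/
theorem sz_fix_two (hm : 1 ≤ m) (hF : Fintype.card F = 2 ^ (2 * m + 1))
    {g : SpecialLinearGroup (Fin 4) F} (hg : g ∈ Cfsg.Sz F m)
    (hinf : g • Cfsg.suzukiPointInfinity F = Cfsg.suzukiPointInfinity F)
    (h0 : g • szP m (0 : F) 0 = szP m 0 0) : ∃ t : Fˣ, g = szD m t := by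
  have h2 : (2 : F) = 0 := sz_two
  obtain ⟨c10, c20, c30, c31, c32⟩ := sz_fix_inf_shape hg hinf
  have hg' : szW F * g * szW F ∈ Cfsg.Sz F m :=
    mul_mem (mul_mem (szW_mem hF) hg) (szW_mem hF)
  have hinf' : (szW F * g * szW F) • Cfsg.suzukiPointInfinity F = Cfsg.suzukiPointInfinity F := by
    rw [mul_smul, mul_smul, szW_smul_inf (m := m), h0, szW_smul_szP_zero]
  obtain ⟨d10, d20, d30, d31, d32⟩ := sz_fix_inf_shape hg' hinf'
  rw [szW_conj_apply] at d10 d20 d30 d31 d32
  have c23 : g 2 3 = 0 := d10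
  have c13 : g 1 3 = 0 := d20
  have c03 : g 0 3 = 0 := d30
  have c02 : g 0 2 = 0 := d31
  have c01 : g 0 1 = 0 := d32
  have hfun : ∀ x y : F, ∃ x' y' : F, g 2 1 * y + g 2 2 * x = g 3 3 * x' ∧
      g 1 1 * y + g 1 2 * x = g 3 3 * y' ∧ g 0 0 * szf m x y = g 3 3 * szf m x' y' ∧
      g 3 3 ≠ 0 := by
    intro x y
    have hmem := sz_mem_smul_mem hg (szP_mem_ovoid (m := m) x y)
    rcases (mem_ovoid_iff _).1 hmem with h' | ⟨x', y', h'⟩
    · rw [← hinf] at h'
      exact absurd (smul_left_cancel g h') (szP_ne_inf x y)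
    · unfold szP at h'
      rw [Projectivization.smul_mk, Projectivization.mk_eq_mk_iff] at h'
      obtain ⟨a, ha⟩ := h'
      have e0 := congrFun ha 0
      have e1 := congrFun ha 1
      have e2 := congrFun ha 2
      have e3 := congrFun ha 3
      rw [sl4_smul_apply] at e0 e1 e2 e3
      simp only [szv, Pi.smul_apply, Units.smul_def, smul_eq_mul, c10, c20, c30, c31, c32, c23,
        c13, c03, c02, c01] at e0 e1 e2 e3
      simp at e0 e1 e2 e3
      refine ⟨x', y', ?_, ?_, ?_, ?_⟩
      · rw [← e3]; linear_combination -e2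
      · rw [← e3]; linear_combination -e1
      · rw [← e3]; linear_combination -e0
      · rw [← e3]; exact a.ne_zero
  obtain ⟨-, -, -, -, -, hδ⟩ := hfun 0 0
  generalize hα : g 0 0 = α at hfun
  generalize ha : g 1 1 = a at hfun
  generalize hb : g 1 2 = b at hfun
  generalize hc : g 2 1 = c at hfun
  generalize hd : g 2 2 = d at hfun
  generalize hδ' : g 3 3 = δ at hfun hδ
  have hσδ : szS F m δ ≠ 0 := by simpa using hδ
  have P1 : ∀ y : F, (δ * szS F m δ * c * a) * y ^ 2 + (δ * szS F m c * c ^ 2) *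
      (szS F m y * y ^ 2) + (δ ^ 3 * szS F m a - α * δ ^ 2 * szS F m δ) * szS F m y = 0 := by
    intro y
    obtain ⟨x', y', e1, e2, e3, -⟩ := hfun 0 y
    simp only [mul_zero, add_zero] at e1 e2
    have e3' : α * szS F m y = δ * szf m x' y' := by simpa [szf] using e3
    have G : δ * szS F m δ * (c * y) * (a * y) + δ * szS F m (c * y) * (c * y) ^ 2 +
        δ ^ 3 * szS F m (a * y) - δ ^ 2 * szS F m δ * (α * szS F m y) = 0 := by
      rw [e1, e2, e3']
      simp only [szf, map_mul]
      ring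
    simp only [map_mul] at G
    linear_combination G
  obtain ⟨A1, B1, C1⟩ := sz_poly_vanish hm hF P1
  have hc0 : c = 0 := by
    by_contra hne
    have : szS F m c ≠ 0 := by simpa using hne
    exact absurd B1 (by positivity)
  have P2 : ∀ x : F, (δ * szS F m δ * d * b) * x ^ 2 + (δ * szS F m d * d ^ 2 -
      δ ^ 2 * szS F m δ * α) * (szS F m x * x ^ 2) + (δ ^ 3 * szS F m b) * szS F m x = 0 := by
    intro x
    obtain ⟨x', y', e1, e2, e3, -⟩ := hfun x 0
    simp only [mul_zero, zero_add] at e1 e2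
    have e3' : α * (szS F m x * x ^ 2) = δ * szf m x' y' := by simpa [szf] using e3
    have G : δ * szS F m δ * (d * x) * (b * x) + δ * szS F m (d * x) * (d * x) ^ 2 +
        δ ^ 3 * szS F m (b * x) - δ ^ 2 * szS F m δ * (α * (szS F m x * x ^ 2)) = 0 := by
      rw [e1, e2, e3']
      simp only [szf, map_mul]
      ring
    simp only [map_mul] at G
    linear_combination G
  obtain ⟨A2, B2, C2⟩ := sz_poly_vanish hm hF P2
  have hb0 : b = 0 := by
    by_contra hne
    have : szS F m b ≠ 0 := by simpa using hne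
    exact absurd C2 (by positivity)
  have R3 : d * a = δ * α := by
    obtain ⟨x', y', e1, e2, e3, -⟩ := hfun 1 1
    rw [hc0] at e1
    rw [hb0] at e2
    simp only [mul_one, zero_add, add_zero] at e1 e2
    have e3' : α * (1 + 1 + 1) = δ * szf m x' y' := by simpa [szf] using e3
    have G : δ * szS F m δ * d * a + δ * szS F m d * d ^ 2 +
        δ ^ 3 * szS F m a - δ ^ 2 * szS F m δ * (α * (1 + 1 + 1)) = 0 := by
      rw [e1, e2, e3']
      simp only [szf, map_mul]
      ring
    have : δ * szS F m δ * (d * a - δ * α) = 0 := by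
      linear_combination G - B2 - C1
    rcases mul_eq_zero.1 this with h' | h'
    · exact absurd h' (mul_ne_zero hδ hσδ)
    · exact sub_eq_zero.1 h'
  have hdiag : (g : Matrix (Fin 4) (Fin 4) F) = Matrix.diagonal ![α, a, d, δ] := by
    ext i j
    fin_cases i <;> fin_cases j <;>
      simp [c10, c20, c30, c31, c32, c23, c13, c03, c02, c01, hα, ha, hb, hc, hd, hδ', hb0, hc0]
  have hdet : α * a * d * δ = 1 := by
    have := g.2
    rw [hdiag, Matrix.det_diagonal] at this
    simpa [Fin.prod_univ_four] using this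
  have had : a * d = 1 := by
    have : (a * d - 1) ^ 2 = 0 := by
      linear_combination hdet + a * d * R3 - (a * d - 1) * h2
    exact sub_eq_zero.1 ((pow_eq_zero_iff two_ne_zero).1 this)
  have hαδ : α * δ = 1 := by linear_combination had - R3
  have hα0 : α ≠ 0 := left_ne_zero_of_mul_eq_one hαδ
  have hσα : szS F m α ≠ 0 := by simpa using hα0
  have haα : a * α = szS F m α := by
    have R1 : δ * szS F m a = α * szS F m δ := by
      have : δ ^ 2 * (δ * szS F m a - α * szS F m δ) = 0 := by linear_combination C1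
      rcases mul_eq_zero.1 this with h' | h'
      · exact absurd h' (pow_ne_zero 2 hδ)
      · exact sub_eq_zero.1 h'
    have hs : szS F m δ * szS F m α = 1 := by
      rw [← map_mul, mul_comm, hαδ, map_one]
    have h3 : δ * (szS F m a * szS F m α - α ^ 2) = 0 := by
      linear_combination szS F m α * R1 + α * hs - α * hαδ
    have h4 : szS F m (a * α) = szS F m (szS F m α) := by
      rw [szS_szS hF, map_mul]
      rcases mul_eq_zero.1 h3 with h' | h'
      · exact absurd h' hδ
      · exact sub_eq_zero.1 h'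
    exact (szS F m).injective h4
  obtain ⟨t0, ht0⟩ : ∃ t0 : F, α ^ 2 / szS F m α = t0 * t0 :=
    FiniteField.isSquare_of_char_two (ringChar.eq F 2) _
  have ht2 : t0 ^ 2 * szS F m α = α ^ 2 := by
    rw [pow_two, ← ht0]
    field_simp
  have ht00 : t0 ≠ 0 := by
    rintro rfl
    simp at ht2
    exact hα0 ((pow_eq_zero_iff two_ne_zero).1 ht2.symm)
  have hσt : szS F m t0 * α = szS F m α := by
    have h5 := congrArg (szS F m) ht2
    simp only [map_mul, map_pow, szS_szS hF] at h5
    have : (szS F m t0 * α - szS F m α) ^ 2 = 0 := by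
      linear_combination h5 - szS F m t0 * α * szS F m α * h2 + szS F m α ^ 2 * h2
    exact sub_eq_zero.1 ((pow_eq_zero_iff two_ne_zero).1 this)
  refine ⟨Units.mk0 t0 ht00, ?_⟩
  apply Subtype.ext
  show (g : Matrix (Fin 4) (Fin 4) F) = szDm m (Units.mk0 t0 ht00)
  rw [hdiag]
  unfold szDm
  congr 1
  have hσt0 : szS F m t0 ≠ 0 := by simpa using ht00
  have e1 : szS F m t0 = a := by
    have : (szS F m t0 - a) * α = 0 := by linear_combination hσt - haα
    rcases mul_eq_zero.1 this with h' | h'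
    · exact sub_eq_zero.1 h'
    · exact absurd h' hα0
  have e0 : szS F m t0 * t0 ^ 2 = α := by
    have : (szS F m t0 * t0 ^ 2 - α) * szS F m α = 0 := by
      linear_combination szS F m t0 * ht2 + α * hσt
    rcases mul_eq_zero.1 this with h' | h'
    · exact sub_eq_zero.1 h'
    · exact absurd h' hσα
  ext i
  fin_cases i
  · simp [e0]
  · simp [e1]
  · simp only [Units.val_mk0, e1]
    simp
    exact (eq_inv_of_mul_eq_one_right had)
  · simp only [Units.val_mk0, e0]
    simp
    exact (eq_inv_of_mul_eq_one_right hαδ)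

theorem szT_smul_zero (hF : Fintype.card F = 2 ^ (2 * m + 1)) (a b : F) :
    szT m a b • szP m (0 : F) 0 = szP m a b := by
  rw [szT_smul_szP hF]
  simp

/-- an element of the Suzuki group fixing the point at infinity is a translation times a diagonal
element -/
theorem sz_fix_inf (hm : 1 ≤ m) (hF : Fintype.card F = 2 ^ (2 * m + 1))
    {g : SpecialLinearGroup (Fin 4) F} (hg : g ∈ Cfsg.Sz F m)
    (hinf : g • Cfsg.suzukiPointInfinity F = Cfsg.suzukiPointInfinity F) :
    ∃ (a b : F) (t : Fˣ), g = szT m a b * szD m t := by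
  have hmem := sz_mem_smul_mem hg (szP_mem_ovoid (m := m) 0 0)
  rcases (mem_ovoid_iff _).1 hmem with h' | ⟨a, b, h'⟩
  · rw [← hinf] at h'
    exact absurd (smul_left_cancel g h') (szP_ne_inf 0 0)
  · have h1 : ((szT m a b)⁻¹ * g) ∈ Cfsg.Sz F m := mul_mem (inv_mem (szT_mem hF a b)) hg
    have h2 : ((szT m a b)⁻¹ * g) • Cfsg.suzukiPointInfinity F = Cfsg.suzukiPointInfinity F := by
      rw [mul_smul, hinf, inv_smul_eq_iff, szT_smul_inf]
    have h3 : ((szT m a b)⁻¹ * g) • szP m (0 : F) 0 = szP m 0 0 := by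
      rw [mul_smul, h', inv_smul_eq_iff, szT_smul_zero hF]
    obtain ⟨t, ht⟩ := sz_fix_two hm hF h1 h2 h3
    exact ⟨a, b, t, by rw [← ht]; group⟩

/-- the Bruhat-type decomposition of the Suzuki group -/
theorem sz_cases (hF : Fintype.card F = 2 ^ (2 * m + 1))
    {g : SpecialLinearGroup (Fin 4) F} (hg : g ∈ Cfsg.Sz F m) :
    g • Cfsg.suzukiPointInfinity F = Cfsg.suzukiPointInfinity F ∨
    ∃ (a b : F) (h : SpecialLinearGroup (Fin 4) F), h ∈ Cfsg.Sz F m ∧
      h • Cfsg.suzukiPointInfinity F = Cfsg.suzukiPointInfinity F ∧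
      g = szT m a b * szW F * h := by
  rcases (mem_ovoid_iff _).1 (sz_mem_smul_mem hg inf_mem_ovoid) with h' | ⟨a, b, h'⟩
  · exact Or.inl h'
  · right
    refine ⟨a, b, (szT m a b * szW F)⁻¹ * g, ?_, ?_, by group⟩
    · exact mul_mem (inv_mem (mul_mem (szT_mem hF a b) (szW_mem hF))) hg
    · rw [mul_smul, h', inv_smul_eq_iff, mul_smul, szW_smul_inf (m := m), szT_smul_zero hF]

omit [Fintype F] in
theorem szD_injective : Function.Injective (szD (F := F) m) := by
  intro s t h
  have h1 : (szD m s) 1 1 = (szD m t) 1 1 := by rw [h]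
  simp only [szD_apply] at h1
  simp at h1
  exact Units.ext ((szS F m).injective h1)

omit [Fintype F] in
theorem szT_injective {a b a' b' : F} (h : szT m a b = szT m a' b') : a = a' ∧ b = b' := by
  have h1 : (szT m a b) 2 3 = (szT m a' b') 2 3 := by rw [h]
  have h2 : (szT m a b) 1 3 = (szT m a' b') 1 3 := by rw [h]
  simp [szT, szTm] at h1 h2
  exact ⟨h1, h2⟩

theorem szTD_injective (hF : Fintype.card F = 2 ^ (2 * m + 1)) {a b a' b' : F} {t t' : Fˣ}
    (h : szT m a b * szD m t = szT m a' b' * szD m t') : a = a' ∧ b = b' ∧ t = t' := by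
  have h1 : (szT m a b * szD m t) • szP m (0 : F) 0 = (szT m a' b' * szD m t') • szP m 0 0 := by
    rw [h]
  rw [mul_smul, mul_smul, szD_smul_zero hF, szD_smul_zero hF, szT_smul_zero hF,
    szT_smul_zero hF] at h1
  obtain ⟨rfl, rfl⟩ := szP_inj h1
  exact ⟨rfl, rfl, szD_injective (mul_left_cancel h)⟩

theorem szT_mul (hF : Fintype.card F = 2 ^ (2 * m + 1)) (a b a' b' : F) :
    szT m a b * szT m a' b' = szT m (a + a') (b + b' + szS F m a * a') := by
  have h2 : (2 : F) = 0 := sz_two
  apply Subtype.ext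
  show szTm m a b * szTm m a' b' = szTm m (a + a') (b + b' + szS F m a * a')
  ext i j
  fin_cases i <;> fin_cases j <;>
    simp [szTm, Matrix.mul_apply, Fin.sum_univ_four]
  · ring
  · linear_combination (-(szS F m a * a')) * h2
  · simp only [szf, map_add, map_mul, szS_szS hF]
    linear_combination ((-1) * a * a' * szS F m a + (-1) * a * a' * szS F m a' + (-1) * a ^ 2 * szS F m a' + (-1) * a' ^ 2 * szS F m a) * h2
  · ring
  · ring
  · ring

end SzStructure
end Cfsg.Agent.Helper6
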