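import Mathlib
import Cfsg.Prelude.Def_LieExceptional
import Cfsg.Agent.Helper6.Suzuki
import Cfsg.Agent.Helper6.Suzuki2

set_option autoImplicit false

namespace Cfsg.Agent.Helper6

open Matrix
open scoped Pointwise

section SzCount
variable {F : Type*} [Field F] [Fintype F] {m : ℕ} [CharP F 2]

omit [CharP F 2] in
theorem sz_ovoid_card : Nat.card (Cfsg.suzukiOvoid F m) = Fintype.card F ^ 2 + 1 := by
  classical
  have hv0 : (![1, 0, 0, 0] : Fin 4 → F) ≠ 0 := by
    intro h
    have := congrFun h 0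
    simp at this
  have hv : ∀ x y : F,
      (![x * y + x ^ (2 ^ (m + 1) + 2) + y ^ (2 ^ (m + 1)), y, x, 1] : Fin 4 → F) ≠ 0 := by
    intro x y h
    have := congrFun h 3
    simp at this
  let φ : Option (F × F) → Cfsg.suzukiOvoid F m := fun o =>
    match o with
    | none => ⟨Projectivization.mk F ![1, 0, 0, 0] hv0, ⟨_, hv0, rfl, Or.inl rfl⟩⟩
    | some (x, y) => ⟨Projectivization.mk F _ (hv x y), ⟨_, hv x y, rfl, Or.inr ⟨x, y, rfl⟩⟩⟩
  have hbij : Function.Bijective φ := by
    constructor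
    · intro o o' h
      have h' := congrArg Subtype.val h
      rcases o with _ | ⟨x, y⟩ <;> rcases o' with _ | ⟨x', y'⟩
      · rfl
      · exfalso
        simp only [φ] at h'
        rw [Projectivization.mk_eq_mk_iff] at h'
        obtain ⟨a, ha⟩ := h'
        have := congrFun ha 3
        simp at this
        rw [Units.smul_def, smul_eq_mul, mul_one] at this
        exact a.ne_zero this
      · exfalso
        simp only [φ] at h'
        rw [Projectivization.mk_eq_mk_iff] at h'
        obtain ⟨a, ha⟩ := h'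
        have := congrFun ha 3
        simp at this
      · simp only [φ] at h'
        rw [Projectivization.mk_eq_mk_iff] at h'
        obtain ⟨a, ha⟩ := h'
        have h3 := congrFun ha 3
        have h2 := congrFun ha 2
        have h1 := congrFun ha 1
        simp at h3 h2 h1
        have ha1 : (a : F) = 1 := by
          simpa [Units.smul_def] using h3
        rw [Units.smul_def, ha1, one_smul] at h2 h1
        rw [h2, h1]
    · rintro ⟨p, v, hv', rfl, h | ⟨x, y, h⟩⟩
      · subst h
        exact ⟨none, rfl⟩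
      · subst h
        exact ⟨some (x, y), rfl⟩
  rw [← Nat.card_congr (Equiv.ofBijective φ hbij), Nat.card_eq_fintype_card, Fintype.card_option,
    Fintype.card_prod, sq]

theorem sz_stab_inf_card (hm : 1 ≤ m) (hF : Fintype.card F = 2 ^ (2 * m + 1)) :
    Nat.card (MulAction.stabilizer (Cfsg.Sz F m) (Cfsg.suzukiPointInfinity F)) =
      Fintype.card F ^ 2 * (Fintype.card F - 1) := by
  classical
  let φ : F × F × Fˣ → MulAction.stabilizer (Cfsg.Sz F m) (Cfsg.suzukiPointInfinity F) :=
    fun x => ⟨⟨szT m x.1 x.2.1 * szD m x.2.2, mul_mem (szT_mem hF _ _) (szD_mem hF _)⟩, by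
      rw [MulAction.mem_stabilizer_iff]
      show (szT m x.1 x.2.1 * szD m x.2.2) • Cfsg.suzukiPointInfinity F =
        Cfsg.suzukiPointInfinity F
      rw [mul_smul, szD_smul_inf, szT_smul_inf]⟩
  have hbij : Function.Bijective φ := by
    constructor
    · rintro ⟨a, b, t⟩ ⟨a', b', t'⟩ h
      have h1 : (φ (a, b, t)).1.1 = (φ (a', b', t')).1.1 := by rw [h]
      obtain ⟨rfl, rfl, rfl⟩ := szTD_injective hF h1
      rfl
    · rintro ⟨⟨g, hg⟩, hx⟩
      rw [MulAction.mem_stabilizer_iff] at hx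
      obtain ⟨a, b, t, rfl⟩ := sz_fix_inf hm hF hg hx
      exact ⟨(a, b, t), rfl⟩
  rw [← Nat.card_congr (Equiv.ofBijective φ hbij), Nat.card_prod, Nat.card_prod,
    Nat.card_eq_fintype_card, Nat.card_eq_fintype_card, Fintype.card_units]
  ring

theorem sz_orbit_inf (hF : Fintype.card F = 2 ^ (2 * m + 1)) :
    MulAction.orbit (Cfsg.Sz F m) (Cfsg.suzukiPointInfinity F) = Cfsg.suzukiOvoid F m := by
  ext p
  constructor
  · rintro ⟨g, rfl⟩
    exact sz_mem_smul_mem g.2 inf_mem_ovoid
  · intro hp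
    obtain ⟨g, hg, hgp⟩ := sz_exists_smul_eq_inf hF hp
    refine ⟨⟨g, hg⟩⁻¹, ?_⟩
    show (⟨g, hg⟩ : Cfsg.Sz F m)⁻¹ • Cfsg.suzukiPointInfinity F = p
    rw [inv_smul_eq_iff]
    exact hgp.symm

theorem sz_card (hm : 1 ≤ m) (hF : Fintype.card F = 2 ^ (2 * m + 1)) :
    Nat.card (Cfsg.Sz F m) =
      (Fintype.card F ^ 2 + 1) * (Fintype.card F ^ 2 * (Fintype.card F - 1)) := by
  rw [← sz_stab_inf_card hm hF, ← sz_ovoid_card (m := m), ← sz_orbit_inf hF, ← Nat.card_prod]
  exact (Nat.card_congr (MulAction.orbitProdStabilizerEquivGroup (Cfsg.Sz F m)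
    (Cfsg.suzukiPointInfinity F))).symm

end SzCount
end Cfsg.Agent.Helper6
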