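import Mathlib
import Cfsg.Prelude.Def_LieExceptional
import Cfsg.Agent.Helper6.Suzuki
import Cfsg.Agent.Helper6.Suzuki2
import Cfsg.Agent.Helper6.Suzuki3

set_option autoImplicit false

namespace Cfsg.Agent.Helper6

open Matrix
open scoped Pointwise

section SzMore
variable {F : Type*} [Field F] [Fintype F] {m : ℕ} [CharP F 2]

theorem szD_mul_szT (hF : Fintype.card F = 2 ^ (2 * m + 1)) (s : Fˣ) (a b : F) :
    szD m s * szT m a b =
      szT m ((s : F) ^ 2 * a) (szS F m s ^ 2 * (s : F) ^ 2 * b) * szD m s := by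
  have h1 := szS_unit_ne_zero (m := m) s
  have h2 : (s : F) ≠ 0 := s.ne_zero
  apply Subtype.ext
  show szDm m s * szTm m a b =
    szTm m ((s : F) ^ 2 * a) (szS F m s ^ 2 * (s : F) ^ 2 * b) * szDm m s
  ext i j
  fin_cases i <;> fin_cases j <;>
    simp [szDm, szTm, Matrix.diagonal_mul, Matrix.mul_diagonal, szf, szS_szS hF]
  all_goals field_simp

omit [Fintype F] in
theorem szW_mul_szD_mul_szW (s : Fˣ) : szW F * szD m s * szW F = szD m s⁻¹ := by
  have h1 := szS_unit_ne_zero (m := m) s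
  have h2 : (s : F) ≠ 0 := s.ne_zero
  apply Subtype.ext
  ext i j
  rw [szW_conj_apply]
  fin_cases i <;> fin_cases j <;> simp [szD_apply, Fin.rev]
  all_goals ring

omit [Fintype F] in
theorem szT_zero : szT m (0 : F) 0 = 1 := by
  apply Subtype.ext
  show szTm m 0 0 = 1
  ext i j
  fin_cases i <;> fin_cases j <;> simp [szTm, szf]

theorem szT_inv (hF : Fintype.card F = 2 ^ (2 * m + 1)) (a b : F) :
    (szT m a b)⁻¹ = szT m a (b + szS F m a * a) := by
  have h2 : (2 : F) = 0 := sz_two
  rw [inv_eq_iff_mul_eq_one, szT_mul hF, ← szT_zero]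
  congr 1
  · linear_combination a * h2
  · linear_combination (b + szS F m a * a) * h2

/-- a diagonal element fixing a further point is trivial -/
theorem szD_fix_imp (hF : Fintype.card F = 2 ^ (2 * m + 1)) {t : Fˣ} {x y : F}
    (hxy : ¬ (x = 0 ∧ y = 0)) (h : szD m t • szP m x y = szP m x y) : t = 1 := by
  have h2 : (2 : F) = 0 := sz_two
  have ht : (t : F) ≠ 0 := t.ne_zero
  rw [szD_smul_szP hF] at h
  obtain ⟨hx, hy⟩ := szP_inj h
  apply Units.ext
  rw [Units.val_one]
  by_cases hx0 : x = 0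
  · have hy0 : y ≠ 0 := fun hy0 => hxy ⟨hx0, hy0⟩
    have e1 : (szS F m t * (t : F)) ^ 2 = 1 := by
      have : ((szS F m t * (t : F)) ^ 2 - 1) * y = 0 := by linear_combination hy
      rcases mul_eq_zero.1 this with h' | h'
      · exact sub_eq_zero.1 h'
      · exact absurd h' hy0
    have e2 : szS F m t * (t : F) = 1 := by
      have : (szS F m t * (t : F) - 1) ^ 2 = 0 := by
        linear_combination e1 - (szS F m t * (t : F) - 1) * h2
      exact sub_eq_zero.1 ((pow_eq_zero_iff two_ne_zero).1 this)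
    have e3 := congrArg (szS F m) e2
    rw [map_mul, szS_szS hF, map_one] at e3
    have : ((t : F) - 1) * (szS F m t * (t : F)) = 0 := by linear_combination e3 - e2
    rcases mul_eq_zero.1 this with h' | h'
    · exact sub_eq_zero.1 h'
    · rw [e2] at h'
      exact absurd h' one_ne_zero
  · have e1 : (t : F) ^ 2 = 1 := by
      have : ((t : F) ^ 2 - 1) * x = 0 := by linear_combination hx
      rcases mul_eq_zero.1 this with h' | h'
      · exact sub_eq_zero.1 h'
      · exact absurd h' hx0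
    have : ((t : F) - 1) ^ 2 = 0 := by
      linear_combination e1 - ((t : F) - 1) * h2
    exact sub_eq_zero.1 ((pow_eq_zero_iff two_ne_zero).1 this)

/-- double transitivity, in normalised form -/
theorem sz_two_trans (hF : Fintype.card F = 2 ^ (2 * m + 1))
    {p q : Projectivization F (Fin 4 → F)} (hp : p ∈ Cfsg.suzukiOvoid F m)
    (hq : q ∈ Cfsg.suzukiOvoid F m) (hpq : p ≠ q) :
    ∃ g ∈ Cfsg.Sz F m, g • p = Cfsg.suzukiPointInfinity F ∧ g • q = szP m 0 0 := by
  obtain ⟨g₁, hg₁, h1⟩ := sz_exists_smul_eq_inf hF hp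
  rcases (mem_ovoid_iff _).1 (sz_mem_smul_mem hg₁ hq) with h' | ⟨x, y, h'⟩
  · rw [← h1] at h'
    exact absurd (smul_left_cancel g₁ h').symm hpq
  · refine ⟨(szT m x y)⁻¹ * g₁, mul_mem (inv_mem (szT_mem hF x y)) hg₁, ?_, ?_⟩
    · rw [mul_smul, h1, inv_smul_eq_iff, szT_smul_inf]
    · rw [mul_smul, h', inv_smul_eq_iff, szT_smul_zero hF]

/-- an element of the Suzuki group fixing three points of the ovoid is trivial -/
theorem sz_fix_three (hm : 1 ≤ m) (hF : Fintype.card F = 2 ^ (2 * m + 1))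
    {g : SpecialLinearGroup (Fin 4) F} (hg : g ∈ Cfsg.Sz F m)
    {p q r : Projectivization F (Fin 4 → F)} (hp : p ∈ Cfsg.suzukiOvoid F m)
    (hq : q ∈ Cfsg.suzukiOvoid F m) (hr : r ∈ Cfsg.suzukiOvoid F m)
    (hpq : p ≠ q) (hqr : q ≠ r) (hpr : p ≠ r) (fp : g • p = p) (fq : g • q = q)
    (fr : g • r = r) : g = 1 := by
  obtain ⟨h, hh, h1, h2⟩ := sz_two_trans hF hp hq hpq
  have hg' : h * g * h⁻¹ ∈ Cfsg.Sz F m := mul_mem (mul_mem hh hg) (inv_mem hh)
  have f1 : (h * g * h⁻¹) • Cfsg.suzukiPointInfinity F = Cfsg.suzukiPointInfinity F := by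
    rw [← h1, mul_smul, inv_smul_smul, mul_smul, fp]
  have f2 : (h * g * h⁻¹) • szP m (0 : F) 0 = szP m 0 0 := by
    rw [← h2, mul_smul, inv_smul_smul, mul_smul, fq]
  have f3 : (h * g * h⁻¹) • (h • r) = h • r := by
    rw [mul_smul, inv_smul_smul, mul_smul, fr]
  obtain ⟨t, ht⟩ := sz_fix_two hm hF hg' f1 f2
  rcases (mem_ovoid_iff _).1 (sz_mem_smul_mem hh hr) with h' | ⟨x, y, h'⟩
  · rw [← h1] at h'
    exact absurd (smul_left_cancel h h').symm hpr
  · have hxy : ¬ (x = 0 ∧ y = 0) := by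
      rintro ⟨rfl, rfl⟩
      rw [← h2] at h'
      exact absurd (smul_left_cancel h h').symm hqr
    rw [h', ht] at f3
    have ht1 := szD_fix_imp hF hxy f3
    rw [ht1, szD_one] at ht
    have : g = h⁻¹ * (h * g * h⁻¹) * h := by group
    rw [this, ht]
    group

/-- preservation of the antidiagonal form -/
def szPres (M : Matrix (Fin 4) (Fin 4) F) : Prop :=
  Mᵀ * Cfsg.suzukiForm F * M = Cfsg.suzukiForm F

omit [Fintype F] [CharP F 2] in
theorem szPres_mul {M N : Matrix (Fin 4) (Fin 4) F} (hM : szPres M) (hN : szPres N) :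
    szPres (M * N) := by
  unfold szPres at *
  have : (M * N)ᵀ * Cfsg.suzukiForm F * (M * N) = Nᵀ * (Mᵀ * Cfsg.suzukiForm F * M) * N := by
    simp only [Matrix.transpose_mul, Matrix.mul_assoc]
  rw [this, hM, hN]

omit [Fintype F] in
theorem szPres_T (a b : F) : szPres (szTm m a b) := by
  have h2 : (2 : F) = 0 := sz_two
  unfold szPres
  ext i j
  fin_cases i <;> fin_cases j <;>
    simp [szTm, Cfsg.suzukiForm, Matrix.mul_apply, Fin.sum_univ_four]
  · linear_combination a * h2
  · linear_combination szS F m a * h2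
  · linear_combination (b + szS F m a * a) * h2
  · linear_combination a * h2
  · linear_combination (b + szS F m a * a) * h2
  · linear_combination (szf m a b + a * b) * h2

omit [Fintype F] in
theorem szPres_D (t : Fˣ) : szPres (szDm m t) := by
  have h1 := szS_unit_ne_zero (m := m) t
  have h2 : (t : F) ≠ 0 := t.ne_zero
  unfold szPres
  ext i j
  fin_cases i <;> fin_cases j <;>
    simp [szDm, Cfsg.suzukiForm, Matrix.diagonal_transpose, Matrix.diagonal_mul,
      Matrix.mul_diagonal]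
  all_goals field_simp

omit [Fintype F] [CharP F 2] in
theorem szPres_W : szPres (szWm F) := by
  unfold szPres
  ext i j
  fin_cases i <;> fin_cases j <;>
    simp [szWm, Cfsg.suzukiForm, Matrix.mul_apply, Fin.sum_univ_four]

/-- every element of the Suzuki group preserves the antidiagonal form -/
theorem sz_pres (hm : 1 ≤ m) (hF : Fintype.card F = 2 ^ (2 * m + 1))
    {g : SpecialLinearGroup (Fin 4) F} (hg : g ∈ Cfsg.Sz F m) :
    szPres (g : Matrix (Fin 4) (Fin 4) F) := by
  have key : ∀ h : SpecialLinearGroup (Fin 4) F, h ∈ Cfsg.Sz F m →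
      h • Cfsg.suzukiPointInfinity F = Cfsg.suzukiPointInfinity F →
      szPres (h : Matrix (Fin 4) (Fin 4) F) := by
    intro h hh hfix
    obtain ⟨a, b, t, rfl⟩ := sz_fix_inf hm hF hh hfix
    exact szPres_mul (szPres_T a b) (szPres_D t)
  rcases sz_cases hF hg with h | ⟨a, b, h, hh, hfix, rfl⟩
  · exact key g hg h
  · exact szPres_mul (szPres_mul (szPres_T a b) szPres_W) (key h hh hfix)

end SzMore
end Cfsg.Agent.Helper6
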