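import Mathlib
import Cfsg.Prelude.Def_LieExceptional
import Cfsg.Agent.Helper6.Suzuki
import Cfsg.Agent.Helper6.Suzuki2
import Cfsg.Agent.Helper6.Suzuki3
import Cfsg.Agent.Helper6.Suzuki4

set_option autoImplicit false

namespace Cfsg.Agent.Helper6

open Matrix
open scoped Pointwise

theorem exists_fixed_of_involutive {α : Type*} [Finite α] (f : α → α) (hf : ∀ x, f (f x) = x)
    (hodd : Odd (Nat.card α)) : ∃ x, f x = x := by
  classical
  have := Fintype.ofFinite α
  have h := Equiv.Perm.card_fixedPoints_modEq (f := (f : Function.End α)) (p := 2) (n := 1) (by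
    exact funext fun x => hf x)
  rw [Nat.card_eq_fintype_card] at hodd
  by_contra hcon
  push Not at hcon
  have h0 : Fintype.card (Function.fixedPoints f) = 0 := by
    rw [Fintype.card_eq_zero_iff]
    exact ⟨fun ⟨x, hx⟩ => hcon x hx⟩
  rw [h0] at h
  have := Nat.odd_iff.1 hodd
  unfold Nat.ModEq at h
  omega

section SzZ
variable {F : Type*} [Field F] [Fintype F] {m : ℕ} [CharP F 2]

omit [CharP F 2] in
theorem sz_exists_unit_ne_one (hm : 1 ≤ m) (hF : Fintype.card F = 2 ^ (2 * m + 1)) :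
    ∃ t : Fˣ, t ≠ 1 := by
  classical
  by_contra hcon
  push Not at hcon
  have h1 : Fintype.card Fˣ ≤ 1 := Fintype.card_le_one_iff.2 (fun a b => by rw [hcon a, hcon b])
  rw [Fintype.card_units, hF] at h1
  have : 2 ^ 3 ≤ 2 ^ (2 * m + 1) := Nat.pow_le_pow_right (by norm_num) (by omega)
  omega

omit [CharP F 2] in
theorem sz_ovoid_card_odd (hF : Fintype.card F = 2 ^ (2 * m + 1)) :
    Odd (Nat.card (Cfsg.suzukiOvoid F m)) := by
  rw [sz_ovoid_card, hF]
  refine Even.add_one ?_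
  rw [← pow_mul]
  exact (Nat.even_pow.2 ⟨even_two, by omega⟩)

theorem sz_zassenhaus (hm : 1 ≤ m) (hF : Fintype.card F = 2 ^ (2 * m + 1)) :
    Cfsg.IsZassenhausGroup (Cfsg.Sz F m) (Cfsg.suzukiOvoid F m) := by
  have hne0 : szP m (0 : F) 0 ≠ Cfsg.suzukiPointInfinity F := szP_ne_inf 0 0
  refine ⟨?_, ?_, ?_, ?_, ?_⟩
  · constructor
    intro g₁ g₂ h
    have hfix : ∀ p (hp : p ∈ Cfsg.suzukiOvoid F m),
        ((g₁⁻¹ * g₂ : Cfsg.Sz F m) : SpecialLinearGroup (Fin 4) F) • p = p := by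
      intro p hp
      have h1 := congrArg Subtype.val (h ⟨p, hp⟩)
      simp only [SMul.smul_stabilizer_def] at h1
      rw [Subgroup.coe_mul, mul_smul, ← h1, Subgroup.coe_inv, inv_smul_smul]
    have h3 := sz_fix_three hm hF (g₁⁻¹ * g₂).2 inf_mem_ovoid (szP_mem_ovoid 0 0)
      (szP_mem_ovoid 1 0) hne0.symm
      (fun h => by have := (szP_inj h).1; exact zero_ne_one this)
      (szP_ne_inf 1 0).symm (hfix _ inf_mem_ovoid) (hfix _ (szP_mem_ovoid 0 0))
      (hfix _ (szP_mem_ovoid 1 0))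
    have h4 : g₁⁻¹ * g₂ = 1 := Subtype.ext h3
    exact (inv_mul_eq_one.1 h4)
  · rw [MulAction.is_two_pretransitive_iff]
    intro a b c d hab hcd
    obtain ⟨g₁, hg₁, e1, e2⟩ := sz_two_trans hF a.2 b.2 (fun h => hab (Subtype.ext h))
    obtain ⟨g₂, hg₂, e3, e4⟩ := sz_two_trans hF c.2 d.2 (fun h => hcd (Subtype.ext h))
    refine ⟨⟨g₂⁻¹ * g₁, mul_mem (inv_mem hg₂) hg₁⟩, Subtype.ext ?_, Subtype.ext ?_⟩
    · show (g₂⁻¹ * g₁) • a.1 = c.1
      rw [mul_smul, e1, inv_smul_eq_iff, e3]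
    · show (g₂⁻¹ * g₁) • b.1 = d.1
      rw [mul_smul, e2, inv_smul_eq_iff, e4]
  · intro g a b c hab hbc hac fa fb fc
    have := sz_fix_three hm hF g.2 a.2 b.2 c.2 (fun h => hab (Subtype.ext h))
      (fun h => hbc (Subtype.ext h)) (fun h => hac (Subtype.ext h))
      (congrArg Subtype.val fa) (congrArg Subtype.val fb) (congrArg Subtype.val fc)
    exact Subtype.ext this
  · obtain ⟨t, ht⟩ := sz_exists_unit_ne_one hm hF
    refine ⟨⟨szD m t, szD_mem hF t⟩, ?_, ⟨_, inf_mem_ovoid⟩, ⟨_, szP_mem_ovoid 0 0⟩, ?_,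
      Subtype.ext (szD_smul_inf t), Subtype.ext (szD_smul_zero hF t)⟩
    · intro h
      apply ht
      have := congrArg Subtype.val h
      exact szD_injective (this.trans szD_one.symm)
    · intro h
      exact hne0 (congrArg Subtype.val h).symm
  · intro N hN htrans
    by_contra hcon
    push Not at hcon
    let inf' : Cfsg.suzukiOvoid F m := ⟨_, inf_mem_ovoid⟩
    let zero' : Cfsg.suzukiOvoid F m := ⟨_, szP_mem_ovoid 0 0⟩
    have hiz : zero' ≠ inf' := fun h => hne0 (congrArg Subtype.val h)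
    obtain ⟨n, hn⟩ := htrans.exists_smul_eq inf' zero'
    have triv : ∀ (a : Cfsg.suzukiOvoid F m) (k : Cfsg.Sz F m), k ∈ N → k • a = a → k = 1 := by
      intro a k hk hka
      have : (⟨k, hk⟩ : N) ∈ MulAction.stabilizer N a := by
        rw [MulAction.mem_stabilizer_iff]
        exact hka
      rw [hcon a, Subgroup.mem_bot] at this
      exact congrArg Subtype.val this
    have hn' : (n : Cfsg.Sz F m) • inf' = zero' := hn
    obtain ⟨t, ht⟩ := sz_exists_unit_ne_one hm hF
    let d : Cfsg.Sz F m := ⟨szD m t, szD_mem hF t⟩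
    have hd_inf : d • inf' = inf' := Subtype.ext (szD_smul_inf t)
    have hd_zero : d • zero' = zero' := Subtype.ext (szD_smul_zero hF t)
    have hcomm : d * n.1 = n.1 * d := by
      have hmem : (n.1)⁻¹ * (d * n.1 * d⁻¹) ∈ N := N.mul_mem (N.inv_mem n.2) (hN.conj_mem _ n.2 d)
      have hfix : ((n.1)⁻¹ * (d * n.1 * d⁻¹)) • inf' = inf' := by
        rw [mul_smul, mul_smul, mul_smul, inv_smul_eq_iff.2 hd_inf.symm, hn', hd_zero,
          inv_smul_eq_iff, hn']
      have h1 := triv inf' _ hmem hfix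
      calc d * n.1 = n.1 * ((n.1)⁻¹ * (d * n.1 * d⁻¹)) * d := by group
        _ = n.1 * d := by rw [h1, mul_one]
    have hfix2 : d • (n.1 • zero') = n.1 • zero' := by
      rw [← mul_smul, hcomm, mul_smul, hd_zero]
    have hne : n.1 • zero' ≠ zero' := by
      intro h
      have h1 := triv zero' n.1 n.2 h
      rw [h1, one_smul] at hn'
      exact hiz hn'.symm
    have hinf : n.1 • zero' = inf' := by
      rcases (mem_ovoid_iff _).1 (n.1 • zero').2 with h | ⟨x, y, h⟩
      · exact Subtype.ext h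
      · exfalso
        have hxy : ¬ (x = 0 ∧ y = 0) := by
          rintro ⟨rfl, rfl⟩
          exact hne (Subtype.ext h)
        have h1 := congrArg Subtype.val hfix2
        rw [SMul.smul_stabilizer_def, h] at h1
        exact ht (szD_fix_imp hF hxy h1)
    have hsq : n.1 * n.1 = 1 :=
      triv inf' _ (N.mul_mem n.2 n.2) (by rw [mul_smul, hn', hinf])
    obtain ⟨a, ha⟩ := exists_fixed_of_involutive (fun a : Cfsg.suzukiOvoid F m => n.1 • a)
      (fun a => by rw [← mul_smul, hsq, one_smul]) (sz_ovoid_card_odd hF)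
    have h1 := triv a n.1 n.2 ha
    rw [h1, one_smul] at hn'
    exact hiz hn'.symm

end SzZ
end Cfsg.Agent.Helper6
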