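import Mathlib
import Cfsg.Prelude.Def_LieExceptional
import Cfsg.Agent.Helper6.Suzuki
import Cfsg.Agent.Helper6.Suzuki2
import Cfsg.Agent.Helper6.Suzuki3
import Cfsg.Agent.Helper6.Suzuki4
import Cfsg.Agent.Helper6.Suzuki5

set_option autoImplicit false

namespace Cfsg.Agent.Helper6

open Matrix
open scoped Pointwise commutatorElement

theorem isSolvable_of_chain3 {G : Type*} [Group G] (H K₁ K₂ : Subgroup G) (h1 : ⁅H, H⁆ ≤ K₁)
    (h2 : ⁅K₁, K₁⁆ ≤ K₂) (h3 : ⁅K₂, K₂⁆ = ⊥) : Group.IsSolvable H := by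
  rw [Group.isSolvable_def]
  refine ⟨3, ?_⟩
  have e : ∀ n, (derivedSeries H (n + 1)).map H.subtype =
      ⁅(derivedSeries H n).map H.subtype, (derivedSeries H n).map H.subtype⁆ := fun n => by
    rw [derivedSeries_succ, Subgroup.map_commutator]
  have l0 : (derivedSeries H 0).map H.subtype ≤ H := Subgroup.map_subtype_le _
  have l1 : (derivedSeries H 1).map H.subtype ≤ K₁ := by
    rw [e 0]
    exact (Subgroup.commutator_mono l0 l0).trans h1
  have l2 : (derivedSeries H 2).map H.subtype ≤ K₂ := by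
    rw [e 1]
    exact (Subgroup.commutator_mono l1 l1).trans h2
  have l3 : (derivedSeries H 3).map H.subtype ≤ ⊥ := by
    rw [e 2]
    exact (Subgroup.commutator_mono l2 l2).trans h3.le
  exact (Subgroup.map_eq_bot_iff_of_injective _ H.subtype_injective).1 (le_bot_iff.1 l3)

/-- a perfect group has no non-trivial solvable quotient -/
theorem eq_top_of_perfect_of_solvable_quotient {G : Type*} [Group G] (hperf : commutator G = ⊤)
    (N : Subgroup G) [N.Normal] [Group.IsSolvable (G ⧸ N)] : N = ⊤ := by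
  have hder : ∀ n, derivedSeries G n = ⊤ := by
    intro n
    induction n with
    | zero => rfl
    | succ n ih =>
      rw [derivedSeries_succ, ih]
      exact hperf
  obtain ⟨n, hn⟩ := (Group.isSolvable_def (G ⧸ N)).1 inferInstance
  have h1 := map_derivedSeries_eq (QuotientGroup.mk'_surjective N) n
  rw [hn, hder n] at h1
  rw [eq_top_iff]
  intro g _
  have : (QuotientGroup.mk' N g) ∈ Subgroup.map (QuotientGroup.mk' N) ⊤ :=
    Subgroup.mem_map_of_mem _ (Subgroup.mem_top g)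
  rw [h1, Subgroup.mem_bot] at this
  exact (QuotientGroup.eq_one_iff g).1 this

section SzSimple
variable {F : Type*} [Field F] [Fintype F] {m : ℕ} [CharP F 2]

/-- translations, as elements of the Suzuki group -/
noncomputable def szT' (hF : Fintype.card F = 2 ^ (2 * m + 1)) (a b : F) : Cfsg.Sz F m :=
  ⟨szT m a b, szT_mem hF a b⟩

/-- diagonal elements, as elements of the Suzuki group -/
noncomputable def szD' (hF : Fintype.card F = 2 ^ (2 * m + 1)) (t : Fˣ) : Cfsg.Sz F m :=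
  ⟨szD m t, szD_mem hF t⟩

/-- the inversion, as an element of the Suzuki group -/
noncomputable def szW' (hF : Fintype.card F = 2 ^ (2 * m + 1)) : Cfsg.Sz F m :=
  ⟨szW F, szW_mem hF⟩

theorem szT'_mul (hF : Fintype.card F = 2 ^ (2 * m + 1)) (a b a' b' : F) :
    szT' hF a b * szT' hF a' b' = szT' hF (a + a') (b + b' + szS F m a * a') :=
  Subtype.ext (szT_mul hF a b a' b')

theorem szT'_zero (hF : Fintype.card F = 2 ^ (2 * m + 1)) : szT' hF (0 : F) 0 = 1 :=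
  Subtype.ext szT_zero

theorem szT'_inv (hF : Fintype.card F = 2 ^ (2 * m + 1)) (a b : F) :
    (szT' hF a b)⁻¹ = szT' hF a (b + szS F m a * a) :=
  Subtype.ext (szT_inv hF a b)

theorem szT'_injective (hF : Fintype.card F = 2 ^ (2 * m + 1)) {a b a' b' : F}
    (h : szT' hF a b = szT' hF a' b') : a = a' ∧ b = b' :=
  szT_injective (congrArg Subtype.val h)

theorem szD'_mul (hF : Fintype.card F = 2 ^ (2 * m + 1)) (s t : Fˣ) :
    szD' hF (s * t) = szD' hF s * szD' hF t :=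
  Subtype.ext (szD_mul s t)

theorem szD'_one (hF : Fintype.card F = 2 ^ (2 * m + 1)) : szD' hF (1 : Fˣ) = 1 :=
  Subtype.ext szD_one

theorem szD'_inv (hF : Fintype.card F = 2 ^ (2 * m + 1)) (s : Fˣ) :
    (szD' hF s)⁻¹ = szD' hF s⁻¹ := by
  rw [inv_eq_iff_mul_eq_one, ← szD'_mul, mul_inv_cancel, szD'_one]

theorem szD'_mul_szT' (hF : Fintype.card F = 2 ^ (2 * m + 1)) (s : Fˣ) (a b : F) :
    szD' hF s * szT' hF a b =
      szT' hF ((s : F) ^ 2 * a) (szS F m s ^ 2 * (s : F) ^ 2 * b) * szD' hF s :=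
  Subtype.ext (szD_mul_szT hF s a b)

theorem szW'_conj (hF : Fintype.card F = 2 ^ (2 * m + 1)) (s : Fˣ) :
    szW' hF * szD' hF s * (szW' hF)⁻¹ = szD' hF s⁻¹ := by
  apply Subtype.ext
  show szW F * szD m s * (szW F)⁻¹ = szD m s⁻¹
  rw [szW_inv, szW_mul_szD_mul_szW]

theorem sz_sigma_mul_self (hF : Fintype.card F = 2 ^ (2 * m + 1)) {s : F}
    (hs : szS F m s * s = 1) : s = 1 := by
  have e3 := congrArg (szS F m) hs
  rw [map_mul, szS_szS hF, map_one] at e3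
  have : (s - 1) * (szS F m s * s) = 0 := by linear_combination e3 - hs
  rcases mul_eq_zero.1 this with h' | h'
  · exact sub_eq_zero.1 h'
  · rw [hs] at h'
    exact absurd h' one_ne_zero

theorem szD'_mem_commutator (hF : Fintype.card F = 2 ^ (2 * m + 1)) (t : Fˣ) :
    szD' hF t ∈ commutator (Cfsg.Sz F m) := by
  obtain ⟨r0, hr0⟩ : ∃ r0 : F, (t : F) = r0 * r0 :=
    FiniteField.isSquare_of_char_two (ringChar.eq F 2) _
  have hr00 : r0 ≠ 0 := by
    rintro rfl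
    simp at hr0
  have ht : t = Units.mk0 r0 hr00 * Units.mk0 r0 hr00 := by
    apply Units.ext
    simp [hr0]
  have key : szD' hF t = ⁅szW' hF, szD' hF (Units.mk0 r0 hr00)⁻¹⁆ := by
    rw [commutatorElement_def, szW'_conj, inv_inv, szD'_inv, inv_inv, ← szD'_mul, ← ht]
  rw [key]
  exact Subgroup.commutator_mem_commutator (Subgroup.mem_top _) (Subgroup.mem_top _)

theorem szT'_mem_commutator (hm : 1 ≤ m) (hF : Fintype.card F = 2 ^ (2 * m + 1)) (a' b' : F) :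
    szT' hF a' b' ∈ commutator (Cfsg.Sz F m) := by
  have h2 : (2 : F) = 0 := sz_two
  obtain ⟨s, hs⟩ := sz_exists_unit_ne_one (F := F) hm hF
  have hs0 : (s : F) ≠ 0 := s.ne_zero
  have hs1 : (s : F) ≠ 1 := fun h => hs (Units.ext h)
  have hA : (s : F) ^ 2 + 1 ≠ 0 := by
    intro h
    have : ((s : F) - 1) ^ 2 = 0 := by linear_combination h - (s : F) * h2
    exact hs1 (sub_eq_zero.1 ((pow_eq_zero_iff two_ne_zero).1 this))
  have hB : szS F m s ^ 2 * (s : F) ^ 2 + 1 ≠ 0 := by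
    intro h
    have : (szS F m s * (s : F) - 1) ^ 2 = 0 := by
      linear_combination h - (szS F m s * (s : F)) * h2
    exact hs1 (sz_sigma_mul_self hF (sub_eq_zero.1 ((pow_eq_zero_iff two_ne_zero).1 this)))
  obtain ⟨a, ha⟩ : ∃ a : F, a = a' / ((s : F) ^ 2 + 1) := ⟨_, rfl⟩
  obtain ⟨b, hb⟩ : ∃ b : F, b = (b' + szS F m a' * a) / (szS F m s ^ 2 * (s : F) ^ 2 + 1) :=
    ⟨_, rfl⟩
  have ea : a' + a = (s : F) ^ 2 * a := by
    have : a * ((s : F) ^ 2 + 1) = a' := by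
      rw [ha]
      field_simp
    linear_combination (-1 : F) * this + a * h2
  have eb : b' + b + szS F m a' * a = szS F m s ^ 2 * (s : F) ^ 2 * b := by
    have : b * (szS F m s ^ 2 * (s : F) ^ 2 + 1) = b' + szS F m a' * a := by
      rw [hb]
      field_simp
    linear_combination (-1 : F) * this + b * h2
  have key : szT' hF a' b' = ⁅szD' hF s, szT' hF a b⁆ := by
    rw [commutatorElement_def, szD'_mul_szT', mul_assoc (szT' hF _ _), mul_inv_cancel, mul_one,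
      eq_mul_inv_iff_mul_eq, szT'_mul, ea, eb]
  rw [key]
  exact Subgroup.commutator_mem_commutator (Subgroup.mem_top _) (Subgroup.mem_top _)

/-- a non-trivial normal subgroup of the Suzuki group is transitive on the ovoid -/
theorem sz_normal_trans (hm : 1 ≤ m) (hF : Fintype.card F = 2 ^ (2 * m + 1))
    (N : Subgroup (Cfsg.Sz F m)) [hN : N.Normal] (hbot : N ≠ ⊥)
    {p q : Projectivization F (Fin 4 → F)} (hp : p ∈ Cfsg.suzukiOvoid F m)
    (hq : q ∈ Cfsg.suzukiOvoid F m) :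
    ∃ n ∈ N, (n : SpecialLinearGroup (Fin 4) F) • p = q := by
  by_cases hpq : p = q
  · exact ⟨1, N.one_mem, by rw [hpq]; exact one_smul _ _⟩
  obtain ⟨⟨n₀, hn₀⟩, hne⟩ := (Subgroup.ne_bot_iff_exists_ne_one).1 hbot
  have hn₀1 : n₀ ≠ 1 := fun h => hne (Subtype.ext h)
  obtain ⟨a, ha, hmove⟩ : ∃ a ∈ Cfsg.suzukiOvoid F m,
      (n₀ : SpecialLinearGroup (Fin 4) F) • a ≠ a := by
    by_contra hcon
    push Not at hcon
    have h3 := sz_fix_three hm hF n₀.2 inf_mem_ovoid (szP_mem_ovoid 0 0)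
      (szP_mem_ovoid 1 0) (szP_ne_inf 0 0).symm
      (fun h => by have := (szP_inj h).1; exact zero_ne_one this)
      (szP_ne_inf 1 0).symm (hcon _ inf_mem_ovoid) (hcon _ (szP_mem_ovoid 0 0))
      (hcon _ (szP_mem_ovoid 1 0))
    exact hn₀1 (Subtype.ext h3)
  have hb := sz_mem_smul_mem n₀.2 ha
  obtain ⟨h₁, hh₁, e1, e2⟩ := sz_two_trans hF ha hb (Ne.symm hmove)
  obtain ⟨h₂, hh₂, e3, e4⟩ := sz_two_trans hF hp hq hpq
  let g : Cfsg.Sz F m := ⟨h₂⁻¹ * h₁, mul_mem (inv_mem hh₂) hh₁⟩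
  refine ⟨g * n₀ * g⁻¹, hN.conj_mem _ hn₀ g, ?_⟩
  show (h₂⁻¹ * h₁ * (n₀ : SpecialLinearGroup (Fin 4) F) * (h₂⁻¹ * h₁)⁻¹) • p = q
  have e5 : (h₂⁻¹ * h₁)⁻¹ • p = a := by
    rw [inv_smul_eq_iff, mul_smul, e1, eq_inv_smul_iff, e3]
  rw [mul_smul, e5, mul_smul, mul_smul, e2, inv_smul_eq_iff, e4]

theorem sz_perfect (hm : 1 ≤ m) (hF : Fintype.card F = 2 ^ (2 * m + 1)) :
    commutator (Cfsg.Sz F m) = ⊤ := by
  rw [eq_top_iff]
  intro g _
  have hne : commutator (Cfsg.Sz F m) ≠ ⊥ := by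
    intro h
    have h1 := szT'_mem_commutator hm hF (1 : F) 0
    rw [h, Subgroup.mem_bot, ← szT'_zero hF] at h1
    exact one_ne_zero (szT'_injective hF h1).1
  obtain ⟨n, hn, hnp⟩ := sz_normal_trans hm hF (commutator _) hne inf_mem_ovoid
    (sz_mem_smul_mem g.2 inf_mem_ovoid)
  have hfix : ((n⁻¹ * g : Cfsg.Sz F m) : SpecialLinearGroup (Fin 4) F) •
      Cfsg.suzukiPointInfinity F = Cfsg.suzukiPointInfinity F := by
    rw [Subgroup.coe_mul, mul_smul, ← hnp, Subgroup.coe_inv, inv_smul_smul]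
  obtain ⟨a, b, t, habt⟩ := sz_fix_inf hm hF (n⁻¹ * g).2 hfix
  have e : g = n * (szT' hF a b * szD' hF t) := by
    have : n⁻¹ * g = szT' hF a b * szD' hF t := Subtype.ext habt
    rw [← this]
    group
  rw [e]
  exact mul_mem hn (mul_mem (szT'_mem_commutator hm hF a b) (szD'_mem_commutator hF t))

/-- the translation subgroup -/
noncomputable def szTsub (hF : Fintype.card F = 2 ^ (2 * m + 1)) : Subgroup (Cfsg.Sz F m) where
  carrier := {g | ∃ a b, g = szT' hF a b}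
  mul_mem' := by
    rintro _ _ ⟨a, b, rfl⟩ ⟨a', b', rfl⟩
    exact ⟨_, _, szT'_mul hF a b a' b'⟩
  one_mem' := ⟨0, 0, (szT'_zero hF).symm⟩
  inv_mem' := by
    rintro _ ⟨a, b, rfl⟩
    exact ⟨_, _, szT'_inv hF a b⟩

/-- the centre of the translation subgroup -/
noncomputable def szZsub (hF : Fintype.card F = 2 ^ (2 * m + 1)) : Subgroup (Cfsg.Sz F m) where
  carrier := {g | ∃ b, g = szT' hF 0 b}
  mul_mem' := by
    rintro _ _ ⟨b, rfl⟩ ⟨b', rfl⟩
    exact ⟨b + b', by rw [szT'_mul]; simp⟩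
  one_mem' := ⟨0, (szT'_zero hF).symm⟩
  inv_mem' := by
    rintro _ ⟨b, rfl⟩
    exact ⟨b, by rw [szT'_inv]; simp⟩

theorem mem_szTsub (hF : Fintype.card F = 2 ^ (2 * m + 1)) (g : Cfsg.Sz F m) :
    g ∈ szTsub hF ↔ ∃ a b, g = szT' hF a b := Iff.rfl

theorem mem_szZsub (hF : Fintype.card F = 2 ^ (2 * m + 1)) (g : Cfsg.Sz F m) :
    g ∈ szZsub hF ↔ ∃ b, g = szT' hF 0 b := Iff.rfl

theorem szT'_comm (hF : Fintype.card F = 2 ^ (2 * m + 1)) (a b a' b' : F) :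
    ⁅szT' hF a b, szT' hF a' b'⁆ = szT' hF 0 (szS F m a * a' + szS F m a' * a) := by
  have h2 : (2 : F) = 0 := sz_two
  rw [commutatorElement_def, szT'_inv, szT'_inv, szT'_mul, szT'_mul, szT'_mul]
  congr 1
  · linear_combination (a + a') * h2
  · simp only [map_add]
    linear_combination (b + b' + szS F m a * a + szS F m a * a' + szS F m a' * a') * h2

theorem sz_stab_solvable (hm : 1 ≤ m) (hF : Fintype.card F = 2 ^ (2 * m + 1)) :
    Group.IsSolvable (MulAction.stabilizer (Cfsg.Sz F m) (Cfsg.suzukiPointInfinity F)) := by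
  apply isSolvable_of_chain3 _ (szTsub hF) (szZsub hF)
  · rw [Subgroup.commutator_le]
    intro g₁ hg₁ g₂ hg₂
    rw [MulAction.mem_stabilizer_iff] at hg₁ hg₂
    obtain ⟨a₁, b₁, t₁, e₁⟩ := sz_fix_inf hm hF g₁.2 hg₁
    obtain ⟨a₂, b₂, t₂, e₂⟩ := sz_fix_inf hm hF g₂.2 hg₂
    have E₁ : g₁ = szT' hF a₁ b₁ * szD' hF t₁ := Subtype.ext e₁
    have E₂ : g₂ = szT' hF a₂ b₂ * szD' hF t₂ := Subtype.ext e₂
    have hconj : ∀ (s : Fˣ) (x : Cfsg.Sz F m), x ∈ szTsub hF →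
        szD' hF s * x * (szD' hF s)⁻¹ ∈ szTsub hF := by
      rintro s _ ⟨a, b, rfl⟩
      refine ⟨(s : F) ^ 2 * a, szS F m s ^ 2 * (s : F) ^ 2 * b, ?_⟩
      rw [szD'_mul_szT', mul_assoc, mul_inv_cancel, mul_one]
    have hcomm : szD' hF t₂ * (szD' hF t₁)⁻¹ = (szD' hF t₁)⁻¹ * szD' hF t₂ := by
      rw [szD'_inv, ← szD'_mul, ← szD'_mul, mul_comm]
    have key : ⁅g₁, g₂⁆ = szT' hF a₁ b₁ * (szD' hF t₁ * szT' hF a₂ b₂ * (szD' hF t₁)⁻¹) *
        (szD' hF t₂ * (szT' hF a₁ b₁)⁻¹ * (szD' hF t₂)⁻¹) * (szT' hF a₂ b₂)⁻¹ := by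
      rw [E₁, E₂, commutatorElement_def]
      calc szT' hF a₁ b₁ * szD' hF t₁ * (szT' hF a₂ b₂ * szD' hF t₂) *
            (szT' hF a₁ b₁ * szD' hF t₁)⁻¹ * (szT' hF a₂ b₂ * szD' hF t₂)⁻¹
          = szT' hF a₁ b₁ * szD' hF t₁ * szT' hF a₂ b₂ * (szD' hF t₂ * (szD' hF t₁)⁻¹) *
            (szT' hF a₁ b₁)⁻¹ * (szD' hF t₂)⁻¹ * (szT' hF a₂ b₂)⁻¹ := by group
        _ = szT' hF a₁ b₁ * szD' hF t₁ * szT' hF a₂ b₂ * ((szD' hF t₁)⁻¹ * szD' hF t₂) *
            (szT' hF a₁ b₁)⁻¹ * (szD' hF t₂)⁻¹ * (szT' hF a₂ b₂)⁻¹ := by rw [hcomm]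
        _ = _ := by group
    rw [key]
    have m1 : szT' hF a₁ b₁ ∈ szTsub hF := ⟨_, _, rfl⟩
    have m2 : szT' hF a₂ b₂ ∈ szTsub hF := ⟨_, _, rfl⟩
    exact mul_mem (mul_mem (mul_mem m1 (hconj _ _ m2)) (hconj _ _ (inv_mem m1))) (inv_mem m2)
  · rw [Subgroup.commutator_le]
    rintro _ ⟨a, b, rfl⟩ _ ⟨a', b', rfl⟩
    exact ⟨_, szT'_comm hF a b a' b'⟩
  · refine le_bot_iff.1 (Subgroup.commutator_le.2 ?_)
    rintro _ ⟨b, rfl⟩ _ ⟨b', rfl⟩
    rw [szT'_comm, Subgroup.mem_bot]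
    simp [szT'_zero]

theorem sz_simple (hm : 1 ≤ m) (hF : Fintype.card F = 2 ^ (2 * m + 1)) :
    IsSimpleGroup (Cfsg.Sz F m) := by
  have hnt : Nontrivial (Cfsg.Sz F m) := by
    refine ⟨⟨szT' hF 1 0, 1, ?_⟩⟩
    intro h
    rw [← szT'_zero hF] at h
    exact one_ne_zero (szT'_injective hF h).1
  refine { toNontrivial := hnt, eq_bot_or_eq_top_of_normal := ?_ }
  intro N hN
  by_cases hbot : N = ⊥
  · exact Or.inl hbot
  right
  have hBsolv := sz_stab_solvable hm hF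
  let f : MulAction.stabilizer (Cfsg.Sz F m) (Cfsg.suzukiPointInfinity F) →* (Cfsg.Sz F m) ⧸ N :=
    (QuotientGroup.mk' N).comp (Subgroup.subtype _)
  have hf : Function.Surjective f := by
    intro x
    obtain ⟨g, rfl⟩ := QuotientGroup.mk_surjective x
    obtain ⟨n, hn, hnp⟩ := sz_normal_trans hm hF N hbot inf_mem_ovoid
      (sz_mem_smul_mem g.2 inf_mem_ovoid)
    have hfix : (n⁻¹ * g) ∈ MulAction.stabilizer (Cfsg.Sz F m) (Cfsg.suzukiPointInfinity F) := by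
      rw [MulAction.mem_stabilizer_iff]
      show ((n⁻¹ * g : Cfsg.Sz F m) : SpecialLinearGroup (Fin 4) F) •
        Cfsg.suzukiPointInfinity F = Cfsg.suzukiPointInfinity F
      rw [Subgroup.coe_mul, mul_smul, ← hnp, Subgroup.coe_inv, inv_smul_smul]
    refine ⟨⟨n⁻¹ * g, hfix⟩, ?_⟩
    show ((n⁻¹ * g : Cfsg.Sz F m) : Cfsg.Sz F m ⧸ N) = (g : Cfsg.Sz F m ⧸ N)
    rw [QuotientGroup.eq]
    have : (n⁻¹ * g)⁻¹ * g = g⁻¹ * n * g⁻¹⁻¹ := by group
    rw [this]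
    exact hN.conj_mem _ hn _
  have hQsolv : Group.IsSolvable (Cfsg.Sz F m ⧸ N) := Group.isSolvable_of_surjective hf
  exact eq_top_of_perfect_of_solvable_quotient (sz_perfect hm hF) N

end SzSimple
end Cfsg.Agent.Helper6
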