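import Mathlib
import Cfsg.Prelude.Def_LieExceptional
import Cfsg.Agent.Helper6.Suzuki
import Cfsg.Agent.Helper6.Suzuki2
import Cfsg.Agent.Helper6.Suzuki3
import Cfsg.Agent.Helper6.Suzuki4
import Cfsg.Agent.Helper6.Suzuki5
import Cfsg.Agent.Helper6.Suzuki6

set_option autoImplicit false

namespace Cfsg.Agent.Helper6

open Matrix
open scoped Pointwise

/-- Schur's lemma over a finite field: endomorphisms commuting with an irreducible endomorphism
commute with one another. -/
theorem h6_commute_of_irreducible {F V : Type*} [Field F] [AddCommGroup V] [Module F V] [Finite V]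
    (T : Module.End F V)
    (hirr : ∀ W : Submodule F V, (∀ v ∈ W, T v ∈ W) → W = ⊥ ∨ W = ⊤)
    {S₁ S₂ : Module.End F V} (h₁ : S₁ * T = T * S₁) (h₂ : S₂ * T = T * S₂) :
    S₁ * S₂ = S₂ * S₁ := by
  classical
  by_cases hsub : Subsingleton (Module.End F V)
  · exact Subsingleton.elim _ _
  rw [not_subsingleton_iff_nontrivial] at hsub
  let E : Subring (Module.End F V) := Subring.centralizer {T}
  have hfin : Finite (Module.End F V) :=
    Finite.of_injective (fun f : Module.End F V => (f : V → V)) DFunLike.coe_injective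
  have hker : ∀ a : Module.End F V, a * T = T * a → a = 0 ∨ Function.Injective a := by
    intro a ha
    rcases hirr (LinearMap.ker a) (fun v hv => by
      rw [LinearMap.mem_ker] at hv ⊢
      have := congrArg (fun f : Module.End F V => f v) ha
      simp only [Module.End.mul_apply] at this
      rw [this, hv, map_zero]) with h | h
    · right; exact LinearMap.ker_eq_bot.1 h
    · left; exact LinearMap.ker_eq_top.1 h
  have hmemE : ∀ a : Module.End F V, a ∈ E ↔ a * T = T * a := by
    intro a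
    constructor
    · intro ha
      exact (Subring.mem_centralizer_iff.1 ha T rfl).symm
    · intro ha
      exact Subring.mem_centralizer_iff.2 (fun g hg => by rw [Set.mem_singleton_iff.1 hg, ha])
  have hnz : NoZeroDivisors E := ⟨by
    rintro ⟨a, ha⟩ ⟨b, hb⟩ hab
    have hab' : a * b = 0 := congrArg Subtype.val hab
    rcases hker a ((hmemE a).1 ha) with h | h
    · left; exact Subtype.ext h
    · right
      apply Subtype.ext
      ext v
      apply h
      have := congrArg (fun f : Module.End F V => f v) hab'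
      simpa using this⟩
  have hdom : IsDomain E := NoZeroDivisors.to_isDomain E
  have hfield := Finite.isDomain_to_isField E
  have := hfield.mul_comm ⟨S₁, (hmemE S₁).2 h₁⟩ ⟨S₂, (hmemE S₂).2 h₂⟩
  exact congrArg Subtype.val this

/-- fixed-point congruence for an endomorphism of prime-power order on an invariant subspace -/
theorem h6_card_modEq_fixed {F V : Type*} [Field F] [AddCommGroup V] [Module F V] [Finite V]
    (T : Module.End F V) (p : ℕ) [Fact p.Prime] (hT : T ^ p = 1) (W : Submodule F V)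
    (hW : ∀ v ∈ W, T v ∈ W) :
    Nat.card W ≡ Nat.card (W ⊓ LinearMap.ker (T - 1) : Submodule F V) [MOD p] := by
  classical
  have := Fintype.ofFinite W
  let f : Function.End W := fun w => ⟨T w.1, hW w.1 w.2⟩
  have hpow : ∀ n : ℕ, ∀ w : W, ((f ^ n) w : V) = (T ^ n) w.1 := by
    intro n
    induction n with
    | zero => intro w; rfl
    | succ n ih =>
      intro w
      rw [pow_succ, pow_succ]
      show ((f ^ n) (f w) : V) = (T ^ n) (T w.1)
      rw [ih]
  have h := Equiv.Perm.card_fixedPoints_modEq (f := f) (p := p) (n := 1) (by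
    funext w
    apply Subtype.ext
    rw [pow_one, hpow, hT]
    rfl)
  rw [← Nat.card_eq_fintype_card, ← Nat.card_eq_fintype_card] at h
  have hk : ∀ v : V, v ∈ LinearMap.ker (T - 1) ↔ T v = v := fun v => by
    rw [LinearMap.mem_ker, LinearMap.sub_apply, sub_eq_zero]
    rfl
  have e : Nat.card (Function.fixedPoints f) =
      Nat.card (W ⊓ LinearMap.ker (T - 1) : Submodule F V) := by
    apply Nat.card_congr
    exact ⟨fun x => ⟨x.1.1, ⟨x.1.2, (hk _).2 (congrArg Subtype.val x.2)⟩⟩,
      fun v => ⟨⟨v.1, v.2.1⟩, Subtype.ext ((hk _).1 v.2.2)⟩, fun x => rfl, fun v => rfl⟩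
  rw [← e]
  exact h

theorem h6_pow_modEq_one {q p : ℕ} [Fact p.Prime] (hp : p ∣ q ^ 2 + 1) (hp2 : p ≠ 2) {e : ℕ}
    (he : e ≤ 4) (h : q ^ e ≡ 1 [MOD p]) : e = 0 ∨ e = 4 := by
  have hx : ((q : ZMod p)) ^ 2 = -1 := by
    have := (ZMod.natCast_eq_zero_iff (q ^ 2 + 1) p).2 hp
    push_cast at this
    linear_combination this
  have h2 : (2 : ZMod p) ≠ 0 := by
    intro h2
    have : ((2 : ℕ) : ZMod p) = 0 := by exact_mod_cast h2
    rw [ZMod.natCast_eq_zero_iff] at this
    have := Nat.le_of_dvd (by norm_num) this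
    have := (Fact.out : p.Prime).two_le
    omega
  have he' : ((q : ZMod p)) ^ e = 1 := by
    have := (ZMod.natCast_eq_natCast_iff _ _ _).2 h
    push_cast at this
    exact this
  interval_cases e
  · left; rfl
  · exfalso
    apply h2
    rw [pow_one] at he'
    rw [he'] at hx
    linear_combination hx
  · exfalso
    apply h2
    linear_combination hx - he'
  · exfalso
    apply h2
    have h3 : (q : ZMod p) = -1 := by linear_combination (q : ZMod p) * hx - he'
    rw [h3] at hx
    linear_combination hx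
  · right; rfl

/-- an endomorphism of odd prime order `p ∣ q² + 1` of a 4-dimensional space over the field with `q`
elements is irreducible -/
theorem h6_irreducible_of_prime_order {F V : Type*} [Field F] [Fintype F] [AddCommGroup V]
    [Module F V] [Finite V] (hV : Module.finrank F V = 4) (T : Module.End F V) (p : ℕ)
    [Fact p.Prime] (hp : p ∣ Fintype.card F ^ 2 + 1) (hp2 : p ≠ 2) (hT : T ^ p = 1) (hT1 : T ≠ 1)
    (W : Submodule F V) (hW : ∀ v ∈ W, T v ∈ W) : W = ⊥ ∨ W = ⊤ := by
  have hcard : ∀ U : Submodule F V, Nat.card U = Fintype.card F ^ Module.finrank F U := fun U => by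
    rw [Module.natCard_eq_pow_finrank (K := F) (V := U), Nat.card_eq_fintype_card]
  have hle : ∀ U : Submodule F V, Module.finrank F U ≤ 4 := fun U => hV ▸ Submodule.finrank_le U
  have h4 : Fintype.card F ^ 4 ≡ 1 [MOD p] := by
    rw [← ZMod.natCast_eq_natCast_iff]
    have := (ZMod.natCast_eq_zero_iff (Fintype.card F ^ 2 + 1) p).2 hp
    push_cast at this ⊢
    linear_combination ((Fintype.card F : ZMod p) ^ 2 - 1) * this
  have hfix : LinearMap.ker (T - 1) = ⊥ := by
    have h := h6_card_modEq_fixed T p hT ⊤ (fun v _ => Submodule.mem_top)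
    rw [top_inf_eq, hcard, hcard, finrank_top, hV] at h
    rcases h6_pow_modEq_one hp hp2 (hle _) (h.symm.trans h4) with h0 | h0
    · exact Submodule.finrank_eq_zero.1 h0
    · exfalso
      apply hT1
      have : LinearMap.ker (T - 1) = ⊤ := Submodule.eq_top_of_finrank_eq (h0.trans hV.symm)
      rw [LinearMap.ker_eq_top] at this
      exact sub_eq_zero.1 this
  have h := h6_card_modEq_fixed T p hT W hW
  rw [hfix, inf_bot_eq, hcard, hcard, finrank_bot, pow_zero] at h
  rcases h6_pow_modEq_one hp hp2 (hle _) h with h0 | h0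
  · left; exact Submodule.finrank_eq_zero.1 h0
  · right; exact Submodule.eq_top_of_finrank_eq (h0.trans hV.symm)

/-- matrices commuting with a `4 × 4` matrix of odd prime order `p ∣ q² + 1` commute -/
theorem h6_matrix_commute_of_prime_order {F : Type*} [Field F] [Fintype F]
    (M : Matrix (Fin 4) (Fin 4) F) (p : ℕ) [Fact p.Prime] (hp : p ∣ Fintype.card F ^ 2 + 1)
    (hp2 : p ≠ 2) (hM : M ^ p = 1) (hM1 : M ≠ 1) {A B : Matrix (Fin 4) (Fin 4) F}
    (hA : A * M = M * A) (hB : B * M = M * B) : A * B = B * A := by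
  classical
  let φ : Matrix (Fin 4) (Fin 4) F ≃ₐ[F] Module.End F (Fin 4 → F) := Matrix.toLinAlgEquiv'
  apply φ.injective
  rw [map_mul, map_mul]
  refine h6_commute_of_irreducible (φ M) (fun W hW =>
    h6_irreducible_of_prime_order (by simp) (φ M) p hp hp2 (by rw [← map_pow, hM, map_one])
      (fun h => hM1 (φ.injective (h.trans (map_one φ).symm))) W hW) ?_ ?_
  · rw [← map_mul, ← map_mul, hA]
  · rw [← map_mul, ← map_mul, hB]

section SzCN
variable {F : Type*} [Field F] [Fintype F] {m : ℕ} [CharP F 2]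

/-- the dichotomy behind the CN property: the elements of the Suzuki group commuting with `g`
commute with one another, or they all have order dividing 4 -/
def szCNProp (m : ℕ) (g : SpecialLinearGroup (Fin 4) F) : Prop :=
  (∀ c₁ c₂ : SpecialLinearGroup (Fin 4) F, c₁ ∈ Cfsg.Sz F m → c₂ ∈ Cfsg.Sz F m →
    c₁ * g = g * c₁ → c₂ * g = g * c₂ → c₁ * c₂ = c₂ * c₁) ∨
  (∀ c : SpecialLinearGroup (Fin 4) F, c ∈ Cfsg.Sz F m → c * g = g * c → c ^ 4 = 1)

omit [Fintype F] [CharP F 2] in
theorem szCNProp_conj {g h : SpecialLinearGroup (Fin 4) F} (hh : h ∈ Cfsg.Sz F m)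
    (H : szCNProp m (h * g * h⁻¹)) : szCNProp m g := by
  have hc : ∀ c : SpecialLinearGroup (Fin 4) F, c * g = g * c →
      h * c * h⁻¹ * (h * g * h⁻¹) = h * g * h⁻¹ * (h * c * h⁻¹) := by
    intro c e
    have e1 : h * c * h⁻¹ * (h * g * h⁻¹) = h * (c * g) * h⁻¹ := by group
    have e2 : h * g * h⁻¹ * (h * c * h⁻¹) = h * (g * c) * h⁻¹ := by group
    rw [e1, e2, e]
  rcases H with H | H
  · left
    intro c₁ c₂ hc₁ hc₂ e₁ e₂
    have := H (h * c₁ * h⁻¹) (h * c₂ * h⁻¹) (mul_mem (mul_mem hh hc₁) (inv_mem hh))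
      (mul_mem (mul_mem hh hc₂) (inv_mem hh)) (hc c₁ e₁) (hc c₂ e₂)
    have e3 : h * (c₁ * c₂) * h⁻¹ = h * (c₂ * c₁) * h⁻¹ := by
      have e1 : h * c₁ * h⁻¹ * (h * c₂ * h⁻¹) = h * (c₁ * c₂) * h⁻¹ := by group
      have e2 : h * c₂ * h⁻¹ * (h * c₁ * h⁻¹) = h * (c₂ * c₁) * h⁻¹ := by group
      rw [← e1, ← e2, this]
    exact mul_left_cancel (mul_right_cancel e3)
  · right
    intro c hc' e
    have := H (h * c * h⁻¹) (mul_mem (mul_mem hh hc') (inv_mem hh)) (hc c e)
    rw [conj_pow] at this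
    exact conj_eq_one_iff.1 this

theorem szCN_D (hm : 1 ≤ m) (hF : Fintype.card F = 2 ^ (2 * m + 1)) {t : Fˣ} (ht : t ≠ 1) :
    szCNProp m (szD m t) := by
  left
  have h2 : (2 : F) = 0 := sz_two
  have fixset : ∀ p ∈ Cfsg.suzukiOvoid F m, szD m t • p = p →
      p = Cfsg.suzukiPointInfinity F ∨ p = szP m 0 0 := by
    intro p hp hfix
    rcases (mem_ovoid_iff p).1 hp with h | ⟨x, y, h⟩
    · left; exact h
    · right
      subst h
      by_contra hne
      apply ht
      refine szD_fix_imp hF (x := x) (y := y) ?_ hfix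
      rintro ⟨rfl, rfl⟩
      exact hne rfl
  have key : ∀ c ∈ Cfsg.Sz F m, c * szD m t = szD m t * c → ∃ s, c = szD m s := by
    intro c hc e
    have hc1 : szD m t • (c • Cfsg.suzukiPointInfinity F) = c • Cfsg.suzukiPointInfinity F := by
      rw [← mul_smul, ← e, mul_smul, szD_smul_inf]
    have hc2 : szD m t • (c • szP m (0 : F) 0) = c • szP m (0 : F) 0 := by
      rw [← mul_smul, ← e, mul_smul, szD_smul_zero hF]
    rcases fixset _ (sz_mem_smul_mem hc inf_mem_ovoid) hc1 with h1 | h1
    · rcases fixset _ (sz_mem_smul_mem hc (szP_mem_ovoid 0 0)) hc2 with h2' | h2'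
      · exfalso
        exact szP_ne_inf _ _ (smul_left_cancel c (h2'.trans h1.symm))
      · exact sz_fix_two hm hF hc h1 h2'
    · rcases fixset _ (sz_mem_smul_mem hc (szP_mem_ovoid 0 0)) hc2 with h2' | h2'
      · exfalso
        obtain ⟨s, hs⟩ := sz_fix_two hm hF (mul_mem (szW_mem hF) hc)
          (by rw [mul_smul, h1, szW_smul_szP_zero])
          (by rw [mul_smul, h2', szW_smul_inf])
        have hc' : c = szW F * szD m s := by rw [← hs, ← mul_assoc, szW_mul_self, one_mul]
        rw [hc'] at e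
        have e2 : szD m s * szD m t = szD m t⁻¹ * szD m s := by
          rw [← szW_mul_szD_mul_szW]
          have := congrArg (fun x => szW F * x) e
          simp only [← mul_assoc, szW_mul_self, one_mul] at this
          exact this
        rw [← szD_mul, ← szD_mul] at e2
        have e3 := szD_injective e2
        have e4 : t * t = 1 := by
          have : t * s = t⁻¹ * s := by rw [mul_comm t s]; exact e3
          have := mul_right_cancel this
          calc t * t = t⁻¹ * t := by rw [← this]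
            _ = 1 := inv_mul_cancel t
        apply ht
        apply Units.ext
        have e5 : (t : F) * t = 1 := by
          have := congrArg Units.val e4
          rwa [Units.val_mul, Units.val_one] at this
        have e6 : ((t : F) - 1) ^ 2 = 0 := by linear_combination e5 + (1 - (t : F)) * h2
        exact sub_eq_zero.1 ((pow_eq_zero_iff two_ne_zero).1 e6)
      · exfalso
        exact szP_ne_inf _ _ (smul_left_cancel c (h1.trans h2'.symm)).symm
  intro c₁ c₂ hc₁ hc₂ e₁ e₂
  obtain ⟨s₁, rfl⟩ := key c₁ hc₁ e₁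
  obtain ⟨s₂, rfl⟩ := key c₂ hc₂ e₂
  rw [← szD_mul, ← szD_mul, mul_comm]

theorem szCN_T (hm : 1 ≤ m) (hF : Fintype.card F = 2 ^ (2 * m + 1)) {a b : F}
    (hab : ¬ (a = 0 ∧ b = 0)) : szCNProp m (szT m a b) := by
  right
  intro c hc e
  have h2 : (2 : F) = 0 := sz_two
  have hc1 : szT m a b • (c • Cfsg.suzukiPointInfinity F) = c • Cfsg.suzukiPointInfinity F := by
    rw [← mul_smul, ← e, mul_smul, szT_smul_inf]
  have hinf : c • Cfsg.suzukiPointInfinity F = Cfsg.suzukiPointInfinity F := by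
    rcases (mem_ovoid_iff _).1 (sz_mem_smul_mem hc inf_mem_ovoid) with h | ⟨x, y, h⟩
    · exact h
    · exfalso
      rw [h, szT_smul_szP hF] at hc1
      obtain ⟨h1, h2'⟩ := szP_inj hc1
      apply hab
      have ha : a = 0 := by linear_combination h1
      subst ha
      refine ⟨rfl, ?_⟩
      simp at h2'
      exact h2'
  obtain ⟨x, y, s, rfl⟩ := sz_fix_inf hm hF hc hinf
  rw [mul_assoc, szD_mul_szT hF, ← mul_assoc, ← mul_assoc, szT_mul hF, szT_mul hF] at e
  obtain ⟨e1, e2, -⟩ := szTD_injective hF e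
  have hs : s = 1 := by
    apply Units.ext
    by_cases ha : a = 0
    · subst ha
      have hb : b ≠ 0 := fun hb => hab ⟨rfl, hb⟩
      simp at e2
      have h3 : (szS F m s ^ 2 * (s : F) ^ 2 - 1) * b = 0 := by linear_combination e2
      rcases mul_eq_zero.1 h3 with h | h
      · have h4 : (szS F m s * s - 1) ^ 2 = 0 := by
          linear_combination h + (1 - szS F m s * s) * h2
        exact sz_sigma_mul_self hF (sub_eq_zero.1 ((pow_eq_zero_iff two_ne_zero).1 h4))
      · exact absurd h hb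
    · have h3 : ((s : F) ^ 2 - 1) * a = 0 := by linear_combination e1
      rcases mul_eq_zero.1 h3 with h | h
      · have h4 : ((s : F) - 1) ^ 2 = 0 := by linear_combination h + (1 - (s : F)) * h2
        exact sub_eq_zero.1 ((pow_eq_zero_iff two_ne_zero).1 h4)
      · exact absurd h ha
  subst hs
  rw [szD_one, mul_one]
  have hxx : x + x = 0 := by linear_combination x * h2
  have e4 : szT m x y ^ 4 = (szT m x y * szT m x y) * (szT m x y * szT m x y) := by
    simp only [pow_succ, pow_zero, one_mul, mul_assoc]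
  rw [e4, szT_mul hF, hxx, szT_mul hF, ← szT_zero]
  congr 1
  · simp
  · simp
    linear_combination (y + y + szS F m x * x) * h2

theorem szTD_fix (hF : Fintype.card F = 2 ^ (2 * m + 1)) (a b : F) {t : Fˣ} (ht : t ≠ 1) :
    ∃ x y : F, (szT m a b * szD m t) • szP m x y = szP m x y := by
  have h2 : (2 : F) = 0 := sz_two
  have h1 : (t : F) ^ 2 + 1 ≠ 0 := by
    intro h
    apply ht
    apply Units.ext
    have : ((t : F) - 1) ^ 2 = 0 := by linear_combination h - (t : F) * h2
    exact sub_eq_zero.1 ((pow_eq_zero_iff two_ne_zero).1 this)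
  have h3 : szS F m t ^ 2 * (t : F) ^ 2 + 1 ≠ 0 := by
    intro h
    apply ht
    apply Units.ext
    apply sz_sigma_mul_self hF
    have : (szS F m t * t - 1) ^ 2 = 0 := by linear_combination h - (szS F m t * t) * h2
    exact sub_eq_zero.1 ((pow_eq_zero_iff two_ne_zero).1 this)
  obtain ⟨x₀, hx₀⟩ : ∃ x₀ : F, x₀ * ((t : F) ^ 2 + 1) = a := ⟨a / ((t : F) ^ 2 + 1), div_mul_cancel₀ _ h1⟩
  obtain ⟨y₀, hy₀⟩ : ∃ y₀ : F, y₀ * (szS F m t ^ 2 * (t : F) ^ 2 + 1) =
      b + szS F m a * ((t : F) ^ 2 * x₀) :=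
    ⟨(b + szS F m a * ((t : F) ^ 2 * x₀)) / (szS F m t ^ 2 * (t : F) ^ 2 + 1),
      div_mul_cancel₀ _ h3⟩
  refine ⟨x₀, y₀, ?_⟩
  rw [mul_smul, szD_smul_szP hF, szT_smul_szP hF]
  congr 1
  · linear_combination hx₀ + (a - x₀) * h2
  · linear_combination hy₀ + (b + szS F m a * ((t : F) ^ 2 * x₀) - y₀) * h2

theorem szCN_of_fixed (hm : 1 ≤ m) (hF : Fintype.card F = 2 ^ (2 * m + 1))
    {g : SpecialLinearGroup (Fin 4) F} (hg : g ∈ Cfsg.Sz F m) (hg1 : g ≠ 1)
    {p : Projectivization F (Fin 4 → F)} (hp : p ∈ Cfsg.suzukiOvoid F m) (hfix : g • p = p) :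
    szCNProp m g := by
  obtain ⟨h, hh, hhp⟩ := sz_exists_smul_eq_inf hF hp
  apply szCNProp_conj hh
  have hg' : h * g * h⁻¹ ∈ Cfsg.Sz F m := mul_mem (mul_mem hh hg) (inv_mem hh)
  have hfix' : (h * g * h⁻¹) • Cfsg.suzukiPointInfinity F = Cfsg.suzukiPointInfinity F := by
    rw [mul_smul, mul_smul, ← hhp, inv_smul_smul, hfix]
  have hne : h * g * h⁻¹ ≠ 1 := fun e => hg1 (conj_eq_one_iff.1 e)
  obtain ⟨a, b, t, e⟩ := sz_fix_inf hm hF hg' hfix'
  by_cases ht : t = 1
  · subst ht
    rw [szD_one, mul_one] at e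
    rw [e]
    apply szCN_T hm hF
    rintro ⟨rfl, rfl⟩
    rw [szT_zero] at e
    exact hne e
  · obtain ⟨x, y, hxy⟩ := szTD_fix hF a b ht
    rw [← e] at hxy
    apply szCNProp_conj (h := (szT m x y)⁻¹) (inv_mem (szT_mem hF x y))
    have hk0 : ((szT m x y)⁻¹ * (h * g * h⁻¹) * (szT m x y)⁻¹⁻¹) • szP m (0 : F) 0 =
        szP m 0 0 := by
      rw [inv_inv, mul_smul, mul_smul, szT_smul_zero hF, hxy, inv_smul_eq_iff, szT_smul_zero hF]
    have hkinf : ((szT m x y)⁻¹ * (h * g * h⁻¹) * (szT m x y)⁻¹⁻¹) • Cfsg.suzukiPointInfinity F =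
        Cfsg.suzukiPointInfinity F := by
      rw [inv_inv, mul_smul, mul_smul, szT_smul_inf, hfix', inv_smul_eq_iff, szT_smul_inf]
    obtain ⟨t', e'⟩ := sz_fix_two hm hF
      (mul_mem (mul_mem (inv_mem (szT_mem hF x y)) hg') (inv_mem (inv_mem (szT_mem hF x y))))
      hkinf hk0
    rw [e']
    apply szCN_D hm hF
    rintro rfl
    rw [szD_one] at e'
    exact hne (conj_eq_one_iff.1 e')

theorem szCN_free (hm : 1 ≤ m) (hF : Fintype.card F = 2 ^ (2 * m + 1))
    {g : SpecialLinearGroup (Fin 4) F} (hg : g ∈ Cfsg.Sz F m)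
    (hfree : ∀ p ∈ Cfsg.suzukiOvoid F m, g • p ≠ p) : szCNProp m g := by
  classical
  left
  have hg1 : g ≠ 1 := by
    rintro rfl
    exact hfree _ inf_mem_ovoid (one_smul _ _)
  have hord : orderOf g ≠ 1 := fun h => hg1 (orderOf_eq_one_iff.1 h)
  obtain ⟨p, hp, hpd⟩ := Nat.exists_prime_and_dvd hord
  have : Fact p.Prime := ⟨hp⟩
  have hord0 : orderOf g ≠ 0 := (orderOf_pos g).ne'
  set g₀ := g ^ (orderOf g / p) with hg₀
  have ho : orderOf g₀ = p := orderOf_pow_orderOf_div hord0 hpd
  have hg₀p : g₀ ^ p = 1 := by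
    rw [← ho]
    exact pow_orderOf_eq_one g₀
  have hg₀1 : g₀ ≠ 1 := by
    intro h
    rw [h, orderOf_one] at ho
    exact hp.one_lt.ne ho
  have hg₀mem : g₀ ∈ Cfsg.Sz F m := pow_mem hg _
  have hcomm : g * g₀ = g₀ * g := (Commute.pow_right (Commute.refl g) _).eq
  have hfree₀ : ∀ x ∈ Cfsg.suzukiOvoid F m, g₀ • x ≠ x := by
    intro x hx hfx
    have hy := sz_mem_smul_mem hg hx
    have hz := sz_mem_smul_mem hg hy
    have hfy : g₀ • (g • x) = g • x := by rw [← mul_smul, ← hcomm, mul_smul, hfx]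
    have hfz : g₀ • (g • (g • x)) = g • (g • x) := by rw [← mul_smul, ← hcomm, mul_smul, hfy]
    have hxy : x ≠ g • x := fun h => hfree x hx h.symm
    have hyz : g • x ≠ g • (g • x) := fun h => hfree _ hy h.symm
    by_cases hxz : x = g • (g • x)
    · obtain ⟨h, hh, h1, h2⟩ := sz_two_trans hF hx hy hxy
      have hg'mem : h * g * h⁻¹ ∈ Cfsg.Sz F m := mul_mem (mul_mem hh hg) (inv_mem hh)
      have e1 : (h * g * h⁻¹) • Cfsg.suzukiPointInfinity F = szP m 0 0 := by
        rw [mul_smul, mul_smul, ← h1, inv_smul_smul, h2]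
      have e2 : (h * g * h⁻¹) • szP m (0 : F) 0 = Cfsg.suzukiPointInfinity F := by
        rw [mul_smul, mul_smul, ← h2, inv_smul_smul, ← hxz, h1]
      obtain ⟨s, hs⟩ := sz_fix_two hm hF (mul_mem (szW_mem hF) hg'mem)
        (by rw [mul_smul, e1, szW_smul_szP_zero])
        (by rw [mul_smul, e2, szW_smul_inf])
      have e3 : h * g * h⁻¹ = szW F * szD m s := by
        rw [← hs, ← mul_assoc, szW_mul_self, one_mul]
      have e4 : (h * g * h⁻¹) * (h * g * h⁻¹) = 1 := by
        rw [e3]
        calc szW F * szD m s * (szW F * szD m s) = (szW F * szD m s * szW F) * szD m s := by group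
          _ = 1 := by rw [szW_mul_szD_mul_szW, ← szD_mul, inv_mul_cancel, szD_one]
      have e5 : g * g = 1 := by
        have : h * (g * g) * h⁻¹ = 1 := by
          rw [← e4]
          group
        exact conj_eq_one_iff.1 this
      obtain ⟨⟨x', hx'⟩, hfx'⟩ := exists_fixed_of_involutive (α := Cfsg.suzukiOvoid F m)
        (fun x => ⟨g • x.1, sz_mem_smul_mem hg x.2⟩)
        (fun x => Subtype.ext (by
          show g • g • x.1 = x.1
          rw [← mul_smul, e5, one_smul])) (sz_ovoid_card_odd hF)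
      exact hfree x' hx' (congrArg Subtype.val hfx')
    · exact hg₀1 (sz_fix_three hm hF hg₀mem hx hy hz hxy hyz hxz hfx hfy hfz)
  have hpdvd : p ∣ Fintype.card F ^ 2 + 1 := by
    have := Fintype.ofFinite (Cfsg.suzukiOvoid F m)
    let f : Function.End (Cfsg.suzukiOvoid F m) := fun x => ⟨g₀ • x.1, sz_mem_smul_mem hg₀mem x.2⟩
    have hpow : ∀ n : ℕ, ∀ x : Cfsg.suzukiOvoid F m, ((f ^ n) x).1 = (g₀ ^ n) • x.1 := by
      intro n
      induction n with
      | zero =>
        intro x
        show x.1 = g₀ ^ 0 • x.1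
        rw [pow_zero, one_smul]
      | succ n ih =>
        intro x
        rw [pow_succ, pow_succ, mul_smul]
        show ((f ^ n) (f x)).1 = g₀ ^ n • g₀ • x.1
        rw [ih]
    have h := Equiv.Perm.card_fixedPoints_modEq (f := f) (p := p) (n := 1) (by
      funext x
      apply Subtype.ext
      rw [pow_one, hpow, hg₀p, one_smul]
      rfl)
    have h0 : Fintype.card (Function.fixedPoints f) = 0 := by
      rw [Fintype.card_eq_zero_iff]
      exact ⟨fun ⟨x, hx⟩ => hfree₀ x.1 x.2 (congrArg Subtype.val hx)⟩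
    rw [h0, ← Nat.card_eq_fintype_card, sz_ovoid_card] at h
    exact (Nat.modEq_zero_iff_dvd).1 h
  have hp2 : p ≠ 2 := by
    rintro rfl
    have hodd : Odd (Fintype.card F ^ 2 + 1) := by
      have := sz_ovoid_card_odd (m := m) hF
      rwa [sz_ovoid_card] at this
    exact (Nat.not_even_iff_odd.2 hodd) (even_iff_two_dvd.2 hpdvd)
  intro c₁ c₂ hc₁ hc₂ e₁ e₂
  have e₁' : c₁ * g₀ = g₀ * c₁ := (Commute.pow_right (show Commute c₁ g from e₁) _).eq
  have e₂' : c₂ * g₀ = g₀ * c₂ := (Commute.pow_right (show Commute c₂ g from e₂) _).eq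
  apply Subtype.ext
  show (c₁ : Matrix (Fin 4) (Fin 4) F) * c₂ = c₂ * c₁
  exact h6_matrix_commute_of_prime_order (g₀ : Matrix (Fin 4) (Fin 4) F) p hpdvd hp2
    (by simpa using congrArg Subtype.val hg₀p) (fun h => hg₀1 (Subtype.ext h))
    (congrArg Subtype.val e₁') (congrArg Subtype.val e₂')

/-- the CN dichotomy for every non-identity element of the Suzuki group -/
theorem szCN_all (hm : 1 ≤ m) (hF : Fintype.card F = 2 ^ (2 * m + 1))
    {g : SpecialLinearGroup (Fin 4) F} (hg : g ∈ Cfsg.Sz F m) (hg1 : g ≠ 1) : szCNProp m g := by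
  by_cases h : ∃ p ∈ Cfsg.suzukiOvoid F m, g • p = p
  · obtain ⟨p, hp, hfix⟩ := h
    exact szCN_of_fixed hm hF hg hg1 hp hfix
  · push Not at h
    exact szCN_free hm hF hg h

end SzCN

end Cfsg.Agent.Helper6
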