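import Mathlib
import Cfsg.Prelude.Def_LieExceptional
import Cfsg.Agent.Helper6.Suzuki
import Cfsg.Agent.Helper6.Suzuki2
import Cfsg.Agent.Helper6.Suzuki3
import Cfsg.Agent.Helper6.Suzuki4
import Cfsg.Agent.Helper6.Suzuki5
import Cfsg.Agent.Helper6.Suzuki6

set_option autoImplicit false

namespace Cfsg.Agent.Helper6

open Matrix
open scoped Pointwise commutatorElement

/-- the structural properties of a Sylow 2-subgroup of a Suzuki group -/
def SzSylProp (q : ℕ) (G : Type*) [Group G] : Prop :=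
  Nat.card G = q ^ 2 ∧ Monoid.exponent G = 4 ∧ Subgroup.center G = commutator G ∧
    Nat.card (Subgroup.center G) = q

theorem SzSylProp.of_mulEquiv {q : ℕ} {G H : Type*} [Group G] [Group H] (e : G ≃* H)
    (h : SzSylProp q H) : SzSylProp q G := by
  obtain ⟨h1, h2, h3, h4⟩ := h
  refine ⟨?_, ?_, ?_, ?_⟩
  · rw [Nat.card_congr e.toEquiv, h1]
  · rw [Monoid.exponent_eq_of_mulEquiv e, h2]
  · have hc : Subgroup.center G = (Subgroup.center H).comap e.toMonoidHom := by
      ext x
      simp only [Subgroup.mem_center_iff, Subgroup.mem_comap, MulEquiv.coe_toMonoidHom]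
      constructor
      · intro hx y
        have := hx (e.symm y)
        have h' := congrArg e this
        simpa using h'
      · intro hx g
        apply e.injective
        simpa using hx (e g)
    have hk : commutator G = (commutator H).comap e.toMonoidHom := by
      have : commutator H = Subgroup.map e.toMonoidHom (commutator G) := by
        rw [commutator_def, commutator_def, Subgroup.map_commutator,
          Subgroup.map_top_of_surjective _ e.surjective]
      rw [this, Subgroup.comap_map_eq_self_of_injective e.injective]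
    rw [hc, hk, h3]
  · rw [Nat.card_congr (Subgroup.centerCongr e).toEquiv, h4]

section SzSylow
variable {F : Type*} [Field F] [Fintype F] {m : ℕ} [CharP F 2]

/-- translations, as elements of the translation subgroup -/
noncomputable def szτ (hF : Fintype.card F = 2 ^ (2 * m + 1)) (a b : F) : szTsub hF :=
  ⟨szT' hF a b, ⟨a, b, rfl⟩⟩

theorem szτ_mul (hF : Fintype.card F = 2 ^ (2 * m + 1)) (a b a' b' : F) :
    szτ hF a b * szτ hF a' b' = szτ hF (a + a') (b + b' + szS F m a * a') :=
  Subtype.ext (szT'_mul hF a b a' b')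

theorem szτ_zero (hF : Fintype.card F = 2 ^ (2 * m + 1)) : szτ hF (0 : F) 0 = 1 :=
  Subtype.ext (szT'_zero hF)

theorem szτ_injective (hF : Fintype.card F = 2 ^ (2 * m + 1)) {a b a' b' : F}
    (h : szτ hF a b = szτ hF a' b') : a = a' ∧ b = b' :=
  szT'_injective hF (congrArg Subtype.val h)

theorem szτ_surjective (hF : Fintype.card F = 2 ^ (2 * m + 1)) (x : szTsub hF) :
    ∃ a b, x = szτ hF a b := by
  obtain ⟨x, a, b, rfl⟩ := x
  exact ⟨a, b, rfl⟩

theorem szτ_comm (hF : Fintype.card F = 2 ^ (2 * m + 1)) (a b a' b' : F) :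
    ⁅szτ hF a b, szτ hF a' b'⁆ = szτ hF 0 (szS F m a * a' + szS F m a' * a) :=
  Subtype.ext (szT'_comm hF a b a' b')

theorem szTsub_card (hF : Fintype.card F = 2 ^ (2 * m + 1)) :
    Nat.card (szTsub hF) = Fintype.card F ^ 2 := by
  have hbij : Function.Bijective (fun x : F × F => szτ hF x.1 x.2) := by
    constructor
    · rintro ⟨a, b⟩ ⟨a', b'⟩ h
      obtain ⟨rfl, rfl⟩ := szτ_injective hF h
      rfl
    · intro x
      obtain ⟨a, b, rfl⟩ := szτ_surjective hF x
      exact ⟨(a, b), rfl⟩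
  rw [← Nat.card_congr (Equiv.ofBijective _ hbij), Nat.card_prod, Nat.card_eq_fintype_card, sq]

theorem sz_sigma_ne (hm : 1 ≤ m) (hF : Fintype.card F = 2 ^ (2 * m + 1)) :
    ∃ s : F, s ≠ 0 ∧ szS F m s + s ≠ 0 := by
  have h2 : (2 : F) = 0 := sz_two
  obtain ⟨s, hs⟩ := sz_exists_unit_ne_one (F := F) hm hF
  refine ⟨s, s.ne_zero, ?_⟩
  intro h
  have h1 : szS F m (s : F) = s := by linear_combination h - (s : F) * h2
  have h3 := congrArg (szS F m) h1
  rw [szS_szS hF, h1] at h3
  have : ((s : F) - 1) * s = 0 := by linear_combination h3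
  rcases mul_eq_zero.1 this with h' | h'
  · exact hs (Units.ext (sub_eq_zero.1 h'))
  · exact s.ne_zero h'

theorem sz_comm_surj (hm : 1 ≤ m) (hF : Fintype.card F = 2 ^ (2 * m + 1)) (c : F) :
    ∃ a a' : F, szS F m a * a' + szS F m a' * a = c := by
  obtain ⟨s, hs0, hs⟩ := sz_sigma_ne hm hF
  have hinj : Function.Injective (fun u : F => szS F m u * u) := by
    intro u v h
    simp only at h
    by_cases hv : v = 0
    · subst hv
      simp at h
      exact h.trans rfl
    · have hσv : szS F m v ≠ 0 := by simpa using hv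
      have : szS F m (u / v) * (u / v) = 1 := by
        rw [map_div₀, div_mul_div_comm, h, div_self (mul_ne_zero hσv hv)]
      have h1 := sz_sigma_mul_self hF this
      field_simp at h1
      exact h1
  obtain ⟨u, hu⟩ := (Finite.injective_iff_surjective.1 hinj) (c / (szS F m s + s))
  simp only at hu
  refine ⟨s * u, u, ?_⟩
  rw [map_mul]
  have : szS F m u * u * (szS F m s + s) = c := by
    rw [hu]
    field_simp
  linear_combination this

theorem szτ_mem_center (hm : 1 ≤ m) (hF : Fintype.card F = 2 ^ (2 * m + 1)) (x : szTsub hF) :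
    x ∈ Subgroup.center (szTsub hF) ↔ ∃ b, x = szτ hF 0 b := by
  have h2 : (2 : F) = 0 := sz_two
  rw [Subgroup.mem_center_iff]
  constructor
  · intro hx
    obtain ⟨a, b, rfl⟩ := szτ_surjective hF x
    obtain ⟨s, hs0, hs⟩ := sz_sigma_ne hm hF
    have e1 := hx (szτ hF 1 0)
    rw [szτ_mul, szτ_mul] at e1
    have e1' := (szτ_injective hF e1).2
    simp only [map_one] at e1'
    have ha : szS F m a = a := by linear_combination -e1'
    have e2 := hx (szτ hF s 0)
    rw [szτ_mul, szτ_mul] at e2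
    have e2' := (szτ_injective hF e2).2
    rw [ha] at e2'
    have : (szS F m s + s) * a = 0 := by linear_combination e2' + s * a * h2
    rcases mul_eq_zero.1 this with h' | h'
    · exact absurd h' hs
    · subst h'
      exact ⟨b, rfl⟩
  · rintro ⟨b, rfl⟩ g
    obtain ⟨a', b', rfl⟩ := szτ_surjective hF g
    rw [szτ_mul, szτ_mul]
    congr 1
    · ring
    · simp
      ring

theorem szτ_mem_commutator (hm : 1 ≤ m) (hF : Fintype.card F = 2 ^ (2 * m + 1))
    (x : szTsub hF) : x ∈ commutator (szTsub hF) ↔ ∃ b, x = szτ hF 0 b := by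
  constructor
  · intro hx
    have hle : commutator (szTsub hF) ≤ (szZsub hF).subgroupOf (szTsub hF) := by
      rw [commutator_def, Subgroup.commutator_le]
      intro g₁ _ g₂ _
      obtain ⟨a, b, rfl⟩ := szτ_surjective hF g₁
      obtain ⟨a', b', rfl⟩ := szτ_surjective hF g₂
      rw [szτ_comm, Subgroup.mem_subgroupOf]
      exact ⟨_, rfl⟩
    have := hle hx
    rw [Subgroup.mem_subgroupOf] at this
    obtain ⟨b, hb⟩ := this
    exact ⟨b, Subtype.ext hb⟩
  · rintro ⟨c, rfl⟩
    obtain ⟨a, a', h⟩ := sz_comm_surj hm hF c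
    have : szτ hF 0 c = ⁅szτ hF a 0, szτ hF a' 0⁆ := by
      rw [szτ_comm, h]
    rw [this, commutator_def]
    exact Subgroup.commutator_mem_commutator (Subgroup.mem_top _) (Subgroup.mem_top _)

theorem szτ_sq (hF : Fintype.card F = 2 ^ (2 * m + 1)) (a b : F) :
    szτ hF a b ^ 2 = szτ hF 0 (szS F m a * a) := by
  have h2 : (2 : F) = 0 := sz_two
  rw [pow_two, szτ_mul]
  congr 1
  · linear_combination a * h2
  · linear_combination b * h2

theorem szTsub_prop (hm : 1 ≤ m) (hF : Fintype.card F = 2 ^ (2 * m + 1)) :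
    SzSylProp (Fintype.card F) (szTsub hF) := by
  have h2 : (2 : F) = 0 := sz_two
  refine ⟨szTsub_card hF, ?_, ?_, ?_⟩
  · have h4 : Monoid.exponent (szTsub hF) ∣ 4 := by
      apply Monoid.exponent_dvd_of_forall_pow_eq_one
      intro x
      obtain ⟨a, b, rfl⟩ := szτ_surjective hF x
      have : szτ hF a b ^ 4 = (szτ hF a b ^ 2) ^ 2 := by rw [← pow_mul]
      rw [this, szτ_sq, szτ_sq, ← szτ_zero hF]
      congr 1
      simp
    have hne : (szτ hF (1 : F) 0) ^ 2 ≠ 1 := by
      rw [szτ_sq, ← szτ_zero hF]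
      intro h
      have := (szτ_injective hF h).2
      simp at this
    have hpow := Monoid.pow_exponent_eq_one (szτ hF (1 : F) 0)
    have h4' : Monoid.exponent (szTsub hF) ∣ 2 ^ 2 := h4
    obtain ⟨k, hk, hk'⟩ := (Nat.dvd_prime_pow Nat.prime_two).1 h4'
    interval_cases k
    · rw [hk'] at hpow
      simp at hpow
      rw [hpow] at hne
      simp at hne
    · rw [hk'] at hpow
      exact absurd hpow hne
    · rw [hk']
      norm_num
  · ext x
    rw [szτ_mem_center hm hF, szτ_mem_commutator hm hF]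
  · have hbij : Function.Bijective (fun b : F =>
        (⟨szτ hF 0 b, (szτ_mem_center hm hF _).2 ⟨b, rfl⟩⟩ : Subgroup.center (szTsub hF))) := by
      constructor
      · intro b b' h
        have h1 := congrArg Subtype.val h
        exact (szτ_injective hF h1).2
      · rintro ⟨x, hx⟩
        obtain ⟨b, rfl⟩ := (szτ_mem_center hm hF x).1 hx
        exact ⟨b, rfl⟩
    rw [← Nat.card_congr (Equiv.ofBijective _ hbij), Nat.card_eq_fintype_card]

theorem sz_card_factorization_two (hm : 1 ≤ m) (hF : Fintype.card F = 2 ^ (2 * m + 1)) :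
    (Nat.card (Cfsg.Sz F m)).factorization 2 = 2 * (2 * m + 1) := by
  rw [sz_card hm hF, hF]
  obtain ⟨k, hk, hk1⟩ : ∃ k, 2 ^ (2 * m + 1) = 2 * k ∧ 1 ≤ k :=
    ⟨2 ^ (2 * m), by rw [pow_succ]; ring, Nat.one_le_two_pow⟩
  have hodd : ¬ 2 ∣ ((2 ^ (2 * m + 1)) ^ 2 + 1) * (2 ^ (2 * m + 1) - 1) := by
    rw [Nat.prime_two.dvd_mul]
    rintro (h | h)
    · have : (2 ^ (2 * m + 1)) ^ 2 = 2 * (2 * k * k) := by rw [hk]; ring
      omega
    · omega
  have hne : ((2 ^ (2 * m + 1)) ^ 2 + 1) * (2 ^ (2 * m + 1) - 1) ≠ 0 := by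
    intro h
    rw [h] at hodd
    exact hodd (dvd_zero 2)
  have e : ((2 ^ (2 * m + 1)) ^ 2 + 1) * ((2 ^ (2 * m + 1)) ^ 2 * (2 ^ (2 * m + 1) - 1)) =
      2 ^ (2 * (2 * m + 1)) * (((2 ^ (2 * m + 1)) ^ 2 + 1) * (2 ^ (2 * m + 1) - 1)) := by
    rw [pow_mul 2 2, ← pow_mul, ← pow_mul]
    ring
  rw [e, Nat.factorization_mul (pow_ne_zero _ two_ne_zero) hne, Finsupp.add_apply,
    Nat.factorization_pow, Finsupp.smul_apply, Nat.prime_two.factorization_self,
    Nat.factorization_eq_zero_of_not_dvd hodd]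
  simp

/-- the structure of the Sylow 2-subgroups of the Suzuki group -/
theorem sz_sylow_two (hm : 1 ≤ m) (hF : Fintype.card F = 2 ^ (2 * m + 1))
    (P : Sylow 2 (Cfsg.Sz F m)) : SzSylProp (Fintype.card F) P := by
  have hcard : Nat.card (szTsub hF) = 2 ^ (Nat.card (Cfsg.Sz F m)).factorization 2 := by
    rw [szTsub_card hF, sz_card_factorization_two hm hF, hF, ← pow_mul]
    congr 1
    ring
  let Q : Sylow 2 (Cfsg.Sz F m) := Sylow.ofCard (szTsub hF) hcard
  have e : P ≃* Q := Sylow.equiv P Q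
  have hQ : SzSylProp (Fintype.card F) Q := szTsub_prop hm hF
  exact SzSylProp.of_mulEquiv e hQ

end SzSylow
end Cfsg.Agent.Helper6
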