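import Mathlib
import Cfsg.Prelude.Def_LieExceptional
import Cfsg.Agent.Helper6.Suzuki
import Cfsg.Agent.Helper6.Suzuki2
import Cfsg.Agent.Helper6.Suzuki3
import Cfsg.Agent.Helper6.Suzuki4
import Cfsg.Agent.Helper6.Suzuki5
import Cfsg.Agent.Helper6.Suzuki6
import Cfsg.Agent.Helper6.Suzuki7

set_option autoImplicit false

namespace Cfsg.Agent.Helper6

open Matrix
open scoped Pointwise commutatorElement

/-- if a cyclic subgroup `C` of a finite group `G` has order with the same `p`-part as `G`, then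
all Sylow `p`-subgroups of `G` are cyclic -/
theorem sylow_cyclic_of_cyclic_subgroup {G : Type*} [Group G] [Finite G] {p : ℕ}
    [Fact p.Prime] (C : Subgroup G) [IsCyclic C]
    (h : (Nat.card C).factorization p = (Nat.card G).factorization p) (R : Sylow p G) :
    IsCyclic R := by
  let S : Sylow p C := default
  let S' : Subgroup G := (S : Subgroup C).map C.subtype
  have e : (S : Subgroup C) ≃* S' := Subgroup.equivMapOfInjective _ _ C.subtype_injective
  have hcard : Nat.card S' = p ^ (Nat.card G).factorization p := by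
    rw [← h, ← Sylow.card_eq_multiplicity S]
    exact Nat.card_congr e.symm.toEquiv
  let Q : Sylow p G := Sylow.ofCard S' hcard
  have hS' : IsCyclic S' := isCyclic_of_surjective e.toMonoidHom e.surjective
  have hQ : IsCyclic Q := hS'
  exact isCyclic_of_surjective (Sylow.equiv Q R).toMonoidHom (MulEquiv.surjective _)

/-- the Singer cycle: a cyclic subgroup of order `q ^ 4 - 1` in `GL₄(q)` -/
theorem exists_singer4 (F : Type*) [Field F] [Fintype F] :
    ∃ C : Subgroup (GL (Fin 4) F), IsCyclic C ∧ Nat.card C = Fintype.card F ^ 4 - 1 := by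
  classical
  obtain ⟨p₀, hp₀⟩ := CharP.exists F
  have : Fact p₀.Prime := ⟨CharP.char_is_prime F p₀⟩
  let K := FiniteField.Extension F p₀ 4
  have hfr : Module.finrank F K = 4 := FiniteField.finrank_extension F p₀ 4
  let b : Module.Basis (Fin 4) F K := (Module.finBasis F K).reindex (finCongr hfr)
  let φ : Kˣ →* GL (Fin 4) F := Units.map (Algebra.leftMulMatrix b : K →* Matrix (Fin 4) (Fin 4) F)
  have hφ : Function.Injective φ := Units.map_injective (Algebra.leftMulMatrix_injective b)
  refine ⟨φ.range, ?_, ?_⟩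
  · exact isCyclic_of_surjective φ.rangeRestrict φ.rangeRestrict_surjective
  · rw [← Nat.card_congr (MonoidHom.ofInjective hφ).toEquiv, Nat.card_units,
      FiniteField.natCard_extension, Nat.card_eq_fintype_card]

theorem factorization_mul_of_not_dvd {p a b : ℕ} (ha : a ≠ 0) (hb : ¬ p ∣ b) :
    (a * b).factorization p = a.factorization p := by
  have hb0 : b ≠ 0 := fun h => hb (h ▸ dvd_zero p)
  rw [Nat.factorization_mul ha hb0, Finsupp.add_apply, Nat.factorization_eq_zero_of_not_dvd hb,
    add_zero]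

/-- for an odd prime `p` dividing `q ^ 2 + 1`, the Sylow `p`-subgroups of `GL₄(q)` are cyclic -/
theorem gl4_sylow_cyclic {F : Type*} [Field F] [Fintype F] {p : ℕ} [Fact p.Prime] (hp2 : p ≠ 2)
    (hdiv : p ∣ Fintype.card F ^ 2 + 1) (R : Sylow p (GL (Fin 4) F)) : IsCyclic R := by
  classical
  obtain ⟨C, hC, hCcard⟩ := exists_singer4 F
  apply sylow_cyclic_of_cyclic_subgroup C _ R
  rw [hCcard, Matrix.card_GL_field]
  have hq2 : 2 ≤ Fintype.card F := Fintype.one_lt_card
  generalize Fintype.card F = q at hdiv hq2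
  rw [Fin.prod_univ_four]
  simp only [Fin.val_zero, Fin.val_one, Fin.val_two, pow_zero]
  have e3 : ((3 : Fin 4) : ℕ) = 3 := rfl
  rw [e3]
  have hx : ((q : ZMod p)) ^ 2 = -1 := by
    have := (ZMod.natCast_eq_zero_iff (q ^ 2 + 1) p).2 hdiv
    push_cast at this
    linear_combination this
  have h2 : (2 : ZMod p) ≠ 0 := by
    intro h
    have h' : ((2 : ℕ) : ZMod p) = 0 := by exact_mod_cast h
    rw [ZMod.natCast_eq_zero_iff] at h'
    exact hp2 ((Nat.prime_dvd_prime_iff_eq Fact.out Nat.prime_two).1 h')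
  have hq1 : 1 ≤ q := by omega
  have d1 : ¬ p ∣ q ^ 4 - q ^ 1 := by
    rw [← ZMod.natCast_eq_zero_iff, Nat.cast_sub (Nat.pow_le_pow_right hq1 (by norm_num))]
    push_cast
    intro h
    have hx1 : (q : ZMod p) = 1 := by
      linear_combination -h + ((q : ZMod p) ^ 2 - 1) * hx
    apply h2
    rw [hx1] at hx
    linear_combination hx
  have d2 : ¬ p ∣ q ^ 4 - q ^ 2 := by
    rw [← ZMod.natCast_eq_zero_iff, Nat.cast_sub (Nat.pow_le_pow_right hq1 (by norm_num))]
    push_cast
    intro h
    apply h2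
    linear_combination h - ((q : ZMod p) ^ 2 - 2) * hx
  have d3 : ¬ p ∣ q ^ 4 - q ^ 3 := by
    rw [← ZMod.natCast_eq_zero_iff, Nat.cast_sub (Nat.pow_le_pow_right hq1 (by norm_num))]
    push_cast
    intro h
    have hx1 : (q : ZMod p) = -1 := by
      linear_combination h - ((q : ZMod p) ^ 2 - (q : ZMod p) - 1) * hx
    apply h2
    rw [hx1] at hx
    linear_combination hx
  have h0 : q ^ 4 - 1 ≠ 0 := by
    have : 2 ^ 4 ≤ q ^ 4 := Nat.pow_le_pow_left hq2 4
    omega
  have h01 : (q ^ 4 - 1) * (q ^ 4 - q ^ 1) ≠ 0 :=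
    mul_ne_zero h0 (fun h => d1 (h ▸ dvd_zero p))
  have h02 : (q ^ 4 - 1) * (q ^ 4 - q ^ 1) * (q ^ 4 - q ^ 2) ≠ 0 :=
    mul_ne_zero h01 (fun h => d2 (h ▸ dvd_zero p))
  rw [factorization_mul_of_not_dvd h02 d3, factorization_mul_of_not_dvd h01 d2,
    factorization_mul_of_not_dvd h0 d1]

section SzOdd
variable {F : Type*} [Field F] [Fintype F] {m : ℕ} [CharP F 2]

/-- the Sylow subgroups of the Suzuki group for odd primes are cyclic -/
theorem sz_sylow_odd_cyclic (hm : 1 ≤ m) (hF : Fintype.card F = 2 ^ (2 * m + 1)) {p : ℕ}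
    [Fact p.Prime] (hp : p ≠ 2) (P : Sylow p (Cfsg.Sz F m)) : IsCyclic P := by
  classical
  by_cases hdiv : p ∣ Fintype.card F ^ 2 + 1
  · let ι : Cfsg.Sz F m →* GL (Fin 4) F :=
      Matrix.SpecialLinearGroup.toGL.comp (Subgroup.subtype _)
    have hι : Function.Injective ι :=
      Matrix.SpecialLinearGroup.toGL_injective.comp Subtype.val_injective
    have hP : IsPGroup p ((P : Subgroup (Cfsg.Sz F m)).map ι) := P.isPGroup'.map ι
    obtain ⟨R, hR⟩ := hP.exists_le_sylow
    have hRc := gl4_sylow_cyclic hp hdiv R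
    let f : P →* R :=
      { toFun := fun x => ⟨ι x.1, hR (Subgroup.mem_map_of_mem ι x.2)⟩
        map_one' := Subtype.ext (map_one ι)
        map_mul' := fun x y => Subtype.ext (map_mul ι x.1 y.1) }
    exact isCyclic_of_injective f (fun x y h => Subtype.ext (hι (congrArg Subtype.val h)))
  · let δ : Fˣ →* Cfsg.Sz F m :=
      { toFun := szD' hF
        map_one' := szD'_one hF
        map_mul' := szD'_mul hF }
    have hδ : Function.Injective δ := fun s t h => szD_injective (congrArg Subtype.val h)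
    have hC : IsCyclic δ.range :=
      isCyclic_of_surjective δ.rangeRestrict δ.rangeRestrict_surjective
    apply sylow_cyclic_of_cyclic_subgroup δ.range _ P
    rw [← Nat.card_congr (MonoidHom.ofInjective hδ).toEquiv, Nat.card_units,
      Nat.card_eq_fintype_card, sz_card hm hF]
    have hq2 : 2 ≤ Fintype.card F := Fintype.one_lt_card
    have hpq : ¬ p ∣ Fintype.card F ^ 2 := by
      intro h
      rw [hF] at h
      have h' := (Fact.out : p.Prime).dvd_of_dvd_pow ((Fact.out : p.Prime).dvd_of_dvd_pow h)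
      exact hp ((Nat.prime_dvd_prime_iff_eq Fact.out Nat.prime_two).1 h')
    have h0 : Fintype.card F - 1 ≠ 0 := by omega
    have h01 : (Fintype.card F - 1) * Fintype.card F ^ 2 ≠ 0 :=
      mul_ne_zero h0 (fun h => hpq (h ▸ dvd_zero p))
    have e : (Fintype.card F ^ 2 + 1) * (Fintype.card F ^ 2 * (Fintype.card F - 1)) =
        (Fintype.card F - 1) * Fintype.card F ^ 2 * (Fintype.card F ^ 2 + 1) := by ring
    rw [e, factorization_mul_of_not_dvd h01 hdiv, factorization_mul_of_not_dvd h0 hpq]

end SzOdd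
end Cfsg.Agent.Helper6
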