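import Mathlib

set_option autoImplicit false

namespace Cfsg.Agent.Helper6

theorem szn_pos {q : ℤ} (hq : 8 ≤ q) : 0 < (q ^ 2 + 1) * (q ^ 2 * (q - 1)) := by
  have h1 : 0 < q - 1 := by linarith
  positivity

/-- twice the number of fixed-point-free elements is less than the group order -/
theorem szn_lt {q Ec : ℤ} (hq : 8 ≤ q) (hE : 2 * Ec = q ^ 2 * (q - 1) * (q * (q - 1))) :
    2 * Ec < (q ^ 2 + 1) * (q ^ 2 * (q - 1)) := by
  rw [hE]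
  have h0 : 0 < q - 1 := by linarith
  have hP : 0 < q ^ 2 * (q - 1) := by positivity
  nlinarith [mul_pos hP (show (0 : ℤ) < q + 1 by linarith)]

/-- lower bounds for the size of a class of tori -/
theorem szn_lower {q cl n a : ℤ} (hq : 8 ≤ q)
    (hcl : cl * (n * a) = (q ^ 2 + 1) * (q ^ 2 * (q - 1)) * (a - 1))
    (hn : n = 1 ∨ n = 2 ∨ n = 4) (ha : 5 ≤ a) :
    (q ^ 2 + 1) * (q ^ 2 * (q - 1)) ≤ 5 * cl ∧
      (n ≤ 2 → 2 * ((q ^ 2 + 1) * (q ^ 2 * (q - 1))) ≤ 5 * cl) := by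
  have hG := szn_pos hq
  generalize (q ^ 2 + 1) * (q ^ 2 * (q - 1)) = Gc at hcl hG ⊢
  have hna : 0 < n * a := by
    rcases hn with rfl | rfl | rfl <;> linarith
  have hGa : 0 ≤ Gc * (a - 5) := mul_nonneg hG.le (by linarith)
  have hGa' : 0 ≤ Gc * a := mul_nonneg hG.le (by linarith)
  have h2 : Gc * (4 * a) ≤ 5 * (Gc * (a - 1)) := by nlinarith
  constructor
  · have h1 : Gc * (n * a) ≤ Gc * (4 * a) := by
      rcases hn with rfl | rfl | rfl <;> nlinarith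
    have h3 : Gc * (n * a) ≤ 5 * cl * (n * a) := by
      have : 5 * cl * (n * a) = 5 * (cl * (n * a)) := by ring
      rw [this, hcl]
      linarith
    exact le_of_mul_le_mul_right h3 hna
  · intro hn2
    have h1 : 2 * Gc * (n * a) ≤ Gc * (4 * a) := by
      rcases hn with rfl | rfl | rfl
      · nlinarith
      · nlinarith
      · omega
    have h3 : 2 * Gc * (n * a) ≤ 5 * cl * (n * a) := by
      have : 5 * cl * (n * a) = 5 * (cl * (n * a)) := by ring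
      rw [this, hcl]
      linarith
    exact le_of_mul_le_mul_right h3 hna

/-- the fixed-point-free elements do not form a single class of tori -/
theorem szn_single {q Ec n a : ℤ} (hq : 8 ≤ q) (hE : 2 * Ec = q ^ 2 * (q - 1) * (q * (q - 1)))
    (hcl : Ec * (n * a) = (q ^ 2 + 1) * (q ^ 2 * (q - 1)) * (a - 1))
    (hn : n = 1 ∨ n = 2 ∨ n = 4) (ha : 5 ≤ a) : False := by
  have hP : q ^ 2 * (q - 1) ≠ 0 := by
    have h1 : 0 < q - 1 := by linarith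
    positivity
  have key : q ^ 2 * (q - 1) * (q * (q - 1) * (n * a)) =
      q ^ 2 * (q - 1) * (2 * ((q ^ 2 + 1) * (a - 1))) := by
    linear_combination (-(n * a)) * hE + 2 * hcl
  have key2 := mul_left_cancel₀ hP key
  rcases hn with rfl | rfl | rfl
  · nlinarith [mul_le_mul_of_nonneg_right ha (show (0 : ℤ) ≤ q ^ 2 + q + 2 by positivity)]
  · have h1 : 2 * ((q + 1) * (a - q + 1)) = 2 * 2 := by linear_combination (-1 : ℤ) * key2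
    have h2 : (q + 1) * (a - q + 1) = 2 := mul_left_cancel₀ (by norm_num) h1
    have h3 : q + 1 ≤ 2 := Int.le_of_dvd (by norm_num) ⟨_, h2.symm⟩
    linarith
  · nlinarith [mul_nonneg (show (0 : ℤ) ≤ a by linarith)
      (show (0 : ℤ) ≤ q ^ 2 - 2 * q - 1 by nlinarith)]

/-- there are at most two classes of tori -/
theorem szn_three {q Ec cl₁ cl₂ cl₃ : ℤ} (hq : 8 ≤ q)
    (hE : 2 * Ec = q ^ 2 * (q - 1) * (q * (q - 1)))
    (h1 : (q ^ 2 + 1) * (q ^ 2 * (q - 1)) ≤ 5 * cl₁)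
    (h2 : (q ^ 2 + 1) * (q ^ 2 * (q - 1)) ≤ 5 * cl₂)
    (h3 : (q ^ 2 + 1) * (q ^ 2 * (q - 1)) ≤ 5 * cl₃) (hsum : cl₁ + cl₂ + cl₃ ≤ Ec) : False := by
  have hlt := szn_lt hq hE
  have hG := szn_pos hq
  linarith

/-- two classes of tori: both normalisers have index 4 and the orders satisfy an equation -/
theorem szn_two {q Ec cl₁ cl₂ n₁ a₁ n₂ a₂ : ℤ} (hq : 8 ≤ q)
    (hE : 2 * Ec = q ^ 2 * (q - 1) * (q * (q - 1)))
    (hcl₁ : cl₁ * (n₁ * a₁) = (q ^ 2 + 1) * (q ^ 2 * (q - 1)) * (a₁ - 1))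
    (hcl₂ : cl₂ * (n₂ * a₂) = (q ^ 2 + 1) * (q ^ 2 * (q - 1)) * (a₂ - 1))
    (hn₁ : n₁ = 1 ∨ n₁ = 2 ∨ n₁ = 4) (hn₂ : n₂ = 1 ∨ n₂ = 2 ∨ n₂ = 4) (ha₁ : 5 ≤ a₁)
    (ha₂ : 5 ≤ a₂) (hsum : cl₁ + cl₂ = Ec) :
    n₁ = 4 ∧ n₂ = 4 ∧ (q ^ 2 + 1) * (a₁ + a₂) = 2 * (q + 1) * (a₁ * a₂) := by
  have hlt := szn_lt hq hE
  have hG := szn_pos hq
  obtain ⟨l1, l1'⟩ := szn_lower hq hcl₁ hn₁ ha₁
  obtain ⟨l2, l2'⟩ := szn_lower hq hcl₂ hn₂ ha₂
  have e1 : n₁ = 4 := by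
    rcases hn₁ with h | h | h
    · have := l1' (by omega)
      linarith
    · have := l1' (by omega)
      linarith
    · exact h
  have e2 : n₂ = 4 := by
    rcases hn₂ with h | h | h
    · have := l2' (by omega)
      linarith
    · have := l2' (by omega)
      linarith
    · exact h
  refine ⟨e1, e2, ?_⟩
  subst e1 e2
  have hP : 2 * (q ^ 2 * (q - 1)) ≠ 0 := by
    have h1 : 0 < q - 1 := by linarith
    positivity
  have key : 2 * (q ^ 2 * (q - 1)) * ((q ^ 2 + 1) * (a₁ + a₂)) =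
      2 * (q ^ 2 * (q - 1)) * (2 * (q + 1) * (a₁ * a₂)) := by
    linear_combination 2 * a₂ * hcl₁ + 2 * a₁ * hcl₂ - 8 * a₁ * a₂ * hsum - 4 * a₁ * a₂ * hE
  exact mul_left_cancel₀ hP key

/-- the orders of the two classes of tori -/
theorem szn_final {m a₁ a₂ : ℕ} (hcop : Nat.Coprime a₁ a₂)
    (h1 : a₁ ∣ (2 ^ (2 * m + 1)) ^ 2 + 1) (h2 : a₂ ∣ (2 ^ (2 * m + 1)) ^ 2 + 1) (ha₁ : 5 ≤ a₁)
    (ha₂ : 5 ≤ a₂)
    (heq : ((2 ^ (2 * m + 1)) ^ 2 + 1) * (a₁ + a₂) = 2 * (2 ^ (2 * m + 1) + 1) * (a₁ * a₂)) :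
    (a₁ = 2 ^ (2 * m + 1) + 2 ^ (m + 1) + 1 ∧ a₂ = 2 ^ (2 * m + 1) - 2 ^ (m + 1) + 1) ∨
    (a₁ = 2 ^ (2 * m + 1) - 2 ^ (m + 1) + 1 ∧ a₂ = 2 ^ (2 * m + 1) + 2 ^ (m + 1) + 1) := by
  have hs : (2 ^ (m + 1)) ^ 2 = 2 * 2 ^ (2 * m + 1) := by
    rw [← pow_mul, ← pow_succ']
    congr 1
    omega
  have hsq : 2 ^ (m + 1) ≤ 2 ^ (2 * m + 1) := Nat.pow_le_pow_right (by norm_num) (by omega)
  have hqe : Even (2 ^ (2 * m + 1)) := Nat.even_pow.2 ⟨even_two, by omega⟩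
  have hq1 : 1 ≤ 2 ^ (2 * m + 1) := Nat.one_le_two_pow
  generalize 2 ^ (2 * m + 1) = q at *
  generalize 2 ^ (m + 1) = s at *
  obtain ⟨c, hc⟩ := Nat.Coprime.mul_dvd_of_dvd_of_dvd hcop h1 h2
  have hpos : 0 < a₁ * a₂ := by positivity
  have e1 : c * (a₁ + a₂) = 2 * (q + 1) := by
    have : a₁ * a₂ * (c * (a₁ + a₂)) = a₁ * a₂ * (2 * (q + 1)) := by
      calc a₁ * a₂ * (c * (a₁ + a₂)) = (a₁ * a₂ * c) * (a₁ + a₂) := by ring
        _ = (q ^ 2 + 1) * (a₁ + a₂) := by rw [hc]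
        _ = 2 * (q + 1) * (a₁ * a₂) := heq
        _ = a₁ * a₂ * (2 * (q + 1)) := by ring
    exact Nat.eq_of_mul_eq_mul_left hpos this
  have hcQ : c ∣ q ^ 2 + 1 := ⟨a₁ * a₂, by rw [hc]; ring⟩
  have hodd : Odd (q ^ 2 + 1) := Even.add_one (Nat.even_pow.2 ⟨hqe, by norm_num⟩)
  have hcodd : Odd c := by
    obtain ⟨k, hk⟩ := hcQ
    rw [hk] at hodd
    exact (Nat.odd_mul.1 hodd).1
  have hc2 : c ∣ 2 * (q + 1) := ⟨a₁ + a₂, e1.symm⟩
  have hcq1 : c ∣ q + 1 :=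
    Nat.Coprime.dvd_of_dvd_mul_left (Nat.coprime_two_right.2 hcodd) hc2
  have hc_dvd2 : c ∣ 2 := by
    obtain ⟨q', rfl⟩ : ∃ q', q = q' + 1 := ⟨q - 1, by omega⟩
    have e : (q' + 1) ^ 2 + 1 = (q' + 1 + 1) * q' + 2 := by ring
    rw [e] at hcQ
    exact (Nat.dvd_add_right (Dvd.dvd.mul_right hcq1 _)).1 hcQ
  have hc1 : c = 1 := by
    have := Nat.le_of_dvd (by norm_num) hc_dvd2
    rcases hcodd with ⟨k, hk⟩
    omega
  subst hc1
  have e2 : a₁ + a₂ = 2 * (q + 1) := by simpa using e1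
  have e3 : a₁ * a₂ = q ^ 2 + 1 := by simpa using hc.symm
  have hz : ((a₁ : ℤ) - (q + 1)) ^ 2 = (s : ℤ) ^ 2 := by
    have e2' : (a₁ : ℤ) + a₂ = 2 * (q + 1) := by exact_mod_cast e2
    have e3' : (a₁ : ℤ) * a₂ = q ^ 2 + 1 := by exact_mod_cast e3
    have hs' : (s : ℤ) ^ 2 = 2 * q := by exact_mod_cast hs
    linear_combination (a₁ : ℤ) * e2' - e3' - hs'
  rcases sq_eq_sq_iff_eq_or_eq_neg.1 hz with h | h
  · left
    constructor <;> omega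
  · right
    constructor <;> omega

end Cfsg.Agent.Helper6
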