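import Mathlib
import Cfsg.Agent.Helper6.Suzuki9

set_option autoImplicit false

universe u v

namespace Cfsg.Agent.Helper6

open Polynomial

/-- a finite subalgebra without zero divisors is the isomorphic image of a field -/
theorem h6_exists_field_of_domain {F : Type v} {R : Type u} [Field F] [Ring R] [Algebra F R]
    [Nontrivial R] (C : Subalgebra F R) [Finite C]
    (hnz : ∀ a ∈ C, ∀ b ∈ C, a * b = 0 → a = 0 ∨ b = 0) :
    ∃ (K : Type u) (_ : Field K) (_ : Algebra F K) (j : K →ₐ[F] R),
      Function.Injective j ∧ ∀ x, x ∈ Set.range j ↔ x ∈ C := by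
  have : NoZeroDivisors C := ⟨fun {a b} hab => by
    rcases hnz a.1 a.2 b.1 b.2 (congrArg Subtype.val hab) with h | h
    · exact Or.inl (Subtype.ext h)
    · exact Or.inr (Subtype.ext h)⟩
  have : IsDomain C := NoZeroDivisors.to_isDomain C
  have hf : IsField C := Finite.isDomain_to_isField C
  refine ⟨C, hf.toField, C.algebra, C.val, Subtype.val_injective, fun x => ?_⟩
  constructor
  · rintro ⟨y, rfl⟩
    exact y.2
  · intro hx
    exact ⟨⟨x, hx⟩, rfl⟩

/-- a finite group mapping injectively into the image of a field is cyclic -/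
theorem h6_isCyclic_of_range {R K : Type*} [Field K] [Ring R] (j : K →+* R)
    (hj : Function.Injective j) {A : Type*} [Group A] [Finite A] (f : A →* R)
    (hf : Function.Injective f) (hrange : ∀ a, f a ∈ Set.range j) : IsCyclic A := by
  let φ : A →* K :=
    { toFun := fun a => Classical.choose (hrange a)
      map_one' := hj (by rw [Classical.choose_spec (hrange 1), map_one, map_one])
      map_mul' := fun a b => hj (by
        rw [Classical.choose_spec (hrange (a * b)), map_mul, map_mul,
          Classical.choose_spec (hrange a), Classical.choose_spec (hrange b)]) }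
  refine isCyclic_of_injective_ringHom φ ?_
  intro a b h
  apply hf
  have h1 := Classical.choose_spec (hrange a)
  have h2 := Classical.choose_spec (hrange b)
  have h' : Classical.choose (hrange a) = Classical.choose (hrange b) := h
  rw [← h1, ← h2, h']

/-- a polynomial has at most `natDegree` roots in the image of a field -/
theorem h6_card_le_of_aeval {F R K : Type*} [Field F] [Field K] [Algebra F K] [Ring R]
    [Algebra F R] (j : K →ₐ[F] R) (hj : Function.Injective j) (χ : F[X]) (hχ : χ ≠ 0)
    (S : Finset R) (hS : ∀ y ∈ S, y ∈ Set.range j ∧ aeval y χ = 0) :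
    S.card ≤ χ.natDegree := by
  classical
  have hp : χ.map (algebraMap F K) ≠ 0 := Polynomial.map_ne_zero hχ
  have hg : ∀ y ∈ S, j (Function.invFun j y) = y := fun y hy =>
    Function.invFun_eq (hS y hy).1
  have h1 : S.card ≤ (χ.map (algebraMap F K)).roots.toFinset.card := by
    apply Finset.card_le_card_of_injOn (Function.invFun j)
    · intro y hy
      rw [Finset.mem_coe, Multiset.mem_toFinset, Polynomial.mem_roots hp, Polynomial.IsRoot,
        Polynomial.eval_map_algebraMap]
      apply hj
      rw [← Polynomial.aeval_algHom_apply, hg y hy, (hS y hy).2, map_zero]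
    · intro y hy y' hy' h
      rw [← hg y hy, ← hg y' hy', h]
  calc S.card ≤ (χ.map (algebraMap F K)).roots.toFinset.card := h1
    _ ≤ Multiset.card (χ.map (algebraMap F K)).roots := Multiset.toFinset_card_le _
    _ ≤ (χ.map (algebraMap F K)).natDegree := Polynomial.card_roots' _
    _ ≤ χ.natDegree := Polynomial.natDegree_map_le

/-- endomorphisms commuting with an irreducible endomorphism have no zero divisors -/
theorem h6_nzd_of_irreducible {F V : Type*} [Field F] [AddCommGroup V] [Module F V]
    (T : Module.End F V)
    (hirr : ∀ W : Submodule F V, (∀ v ∈ W, T v ∈ W) → W = ⊥ ∨ W = ⊤)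
    {a b : Module.End F V} (ha : a * T = T * a) (hab : a * b = 0) : a = 0 ∨ b = 0 := by
  rcases hirr (LinearMap.ker a) (fun v hv => by
    rw [LinearMap.mem_ker] at hv ⊢
    have := congrArg (fun f : Module.End F V => f v) ha
    simp only [Module.End.mul_apply] at this
    rw [this, hv, map_zero]) with h | h
  · right
    ext v
    have h1 := congrArg (fun f : Module.End F V => f v) hab
    simp only [Module.End.mul_apply, LinearMap.zero_apply] at h1
    have h2 : b v ∈ LinearMap.ker a := LinearMap.mem_ker.2 h1
    rw [h] at h2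
    simpa using h2
  · left
    exact LinearMap.ker_eq_top.1 h

/-- the matrices commuting with a `4 × 4` matrix of odd prime order `p ∣ q² + 1` lie in the image of
a field -/
theorem h6_matrix_field_of_prime_order {F : Type v} [Field F] [Fintype F]
    (M : Matrix (Fin 4) (Fin 4) F) (p : ℕ) [Fact p.Prime] (hp : p ∣ Fintype.card F ^ 2 + 1)
    (hp2 : p ≠ 2) (hM : M ^ p = 1) (hM1 : M ≠ 1) :
    ∃ (K : Type v) (_ : Field K) (_ : Algebra F K) (j : K →ₐ[F] Matrix (Fin 4) (Fin 4) F),
      Function.Injective j ∧ ∀ A : Matrix (Fin 4) (Fin 4) F, A * M = M * A → A ∈ Set.range j := by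
  classical
  let φ : Matrix (Fin 4) (Fin 4) F ≃ₐ[F] Module.End F (Fin 4 → F) := Matrix.toLinAlgEquiv'
  have hirr : ∀ W : Submodule F (Fin 4 → F), (∀ v ∈ W, φ M v ∈ W) → W = ⊥ ∨ W = ⊤ := fun W hW =>
    h6_irreducible_of_prime_order (by simp) (φ M) p hp hp2 (by rw [← map_pow, hM, map_one])
      (fun h => hM1 (φ.injective (h.trans (map_one φ).symm))) W hW
  have hmem : ∀ A : Matrix (Fin 4) (Fin 4) F, A ∈ Subalgebra.centralizer F {M} ↔ A * M = M * A := by
    intro A
    rw [Subalgebra.mem_centralizer_iff]
    constructor
    · intro h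
      exact (h M rfl).symm
    · intro h g hg
      rw [Set.mem_singleton_iff.1 hg, h]
  obtain ⟨K, i1, i2, j, hj, hrange⟩ := h6_exists_field_of_domain
    (Subalgebra.centralizer F ({M} : Set (Matrix (Fin 4) (Fin 4) F))) (by
      intro a ha b _ hab
      rw [hmem] at ha
      have h1 : φ a * φ M = φ M * φ a := by rw [← map_mul, ← map_mul, ha]
      have h2 : φ a * φ b = 0 := by rw [← map_mul, hab, map_zero]
      rcases h6_nzd_of_irreducible (φ M) hirr h1 h2 with h | h
      · left
        exact φ.injective (h.trans (map_zero φ).symm)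
      · right
        exact φ.injective (h.trans (map_zero φ).symm))
  exact ⟨K, i1, i2, j, hj, fun A hA => (hrange A).2 ((hmem A).2 hA)⟩

end Cfsg.Agent.Helper6
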