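import Mathlib
import Cfsg.Prelude.Def_LieExceptional
import Cfsg.Agent.Helper6.Suzuki9
import Cfsg.Agent.Helper6.FinField

set_option autoImplicit false

universe v

namespace Cfsg.Agent.Helper6

open Matrix
open scoped Pointwise

section SzTori
variable {F : Type v} [Field F] [Fintype F] {m : ℕ} [CharP F 2]

/-- an element of the Suzuki group interchanging two points of the ovoid is an involution -/
theorem sz_swap_sq (hm : 1 ≤ m) (hF : Fintype.card F = 2 ^ (2 * m + 1))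
    {g : SpecialLinearGroup (Fin 4) F} (hg : g ∈ Cfsg.Sz F m)
    {x y : Projectivization F (Fin 4 → F)} (hx : x ∈ Cfsg.suzukiOvoid F m)
    (hy : y ∈ Cfsg.suzukiOvoid F m) (hxy : x ≠ y) (h1 : g • x = y) (h2 : g • y = x) :
    g * g = 1 := by
  obtain ⟨h, hh, e1, e2⟩ := sz_two_trans hF hx hy hxy
  have hg'mem : h * g * h⁻¹ ∈ Cfsg.Sz F m := mul_mem (mul_mem hh hg) (inv_mem hh)
  have e3 : (h * g * h⁻¹) • Cfsg.suzukiPointInfinity F = szP m 0 0 := by
    rw [mul_smul, mul_smul, ← e1, inv_smul_smul, h1, e2]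
  have e4 : (h * g * h⁻¹) • szP m (0 : F) 0 = Cfsg.suzukiPointInfinity F := by
    rw [mul_smul, mul_smul, ← e2, inv_smul_smul, h2, e1]
  obtain ⟨s, hs⟩ := sz_fix_two hm hF (mul_mem (szW_mem hF) hg'mem)
    (by rw [mul_smul, e3, szW_smul_szP_zero])
    (by rw [mul_smul, e4, szW_smul_inf])
  have e5 : h * g * h⁻¹ = szW F * szD m s := by
    rw [← hs, ← mul_assoc, szW_mul_self, one_mul]
  have e6 : (h * g * h⁻¹) * (h * g * h⁻¹) = 1 := by
    rw [e5]
    calc szW F * szD m s * (szW F * szD m s) = (szW F * szD m s * szW F) * szD m s := by group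
      _ = 1 := by rw [szW_mul_szD_mul_szW, ← szD_mul, inv_mul_cancel, szD_one]
  have : h * (g * g) * h⁻¹ = 1 := by
    rw [← e6]
    group
  exact conj_eq_one_iff.1 this

omit [CharP F 2] in
/-- an involution of the Suzuki group fixes a point of the ovoid -/
theorem sz_invol_fixed (hF : Fintype.card F = 2 ^ (2 * m + 1))
    {g : SpecialLinearGroup (Fin 4) F} (hg : g ∈ Cfsg.Sz F m) (h2 : g * g = 1) :
    ∃ p ∈ Cfsg.suzukiOvoid F m, g • p = p := by
  obtain ⟨⟨x', hx'⟩, hfx'⟩ := exists_fixed_of_involutive (α := Cfsg.suzukiOvoid F m)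
    (fun x => ⟨g • x.1, sz_mem_smul_mem hg x.2⟩)
    (fun x => Subtype.ext (by
      show g • g • x.1 = x.1
      rw [← mul_smul, h2, one_smul])) (sz_ovoid_card_odd hF)
  exact ⟨x', hx', congrArg Subtype.val hfx'⟩

/-- a non-identity element commuting with a fixed-point-free element is fixed-point-free -/
theorem sz_free_of_commute (hm : 1 ≤ m) (hF : Fintype.card F = 2 ^ (2 * m + 1))
    {g c : SpecialLinearGroup (Fin 4) F} (hg : g ∈ Cfsg.Sz F m)
    (hfree : ∀ p ∈ Cfsg.suzukiOvoid F m, g • p ≠ p) (hc : c ∈ Cfsg.Sz F m) (hc1 : c ≠ 1)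
    (hcomm : c * g = g * c) : ∀ p ∈ Cfsg.suzukiOvoid F m, c • p ≠ p := by
  intro x hx hfx
  have hy := sz_mem_smul_mem hg hx
  have hz := sz_mem_smul_mem hg hy
  have hfy : c • (g • x) = g • x := by rw [← mul_smul, hcomm, mul_smul, hfx]
  have hfz : c • (g • (g • x)) = g • (g • x) := by rw [← mul_smul, hcomm, mul_smul, hfy]
  have hxy : x ≠ g • x := fun h => hfree x hx h.symm
  have hyz : g • x ≠ g • (g • x) := fun h => hfree _ hy h.symm
  by_cases hxz : x = g • (g • x)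
  · have e5 := sz_swap_sq hm hF hg hx hy hxy rfl hxz.symm
    obtain ⟨p, hp, hfp⟩ := sz_invol_fixed hF hg e5
    exact hfree p hp hfp
  · exact hc1 (sz_fix_three hm hF hc hx hy hz hxy hyz hxz hfx hfy hfz)

omit [CharP F 2] in
/-- the order of a fixed-point-free element of prime order divides `q² + 1` -/
theorem sz_prime_dvd_of_free
    {g₀ : SpecialLinearGroup (Fin 4) F} (hg₀mem : g₀ ∈ Cfsg.Sz F m)
    (hfree₀ : ∀ p ∈ Cfsg.suzukiOvoid F m, g₀ • p ≠ p) {p : ℕ} [Fact p.Prime] (hg₀p : g₀ ^ p = 1) :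
    p ∣ Fintype.card F ^ 2 + 1 := by
  classical
  have := Fintype.ofFinite (Cfsg.suzukiOvoid F m)
  let f : Function.End (Cfsg.suzukiOvoid F m) := fun x => ⟨g₀ • x.1, sz_mem_smul_mem hg₀mem x.2⟩
  have hpow : ∀ n : ℕ, ∀ x : Cfsg.suzukiOvoid F m, ((f ^ n) x).1 = (g₀ ^ n) • x.1 := by
    intro n
    induction n with
    | zero =>
      intro x
      show x.1 = g₀ ^ 0 • x.1
      rw [pow_zero, one_smul]
    | succ n ih =>
      intro x
      rw [pow_succ, pow_succ, mul_smul]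
      show ((f ^ n) (f x)).1 = g₀ ^ n • g₀ • x.1
      rw [ih]
  have h := Equiv.Perm.card_fixedPoints_modEq (f := f) (p := p) (n := 1) (by
    funext x
    apply Subtype.ext
    rw [pow_one, hpow, hg₀p, one_smul]
    rfl)
  have h0 : Fintype.card (Function.fixedPoints f) = 0 := by
    rw [Fintype.card_eq_zero_iff]
    exact ⟨fun ⟨x, hx⟩ => hfree₀ x.1 x.2 (congrArg Subtype.val hx)⟩
  rw [h0, ← Nat.card_eq_fintype_card, sz_ovoid_card] at h
  exact (Nat.modEq_zero_iff_dvd).1 h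

omit [CharP F 2] [Field F] in
theorem sz_q_sq_add_one_odd (hF : Fintype.card F = 2 ^ (2 * m + 1)) :
    Odd (Fintype.card F ^ 2 + 1) := by
  rw [hF]
  refine Even.add_one ?_
  rw [← pow_mul]
  exact (Nat.even_pow.2 ⟨even_two, by omega⟩)

/-- a fixed-point-free element has a power of odd prime order `p ∣ q² + 1` -/
theorem sz_free_prime (hm : 1 ≤ m) (hF : Fintype.card F = 2 ^ (2 * m + 1))
    {g : SpecialLinearGroup (Fin 4) F} (hg : g ∈ Cfsg.Sz F m)
    (hfree : ∀ p ∈ Cfsg.suzukiOvoid F m, g • p ≠ p) :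
    ∃ (p k : ℕ), p.Prime ∧ p ≠ 2 ∧ p ∣ Fintype.card F ^ 2 + 1 ∧ (g ^ k) ^ p = 1 ∧ g ^ k ≠ 1 := by
  have hg1 : g ≠ 1 := by
    rintro rfl
    exact hfree _ inf_mem_ovoid (one_smul _ _)
  have hord : orderOf g ≠ 1 := fun h => hg1 (orderOf_eq_one_iff.1 h)
  obtain ⟨p, hp, hpd⟩ := Nat.exists_prime_and_dvd hord
  have : Fact p.Prime := ⟨hp⟩
  have hord0 : orderOf g ≠ 0 := (orderOf_pos g).ne'
  have ho : orderOf (g ^ (orderOf g / p)) = p := orderOf_pow_orderOf_div hord0 hpd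
  have hg₀p : (g ^ (orderOf g / p)) ^ p = 1 := by
    have := pow_orderOf_eq_one (g ^ (orderOf g / p))
    rwa [ho] at this
  have hg₀1 : g ^ (orderOf g / p) ≠ 1 := by
    intro h
    rw [h, orderOf_one] at ho
    exact hp.one_lt.ne ho
  have hg₀mem : g ^ (orderOf g / p) ∈ Cfsg.Sz F m := pow_mem hg _
  have hcomm : g ^ (orderOf g / p) * g = g * g ^ (orderOf g / p) :=
    ((Commute.refl g).pow_left _).eq
  have hfree₀ := sz_free_of_commute hm hF hg hfree hg₀mem hg₀1 hcomm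
  have hpdvd := sz_prime_dvd_of_free hg₀mem hfree₀ hg₀p
  refine ⟨p, orderOf g / p, hp, ?_, hpdvd, hg₀p, hg₀1⟩
  rintro rfl
  exact (Nat.not_even_iff_odd.2 (sz_q_sq_add_one_odd hF)) (even_iff_two_dvd.2 hpdvd)

/-- the matrices commuting with a fixed-point-free element lie in the image of a field -/
theorem sz_free_field (hm : 1 ≤ m) (hF : Fintype.card F = 2 ^ (2 * m + 1))
    {g : SpecialLinearGroup (Fin 4) F} (hg : g ∈ Cfsg.Sz F m)
    (hfree : ∀ p ∈ Cfsg.suzukiOvoid F m, g • p ≠ p) :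
    ∃ (K : Type v) (_ : Field K) (_ : Algebra F K) (j : K →ₐ[F] Matrix (Fin 4) (Fin 4) F),
      Function.Injective j ∧
      ∀ A : Matrix (Fin 4) (Fin 4) F, A * (g : Matrix (Fin 4) (Fin 4) F) = g * A →
        A ∈ Set.range j := by
  obtain ⟨p, k, hp, hp2, hpdvd, hpow, hne⟩ := sz_free_prime hm hF hg hfree
  have : Fact p.Prime := ⟨hp⟩
  obtain ⟨K, i1, i2, j, hj, hrange⟩ := h6_matrix_field_of_prime_order
    ((g ^ k : SpecialLinearGroup (Fin 4) F) : Matrix (Fin 4) (Fin 4) F) p hpdvd hp2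
    (by simpa using congrArg Subtype.val hpow) (fun h => hne (Subtype.ext h))
  refine ⟨K, i1, i2, j, hj, fun A hA => hrange A ?_⟩
  have h1 : Commute A (g : Matrix (Fin 4) (Fin 4) F) := hA
  have h2 := h1.pow_right k
  simpa using h2.eq

end SzTori

end Cfsg.Agent.Helper6
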