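import Mathlib

set_option autoImplicit false

namespace Cfsg.Agent.Helper6

open scoped Pointwise

section TICent

variable {G : Type*} [Group G]

/-- A conjugation-invariant set `E` of non-identity elements whose centralisers are abelian and
consist, apart from the identity, of elements of `E`. -/
structure TIData (E : Set G) : Prop where
  one_notMem : (1 : G) ∉ E
  conj_mem : ∀ g ∈ E, ∀ x : G, x * g * x⁻¹ ∈ E
  cent_mem : ∀ g ∈ E, ∀ c : G, c * g = g * c → c ≠ 1 → c ∈ E
  cent_comm : ∀ g ∈ E, ∀ c₁ c₂ : G, c₁ * g = g * c₁ → c₂ * g = g * c₂ → c₁ * c₂ = c₂ * c₁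

theorem ti_cent_eq {E : Set G} (hE : TIData E) {g c : G} (hg : g ∈ E)
    (hc : c ∈ Subgroup.centralizer ({g} : Set G)) (hc1 : c ≠ 1) :
    Subgroup.centralizer ({c} : Set G) = Subgroup.centralizer ({g} : Set G) := by
  rw [Subgroup.mem_centralizer_singleton_iff] at hc
  have hcE := hE.cent_mem g hg c hc hc1
  ext y
  rw [Subgroup.mem_centralizer_singleton_iff, Subgroup.mem_centralizer_singleton_iff]
  constructor
  · intro hy
    exact hE.cent_comm c hcE y g hy hc.symm
  · intro hy
    exact hE.cent_comm g hg y c hy hc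

theorem ti_cent_conj (g x : G) :
    Subgroup.centralizer ({x * g * x⁻¹} : Set G) =
      (Subgroup.centralizer ({g} : Set G)).map (MulAut.conj x).toMonoidHom := by
  ext y
  rw [Subgroup.mem_centralizer_singleton_iff, Subgroup.mem_map]
  constructor
  · intro hy
    refine ⟨x⁻¹ * y * x, ?_, ?_⟩
    · rw [Subgroup.mem_centralizer_singleton_iff]
      have : x⁻¹ * y * x * g = x⁻¹ * (y * (x * g * x⁻¹)) * x := by group
      rw [this, hy]
      group
    · simp [MulAut.conj_apply]
      group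
  · rintro ⟨c, hc, rfl⟩
    rw [Subgroup.mem_centralizer_singleton_iff] at hc
    simp only [MulEquiv.toMonoidHom_eq_coe, MonoidHom.coe_coe, MulAut.conj_apply]
    have e1 : x * c * x⁻¹ * (x * g * x⁻¹) = x * (c * g) * x⁻¹ := by group
    have e2 : x * g * x⁻¹ * (x * c * x⁻¹) = x * (g * c) * x⁻¹ := by group
    rw [e1, e2, hc]

theorem ti_mem_normalizer {E : Set G} (hE : TIData E) {g c w : G} (hg : g ∈ E)
    (hc : c ∈ Subgroup.centralizer ({g} : Set G)) (hc1 : c ≠ 1)
    (hw : w * c * w⁻¹ ∈ Subgroup.centralizer ({g} : Set G)) :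
    w ∈ Subgroup.normalizer ((Subgroup.centralizer ({g} : Set G) : Subgroup G) : Set G) := by
  rw [Subgroup.mem_normalizer_iff_map_conj_eq]
  have h1 : w * c * w⁻¹ ≠ 1 := fun h => hc1 (conj_eq_one_iff.1 h)
  have h2 := ti_cent_eq hE hg hw h1
  rw [ti_cent_conj, ti_cent_eq hE hg hc hc1] at h2
  exact h2

/-- the elements of `E` whose centraliser is conjugate to that of `g` -/
def tiCl (E : Set G) (g : G) : Set G :=
  {e | e ∈ E ∧ ∃ x : G, Subgroup.centralizer ({e} : Set G) =
    (Subgroup.centralizer ({g} : Set G)).map (MulAut.conj x).toMonoidHom}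

theorem tiCl_subset (E : Set G) (g : G) : tiCl E g ⊆ E := fun _ he => he.1

theorem ti_self_mem {E : Set G} {g : G} (hg : g ∈ E) : g ∈ tiCl E g := by
  refine ⟨hg, 1, ?_⟩
  ext y
  simp [Subgroup.mem_map]

theorem ti_mem_cl_iff {E : Set G} (hE : TIData E) {g e : G} (hg : g ∈ E) :
    e ∈ tiCl E g ↔ ∃ x c : G, c ∈ Subgroup.centralizer ({g} : Set G) ∧ c ≠ 1 ∧ e = x * c * x⁻¹ := by
  constructor
  · rintro ⟨he, x, hx⟩
    have hmem : e ∈ Subgroup.centralizer ({e} : Set G) :=
      Subgroup.mem_centralizer_singleton_iff.2 rfl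
    rw [hx, Subgroup.mem_map] at hmem
    obtain ⟨c, hc, hce⟩ := hmem
    refine ⟨x, c, hc, ?_, ?_⟩
    · rintro rfl
      apply hE.one_notMem
      have : e = 1 := by rw [← hce]; simp
      rw [← this]
      exact he
    · rw [← hce]
      simp [MulAut.conj_apply]
  · rintro ⟨x, c, hc, hc1, rfl⟩
    have hcE : c ∈ E := hE.cent_mem g hg c (Subgroup.mem_centralizer_singleton_iff.1 hc) hc1
    refine ⟨hE.conj_mem c hcE x, x, ?_⟩
    rw [ti_cent_conj, ti_cent_eq hE hg hc hc1]

theorem h6_conj_comp (z x : G) :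
    ((MulAut.conj z).toMonoidHom).comp (MulAut.conj x).toMonoidHom =
      (MulAut.conj (z * x)).toMonoidHom := by
  ext u
  simp [MulAut.conj_apply, mul_assoc]

theorem ti_cl_eq_of_mem {E : Set G} {g e : G} (he : e ∈ tiCl E g) :
    tiCl E e = tiCl E g := by
  obtain ⟨-, x, hx⟩ := he
  ext y
  constructor
  · rintro ⟨hy, z, hz⟩
    refine ⟨hy, z * x, ?_⟩
    rw [hz, hx, Subgroup.map_map, h6_conj_comp]
  · rintro ⟨hy, z, hz⟩
    refine ⟨hy, z * x⁻¹, ?_⟩
    rw [hz, hx, Subgroup.map_map, h6_conj_comp, inv_mul_cancel_right]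

theorem ti_cl_disjoint {E : Set G} {g g' : G} (h : g' ∉ tiCl E g) (hg' : g' ∈ E) :
    Disjoint (tiCl E g) (tiCl E g') := by
  rw [Set.disjoint_left]
  intro e he he'
  apply h
  have h1 := ti_cl_eq_of_mem he
  have h2 := ti_cl_eq_of_mem he'
  rw [← h1, h2]
  exact ti_self_mem hg'

theorem ti_card_eq_of_mem {E : Set G} {g e : G} (he : e ∈ tiCl E g) :
    Nat.card (Subgroup.centralizer ({e} : Set G)) = Nat.card (Subgroup.centralizer ({g} : Set G)) ∧
    Nat.card (Subgroup.normalizer ((Subgroup.centralizer ({e} : Set G) : Subgroup G) : Set G)) =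
      Nat.card (Subgroup.normalizer ((Subgroup.centralizer ({g} : Set G) : Subgroup G) : Set G)) := by
  obtain ⟨-, x, hx⟩ := he
  rw [hx]
  constructor
  · exact Subgroup.card_map_of_injective (MulAut.conj x).injective
  · have := Subgroup.map_equiv_normalizer_eq (Subgroup.centralizer ({g} : Set G)) (MulAut.conj x)
    rw [← this]
    exact Subgroup.card_map_of_injective (MulAut.conj x).injective

/-- the number of elements of `E` whose centraliser is conjugate to that of `g` -/
theorem ti_cl_card [Finite G] {E : Set G} (hE : TIData E) {g : G} (hg : g ∈ E) :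
    (tiCl E g).ncard *
        Nat.card (Subgroup.normalizer ((Subgroup.centralizer ({g} : Set G) : Subgroup G) : Set G)) =
      Nat.card G * (Nat.card (Subgroup.centralizer ({g} : Set G)) - 1) := by
  classical
  let Ψ : (G ⧸ Subgroup.normalizer ((Subgroup.centralizer ({g} : Set G) : Subgroup G) : Set G)) ×
      (((Subgroup.centralizer ({g} : Set G) : Subgroup G) : Set G) \ {1} : Set G) → G :=
    fun p => p.1.out * p.2.1 * p.1.out⁻¹
  have hinj : Function.Injective Ψ := by
    rintro ⟨ξ, c⟩ ⟨ξ', c'⟩ h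
    have h' : ξ.out * c.1 * ξ.out⁻¹ = ξ'.out * c'.1 * ξ'.out⁻¹ := h
    have hw : (ξ'.out⁻¹ * ξ.out) * c.1 * (ξ'.out⁻¹ * ξ.out)⁻¹ = c'.1 := by
      have : (ξ'.out⁻¹ * ξ.out) * c.1 * (ξ'.out⁻¹ * ξ.out)⁻¹ =
          ξ'.out⁻¹ * (ξ.out * c.1 * ξ.out⁻¹) * ξ'.out := by group
      rw [this, h']
      group
    have hwN : ξ'.out⁻¹ * ξ.out ∈
        Subgroup.normalizer ((Subgroup.centralizer ({g} : Set G) : Subgroup G) : Set G) :=
      ti_mem_normalizer hE hg c.2.1 (fun h1 => c.2.2 h1) (by rw [hw]; exact c'.2.1)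
    have hξ : ξ' = ξ := by
      rw [← QuotientGroup.out_eq' ξ', ← QuotientGroup.out_eq' ξ]
      exact QuotientGroup.eq.2 hwN
    subst hξ
    have hc : c.1 = c'.1 := mul_left_cancel (mul_right_cancel h')
    exact Prod.ext rfl (Subtype.ext hc)
  have hrange : Set.range Ψ = tiCl E g := by
    ext e
    rw [ti_mem_cl_iff hE hg]
    constructor
    · rintro ⟨⟨ξ, c⟩, rfl⟩
      exact ⟨ξ.out, c.1, c.2.1, fun h1 => c.2.2 h1, rfl⟩
    · rintro ⟨x, c, hc, hc1, rfl⟩
      obtain ⟨h, hh⟩ := QuotientGroup.mk_out_eq_mul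
        (Subgroup.normalizer ((Subgroup.centralizer ({g} : Set G) : Subgroup G) : Set G)) x
      refine ⟨⟨(x : G ⧸ Subgroup.normalizer
        ((Subgroup.centralizer ({g} : Set G) : Subgroup G) : Set G)),
        ⟨h.1⁻¹ * c * h.1, ?_, ?_⟩⟩, ?_⟩
      · exact (Subgroup.mem_normalizer_iff''.1 h.2 c).1 hc
      · intro h1
        apply hc1
        have h2 : h.1⁻¹ * c * h.1 = 1 := h1
        have : c = h.1 * (h.1⁻¹ * c * h.1) * h.1⁻¹ := by group
        rw [this, h2]
        group
      · show (x : G ⧸ Subgroup.normalizer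
          ((Subgroup.centralizer ({g} : Set G) : Subgroup G) : Set G)).out * (h.1⁻¹ * c * h.1) *
          (x : G ⧸ Subgroup.normalizer
          ((Subgroup.centralizer ({g} : Set G) : Subgroup G) : Set G)).out⁻¹ = x * c * x⁻¹
        rw [hh]
        group
  have hD : Nat.card ((((Subgroup.centralizer ({g} : Set G) : Subgroup G) : Set G) \ {1} : Set G)) =
      Nat.card (Subgroup.centralizer ({g} : Set G)) - 1 := by
    rw [Nat.card_coe_set_eq, Set.ncard_sdiff_singleton_of_mem (Subgroup.one_mem _)]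
    rfl
  rw [← hrange, Set.ncard_range_of_injective hinj, Nat.card_prod, hD,
    Subgroup.card_eq_card_quotient_mul_card_subgroup
      (Subgroup.normalizer ((Subgroup.centralizer ({g} : Set G) : Subgroup G) : Set G))]
  ring

end TICent

end Cfsg.Agent.Helper6
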