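import Mathlib
import Cfsg.Prelude.Def_LieExceptional
import Cfsg.Agent.Helper6.Suzuki8
import Cfsg.Agent.Helper6.SzTori
import Cfsg.Agent.Helper6.TICent

set_option autoImplicit false

universe v

namespace Cfsg.Agent.Helper6

open Matrix
open scoped Pointwise

section SzTori2
variable {F : Type v} [Field F] [Fintype F] {m : ℕ} [CharP F 2]

/-- the set of fixed-point-free elements of the Suzuki group -/
def szE (F : Type v) [Field F] (m : ℕ) : Set (Cfsg.Sz F m) :=
  {g | ∀ p ∈ Cfsg.suzukiOvoid F m, (g : SpecialLinearGroup (Fin 4) F) • p ≠ p}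

theorem szE_tiData (hm : 1 ≤ m) (hF : Fintype.card F = 2 ^ (2 * m + 1)) : TIData (szE F m) where
  one_notMem := fun h => h _ inf_mem_ovoid (one_smul _ _)
  conj_mem := fun g hg x p hp hfix => by
    apply hg ((x : SpecialLinearGroup (Fin 4) F)⁻¹ • p) (sz_mem_smul_mem (inv_mem x.2) hp)
    have h1 : ((x : SpecialLinearGroup (Fin 4) F) * g * (x : SpecialLinearGroup (Fin 4) F)⁻¹) • p = p :=
      hfix
    rw [mul_smul, mul_smul] at h1
    rw [eq_inv_smul_iff]
    exact h1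
  cent_mem := fun g hg c hc hc1 =>
    sz_free_of_commute hm hF g.2 hg c.2 (fun h => hc1 (Subtype.ext h)) (congrArg Subtype.val hc)
  cent_comm := fun g hg c₁ c₂ h₁ h₂ => by
    obtain ⟨K, i1, i2, j, hj, hrange⟩ := sz_free_field hm hF g.2 hg
    obtain ⟨k₁, hk₁⟩ := hrange (c₁ : SpecialLinearGroup (Fin 4) F)
      (congrArg (fun y : Cfsg.Sz F m => ((y : SpecialLinearGroup (Fin 4) F) :
        Matrix (Fin 4) (Fin 4) F)) h₁)
    obtain ⟨k₂, hk₂⟩ := hrange (c₂ : SpecialLinearGroup (Fin 4) F)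
      (congrArg (fun y : Cfsg.Sz F m => ((y : SpecialLinearGroup (Fin 4) F) :
        Matrix (Fin 4) (Fin 4) F)) h₂)
    apply Subtype.ext
    apply Subtype.ext
    show ((c₁ : SpecialLinearGroup (Fin 4) F) : Matrix (Fin 4) (Fin 4) F) *
      ((c₂ : SpecialLinearGroup (Fin 4) F) : Matrix (Fin 4) (Fin 4) F) =
      ((c₂ : SpecialLinearGroup (Fin 4) F) : Matrix (Fin 4) (Fin 4) F) *
      ((c₁ : SpecialLinearGroup (Fin 4) F) : Matrix (Fin 4) (Fin 4) F)
    rw [← hk₁, ← hk₂, ← map_mul, ← map_mul, mul_comm]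

/-- the centraliser of a fixed-point-free element is cyclic -/
theorem szTor_cyclic (hm : 1 ≤ m) (hF : Fintype.card F = 2 ^ (2 * m + 1)) {g : Cfsg.Sz F m}
    (hg : g ∈ szE F m) : IsCyclic (Subgroup.centralizer ({g} : Set (Cfsg.Sz F m))) := by
  obtain ⟨K, i1, i2, j, hj, hrange⟩ := sz_free_field hm hF g.2 hg
  let f : Subgroup.centralizer ({g} : Set (Cfsg.Sz F m)) →* Matrix (Fin 4) (Fin 4) F :=
    { toFun := fun c => ((c : Cfsg.Sz F m) : SpecialLinearGroup (Fin 4) F)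
      map_one' := rfl
      map_mul' := fun a b => rfl }
  refine h6_isCyclic_of_range (j : K →+* Matrix (Fin 4) (Fin 4) F) hj f ?_ ?_
  · intro a b h
    exact Subtype.ext (Subtype.ext (Subtype.ext h))
  · intro c
    apply hrange
    have h1 := Subgroup.mem_centralizer_singleton_iff.1 c.2
    exact congrArg (fun y : Cfsg.Sz F m => ((y : SpecialLinearGroup (Fin 4) F) :
      Matrix (Fin 4) (Fin 4) F)) h1

omit [CharP F 2] [Field F] in
theorem sz_prime_not_dvd (hF : Fintype.card F = 2 ^ (2 * m + 1)) {p : ℕ} (hp : p.Prime)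
    (h1 : p ∣ Fintype.card F ^ 2 + 1) : ¬ p ∣ Fintype.card F ^ 2 * (Fintype.card F - 1) := by
  have hodd := sz_q_sq_add_one_odd (F := F) hF
  have hq : 1 ≤ Fintype.card F := by
    rw [hF]
    exact Nat.one_le_two_pow
  intro h
  rcases (Nat.Prime.dvd_mul hp).1 h with h' | h'
  · have : p ∣ 1 := (Nat.dvd_add_right h').1 h1
    exact hp.one_lt.ne' (Nat.dvd_one.1 this)
  · obtain ⟨q', hq'⟩ : ∃ q', Fintype.card F = q' + 1 := ⟨Fintype.card F - 1, by omega⟩
    rw [hq'] at h' h1 hodd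
    have e : (q' + 1) ^ 2 + 1 = (q' + 1 - 1) * (q' + 2) + 2 := by
      simp only [Nat.add_sub_cancel]
      ring
    rw [e] at h1 hodd
    have h2 : p ∣ 2 := (Nat.dvd_add_right (Dvd.dvd.mul_right h' _)).1 h1
    have h3 : p = 2 := (Nat.prime_dvd_prime_iff_eq hp Nat.prime_two).1 h2
    subst h3
    rw [← e] at h1 hodd
    exact (Nat.not_even_iff_odd.2 hodd) (even_iff_two_dvd.2 h1)

/-- the order of the centraliser of a fixed-point-free element divides `q² + 1` -/
theorem szTor_card_dvd (hm : 1 ≤ m) (hF : Fintype.card F = 2 ^ (2 * m + 1)) {g : Cfsg.Sz F m}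
    (hg : g ∈ szE F m) :
    Nat.card (Subgroup.centralizer ({g} : Set (Cfsg.Sz F m))) ∣ Fintype.card F ^ 2 + 1 := by
  have hdvd : Nat.card (Subgroup.centralizer ({g} : Set (Cfsg.Sz F m))) ∣
      (Fintype.card F ^ 2 + 1) * (Fintype.card F ^ 2 * (Fintype.card F - 1)) := by
    rw [← sz_card hm hF]
    exact Subgroup.card_subgroup_dvd_card _
  refine Nat.Coprime.dvd_of_dvd_mul_right ?_ hdvd
  apply Nat.coprime_of_dvd
  intro p hp hpa
  have : Fact p.Prime := ⟨hp⟩
  obtain ⟨c, hc⟩ := exists_prime_orderOf_dvd_card' (G := Subgroup.centralizer ({g} : Set (Cfsg.Sz F m)))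
    p hpa
  have hc1 : (c : Cfsg.Sz F m) ≠ 1 := by
    intro h
    have : c = 1 := Subtype.ext h
    rw [this, orderOf_one] at hc
    exact hp.one_lt.ne hc
  have hcE : (c : Cfsg.Sz F m) ∈ szE F m :=
    (szE_tiData hm hF).cent_mem g hg c (Subgroup.mem_centralizer_singleton_iff.1 c.2) hc1
  have hcp : ((c : Cfsg.Sz F m) : SpecialLinearGroup (Fin 4) F) ^ p = 1 := by
    have := pow_orderOf_eq_one c
    rw [hc] at this
    have h2 := congrArg (fun y : Subgroup.centralizer ({g} : Set (Cfsg.Sz F m)) =>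
      ((y : Cfsg.Sz F m) : SpecialLinearGroup (Fin 4) F)) this
    exact h2
  exact sz_prime_not_dvd hF hp (sz_prime_dvd_of_free (c : Cfsg.Sz F m).2 hcE hcp)

omit [CharP F 2] [Field F] in
theorem sz_q_mod_three (hF : Fintype.card F = 2 ^ (2 * m + 1)) :
    Fintype.card F % 3 = 2 ∧ (Fintype.card F ^ 2 + 1) % 3 = 2 := by
  have h1 : Fintype.card F % 3 = 2 := by
    rw [hF, pow_succ, pow_mul, Nat.mul_mod, Nat.pow_mod]
    norm_num
  refine ⟨h1, ?_⟩
  have h2 : Fintype.card F ^ 2 % 3 = 1 := by rw [Nat.pow_mod, h1]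
  omega

/-- the centraliser of a fixed-point-free element has at least 5 elements -/
theorem szTor_card_ge (hm : 1 ≤ m) (hF : Fintype.card F = 2 ^ (2 * m + 1)) {g : Cfsg.Sz F m}
    (hg : g ∈ szE F m) : 5 ≤ Nat.card (Subgroup.centralizer ({g} : Set (Cfsg.Sz F m))) := by
  have hdvd := szTor_card_dvd hm hF hg
  have hodd := sz_q_sq_add_one_odd (F := F) hF
  have h3 := (sz_q_mod_three (F := F) hF).2
  have hg1 : g ≠ 1 := fun h => (szE_tiData hm hF).one_notMem (h ▸ hg)
  have hnt : Nontrivial (Subgroup.centralizer ({g} : Set (Cfsg.Sz F m))) :=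
    ⟨⟨⟨g, Subgroup.mem_centralizer_singleton_iff.2 rfl⟩, 1, fun h => hg1 (congrArg Subtype.val h)⟩⟩
  have h1 : 1 < Nat.card (Subgroup.centralizer ({g} : Set (Cfsg.Sz F m))) := Finite.one_lt_card
  obtain ⟨k, hk⟩ := hdvd
  have hodd' : Odd (Nat.card (Subgroup.centralizer ({g} : Set (Cfsg.Sz F m)))) := by
    rw [hk] at hodd
    exact (Nat.odd_mul.1 hodd).1
  have hne3 : Nat.card (Subgroup.centralizer ({g} : Set (Cfsg.Sz F m))) ≠ 3 := by
    intro h
    rw [hk, h, Nat.mul_mod_right] at h3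
    omega
  rcases hodd' with ⟨t, ht⟩
  omega

omit [CharP F 2] [Field F] in
theorem sz_three_not_dvd (hF : Fintype.card F = 2 ^ (2 * m + 1)) :
    ¬ 3 ∣ (Fintype.card F ^ 2 + 1) * (Fintype.card F ^ 2 * (Fintype.card F - 1)) := by
  obtain ⟨h1, h2⟩ := sz_q_mod_three (F := F) hF
  have h3 : Fintype.card F ^ 2 % 3 = 1 := by rw [Nat.pow_mod, h1]
  have h4 : (Fintype.card F - 1) % 3 = 1 := by omega
  intro h
  have h5 := Nat.mod_eq_zero_of_dvd h
  rw [Nat.mul_mod, Nat.mul_mod (Fintype.card F ^ 2), h2, h3, h4] at h5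
  norm_num at h5

/-- the normaliser of the centraliser `A` of a fixed-point-free element has order `n |A|` with
`n ∈ {1, 2, 4}` -/
theorem szTor_normalizer (hm : 1 ≤ m) (hF : Fintype.card F = 2 ^ (2 * m + 1)) {g : Cfsg.Sz F m}
    (hg : g ∈ szE F m) :
    ∃ n : ℕ, (n = 1 ∨ n = 2 ∨ n = 4) ∧
      Nat.card (Subgroup.normalizer
        ((Subgroup.centralizer ({g} : Set (Cfsg.Sz F m)) : Subgroup (Cfsg.Sz F m)) :
          Set (Cfsg.Sz F m))) =
        n * Nat.card (Subgroup.centralizer ({g} : Set (Cfsg.Sz F m))) := by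
  classical
  obtain ⟨K, i1, i2, j, hj, hrange⟩ := sz_free_field hm hF g.2 hg
  let mat : Cfsg.Sz F m → Matrix (Fin 4) (Fin 4) F :=
    fun y => ((y : SpecialLinearGroup (Fin 4) F) : Matrix (Fin 4) (Fin 4) F)
  have mat_inj : Function.Injective mat := fun a b h => Subtype.ext (Subtype.ext h)
  have mat_mul : ∀ a b, mat (a * b) = mat a * mat b := fun a b => rfl
  have mat_one : mat 1 = 1 := rfl
  have hχ0 : (mat g).charpoly ≠ 0 := (Matrix.charpoly_monic _).ne_zero
  have hχdeg : (mat g).charpoly.natDegree = 4 := by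
    rw [Matrix.charpoly_natDegree_eq_dim]
    rfl
  have := Fintype.ofFinite (Subgroup.normalizer
    ((Subgroup.centralizer ({g} : Set (Cfsg.Sz F m)) : Subgroup (Cfsg.Sz F m)) : Set (Cfsg.Sz F m)))
  let S : Finset (Matrix (Fin 4) (Fin 4) F) := Finset.univ.image
    (fun n : Subgroup.normalizer ((Subgroup.centralizer ({g} : Set (Cfsg.Sz F m)) :
      Subgroup (Cfsg.Sz F m)) : Set (Cfsg.Sz F m)) => mat (n.1 * g * n.1⁻¹))
  have hS : ∀ y ∈ S, y ∈ Set.range j ∧ Polynomial.aeval y (mat g).charpoly = 0 := by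
    intro y hy
    obtain ⟨n, -, rfl⟩ := Finset.mem_image.1 hy
    constructor
    · apply hrange
      have hmem : n.1 * g * n.1⁻¹ ∈ Subgroup.centralizer ({g} : Set (Cfsg.Sz F m)) :=
        (Subgroup.mem_normalizer_iff.1 n.2 g).1 (Subgroup.mem_centralizer_singleton_iff.2 rfl)
      exact congrArg mat (Subgroup.mem_centralizer_singleton_iff.1 hmem)
    · have h1 : mat n.1 * mat n.1⁻¹ = 1 := by rw [← mat_mul, mul_inv_cancel, mat_one]
      have h2 : mat n.1⁻¹ * mat n.1 = 1 := by rw [← mat_mul, inv_mul_cancel, mat_one]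
      let u : (Matrix (Fin 4) (Fin 4) F)ˣ := ⟨mat n.1, mat n.1⁻¹, h1, h2⟩
      have h3 : mat (n.1 * g * n.1⁻¹) = u.val * mat g * u.val⁻¹ := by
        rw [mat_mul, mat_mul]
        congr 1
        exact (Matrix.inv_eq_right_inv h1).symm
      have h4 := Matrix.aeval_self_charpoly (u.val * mat g * u.val⁻¹)
      rw [Matrix.charpoly_units_conj] at h4
      rw [h3]
      exact h4
  have hScard : S.card ≤ 4 := by
    have h := h6_card_le_of_aeval j hj (mat g).charpoly hχ0 S hS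
    rw [hχdeg] at h
    exact h
  have hsec : ∀ y : S, ∃ n : Subgroup.normalizer ((Subgroup.centralizer ({g} : Set (Cfsg.Sz F m)) :
      Subgroup (Cfsg.Sz F m)) : Set (Cfsg.Sz F m)), mat (n.1 * g * n.1⁻¹) = y.1 := fun y => by
    obtain ⟨n, -, h⟩ := Finset.mem_image.1 y.2
    exact ⟨n, h⟩
  choose s hs using hsec
  let yv : Subgroup.normalizer ((Subgroup.centralizer ({g} : Set (Cfsg.Sz F m)) :
      Subgroup (Cfsg.Sz F m)) : Set (Cfsg.Sz F m)) → S :=
    fun n => ⟨mat (n.1 * g * n.1⁻¹), Finset.mem_image.2 ⟨n, Finset.mem_univ _, rfl⟩⟩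
  have hkey : ∀ n, (s (yv n)).1⁻¹ * n.1 ∈ Subgroup.centralizer ({g} : Set (Cfsg.Sz F m)) := by
    intro n
    rw [Subgroup.mem_centralizer_singleton_iff]
    have h1 : (s (yv n)).1 * g * (s (yv n)).1⁻¹ = n.1 * g * n.1⁻¹ := mat_inj (hs (yv n))
    calc (s (yv n)).1⁻¹ * n.1 * g = (s (yv n)).1⁻¹ * (n.1 * g * n.1⁻¹) * n.1 := by group
      _ = (s (yv n)).1⁻¹ * ((s (yv n)).1 * g * (s (yv n)).1⁻¹) * n.1 := by rw [h1]
      _ = g * ((s (yv n)).1⁻¹ * n.1) := by group
  let ψ : Subgroup.normalizer ((Subgroup.centralizer ({g} : Set (Cfsg.Sz F m)) :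
      Subgroup (Cfsg.Sz F m)) : Set (Cfsg.Sz F m)) →
      S × Subgroup.centralizer ({g} : Set (Cfsg.Sz F m)) :=
    fun n => (yv n, ⟨(s (yv n)).1⁻¹ * n.1, hkey n⟩)
  have hψ : Function.Injective ψ := by
    intro n n' h
    have h1 : yv n = yv n' := congrArg Prod.fst h
    have h2 : (s (yv n)).1⁻¹ * n.1 = (s (yv n')).1⁻¹ * n'.1 :=
      congrArg (fun p : S × Subgroup.centralizer ({g} : Set (Cfsg.Sz F m)) => p.2.1) h
    rw [h1] at h2
    exact Subtype.ext (mul_left_cancel h2)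
  have hle : Nat.card (Subgroup.normalizer ((Subgroup.centralizer ({g} : Set (Cfsg.Sz F m)) :
      Subgroup (Cfsg.Sz F m)) : Set (Cfsg.Sz F m))) ≤
      S.card * Nat.card (Subgroup.centralizer ({g} : Set (Cfsg.Sz F m))) := by
    have := Nat.card_le_card_of_injective ψ hψ
    rwa [Nat.card_prod, Nat.card_eq_fintype_card (α := S), Fintype.card_coe] at this
  obtain ⟨n, hn⟩ := Subgroup.card_dvd_of_le (Subgroup.le_normalizer
    (H := Subgroup.centralizer ({g} : Set (Cfsg.Sz F m))))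
  have hApos : 0 < Nat.card (Subgroup.centralizer ({g} : Set (Cfsg.Sz F m))) := Nat.card_pos
  have hNpos : 0 < Nat.card (Subgroup.normalizer ((Subgroup.centralizer ({g} : Set (Cfsg.Sz F m)) :
      Subgroup (Cfsg.Sz F m)) : Set (Cfsg.Sz F m))) := Nat.card_pos
  have h3 : ¬ 3 ∣ Nat.card (Subgroup.normalizer ((Subgroup.centralizer ({g} : Set (Cfsg.Sz F m)) :
      Subgroup (Cfsg.Sz F m)) : Set (Cfsg.Sz F m))) := by
    intro h
    have h' := h.trans (Subgroup.card_subgroup_dvd_card _)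
    rw [sz_card hm hF] at h'
    exact sz_three_not_dvd hF h'
  refine ⟨n, ?_, by rw [hn, mul_comm]⟩
  have hn4 : n ≤ 4 := by
    by_contra hcon
    push Not at hcon
    rw [hn] at hle
    have h5 : Nat.card (Subgroup.centralizer ({g} : Set (Cfsg.Sz F m))) * 5 ≤
        Nat.card (Subgroup.centralizer ({g} : Set (Cfsg.Sz F m))) * n :=
      Nat.mul_le_mul_left _ hcon
    have h6 : S.card * Nat.card (Subgroup.centralizer ({g} : Set (Cfsg.Sz F m))) ≤
        4 * Nat.card (Subgroup.centralizer ({g} : Set (Cfsg.Sz F m))) :=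
      Nat.mul_le_mul_right _ hScard
    omega
  have hn0 : n ≠ 0 := by
    rintro rfl
    rw [hn] at hNpos
    simp at hNpos
  have hn3 : n ≠ 3 := by
    rintro rfl
    exact h3 ⟨Nat.card (Subgroup.centralizer ({g} : Set (Cfsg.Sz F m))), by rw [hn, mul_comm]⟩
  interval_cases n <;> simp_all

end SzTori2

end Cfsg.Agent.Helper6
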