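import Mathlib
import Cfsg.Prelude.Def_LieExceptional
import Cfsg.Agent.Helper3.TwoTrans
import Cfsg.Agent.Helper15.Zassenhaus
import Cfsg.Agent.Helper6.Zass

set_option autoImplicit false

namespace Cfsg.Agent.Helper6

open MulAction

section ZassCount

variable {G Ω : Type*} [Group G] [MulAction G Ω]

/-- the number of fixed-point-free elements of a Zassenhaus group -/
theorem zs_card_fpf [Finite Ω] (hZ : Cfsg.IsZassenhausGroup G Ω) :
    (2 * Nat.card {g : G // ∀ x : Ω, g • x ≠ x} : ℤ) +
      ((Nat.card Ω : ℤ) - 1) * ((Nat.card Ω : ℤ) - 2) = Nat.card G := by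
  classical
  have hfin := zs_finite hZ
  have := Fintype.ofFinite G
  have h2 := hZ.2.1
  have htr : IsPretransitive G Ω := Cfsg.Agent.Helper15.zass_pretrans hZ
  have h3 := Cfsg.Agent.Helper15.zass_three_le_card hZ
  have hne : Nonempty Ω := by
    rw [← Finite.card_pos_iff]
    omega
  have horb : Nat.card (orbitRel.Quotient G Ω) = 1 := by
    rw [Nat.card_eq_one_iff_unique]
    exact ⟨(MulAction.pretransitive_iff_subsingleton_quotient G Ω).1 htr,
      ⟨Quotient.mk'' (Classical.arbitrary Ω)⟩⟩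
  have S1 : ∑ g : G, Nat.card (fixedBy Ω g) = Nat.card G := by
    rw [Cfsg.Agent.Helper3.sum_natCard_fixedBy G Ω, horb, one_mul]
  have S2 : ∑ g : G, Nat.card (fixedBy Ω g) * Nat.card (fixedBy Ω g) = 2 * Nat.card G := by
    have h := Cfsg.Agent.Helper3.sum_natCard_fixedBy G (Ω × Ω)
    rw [Cfsg.Agent.Helper3.card_orbits_of_two_pretransitive (by omega) h2] at h
    rw [← h]
    apply Finset.sum_congr rfl
    intro g _
    rw [Cfsg.Agent.Helper3.card_fixedBy_prod]
  have key : ∑ g : G, (((Nat.card (fixedBy Ω g) : ℤ) - 1) * ((Nat.card (fixedBy Ω g) : ℤ) - 2)) =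
      Nat.card G := by
    have e : ∀ g : G, ((Nat.card (fixedBy Ω g) : ℤ) - 1) * ((Nat.card (fixedBy Ω g) : ℤ) - 2) =
        ((Nat.card (fixedBy Ω g) * Nat.card (fixedBy Ω g) : ℕ) : ℤ) -
          3 * ((Nat.card (fixedBy Ω g) : ℕ) : ℤ) + 2 := fun g => by
      push_cast
      ring
    simp only [e]
    rw [Finset.sum_add_distrib, Finset.sum_sub_distrib, ← Finset.mul_sum, ← Nat.cast_sum,
      ← Nat.cast_sum, S1, S2]
    simp only [Finset.sum_const, Finset.card_univ, nsmul_eq_mul]
    rw [← Nat.card_eq_fintype_card]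
    push_cast
    ring
  have pt : ∀ g : G, ((Nat.card (fixedBy Ω g) : ℤ) - 1) * ((Nat.card (fixedBy Ω g) : ℤ) - 2) =
      (if g = 1 then ((Nat.card Ω : ℤ) - 1) * ((Nat.card Ω : ℤ) - 2) else 0) +
        2 * (if (∀ x : Ω, g • x ≠ x) then 1 else 0) := by
    intro g
    by_cases hg : g = 1
    · subst hg
      have h1 : Nat.card (fixedBy Ω (1 : G)) = Nat.card Ω := by
        apply Nat.card_congr
        exact ⟨fun x => x.1, fun x => ⟨x, one_smul _ _⟩, fun x => rfl, fun x => rfl⟩
      have h4 : ¬ (∀ x : Ω, (1 : G) • x ≠ x) := by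
        intro h
        exact h (Classical.arbitrary Ω) (one_smul _ _)
      rw [if_pos rfl, if_neg h4, h1]
      ring
    · rw [if_neg hg]
      have hle := Cfsg.Agent.Helper15.zass_fix_le_two hZ hg
      by_cases hfree : ∀ x : Ω, g • x ≠ x
      · rw [if_pos hfree]
        have h0 : Nat.card (fixedBy Ω g) = 0 := by
          have : IsEmpty (fixedBy Ω g) := ⟨fun x => hfree x.1 x.2⟩
          exact Nat.card_of_isEmpty
        rw [h0]
        norm_num
      · rw [if_neg hfree]
        push Not at hfree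
        obtain ⟨x, hx⟩ := hfree
        have hpos : 0 < Nat.card (fixedBy Ω g) := by
          have : Nonempty (fixedBy Ω g) := ⟨⟨x, hx⟩⟩
          exact Nat.card_pos
        have h12 : Nat.card (fixedBy Ω g) = 1 ∨ Nat.card (fixedBy Ω g) = 2 := by omega
        rcases h12 with h | h <;> rw [h] <;> norm_num
  simp only [pt] at key
  rw [Finset.sum_add_distrib, Finset.sum_ite_eq' Finset.univ (1 : G), if_pos (Finset.mem_univ _),
    ← Finset.mul_sum, Finset.sum_boole] at key
  have hc : (Finset.univ.filter (fun g : G => ∀ x : Ω, g • x ≠ x)).card =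
      Nat.card {g : G // ∀ x : Ω, g • x ≠ x} := by
    rw [Nat.card_eq_fintype_card, Fintype.card_subtype]
  rw [hc] at key
  linarith

end ZassCount

end Cfsg.Agent.Helper6
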