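import Mathlib
import Cfsg.Prelude.Def_LieExceptional
import Cfsg.Agent.Helper6.Suzuki5
import Cfsg.Agent.Helper6.Suzuki8
import Cfsg.Agent.Helper6.SzTori2
import Cfsg.Agent.Helper6.ZassCount
import Cfsg.Agent.Helper6.SzNum

set_option autoImplicit false

universe v

namespace Cfsg.Agent.Helper6

open Matrix
open scoped Pointwise

section SzTori3
variable {F : Type v} [Field F] [Fintype F] {m : ℕ} [CharP F 2]

omit [CharP F 2] [Field F] in
theorem sz_q_ge (hm : 1 ≤ m) (hF : Fintype.card F = 2 ^ (2 * m + 1)) : 8 ≤ Fintype.card F := by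
  rw [hF]
  calc 8 = 2 ^ 3 := by norm_num
    _ ≤ 2 ^ (2 * m + 1) := Nat.pow_le_pow_right (by norm_num) (by omega)

/-- the number of fixed-point-free elements of the Suzuki group -/
theorem sz_card_E (hm : 1 ≤ m) (hF : Fintype.card F = 2 ^ (2 * m + 1)) :
    2 * ((szE F m).ncard : ℤ) = (Fintype.card F : ℤ) ^ 2 * ((Fintype.card F : ℤ) - 1) *
      ((Fintype.card F : ℤ) * ((Fintype.card F : ℤ) - 1)) := by
  have hZ := sz_zassenhaus hm hF
  have h := zs_card_fpf hZ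
  have e : Nat.card {g : Cfsg.Sz F m // ∀ x : Cfsg.suzukiOvoid F m, g • x ≠ x} =
      (szE F m).ncard := by
    rw [← Nat.card_coe_set_eq]
    apply Nat.card_congr
    apply Equiv.subtypeEquivRight
    intro g
    constructor
    · intro h p hp hfix
      exact h ⟨p, hp⟩ (Subtype.ext hfix)
    · intro h x hfix
      exact h x.1 x.2 (congrArg Subtype.val hfix)
  rw [e, sz_ovoid_card, sz_card hm hF] at h
  have hq : 1 ≤ Fintype.card F := by
    have := sz_q_ge hm hF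
    omega
  push_cast [Nat.cast_sub hq] at h
  linear_combination h

/-- the class equation data of a fixed-point-free element -/
theorem szCl_eq (hm : 1 ≤ m) (hF : Fintype.card F = 2 ^ (2 * m + 1)) {g : Cfsg.Sz F m}
    (hg : g ∈ szE F m) :
    ∃ n a : ℕ, (n = 1 ∨ n = 2 ∨ n = 4) ∧ 5 ≤ a ∧ a ∣ Fintype.card F ^ 2 + 1 ∧
      Nat.card (Subgroup.centralizer ({g} : Set (Cfsg.Sz F m))) = a ∧
      Nat.card (Subgroup.normalizer
        ((Subgroup.centralizer ({g} : Set (Cfsg.Sz F m)) : Subgroup (Cfsg.Sz F m)) :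
          Set (Cfsg.Sz F m))) = n * a ∧
      ((tiCl (szE F m) g).ncard : ℤ) * ((n : ℤ) * (a : ℤ)) =
        ((Fintype.card F : ℤ) ^ 2 + 1) * ((Fintype.card F : ℤ) ^ 2 * ((Fintype.card F : ℤ) - 1)) *
          ((a : ℤ) - 1) := by
  obtain ⟨n, hn, hnorm⟩ := szTor_normalizer hm hF hg
  have ha := szTor_card_ge hm hF hg
  refine ⟨n, _, hn, ha, szTor_card_dvd hm hF hg, rfl, hnorm, ?_⟩
  have h := ti_cl_card (szE_tiData hm hF) hg
  rw [hnorm, sz_card hm hF] at h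
  have hq : 1 ≤ Fintype.card F := by
    have := sz_q_ge hm hF
    omega
  have h' := congrArg (Nat.cast : ℕ → ℤ) h
  push_cast [Nat.cast_sub hq, Nat.cast_sub (show 1 ≤
    Nat.card (Subgroup.centralizer ({g} : Set (Cfsg.Sz F m))) by omega)] at h'
  linear_combination h'

/-- two fixed-point-free elements whose centralisers have a common prime divisor have conjugate
centralisers -/
theorem szTor_conj_of_prime (hm : 1 ≤ m) (hF : Fintype.card F = 2 ^ (2 * m + 1))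
    {g₁ g₂ : Cfsg.Sz F m} (h₁ : g₁ ∈ szE F m) (h₂ : g₂ ∈ szE F m) {p : ℕ} (hp : p.Prime)
    (hp1 : p ∣ Nat.card (Subgroup.centralizer ({g₁} : Set (Cfsg.Sz F m))))
    (hp2 : p ∣ Nat.card (Subgroup.centralizer ({g₂} : Set (Cfsg.Sz F m)))) :
    g₂ ∈ tiCl (szE F m) g₁ := by
  have hti := szE_tiData hm hF
  have : Fact p.Prime := ⟨hp⟩
  have hpodd : p ≠ 2 := by
    rintro rfl
    have h := hp1.trans (szTor_card_dvd hm hF h₁)
    exact (Nat.not_even_iff_odd.2 (sz_q_sq_add_one_odd hF)) (even_iff_two_dvd.2 h)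
  obtain ⟨c₁, hc₁⟩ := exists_prime_orderOf_dvd_card'
    (G := Subgroup.centralizer ({g₁} : Set (Cfsg.Sz F m))) p hp1
  obtain ⟨c₂, hc₂⟩ := exists_prime_orderOf_dvd_card'
    (G := Subgroup.centralizer ({g₂} : Set (Cfsg.Sz F m))) p hp2
  have ho₁ : orderOf (c₁ : Cfsg.Sz F m) = p := by rw [Subgroup.orderOf_coe, hc₁]
  have ho₂ : orderOf (c₂ : Cfsg.Sz F m) = p := by rw [Subgroup.orderOf_coe, hc₂]
  have hc₁1 : (c₁ : Cfsg.Sz F m) ≠ 1 := by
    intro h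
    rw [h, orderOf_one] at ho₁
    exact hp.one_lt.ne ho₁
  have hc₂1 : (c₂ : Cfsg.Sz F m) ≠ 1 := by
    intro h
    rw [h, orderOf_one] at ho₂
    exact hp.one_lt.ne ho₂
  have hP₁ : IsPGroup p (Subgroup.zpowers (c₁ : Cfsg.Sz F m)) :=
    IsPGroup.of_card (n := 1) (by rw [Nat.card_zpowers, ho₁, pow_one])
  have hP₂ : IsPGroup p (Subgroup.zpowers (c₂ : Cfsg.Sz F m)) :=
    IsPGroup.of_card (n := 1) (by rw [Nat.card_zpowers, ho₂, pow_one])
  obtain ⟨Q₁, hQ₁⟩ := hP₁.exists_le_sylow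
  obtain ⟨Q₂, hQ₂⟩ := hP₂.exists_le_sylow
  obtain ⟨x, hx⟩ := MulAction.exists_smul_eq (Cfsg.Sz F m) Q₁ Q₂
  have hmem : x * (c₁ : Cfsg.Sz F m) * x⁻¹ ∈ (Q₂ : Subgroup (Cfsg.Sz F m)) := by
    rw [← hx, Sylow.smul_def, Sylow.pointwise_smul_def]
    have := Subgroup.smul_mem_pointwise_smul (c₁ : Cfsg.Sz F m) (MulAut.conj x)
      (Q₁ : Subgroup (Cfsg.Sz F m)) (hQ₁ (Subgroup.mem_zpowers _))
    rwa [MulAut.smul_def, MulAut.conj_apply] at this
  have hcyc := sz_sylow_odd_cyclic hm hF hpodd Q₂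
  have hcomm : x * (c₁ : Cfsg.Sz F m) * x⁻¹ * (c₂ : Cfsg.Sz F m) =
      (c₂ : Cfsg.Sz F m) * (x * (c₁ : Cfsg.Sz F m) * x⁻¹) := by
    have hmc : IsMulCommutative Q₂ := IsCyclic.isMulCommutative
    have := mul_comm' (M := Q₂) ⟨_, hmem⟩
      ⟨(c₂ : Cfsg.Sz F m), hQ₂ (Subgroup.mem_zpowers _)⟩
    exact congrArg Subtype.val this
  have e2 := ti_cent_eq hti h₂ c₂.2 hc₂1
  have hmem2 : x * (c₁ : Cfsg.Sz F m) * x⁻¹ ∈ Subgroup.centralizer ({g₂} : Set (Cfsg.Sz F m)) := by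
    rw [← e2, Subgroup.mem_centralizer_singleton_iff]
    exact hcomm
  have e3 := ti_cent_eq hti h₂ hmem2 (fun h => hc₁1 (conj_eq_one_iff.1 h))
  rw [ti_cent_conj, ti_cent_eq hti h₁ c₁.2 hc₁1] at e3
  exact ⟨h₂, x, e3.symm⟩

/-- the maximal tori of the Suzuki group consisting of fixed-point-free elements: there are two
classes, of orders `q + 2r + 1` and `q - 2r + 1` (`2r = 2^(m+1)`), each of index 4 in its
normaliser, and every fixed-point-free element has its centraliser in one of the two classes -/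
theorem sz_tori_main (hm : 1 ≤ m) (hF : Fintype.card F = 2 ^ (2 * m + 1)) :
    ∃ g₁ g₂ : Cfsg.Sz F m, g₁ ∈ szE F m ∧ g₂ ∈ szE F m ∧
      Nat.card (Subgroup.centralizer ({g₁} : Set (Cfsg.Sz F m))) =
        2 ^ (2 * m + 1) + 2 ^ (m + 1) + 1 ∧
      Nat.card (Subgroup.centralizer ({g₂} : Set (Cfsg.Sz F m))) =
        2 ^ (2 * m + 1) - 2 ^ (m + 1) + 1 ∧
      Nat.card (Subgroup.normalizer
        ((Subgroup.centralizer ({g₁} : Set (Cfsg.Sz F m)) : Subgroup (Cfsg.Sz F m)) :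
          Set (Cfsg.Sz F m))) = 4 * Nat.card (Subgroup.centralizer ({g₁} : Set (Cfsg.Sz F m))) ∧
      Nat.card (Subgroup.normalizer
        ((Subgroup.centralizer ({g₂} : Set (Cfsg.Sz F m)) : Subgroup (Cfsg.Sz F m)) :
          Set (Cfsg.Sz F m))) = 4 * Nat.card (Subgroup.centralizer ({g₂} : Set (Cfsg.Sz F m))) ∧
      ∀ g ∈ szE F m, g ∈ tiCl (szE F m) g₁ ∨ g ∈ tiCl (szE F m) g₂ := by
  have hE := sz_card_E hm hF
  have hti := szE_tiData hm hF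
  have hq8n := sz_q_ge hm hF
  have hq8 : (8 : ℤ) ≤ (Fintype.card F : ℤ) := by exact_mod_cast hq8n
  have hEpos : 0 < (szE F m).ncard := by
    by_contra h
    have h0 : (szE F m).ncard = 0 := by omega
    rw [h0] at hE
    have h1 : (0 : ℤ) < (Fintype.card F : ℤ) - 1 := by linarith
    have h2 : (0 : ℤ) < (Fintype.card F : ℤ) ^ 2 * ((Fintype.card F : ℤ) - 1) *
        ((Fintype.card F : ℤ) * ((Fintype.card F : ℤ) - 1)) := by positivity
    push_cast at hE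
    linarith
  obtain ⟨g₁, hg₁⟩ := (Set.ncard_pos (Set.toFinite _)).1 hEpos
  obtain ⟨n₁, a₁, hn₁, ha₁, hd₁, hc₁, hN₁, hcl₁⟩ := szCl_eq hm hF hg₁
  have hn₁' : (n₁ : ℤ) = 1 ∨ (n₁ : ℤ) = 2 ∨ (n₁ : ℤ) = 4 := by
    rcases hn₁ with h | h | h <;> simp [h]
  have ha₁' : (5 : ℤ) ≤ (a₁ : ℤ) := by exact_mod_cast ha₁
  have hne : ∃ g₂ ∈ szE F m, g₂ ∉ tiCl (szE F m) g₁ := by
    by_contra hcon
    push Not at hcon
    have heq : tiCl (szE F m) g₁ = szE F m := Set.Subset.antisymm (tiCl_subset _ _) hcon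
    rw [heq] at hcl₁
    exact szn_single hq8 hE hcl₁ hn₁' ha₁'
  obtain ⟨g₂, hg₂, hg₂n⟩ := hne
  obtain ⟨n₂, a₂, hn₂, ha₂, hd₂, hc₂, hN₂, hcl₂⟩ := szCl_eq hm hF hg₂
  have hn₂' : (n₂ : ℤ) = 1 ∨ (n₂ : ℤ) = 2 ∨ (n₂ : ℤ) = 4 := by
    rcases hn₂ with h | h | h <;> simp [h]
  have ha₂' : (5 : ℤ) ≤ (a₂ : ℤ) := by exact_mod_cast ha₂
  have hdisj := ti_cl_disjoint hg₂n hg₂
  have hcover : ∀ g ∈ szE F m, g ∈ tiCl (szE F m) g₁ ∨ g ∈ tiCl (szE F m) g₂ := by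
    intro g₃ hg₃
    by_contra hcon
    push Not at hcon
    obtain ⟨n₃, a₃, hn₃, ha₃, hd₃, hc₃, hN₃, hcl₃⟩ := szCl_eq hm hF hg₃
    have hn₃' : (n₃ : ℤ) = 1 ∨ (n₃ : ℤ) = 2 ∨ (n₃ : ℤ) = 4 := by
      rcases hn₃ with h | h | h <;> simp [h]
    have ha₃' : (5 : ℤ) ≤ (a₃ : ℤ) := by exact_mod_cast ha₃
    have d13 := ti_cl_disjoint hcon.1 hg₃
    have d23 := ti_cl_disjoint hcon.2 hg₃
    have hsub : tiCl (szE F m) g₁ ∪ tiCl (szE F m) g₂ ∪ tiCl (szE F m) g₃ ⊆ szE F m :=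
      Set.union_subset (Set.union_subset (tiCl_subset _ _) (tiCl_subset _ _)) (tiCl_subset _ _)
    have hcard := Set.ncard_le_ncard hsub (Set.toFinite _)
    rw [Set.ncard_union_eq (Set.disjoint_union_left.2 ⟨d13, d23⟩) (Set.toFinite _)
      (Set.toFinite _), Set.ncard_union_eq hdisj (Set.toFinite _) (Set.toFinite _)] at hcard
    exact szn_three hq8 hE (szn_lower hq8 hcl₁ hn₁' ha₁').1 (szn_lower hq8 hcl₂ hn₂' ha₂').1
      (szn_lower hq8 hcl₃ hn₃' ha₃').1 (by exact_mod_cast hcard)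
  have hunion : tiCl (szE F m) g₁ ∪ tiCl (szE F m) g₂ = szE F m :=
    Set.Subset.antisymm (Set.union_subset (tiCl_subset _ _) (tiCl_subset _ _))
      (fun g hg => hcover g hg)
  have hsum : ((tiCl (szE F m) g₁).ncard : ℤ) + ((tiCl (szE F m) g₂).ncard : ℤ) =
      ((szE F m).ncard : ℤ) := by
    have h := Set.ncard_union_eq hdisj (Set.toFinite _) (Set.toFinite _)
    rw [hunion] at h
    rw [h]
    push_cast
    ring
  obtain ⟨e1, e2, heq⟩ := szn_two hq8 hE hcl₁ hcl₂ hn₁' hn₂' ha₁' ha₂' hsum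
  have e1' : n₁ = 4 := by exact_mod_cast e1
  have e2' : n₂ = 4 := by exact_mod_cast e2
  have hcop : Nat.Coprime a₁ a₂ := by
    apply Nat.coprime_of_dvd
    intro p hp h1 h2
    exact hg₂n (szTor_conj_of_prime hm hF hg₁ hg₂ hp (hc₁ ▸ h1) (hc₂ ▸ h2))
  have heqn : (Fintype.card F ^ 2 + 1) * (a₁ + a₂) = 2 * (Fintype.card F + 1) * (a₁ * a₂) := by
    exact_mod_cast heq
  rw [hF] at heqn hd₁ hd₂
  rcases szn_final hcop hd₁ hd₂ ha₁ ha₂ heqn with ⟨h1, h2⟩ | ⟨h1, h2⟩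
  · refine ⟨g₁, g₂, hg₁, hg₂, hc₁.trans h1, hc₂.trans h2, ?_, ?_, hcover⟩
    · rw [hN₁, hc₁, e1']
    · rw [hN₂, hc₂, e2']
  · refine ⟨g₂, g₁, hg₂, hg₁, hc₂.trans h2, hc₁.trans h1, ?_, ?_, fun g hg => (hcover g hg).symm⟩
    · rw [hN₂, hc₂, e2']
    · rw [hN₁, hc₁, e1']

end SzTori3

end Cfsg.Agent.Helper6
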