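import Mathlib
import Cfsg.Prelude.Def_LieExceptional
import Cfsg.Agent.Helper6.SzTori3
import Cfsg.Agent.Helper6.Suzuki9
import Cfsg.Agent.Helper60.SzOvoid

set_option autoImplicit false

universe v

namespace Cfsg.Agent.Helper6

open Matrix
open scoped Pointwise

section Generic

/-- unique existence of a subgroup with a conjugation-invariant property through an element
transfers along conjugation of the element -/
theorem h6_existsUnique_conj {G : Type*} [Group G] (P : Subgroup G → Prop)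
    (hP : ∀ (x : G) (U : Subgroup G), P U → P (U.map (MulAut.conj x).toMonoidHom)) (g x : G)
    (h : ∃! U : Subgroup G, P U ∧ x * g * x⁻¹ ∈ U) : ∃! U : Subgroup G, P U ∧ g ∈ U := by
  obtain ⟨U, ⟨hU, hgU⟩, huniq⟩ := h
  refine ⟨U.map (MulAut.conj x⁻¹).toMonoidHom, ⟨hP _ _ hU, ?_⟩, ?_⟩
  · rw [Subgroup.mem_map]
    exact ⟨x * g * x⁻¹, hgU, by simp [mul_assoc]⟩
  · rintro V ⟨hV, hgV⟩
    have hmem : x * g * x⁻¹ ∈ V.map (MulAut.conj x).toMonoidHom :=
      Subgroup.mem_map.2 ⟨g, hgV, by simp [MulAut.conj_apply]⟩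
    have h1 := huniq (V.map (MulAut.conj x).toMonoidHom) ⟨hP _ _ hV, hmem⟩
    rw [← h1, Subgroup.map_map, h6_conj_comp]
    ext y
    simp [Subgroup.mem_map]

/-- an element of a Sylow `2`-subgroup of odd exponent is trivial -/
theorem h6_eq_one_of_sylow_two_of_odd {G : Type*} [Group G] (P : Sylow 2 G) {g : G}
    (hg : g ∈ (P : Subgroup G)) {n : ℕ} (hn : Odd n) (h : g ^ n = 1) : g = 1 := by
  obtain ⟨k, hk⟩ := P.isPGroup' ⟨g, hg⟩
  have hk' : g ^ 2 ^ k = 1 := by
    have := congrArg Subtype.val hk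
    simpa using this
  have hcop : Nat.Coprime (2 ^ k) n := Nat.Coprime.pow_left k (Nat.coprime_two_left.2 hn)
  have := pow_gcd_eq_one.2 ⟨hk', h⟩
  rw [Nat.Coprime.gcd_eq_one hcop, pow_one] at this
  exact this

/-- a cyclic subgroup through `g` lies in the centraliser of `g` -/
theorem h6_cyclic_le_centralizer {G : Type*} [Group G] {V : Subgroup G} (hV : IsCyclic V) {g : G}
    (hg : g ∈ V) : V ≤ Subgroup.centralizer ({g} : Set G) := by
  intro u hu
  rw [Subgroup.mem_centralizer_singleton_iff]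
  have hcomm := hV.isMulCommutative
  have := mul_comm' (⟨u, hu⟩ : V) ⟨g, hg⟩
  exact congrArg Subtype.val this

/-- an element of a finite subgroup has order dividing the order of the subgroup -/
theorem h6_pow_card_subgroup {G : Type*} [Group G] {V : Subgroup G} {g : G} (hg : g ∈ V) :
    g ^ Nat.card V = 1 := by
  have h1 : (⟨g, hg⟩ : V) ^ Nat.card V = 1 := pow_card_eq_one'
  have h2 := congrArg Subtype.val h1
  rw [Subgroup.coe_pow, Subgroup.coe_one] at h2
  exact h2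

end Generic

section Num

theorem szp_num {m : ℕ} (hm : 1 ≤ m) :
    2 * 2 ^ (m + 1) ≤ 2 ^ (2 * m + 1) ∧ 4 ≤ 2 ^ (m + 1) ∧
      2 ^ (m + 1) * 2 ^ (m + 1) = 2 * 2 ^ (2 * m + 1) ∧ Even (2 ^ (m + 1)) ∧
      Even (2 ^ (2 * m + 1)) := by
  refine ⟨?_, ?_, ?_, ?_, ?_⟩
  · calc 2 * 2 ^ (m + 1) = 2 ^ (m + 2) := by ring
      _ ≤ 2 ^ (2 * m + 1) := Nat.pow_le_pow_right (by norm_num) (by omega)
  · calc 4 = 2 ^ 2 := by norm_num
      _ ≤ 2 ^ (m + 1) := Nat.pow_le_pow_right (by norm_num) (by omega)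
  · ring
  · exact (Nat.even_pow' (by omega)).2 even_two
  · exact (Nat.even_pow' (by omega)).2 even_two

/-- `(q + s + 1) (q - s + 1) = q² + 1` -/
theorem szp_prod {q s : ℕ} (h1 : 2 * s ≤ q) (h3 : s * s = 2 * q) :
    (q + s + 1) * (q - s + 1) = q ^ 2 + 1 := by
  obtain ⟨j, rfl⟩ : ∃ j, q = s + j := ⟨q - s, by omega⟩
  have e : s + j - s + 1 = j + 1 := by omega
  rw [e]
  nlinarith [h3]

theorem szp_N1 {q : ℕ} (hq : 8 ≤ q) (h : q - 1 ∣ q ^ 2 + 1) : False := by
  obtain ⟨k, rfl⟩ : ∃ k, q = k + 1 := ⟨q - 1, by omega⟩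
  have e : k + 1 - 1 = k := by omega
  rw [e] at h
  have e2 : (k + 1) ^ 2 + 1 = k * (k + 2) + 2 := by ring
  rw [e2] at h
  have h2 : k ∣ 2 := (Nat.dvd_add_right (dvd_mul_right k (k + 2))).1 h
  have := Nat.le_of_dvd (by norm_num) h2
  omega

theorem szp_N5 {q s : ℕ} (h1 : 2 * s ≤ q) (h2 : 4 ≤ s) (h3 : s * s = 2 * q)
    (h : q - s + 1 ∣ q - 1) : False := by
  have hB : q - s + 1 ∣ q ^ 2 + 1 := Dvd.intro_left _ (szp_prod h1 h3)
  obtain ⟨k, rfl⟩ : ∃ k, q = k + 1 := ⟨q - 1, by omega⟩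
  have e : k + 1 - 1 = k := by omega
  rw [e] at h
  have e2 : (k + 1) ^ 2 + 1 = k * (k + 2) + 2 := by ring
  rw [e2] at hB
  have h4 : k + 1 - s + 1 ∣ 2 := (Nat.dvd_add_right (Dvd.dvd.mul_right h (k + 2))).1 hB
  have := Nat.le_of_dvd (by norm_num) h4
  omega

theorem szp_N3 {q s : ℕ} (h1 : 2 * s ≤ q) (h2 : 4 ≤ s) (h3 : s * s = 2 * q)
    (h : q - s + 1 ∣ q + s + 1) : False := by
  have hB : q - s + 1 ∣ q ^ 2 + 1 := Dvd.intro_left _ (szp_prod h1 h3)
  have e : q + s + 1 = (q - s + 1) + 2 * s := by omega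
  rw [e] at h
  have h4 : q - s + 1 ∣ 2 * s := (Nat.dvd_add_right (dvd_refl _)).1 h
  have h5 : q - s + 1 ∣ 2 * s * (s * q) := Dvd.dvd.mul_right h4 _
  have e2 : 2 * s * (s * q) = 4 * q ^ 2 := by
    calc 2 * s * (s * q) = 2 * (s * s) * q := by ring
      _ = 4 * q ^ 2 := by rw [h3]; ring
  rw [e2] at h5
  have h6 : q - s + 1 ∣ 4 * q ^ 2 + 4 := by
    have : 4 * q ^ 2 + 4 = 4 * (q ^ 2 + 1) := by ring
    rw [this]
    exact Dvd.dvd.mul_left hB 4
  have h7 : q - s + 1 ∣ 4 := (Nat.dvd_add_right h5).1 h6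
  have := Nat.le_of_dvd (by norm_num) h7
  omega

/-- the three cyclic orders are odd -/
theorem szp_odd {m : ℕ} (hm : 1 ≤ m) {n : ℕ}
    (hmem : n ∈ ({2 ^ (2 * m + 1) - 1, 2 ^ (2 * m + 1) + 2 ^ (m + 1) + 1,
      2 ^ (2 * m + 1) - 2 ^ (m + 1) + 1} : Set ℕ)) : Odd n := by
  obtain ⟨h1, h2, h3, h4, h5⟩ := szp_num hm
  simp only [Set.mem_insert_iff, Set.mem_singleton_iff] at hmem
  generalize 2 ^ (2 * m + 1) = q at *
  generalize 2 ^ (m + 1) = s at *
  obtain ⟨q', rfl⟩ := h5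
  obtain ⟨s', rfl⟩ := h4
  rw [Nat.odd_iff]
  rcases hmem with h | h | h <;> omega

/-- one of the three cyclic orders dividing `q - 1` is `q - 1` -/
theorem szp_D_num {m : ℕ} (hm : 1 ≤ m) {n : ℕ}
    (hmem : n ∈ ({2 ^ (2 * m + 1) - 1, 2 ^ (2 * m + 1) + 2 ^ (m + 1) + 1,
      2 ^ (2 * m + 1) - 2 ^ (m + 1) + 1} : Set ℕ)) (hdvd : n ∣ 2 ^ (2 * m + 1) - 1) :
    n = 2 ^ (2 * m + 1) - 1 := by
  obtain ⟨h1, h2, h3, h4, h5⟩ := szp_num hm
  simp only [Set.mem_insert_iff, Set.mem_singleton_iff] at hmem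
  generalize 2 ^ (2 * m + 1) = q at *
  generalize 2 ^ (m + 1) = s at *
  rcases hmem with h | h | h
  · exact h
  · exfalso
    rw [h] at hdvd
    have := Nat.le_of_dvd (by omega) hdvd
    omega
  · exfalso
    rw [h] at hdvd
    exact szp_N5 h1 h2 h3 hdvd

/-- one of the three cyclic orders dividing `q ± 2r + 1` is equal to it -/
theorem szp_free_num {m : ℕ} (hm : 1 ≤ m) {n c : ℕ}
    (hmem : n ∈ ({2 ^ (2 * m + 1) - 1, 2 ^ (2 * m + 1) + 2 ^ (m + 1) + 1,
      2 ^ (2 * m + 1) - 2 ^ (m + 1) + 1} : Set ℕ))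
    (hc : c = 2 ^ (2 * m + 1) + 2 ^ (m + 1) + 1 ∨ c = 2 ^ (2 * m + 1) - 2 ^ (m + 1) + 1)
    (hdvd : n ∣ c) : n = c := by
  obtain ⟨h1, h2, h3, h4, h5⟩ := szp_num hm
  simp only [Set.mem_insert_iff, Set.mem_singleton_iff] at hmem
  generalize 2 ^ (2 * m + 1) = q at *
  generalize 2 ^ (m + 1) = s at *
  have hprod := szp_prod h1 h3
  have hcq : c ∣ q ^ 2 + 1 := by
    rcases hc with rfl | rfl
    · exact Dvd.intro _ hprod
    · exact Dvd.intro_left _ hprod
  rcases hmem with h | h | h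
  · exfalso
    rw [h] at hdvd
    exact szp_N1 (by omega) (hdvd.trans hcq)
  · rcases hc with h' | h'
    · rw [h, h']
    · exfalso
      rw [h, h'] at hdvd
      have := Nat.le_of_dvd (by omega) hdvd
      omega
  · rcases hc with h' | h'
    · exfalso
      rw [h, h'] at hdvd
      exact szp_N3 h1 h2 h3 hdvd
    · rw [h, h']

end Num

section SzPart
variable {F : Type v} [Field F] [Fintype F] {m : ℕ} [CharP F 2]

/-- the subgroups making up the partition of the Suzuki group -/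
def szPartP (F : Type v) [Field F] (m : ℕ) (U : Subgroup (Cfsg.Sz F m)) : Prop :=
  (∃ P : Sylow 2 (Cfsg.Sz F m), U = (P : Subgroup (Cfsg.Sz F m))) ∨
    (IsCyclic U ∧ Nat.card U ∈ ({2 ^ (2 * m + 1) - 1, 2 ^ (2 * m + 1) + 2 ^ (m + 1) + 1,
      2 ^ (2 * m + 1) - 2 ^ (m + 1) + 1} : Set ℕ))

omit [Fintype F] [CharP F 2] in
theorem szPartP_conj (x : Cfsg.Sz F m) (U : Subgroup (Cfsg.Sz F m)) (h : szPartP F m U) :
    szPartP F m (U.map (MulAut.conj x).toMonoidHom) := by
  rcases h with ⟨P, rfl⟩ | ⟨hc, hcard⟩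
  · left
    exact ⟨x • P, rfl⟩
  · right
    have hinj : Function.Injective (MulAut.conj x).toMonoidHom := (MulAut.conj x).injective
    let e := U.equivMapOfInjective (MulAut.conj x).toMonoidHom hinj
    refine ⟨isCyclic_of_surjective e e.surjective, ?_⟩
    rw [← Nat.card_congr e.toEquiv]
    exact hcard

/-- the part through a fixed-point-free element -/
theorem szPart_free (hm : 1 ≤ m) (hF : Fintype.card F = 2 ^ (2 * m + 1)) {g : Cfsg.Sz F m}
    (hg : g ∈ szE F m) : ∃! U : Subgroup (Cfsg.Sz F m), szPartP F m U ∧ g ∈ U := by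
  have hti := szE_tiData hm hF
  obtain ⟨g₁, g₂, hg₁, hg₂, hc₁, hc₂, -, -, hall⟩ := sz_tori_main hm hF
  have hcard : Nat.card (Subgroup.centralizer ({g} : Set (Cfsg.Sz F m))) =
        2 ^ (2 * m + 1) + 2 ^ (m + 1) + 1 ∨
      Nat.card (Subgroup.centralizer ({g} : Set (Cfsg.Sz F m))) =
        2 ^ (2 * m + 1) - 2 ^ (m + 1) + 1 := by
    rcases hall g hg with h | h
    · left; rw [(ti_card_eq_of_mem h).1, hc₁]
    · right; rw [(ti_card_eq_of_mem h).1, hc₂]
  have hg1 : g ≠ 1 := fun h => hti.one_notMem (h ▸ hg)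
  have hdvd := szTor_card_dvd hm hF hg
  have hodd := sz_q_sq_add_one_odd (F := F) hF
  have hself : g ∈ Subgroup.centralizer ({g} : Set (Cfsg.Sz F m)) :=
    Subgroup.mem_centralizer_singleton_iff.2 rfl
  obtain ⟨n1, n2, n3, n4, n5⟩ := szp_num hm
  refine ⟨Subgroup.centralizer {g}, ⟨Or.inr ⟨szTor_cyclic hm hF hg, ?_⟩, hself⟩, ?_⟩
  · rcases hcard with h | h <;> rw [h] <;> simp
  · rintro V ⟨hV, hgV⟩
    rcases hV with ⟨P, rfl⟩ | ⟨hcyc, hVcard⟩
    · exfalso
      apply hg1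
      refine h6_eq_one_of_sylow_two_of_odd P hgV ?_ (h6_pow_card_subgroup hself)
      obtain ⟨k, hk⟩ := hdvd
      rw [hk] at hodd
      exact (Nat.odd_mul.1 hodd).1
    · have hle : V ≤ Subgroup.centralizer {g} := h6_cyclic_le_centralizer hcyc hgV
      have hVdvd : Nat.card V ∣ Nat.card (Subgroup.centralizer ({g} : Set (Cfsg.Sz F m))) :=
        Subgroup.card_dvd_of_le hle
      apply Subgroup.eq_of_le_of_card_ge hle
      exact le_of_eq (szp_free_num hm hVcard hcard hVdvd).symm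

/-- the part through a translation -/
theorem szPart_T (hm : 1 ≤ m) (hF : Fintype.card F = 2 ^ (2 * m + 1)) {a b : F}
    (hab : ¬ (a = 0 ∧ b = 0)) :
    ∃! U : Subgroup (Cfsg.Sz F m), szPartP F m U ∧ Helper60.tG hF a b ∈ U := by
  have hg1 : Helper60.tG hF a b ≠ 1 := by
    intro h
    rw [← Helper60.tG_zero hF] at h
    exact hab (Helper60.tG_inj hF h)
  refine ⟨Helper60.Uo hF, ⟨Or.inl ⟨Helper60.UoSylow hF hm, (Helper60.coe_UoSylow hF hm).symm⟩,
    Helper60.tG_mem_Uo hF a b⟩, ?_⟩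
  rintro V ⟨hV, hgV⟩
  rcases hV with ⟨P, rfl⟩ | ⟨hcyc, hVcard⟩
  · obtain ⟨c, hc⟩ := MulAction.exists_smul_eq (Cfsg.Sz F m) (Helper60.UoSylow hF hm) P
    subst hc
    rw [Sylow.coe_subgroup_smul, Subgroup.mem_pointwise_smul_iff_inv_smul_mem,
      Helper60.coe_UoSylow] at hgV
    obtain ⟨a', b', h'⟩ := hgV
    have h'' : c⁻¹ * Helper60.tG hF a b * c = Helper60.tG hF a' b' := by
      rw [← h']
      simp [MulAut.smul_def]
    have hcB : c ∈ Helper60.Bo F m := by
      rw [Helper60.mem_Bo]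
      apply Helper60.ov_fix_T hF hab (sz_mem_smul_mem c.2 inf_mem_ovoid)
      have e1 : Helper60.tG hF a b * c = c * Helper60.tG hF a' b' := by
        rw [← h'']; group
      have e2 := congrArg Subtype.val e1
      have e3 : szT m a b * (c : SpecialLinearGroup (Fin 4) F) =
          (c : SpecialLinearGroup (Fin 4) F) * szT m a' b' := e2
      rw [← mul_smul, e3, mul_smul, szT_smul_inf]
    rw [← Helper60.normalizer_Uo hF hm, ← Helper60.coe_UoSylow hF hm] at hcB
    rw [Sylow.smul_eq_iff_mem_normalizer.2 hcB, Helper60.coe_UoSylow]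
  · exfalso
    apply hg1
    have hmem : Helper60.tG hF a b ∈ ((Helper60.UoSylow hF hm : Sylow 2 (Cfsg.Sz F m)) :
        Subgroup (Cfsg.Sz F m)) := by
      rw [Helper60.coe_UoSylow]
      exact Helper60.tG_mem_Uo hF a b
    exact h6_eq_one_of_sylow_two_of_odd _ hmem (szp_odd hm hVcard) (h6_pow_card_subgroup hgV)

/-- elements of the Suzuki group commuting with a nontrivial diagonal element are diagonal -/
theorem sz_cent_D (hm : 1 ≤ m) (hF : Fintype.card F = 2 ^ (2 * m + 1)) {t : Fˣ} (ht : t ≠ 1)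
    {c : SpecialLinearGroup (Fin 4) F} (hc : c ∈ Cfsg.Sz F m)
    (e : c * szD m t = szD m t * c) : ∃ s, c = szD m s := by
  have h2 : (2 : F) = 0 := sz_two
  have fixset : ∀ p ∈ Cfsg.suzukiOvoid F m, szD m t • p = p →
      p = Cfsg.suzukiPointInfinity F ∨ p = szP m 0 0 := by
    intro p hp hfix
    rcases (mem_ovoid_iff p).1 hp with h | ⟨x, y, h⟩
    · left; exact h
    · right
      subst h
      by_contra hne
      apply ht
      refine szD_fix_imp hF (x := x) (y := y) ?_ hfix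
      rintro ⟨rfl, rfl⟩
      exact hne rfl
  have hc1 : szD m t • (c • Cfsg.suzukiPointInfinity F) = c • Cfsg.suzukiPointInfinity F := by
    rw [← mul_smul, ← e, mul_smul, szD_smul_inf]
  have hc2 : szD m t • (c • szP m (0 : F) 0) = c • szP m (0 : F) 0 := by
    rw [← mul_smul, ← e, mul_smul, szD_smul_zero hF]
  rcases fixset _ (sz_mem_smul_mem hc inf_mem_ovoid) hc1 with h1 | h1
  · rcases fixset _ (sz_mem_smul_mem hc (szP_mem_ovoid 0 0)) hc2 with h2' | h2'
    · exfalso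
      exact szP_ne_inf _ _ (smul_left_cancel c (h2'.trans h1.symm))
    · exact sz_fix_two hm hF hc h1 h2'
  · rcases fixset _ (sz_mem_smul_mem hc (szP_mem_ovoid 0 0)) hc2 with h2' | h2'
    · exfalso
      obtain ⟨s, hs⟩ := sz_fix_two hm hF (mul_mem (szW_mem hF) hc)
        (by rw [mul_smul, h1, szW_smul_szP_zero])
        (by rw [mul_smul, h2', szW_smul_inf])
      have hc' : c = szW F * szD m s := by rw [← hs, ← mul_assoc, szW_mul_self, one_mul]
      rw [hc'] at e
      have e2 : szD m s * szD m t = szD m t⁻¹ * szD m s := by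
        rw [← szW_mul_szD_mul_szW]
        have := congrArg (fun x => szW F * x) e
        simp only [← mul_assoc, szW_mul_self, one_mul] at this
        exact this
      rw [← szD_mul, ← szD_mul] at e2
      have e3 := szD_injective e2
      have e4 : t * t = 1 := by
        have : t * s = t⁻¹ * s := by rw [mul_comm t s]; exact e3
        have := mul_right_cancel this
        calc t * t = t⁻¹ * t := by rw [← this]
          _ = 1 := inv_mul_cancel t
      apply ht
      apply Units.ext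
      have e5 : (t : F) * t = 1 := by
        have := congrArg Units.val e4
        rwa [Units.val_mul, Units.val_one] at this
      have e6 : ((t : F) - 1) ^ 2 = 0 := by linear_combination e5 + (1 - (t : F)) * h2
      exact sub_eq_zero.1 ((pow_eq_zero_iff two_ne_zero).1 e6)
    · exfalso
      exact szP_ne_inf _ _ (smul_left_cancel c (h1.trans h2'.symm)).symm

/-- the diagonal elements as a homomorphism into the Suzuki group -/
noncomputable def szDG (hF : Fintype.card F = 2 ^ (2 * m + 1)) : Fˣ →* Cfsg.Sz F m where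
  toFun t := Helper60.dG hF t
  map_one' := Subtype.ext szD_one
  map_mul' s t := Subtype.ext (szD_mul s t)

theorem szDG_injective (hF : Fintype.card F = 2 ^ (2 * m + 1)) :
    Function.Injective (szDG (m := m) hF) := by
  intro s t h
  exact szD_injective (congrArg Subtype.val h)

theorem szDG_range_card (hF : Fintype.card F = 2 ^ (2 * m + 1)) :
    Nat.card (szDG (m := m) hF).range = 2 ^ (2 * m + 1) - 1 := by
  rw [← Nat.card_congr (MonoidHom.ofInjective (szDG_injective hF)).toEquiv, Nat.card_units,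
    Nat.card_eq_fintype_card, hF]

/-- the part through a diagonal element -/
theorem szPart_D (hm : 1 ≤ m) (hF : Fintype.card F = 2 ^ (2 * m + 1)) {t : Fˣ} (ht : t ≠ 1) :
    ∃! U : Subgroup (Cfsg.Sz F m), szPartP F m U ∧ Helper60.dG hF t ∈ U := by
  have hg1 : Helper60.dG hF t ≠ 1 := by
    intro h
    apply ht
    apply szD_injective (m := m)
    rw [szD_one]
    exact congrArg Subtype.val h
  have hmemU : Helper60.dG hF t ∈ (szDG (m := m) hF).range := ⟨t, rfl⟩
  obtain ⟨n1, n2, n3, n4, n5⟩ := szp_num hm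
  have hq8 : 8 ≤ 2 ^ (2 * m + 1) := by
    have := sz_q_ge hm hF
    rwa [hF] at this
  have hUodd : Odd (Nat.card (szDG (m := m) hF).range) := by
    rw [szDG_range_card]
    obtain ⟨q', hq'⟩ := n5
    rw [hq', Nat.odd_iff]
    omega
  refine ⟨(szDG hF).range, ⟨Or.inr ⟨?_, ?_⟩, hmemU⟩, ?_⟩
  · exact isCyclic_of_surjective (szDG hF).rangeRestrict (szDG hF).rangeRestrict_surjective
  · rw [szDG_range_card]; simp
  · rintro V ⟨hV, hgV⟩
    rcases hV with ⟨P, rfl⟩ | ⟨hcyc, hVcard⟩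
    · exfalso
      apply hg1
      exact h6_eq_one_of_sylow_two_of_odd P hgV hUodd (h6_pow_card_subgroup hmemU)
    · have hle : V ≤ (szDG hF).range := by
        intro u hu
        have h1 := h6_cyclic_le_centralizer hcyc hgV hu
        rw [Subgroup.mem_centralizer_singleton_iff] at h1
        have h2 : (u : SpecialLinearGroup (Fin 4) F) * szD m t =
            szD m t * (u : SpecialLinearGroup (Fin 4) F) := congrArg Subtype.val h1
        obtain ⟨s, hs⟩ := sz_cent_D hm hF ht u.2 h2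
        exact ⟨s, Subtype.ext hs.symm⟩
      have hVdvd : Nat.card V ∣ Nat.card (szDG (m := m) hF).range := Subgroup.card_dvd_of_le hle
      apply Subgroup.eq_of_le_of_card_ge hle
      rw [szDG_range_card] at hVdvd ⊢
      exact le_of_eq (szp_D_num hm hVcard hVdvd).symm

/-- **the partition of the Suzuki group**: every non-identity element lies in exactly one subgroup
that is a Sylow `2`-subgroup or cyclic of order `q - 1`, `q + 2r + 1` or `q - 2r + 1` -/
theorem szPart_all (hm : 1 ≤ m) (hF : Fintype.card F = 2 ^ (2 * m + 1)) {g : Cfsg.Sz F m}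
    (hg : g ≠ 1) : ∃! U : Subgroup (Cfsg.Sz F m), szPartP F m U ∧ g ∈ U := by
  by_cases hE : g ∈ szE F m
  · exact szPart_free hm hF hE
  · have hex : ∃ p ∈ Cfsg.suzukiOvoid F m, (g : SpecialLinearGroup (Fin 4) F) • p = p := by
      by_contra h
      push Not at h
      exact hE h
    obtain ⟨p, hp, hfix⟩ := hex
    obtain ⟨h, hh, hhp⟩ := sz_exists_smul_eq_inf hF hp
    apply h6_existsUnique_conj (szPartP F m) szPartP_conj g ⟨h, hh⟩
    have hg' : h * (g : SpecialLinearGroup (Fin 4) F) * h⁻¹ ∈ Cfsg.Sz F m :=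
      mul_mem (mul_mem hh g.2) (inv_mem hh)
    have hfix' : (h * (g : SpecialLinearGroup (Fin 4) F) * h⁻¹) • Cfsg.suzukiPointInfinity F =
        Cfsg.suzukiPointInfinity F := by
      rw [mul_smul, mul_smul, ← hhp, inv_smul_smul, hfix]
    have hne : (⟨h, hh⟩ : Cfsg.Sz F m) * g * (⟨h, hh⟩ : Cfsg.Sz F m)⁻¹ ≠ 1 :=
      fun e => hg (conj_eq_one_iff.1 e)
    obtain ⟨a, b, t, e⟩ := sz_fix_inf hm hF hg' hfix'
    by_cases ht : t = 1
    · subst ht
      rw [szD_one, mul_one] at e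
      have e' : (⟨h, hh⟩ : Cfsg.Sz F m) * g * (⟨h, hh⟩ : Cfsg.Sz F m)⁻¹ = Helper60.tG hF a b :=
        Subtype.ext e
      rw [e'] at hne ⊢
      apply szPart_T hm hF
      rintro ⟨rfl, rfl⟩
      exact hne (Helper60.tG_zero hF)
    · obtain ⟨x, y, hxy⟩ := szTD_fix hF a b ht
      rw [← e] at hxy
      apply h6_existsUnique_conj (szPartP F m) szPartP_conj _ (Helper60.tG hF x y)⁻¹
      have hk0 : ((szT m x y)⁻¹ * (h * (g : SpecialLinearGroup (Fin 4) F) * h⁻¹) *
          (szT m x y)⁻¹⁻¹) • szP m (0 : F) 0 = szP m 0 0 := by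
        rw [inv_inv, mul_smul, mul_smul, szT_smul_zero hF, hxy, inv_smul_eq_iff, szT_smul_zero hF]
      have hkinf : ((szT m x y)⁻¹ * (h * (g : SpecialLinearGroup (Fin 4) F) * h⁻¹) *
          (szT m x y)⁻¹⁻¹) • Cfsg.suzukiPointInfinity F = Cfsg.suzukiPointInfinity F := by
        rw [inv_inv, mul_smul, mul_smul, szT_smul_inf, hfix', inv_smul_eq_iff, szT_smul_inf]
      obtain ⟨t', e'⟩ := sz_fix_two hm hF
        (mul_mem (mul_mem (inv_mem (szT_mem hF x y)) hg') (inv_mem (inv_mem (szT_mem hF x y))))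
        hkinf hk0
      have e'' : (Helper60.tG hF x y)⁻¹ * ((⟨h, hh⟩ : Cfsg.Sz F m) * g *
          (⟨h, hh⟩ : Cfsg.Sz F m)⁻¹) * (Helper60.tG hF x y)⁻¹⁻¹ = Helper60.dG hF t' :=
        Subtype.ext e'
      rw [e'']
      apply szPart_D hm hF
      rintro rfl
      have h1 : Helper60.dG hF (1 : Fˣ) = (1 : Cfsg.Sz F m) := Subtype.ext szD_one
      rw [h1] at e''
      exact hne (conj_eq_one_iff.1 e'')

end SzPart

end Cfsg.Agent.Helper6
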