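import Mathlib
import Cfsg.Prelude.Def_LieExceptional
import Cfsg.Agent.Helper6.SzPart

set_option autoImplicit false

universe v

namespace Cfsg.Agent.Helper6

open Matrix
open scoped Pointwise

section Generic

/-- a nontrivial solvable group has a nontrivial abelian normal subgroup -/
theorem h6_exists_abelian_normal (H : Type*) [Group H] [hs : Group.IsSolvable H] [Nontrivial H] :
    ∃ X : Subgroup H, X.Normal ∧ X ≠ ⊥ ∧ ∀ x ∈ X, ∀ y ∈ X, x * y = y * x := by
  classical
  have hex : ∃ n : ℕ, derivedSeries H n = ⊥ := hs.solvable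
  have hmin : ∀ {k : ℕ}, k < Nat.find hex → ¬ derivedSeries H k = ⊥ := fun h => Nat.find_min hex h
  have hspec := Nat.find_spec hex
  rcases Nat.eq_zero_or_pos (Nat.find hex) with h0 | hpos
  · exfalso
    rw [h0, derivedSeries_zero] at hspec
    exact top_ne_bot hspec
  · obtain ⟨k, hk⟩ : ∃ k, Nat.find hex = k + 1 := ⟨Nat.find hex - 1, by omega⟩
    refine ⟨derivedSeries H k, derivedSeries_normal H k, ?_, ?_⟩
    · exact hmin (by omega)
    · rw [hk, derivedSeries_succ, Subgroup.commutator_eq_bot_iff_le_centralizer] at hspec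
      intro x hx y hy
      have := hspec hx
      rw [Subgroup.mem_centralizer_iff] at this
      exact (this y hy).symm

end Generic

section SzSubA
variable {F : Type v} [Field F] [Fintype F] {m : ℕ} [CharP F 2]

/-- elements of the Suzuki group commuting with a nontrivial translation are translations -/
theorem sz_cent_T (hm : 1 ≤ m) (hF : Fintype.card F = 2 ^ (2 * m + 1)) {a b : F}
    (hab : ¬ (a = 0 ∧ b = 0)) {c : SpecialLinearGroup (Fin 4) F} (hc : c ∈ Cfsg.Sz F m)
    (e : c * szT m a b = szT m a b * c) : ∃ x y : F, c = szT m x y := by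
  have h2 : (2 : F) = 0 := sz_two
  have hc1 : szT m a b • (c • Cfsg.suzukiPointInfinity F) = c • Cfsg.suzukiPointInfinity F := by
    rw [← mul_smul, ← e, mul_smul, szT_smul_inf]
  have hinf : c • Cfsg.suzukiPointInfinity F = Cfsg.suzukiPointInfinity F :=
    Helper60.ov_fix_T hF hab (sz_mem_smul_mem hc inf_mem_ovoid) hc1
  obtain ⟨x, y, s, rfl⟩ := sz_fix_inf hm hF hc hinf
  rw [mul_assoc, szD_mul_szT hF, ← mul_assoc, ← mul_assoc, szT_mul hF, szT_mul hF] at e
  obtain ⟨e1, e2, -⟩ := szTD_injective hF e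
  have hs : s = 1 := by
    apply Units.ext
    by_cases ha : a = 0
    · subst ha
      have hb : b ≠ 0 := fun hb => hab ⟨rfl, hb⟩
      simp at e2
      have h3 : (szS F m s ^ 2 * (s : F) ^ 2 - 1) * b = 0 := by linear_combination e2
      rcases mul_eq_zero.1 h3 with h | h
      · have h4 : (szS F m s * s - 1) ^ 2 = 0 := by
          linear_combination h + (1 - szS F m s * s) * h2
        exact sz_sigma_mul_self hF (sub_eq_zero.1 ((pow_eq_zero_iff two_ne_zero).1 h4))
      · exact absurd h hb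
    · have h3 : ((s : F) ^ 2 - 1) * a = 0 := by linear_combination e1
      rcases mul_eq_zero.1 h3 with h | h
      · have h4 : ((s : F) - 1) ^ 2 = 0 := by linear_combination h + (1 - (s : F)) * h2
        exact sub_eq_zero.1 ((pow_eq_zero_iff two_ne_zero).1 h4)
      · exact absurd h ha
  subst hs
  exact ⟨x, y, by rw [szD_one, mul_one]⟩

/-- a non-identity element of the Suzuki group is fixed-point-free, or conjugate to a nontrivial
translation, or conjugate to a nontrivial diagonal element -/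
theorem sz_trichotomy (hm : 1 ≤ m) (hF : Fintype.card F = 2 ^ (2 * m + 1)) {g : Cfsg.Sz F m}
    (hg : g ≠ 1) :
    g ∈ szE F m ∨
      (∃ (x : Cfsg.Sz F m) (a b : F), ¬ (a = 0 ∧ b = 0) ∧ x * g * x⁻¹ = Helper60.tG hF a b) ∨
      (∃ (x : Cfsg.Sz F m) (t : Fˣ), t ≠ 1 ∧ x * g * x⁻¹ = Helper60.dG hF t) := by
  by_cases hE : g ∈ szE F m
  · exact Or.inl hE
  · right
    have hex : ∃ p ∈ Cfsg.suzukiOvoid F m, (g : SpecialLinearGroup (Fin 4) F) • p = p := by
      by_contra h
      push Not at h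
      exact hE h
    obtain ⟨p, hp, hfix⟩ := hex
    obtain ⟨h, hh, hhp⟩ := sz_exists_smul_eq_inf hF hp
    have hg' : h * (g : SpecialLinearGroup (Fin 4) F) * h⁻¹ ∈ Cfsg.Sz F m :=
      mul_mem (mul_mem hh g.2) (inv_mem hh)
    have hfix' : (h * (g : SpecialLinearGroup (Fin 4) F) * h⁻¹) • Cfsg.suzukiPointInfinity F =
        Cfsg.suzukiPointInfinity F := by
      rw [mul_smul, mul_smul, ← hhp, inv_smul_smul, hfix]
    have hne : (⟨h, hh⟩ : Cfsg.Sz F m) * g * (⟨h, hh⟩ : Cfsg.Sz F m)⁻¹ ≠ 1 :=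
      fun e => hg (conj_eq_one_iff.1 e)
    obtain ⟨a, b, t, e⟩ := sz_fix_inf hm hF hg' hfix'
    by_cases ht : t = 1
    · subst ht
      rw [szD_one, mul_one] at e
      have e' : (⟨h, hh⟩ : Cfsg.Sz F m) * g * (⟨h, hh⟩ : Cfsg.Sz F m)⁻¹ = Helper60.tG hF a b :=
        Subtype.ext e
      left
      refine ⟨⟨h, hh⟩, a, b, ?_, e'⟩
      rintro ⟨rfl, rfl⟩
      rw [e'] at hne
      exact hne (Helper60.tG_zero hF)
    · obtain ⟨x, y, hxy⟩ := szTD_fix hF a b ht
      rw [← e] at hxy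
      have hk0 : ((szT m x y)⁻¹ * (h * (g : SpecialLinearGroup (Fin 4) F) * h⁻¹) *
          (szT m x y)⁻¹⁻¹) • szP m (0 : F) 0 = szP m 0 0 := by
        rw [inv_inv, mul_smul, mul_smul, szT_smul_zero hF, hxy, inv_smul_eq_iff, szT_smul_zero hF]
      have hkinf : ((szT m x y)⁻¹ * (h * (g : SpecialLinearGroup (Fin 4) F) * h⁻¹) *
          (szT m x y)⁻¹⁻¹) • Cfsg.suzukiPointInfinity F = Cfsg.suzukiPointInfinity F := by
        rw [inv_inv, mul_smul, mul_smul, szT_smul_inf, hfix', inv_smul_eq_iff, szT_smul_inf]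
      obtain ⟨t', e'⟩ := sz_fix_two hm hF
        (mul_mem (mul_mem (inv_mem (szT_mem hF x y)) hg') (inv_mem (inv_mem (szT_mem hF x y))))
        hkinf hk0
      have e'' : (Helper60.tG hF x y)⁻¹ * ((⟨h, hh⟩ : Cfsg.Sz F m) * g *
          (⟨h, hh⟩ : Cfsg.Sz F m)⁻¹) * (Helper60.tG hF x y)⁻¹⁻¹ = Helper60.dG hF t' :=
        Subtype.ext e'
      right
      refine ⟨(Helper60.tG hF x y)⁻¹ * ⟨h, hh⟩, t', ?_, ?_⟩
      · rintro rfl
        have h1 : Helper60.dG hF (1 : Fˣ) = (1 : Cfsg.Sz F m) := Subtype.ext szD_one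
        rw [h1] at e''
        exact hne (conj_eq_one_iff.1 e'')
      · rw [← e'']
        group

/-- the conjugates of the nontrivial diagonal elements -/
def szDE (hF : Fintype.card F = 2 ^ (2 * m + 1)) : Set (Cfsg.Sz F m) :=
  {g | ∃ (x : Cfsg.Sz F m) (t : Fˣ), t ≠ 1 ∧ x * g * x⁻¹ = Helper60.dG hF t}

theorem dG_eq_one_iff (hF : Fintype.card F = 2 ^ (2 * m + 1)) {t : Fˣ} :
    Helper60.dG hF t = (1 : Cfsg.Sz F m) ↔ t = 1 := by
  constructor
  · intro h
    apply szD_injective (m := m)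
    rw [szD_one]
    exact congrArg Subtype.val h
  · rintro rfl
    exact Subtype.ext szD_one

theorem dG_mul (hF : Fintype.card F = 2 ^ (2 * m + 1)) (s t : Fˣ) :
    Helper60.dG hF (s * t) = (Helper60.dG hF s * Helper60.dG hF t : Cfsg.Sz F m) :=
  Subtype.ext (szD_mul s t)

/-- elements commuting with a nontrivial diagonal element are diagonal -/
theorem sz_cent_dG (hm : 1 ≤ m) (hF : Fintype.card F = 2 ^ (2 * m + 1)) {t : Fˣ} (ht : t ≠ 1)
    {c : Cfsg.Sz F m} (e : c * Helper60.dG hF t = Helper60.dG hF t * c) :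
    ∃ s : Fˣ, c = Helper60.dG hF s := by
  obtain ⟨s, hs⟩ := sz_cent_D hm hF ht c.2 (congrArg Subtype.val e)
  exact ⟨s, Subtype.ext hs⟩

theorem szDE_tiData (hm : 1 ≤ m) (hF : Fintype.card F = 2 ^ (2 * m + 1)) :
    TIData (szDE (m := m) hF) where
  one_notMem := by
    rintro ⟨x, t, ht, e⟩
    apply ht
    rw [← dG_eq_one_iff hF, ← e]
    group
  conj_mem := by
    rintro g ⟨x, t, ht, e⟩ y
    refine ⟨x * y⁻¹, t, ht, ?_⟩
    rw [← e]
    group
  cent_mem := by
    rintro g ⟨x, t, ht, e⟩ c hc hc1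
    have e1 : x * c * x⁻¹ * Helper60.dG hF t = Helper60.dG hF t * (x * c * x⁻¹) := by
      rw [← e]
      have h1 : x * c * x⁻¹ * (x * g * x⁻¹) = x * (c * g) * x⁻¹ := by group
      have h2 : x * g * x⁻¹ * (x * c * x⁻¹) = x * (g * c) * x⁻¹ := by group
      rw [h1, h2, hc]
    obtain ⟨s, hs⟩ := sz_cent_dG hm hF ht e1
    refine ⟨x, s, ?_, hs⟩
    rintro rfl
    rw [(dG_eq_one_iff hF).2 rfl] at hs
    exact hc1 (conj_eq_one_iff.1 hs)
  cent_comm := by
    rintro g ⟨x, t, ht, e⟩ c₁ c₂ h₁ h₂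
    have key : ∀ c : Cfsg.Sz F m, c * g = g * c → ∃ s : Fˣ, x * c * x⁻¹ = Helper60.dG hF s := by
      intro c hc
      have e1 : x * c * x⁻¹ * Helper60.dG hF t = Helper60.dG hF t * (x * c * x⁻¹) := by
        rw [← e]
        have h1 : x * c * x⁻¹ * (x * g * x⁻¹) = x * (c * g) * x⁻¹ := by group
        have h2 : x * g * x⁻¹ * (x * c * x⁻¹) = x * (g * c) * x⁻¹ := by group
        rw [h1, h2, hc]
      exact sz_cent_dG hm hF ht e1
    obtain ⟨s₁, hs₁⟩ := key c₁ h₁
    obtain ⟨s₂, hs₂⟩ := key c₂ h₂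
    have e3 : x * (c₁ * c₂) * x⁻¹ = x * (c₂ * c₁) * x⁻¹ := by
      have h1 : x * (c₁ * c₂) * x⁻¹ = x * c₁ * x⁻¹ * (x * c₂ * x⁻¹) := by group
      have h2 : x * (c₂ * c₁) * x⁻¹ = x * c₂ * x⁻¹ * (x * c₁ * x⁻¹) := by group
      rw [h1, h2, hs₁, hs₂, ← dG_mul, ← dG_mul, mul_comm]
    exact mul_left_cancel (mul_right_cancel e3)

/-- the centraliser of a nontrivial diagonal element is the group of diagonal elements -/
theorem sz_centralizer_dG (hm : 1 ≤ m) (hF : Fintype.card F = 2 ^ (2 * m + 1)) {t : Fˣ}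
    (ht : t ≠ 1) :
    Subgroup.centralizer ({Helper60.dG hF t} : Set (Cfsg.Sz F m)) = (szDG hF).range := by
  ext c
  rw [Subgroup.mem_centralizer_singleton_iff]
  constructor
  · intro h
    obtain ⟨s, hs⟩ := sz_cent_dG hm hF ht h
    exact ⟨s, hs.symm⟩
  · rintro ⟨s, rfl⟩
    show Helper60.dG hF s * Helper60.dG hF t = Helper60.dG hF t * Helper60.dG hF s
    rw [← dG_mul, ← dG_mul, mul_comm]

/-- the centraliser of a conjugate of a nontrivial diagonal element is cyclic of order `q - 1` -/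
theorem szDtor (hm : 1 ≤ m) (hF : Fintype.card F = 2 ^ (2 * m + 1)) {g : Cfsg.Sz F m}
    (hg : g ∈ szDE hF) :
    IsCyclic (Subgroup.centralizer ({g} : Set (Cfsg.Sz F m))) ∧
      Nat.card (Subgroup.centralizer ({g} : Set (Cfsg.Sz F m))) = 2 ^ (2 * m + 1) - 1 := by
  obtain ⟨x, t, ht, e⟩ := hg
  have hg' : g = x⁻¹ * Helper60.dG hF t * x⁻¹⁻¹ := by rw [← e]; group
  rw [hg', ti_cent_conj, sz_centralizer_dG hm hF ht]
  have hinj : Function.Injective (MulAut.conj x⁻¹).toMonoidHom := (MulAut.conj x⁻¹).injective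
  let ε := (szDG (m := m) hF).range.equivMapOfInjective (MulAut.conj x⁻¹).toMonoidHom hinj
  have hcyc : IsCyclic (szDG (m := m) hF).range :=
    isCyclic_of_surjective (szDG hF).rangeRestrict (szDG hF).rangeRestrict_surjective
  refine ⟨isCyclic_of_surjective ε ε.surjective, ?_⟩
  rw [← Nat.card_congr ε.toEquiv, szDG_range_card]

/-- the order of the centraliser of a fixed-point-free element -/
theorem szTor_card (hm : 1 ≤ m) (hF : Fintype.card F = 2 ^ (2 * m + 1)) {g : Cfsg.Sz F m}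
    (hg : g ∈ szE F m) :
    Nat.card (Subgroup.centralizer ({g} : Set (Cfsg.Sz F m))) =
        2 ^ (2 * m + 1) + 2 ^ (m + 1) + 1 ∨
      Nat.card (Subgroup.centralizer ({g} : Set (Cfsg.Sz F m))) =
        2 ^ (2 * m + 1) - 2 ^ (m + 1) + 1 := by
  obtain ⟨g₁, g₂, hg₁, hg₂, hc₁, hc₂, -, -, hall⟩ := sz_tori_main hm hF
  rcases hall g hg with h | h
  · left; rw [(ti_card_eq_of_mem h).1, hc₁]
  · right; rw [(ti_card_eq_of_mem h).1, hc₂]

/-- a subgroup of the Suzuki group normalising a nontrivial abelian subgroup lies in the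
normaliser of a Sylow `2`-subgroup or of a cyclic subgroup of order `q - 1`, `q ± 2r + 1` -/
theorem szSub_of_abelian_normal (hm : 1 ≤ m) (hF : Fintype.card F = 2 ^ (2 * m + 1))
    (L X : Subgroup (Cfsg.Sz F m)) (hX : X ≠ ⊥) (hab : ∀ x ∈ X, ∀ y ∈ X, x * y = y * x)
    (hnorm : ∀ l ∈ L, ∀ x ∈ X, l * x * l⁻¹ ∈ X) :
    (∃ P : Sylow 2 (Cfsg.Sz F m),
      L ≤ Subgroup.normalizer ((P : Subgroup (Cfsg.Sz F m)) : Set (Cfsg.Sz F m))) ∨
    (∃ U : Subgroup (Cfsg.Sz F m), IsCyclic U ∧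
      Nat.card U ∈ ({2 ^ (2 * m + 1) - 1, 2 ^ (2 * m + 1) + 2 ^ (m + 1) + 1,
        2 ^ (2 * m + 1) - 2 ^ (m + 1) + 1} : Set ℕ) ∧
      L ≤ Subgroup.normalizer (U : Set (Cfsg.Sz F m))) := by
  obtain ⟨x₀, hx₀, hx₀1⟩ := (Subgroup.ne_bot_iff_exists_ne_one (H := X)).1 hX |>.imp
    (fun x h => h) |> fun ⟨x, h⟩ => (⟨x.1, x.2, fun e => h (Subtype.ext e)⟩ :
      ∃ x₀ : Cfsg.Sz F m, x₀ ∈ X ∧ x₀ ≠ 1)
  have hself : x₀ ∈ Subgroup.centralizer ({x₀} : Set (Cfsg.Sz F m)) :=
    Subgroup.mem_centralizer_singleton_iff.2 rfl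
  have hconj : ∀ l ∈ L, l * x₀ * l⁻¹ ∈ Subgroup.centralizer ({x₀} : Set (Cfsg.Sz F m)) := by
    intro l hl
    rw [Subgroup.mem_centralizer_singleton_iff]
    exact hab _ (hnorm l hl x₀ hx₀) _ hx₀
  rcases sz_trichotomy hm hF hx₀1 with hE | ⟨y, a, b, hab', e⟩ | ⟨y, t, ht, e⟩
  · right
    refine ⟨Subgroup.centralizer {x₀}, szTor_cyclic hm hF hE, ?_, ?_⟩
    · rcases szTor_card hm hF hE with h | h <;> rw [h] <;> simp
    · intro l hl
      exact ti_mem_normalizer (szE_tiData hm hF) hE hself hx₀1 (hconj l hl)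
  · left
    refine ⟨y⁻¹ • Helper60.UoSylow hF hm, ?_⟩
    intro l hl
    have hw : y * l * y⁻¹ ∈ Helper60.Bo F m := by
      rw [Helper60.mem_Bo]
      have hcomm : (y * (l * x₀ * l⁻¹) * y⁻¹) * Helper60.tG hF a b =
          Helper60.tG hF a b * (y * (l * x₀ * l⁻¹) * y⁻¹) := by
        rw [← e]
        have h1 : y * (l * x₀ * l⁻¹) * y⁻¹ * (y * x₀ * y⁻¹) = y * ((l * x₀ * l⁻¹) * x₀) * y⁻¹ := by
          group
        have h2 : y * x₀ * y⁻¹ * (y * (l * x₀ * l⁻¹) * y⁻¹) = y * (x₀ * (l * x₀ * l⁻¹)) * y⁻¹ := by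
          group
        rw [h1, h2, hab _ (hnorm l hl x₀ hx₀) _ hx₀]
      obtain ⟨a', b', e'⟩ := sz_cent_T hm hF hab' (y * (l * x₀ * l⁻¹) * y⁻¹).2
        (congrArg Subtype.val hcomm)
      have hab'' : ¬ (a' = 0 ∧ b' = 0) := by
        rintro ⟨rfl, rfl⟩
        rw [szT_zero] at e'
        have : y * (l * x₀ * l⁻¹) * y⁻¹ = 1 := Subtype.ext e'
        exact hx₀1 (conj_eq_one_iff.1 (conj_eq_one_iff.1 this))
      apply Helper60.ov_fix_T hF hab'' (sz_mem_smul_mem (y * l * y⁻¹).2 inf_mem_ovoid)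
      have e2 : y * (l * x₀ * l⁻¹) * y⁻¹ = (y * l * y⁻¹) * Helper60.tG hF a b * (y * l * y⁻¹)⁻¹ := by
        rw [← e]; group
      have e3 : szT m a' b' = ((y * l * y⁻¹ : Cfsg.Sz F m) : SpecialLinearGroup (Fin 4) F) *
          szT m a b * ((y * l * y⁻¹ : Cfsg.Sz F m) : SpecialLinearGroup (Fin 4) F)⁻¹ := by
        rw [← e']
        exact congrArg Subtype.val e2
      rw [e3, mul_smul, mul_smul, inv_smul_smul, szT_smul_inf]
    rw [← Helper60.normalizer_Uo hF hm, ← Helper60.coe_UoSylow hF hm] at hw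
    have h1 := Sylow.smul_eq_iff_mem_normalizer.2 hw
    apply Sylow.smul_eq_iff_mem_normalizer.1
    rw [← mul_smul]
    have h2 : l * y⁻¹ = y⁻¹ * (y * l * y⁻¹) := by group
    rw [h2, mul_smul, h1]
  · right
    have hD : x₀ ∈ szDE hF := ⟨y, t, ht, e⟩
    obtain ⟨hcyc, hcard⟩ := szDtor hm hF hD
    refine ⟨Subgroup.centralizer {x₀}, hcyc, ?_, ?_⟩
    · rw [hcard]; simp
    · intro l hl
      exact ti_mem_normalizer (szDE_tiData hm hF) hD hself hx₀1 (hconj l hl)

theorem tG_sq (hF : Fintype.card F = 2 ^ (2 * m + 1)) (a b : F) :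
    Helper60.tG hF a b * Helper60.tG hF a b = Helper60.tG hF 0 (szS F m a * a) := by
  rw [Helper60.tG_mul]
  congr 1
  · exact CharTwo.add_self_eq_zero a
  · rw [CharTwo.add_self_eq_zero, zero_add]

/-- `a ↦ σ(a) a` is injective -/
theorem sz_sigma_mul_inj (hF : Fintype.card F = 2 ^ (2 * m + 1)) {a a' : F}
    (h : szS F m a * a = szS F m a' * a') : a = a' := by
  by_cases ha' : a' = 0
  · subst ha'
    rw [map_zero, zero_mul] at h
    rcases mul_eq_zero.1 h with h | h
    · simpa using h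
    · exact h
  · have hs : szS F m a' ≠ 0 := by simpa using ha'
    have h1 : szS F m (a / a') * (a / a') = 1 := by
      rw [map_div₀, div_mul_div_comm, h, div_self (mul_ne_zero hs ha')]
    exact (div_eq_one_iff_eq ha').1 (sz_sigma_mul_self hF h1)

theorem tG_orderOf_two (hF : Fintype.card F = 2 ^ (2 * m + 1)) {c : F} (hc : c ≠ 0) :
    orderOf (Helper60.tG hF (0 : F) c : Cfsg.Sz F m) = 2 := by
  apply orderOf_eq_prime
  · rw [pow_two, tG_sq, map_zero, zero_mul, Helper60.tG_zero]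
  · intro h
    rw [← Helper60.tG_zero hF] at h
    exact hc (Helper60.tG_inj hF h).2

/-- a group of translations with at most one involution is cyclic -/
theorem uo_cyclic_of_unique_invol (hF : Fintype.card F = 2 ^ (2 * m + 1))
    (S : Subgroup (Cfsg.Sz F m)) (hS : S ≤ Helper60.Uo hF)
    (h1 : ∀ t₁ ∈ S, ∀ t₂ ∈ S, orderOf t₁ = 2 → orderOf t₂ = 2 → t₁ = t₂) : IsCyclic S := by
  have h2 : (2 : F) = 0 := sz_two
  by_cases hex : ∃ a b : F, a ≠ 0 ∧ Helper60.tG hF a b ∈ S
  · obtain ⟨a₀, b₀, ha₀, hg⟩ := hex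
    have hz : Helper60.tG hF 0 (szS F m a₀ * a₀) ∈ S := by
      rw [← tG_sq]
      exact mul_mem hg hg
    have hz2 : orderOf (Helper60.tG hF 0 (szS F m a₀ * a₀) : Cfsg.Sz F m) = 2 :=
      tG_orderOf_two hF (mul_ne_zero (by simpa using ha₀) ha₀)
    have hle : S ≤ Subgroup.zpowers (Helper60.tG hF a₀ b₀) := by
      intro h hh
      obtain ⟨a, b, rfl⟩ := hS hh
      by_cases ha : a = 0
      · subst ha
        by_cases hb : b = 0
        · subst hb
          rw [Helper60.tG_zero]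
          exact one_mem _
        · have := h1 _ hh _ hz (tG_orderOf_two hF hb) hz2
          rw [this, ← tG_sq]
          exact mul_mem (Subgroup.mem_zpowers _) (Subgroup.mem_zpowers _)
      · have hsq : Helper60.tG hF 0 (szS F m a * a) ∈ S := by
          rw [← tG_sq]
          exact mul_mem hh hh
        have e1 := h1 _ hsq _ hz (tG_orderOf_two hF (mul_ne_zero (by simpa using ha) ha)) hz2
        have ha' : a = a₀ := sz_sigma_mul_inj hF (Helper60.tG_inj hF e1).2
        subst ha'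
        have e2 : (Helper60.tG hF a b₀)⁻¹ * Helper60.tG hF a b = Helper60.tG hF 0 (b₀ + b) := by
          rw [Helper60.tG_inv, Helper60.tG_mul]
          congr 1
          · exact CharTwo.add_self_eq_zero a
          · linear_combination (szS F m a * a) * h2
        have e3 : Helper60.tG hF a b = Helper60.tG hF a b₀ * Helper60.tG hF 0 (b₀ + b) := by
          rw [← e2]; group
        by_cases hb : b₀ + b = 0
        · rw [e3, hb, Helper60.tG_zero, mul_one]
          exact Subgroup.mem_zpowers _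
        · have hmem : Helper60.tG hF 0 (b₀ + b) ∈ S := by
            rw [← e2]
            exact mul_mem (inv_mem hg) hh
          have := h1 _ hmem _ hz (tG_orderOf_two hF hb) hz2
          rw [e3, this, ← tG_sq]
          exact mul_mem (Subgroup.mem_zpowers _)
            (mul_mem (Subgroup.mem_zpowers _) (Subgroup.mem_zpowers _))
    exact Subgroup.isCyclic_of_le hle
  · push Not at hex
    by_cases hex2 : ∃ b : F, b ≠ 0 ∧ Helper60.tG hF 0 b ∈ S
    · obtain ⟨b₀, hb₀, hz⟩ := hex2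
      have hle : S ≤ Subgroup.zpowers (Helper60.tG hF 0 b₀) := by
        intro h hh
        obtain ⟨a, b, rfl⟩ := hS hh
        have ha : a = 0 := by
          by_contra ha
          exact hex a b ha hh
        subst ha
        by_cases hb : b = 0
        · subst hb
          rw [Helper60.tG_zero]
          exact one_mem _
        · rw [h1 _ hh _ hz (tG_orderOf_two hF hb) (tG_orderOf_two hF hb₀)]
          exact Subgroup.mem_zpowers _
      exact Subgroup.isCyclic_of_le hle
    · push Not at hex2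
      have hle : S ≤ Subgroup.zpowers (1 : Cfsg.Sz F m) := by
        intro h hh
        obtain ⟨a, b, rfl⟩ := hS hh
        have ha : a = 0 := by
          by_contra ha
          exact hex a b ha hh
        subst ha
        have hb : b = 0 := by
          by_contra hb
          exact hex2 b hb hh
        subst hb
        rw [Helper60.tG_zero]
        exact one_mem _
      exact Subgroup.isCyclic_of_le hle

/-- a subgroup of the Suzuki group having, for each point of the ovoid, at most one involution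
fixing it, has cyclic Sylow subgroups -/
theorem szSub_isZGroup (hm : 1 ≤ m) (hF : Fintype.card F = 2 ^ (2 * m + 1))
    (L : Subgroup (Cfsg.Sz F m))
    (h : ∀ t₁ ∈ L, ∀ t₂ ∈ L, orderOf t₁ = 2 → orderOf t₂ = 2 →
      ∀ p ∈ Cfsg.suzukiOvoid F m, (t₁ : SpecialLinearGroup (Fin 4) F) • p = p →
        (t₂ : SpecialLinearGroup (Fin 4) F) • p = p → t₁ = t₂) : IsZGroup L := by
  constructor
  intro p hp P
  have : Fact p.Prime := ⟨hp⟩
  have hinj : Function.Injective L.subtype := L.subtype_injective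
  let ε := (P : Subgroup L).equivMapOfInjective L.subtype hinj
  have hP' : IsPGroup p ((P : Subgroup L).map L.subtype) := P.isPGroup'.map L.subtype
  obtain ⟨Q', hQ'⟩ := hP'.exists_le_sylow
  suffices hcyc : IsCyclic ((P : Subgroup L).map L.subtype) from
    isCyclic_of_surjective ε.symm ε.symm.surjective
  by_cases hp2 : p = 2
  · subst hp2
    obtain ⟨c, rfl⟩ := MulAction.exists_smul_eq (Cfsg.Sz F m) (Helper60.UoSylow hF hm) Q'
    have hinj2 : Function.Injective (MulAut.conj c⁻¹).toMonoidHom := (MulAut.conj c⁻¹).injective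
    let ε2 := ((P : Subgroup L).map L.subtype).equivMapOfInjective
      (MulAut.conj c⁻¹).toMonoidHom hinj2
    have hmemU : ∀ g ∈ (P : Subgroup L).map L.subtype, c⁻¹ * g * c ∈ Helper60.Uo hF := by
      intro g hg
      have := hQ' hg
      rw [Sylow.coe_subgroup_smul, Subgroup.mem_pointwise_smul_iff_inv_smul_mem,
        Helper60.coe_UoSylow] at this
      simpa [MulAut.smul_def] using this
    have hle : ((P : Subgroup L).map L.subtype).map (MulAut.conj c⁻¹).toMonoidHom ≤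
        Helper60.Uo hF := by
      rintro _ ⟨g, hg, rfl⟩
      have := hmemU g hg
      simpa [MulAut.conj_apply] using this
    have hcyc2 : IsCyclic (((P : Subgroup L).map L.subtype).map (MulAut.conj c⁻¹).toMonoidHom) := by
      apply uo_cyclic_of_unique_invol hF _ hle
      rintro _ ⟨g₁, hg₁, rfl⟩ _ ⟨g₂, hg₂, rfl⟩ ho₁ ho₂
      rw [orderOf_injective _ hinj2] at ho₁ ho₂
      have hg₁L : g₁ ∈ L := by
        obtain ⟨x, -, rfl⟩ := hg₁
        exact x.2
      have hg₂L : g₂ ∈ L := by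
        obtain ⟨x, -, rfl⟩ := hg₂
        exact x.2
      have hfix : ∀ g ∈ (P : Subgroup L).map L.subtype,
          (g : SpecialLinearGroup (Fin 4) F) •
            ((c : SpecialLinearGroup (Fin 4) F) • Cfsg.suzukiPointInfinity F) =
            (c : SpecialLinearGroup (Fin 4) F) • Cfsg.suzukiPointInfinity F := by
        intro g hg
        obtain ⟨a, b, hab⟩ := hmemU g hg
        have e1 : g * c = c * Helper60.tG hF a b := by rw [← hab]; group
        have e2 : (g : SpecialLinearGroup (Fin 4) F) * (c : SpecialLinearGroup (Fin 4) F) =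
            (c : SpecialLinearGroup (Fin 4) F) * szT m a b := congrArg Subtype.val e1
        rw [← mul_smul, e2, mul_smul, szT_smul_inf]
      rw [h g₁ hg₁L g₂ hg₂L ho₁ ho₂ _ (sz_mem_smul_mem c.2 inf_mem_ovoid) (hfix g₁ hg₁)
        (hfix g₂ hg₂)]
    exact isCyclic_of_surjective ε2.symm ε2.symm.surjective
  · have := sz_sylow_odd_cyclic hm hF hp2 Q'
    exact Subgroup.isCyclic_of_le hQ'

/-- a subgroup of the Suzuki group having, for each point of the ovoid, at most one involution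
fixing it, lies in the normaliser of a Sylow `2`-subgroup or of a cyclic subgroup of order
`q - 1`, `q ± 2r + 1` -/
theorem szSub_of_unique_invol (hm : 1 ≤ m) (hF : Fintype.card F = 2 ^ (2 * m + 1))
    (L : Subgroup (Cfsg.Sz F m))
    (h : ∀ t₁ ∈ L, ∀ t₂ ∈ L, orderOf t₁ = 2 → orderOf t₂ = 2 →
      ∀ p ∈ Cfsg.suzukiOvoid F m, (t₁ : SpecialLinearGroup (Fin 4) F) • p = p →
        (t₂ : SpecialLinearGroup (Fin 4) F) • p = p → t₁ = t₂) :
    (∃ P : Sylow 2 (Cfsg.Sz F m),
      L ≤ Subgroup.normalizer ((P : Subgroup (Cfsg.Sz F m)) : Set (Cfsg.Sz F m))) ∨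
    (∃ U : Subgroup (Cfsg.Sz F m), IsCyclic U ∧
      Nat.card U ∈ ({2 ^ (2 * m + 1) - 1, 2 ^ (2 * m + 1) + 2 ^ (m + 1) + 1,
        2 ^ (2 * m + 1) - 2 ^ (m + 1) + 1} : Set ℕ) ∧
      L ≤ Subgroup.normalizer (U : Set (Cfsg.Sz F m))) := by
  have hZ := szSub_isZGroup hm hF L h
  have hsolv : Group.IsSolvable L := inferInstance
  by_cases hL : L = ⊥
  · left
    exact ⟨Helper60.UoSylow hF hm, by rw [hL]; exact bot_le⟩
  · have : Nontrivial L := (Subgroup.nontrivial_iff_ne_bot L).2 hL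
    obtain ⟨X, hXn, hXne, hXab⟩ := h6_exists_abelian_normal L
    apply szSub_of_abelian_normal hm hF L (X.map L.subtype)
    · intro hbot
      apply hXne
      rw [eq_bot_iff]
      intro x hx
      have h1 : L.subtype x ∈ X.map L.subtype := Subgroup.mem_map_of_mem _ hx
      rw [hbot] at h1
      exact Subgroup.mem_bot.2 (Subtype.ext (Subgroup.mem_bot.1 h1))
    · rintro _ ⟨x, hx, rfl⟩ _ ⟨y, hy, rfl⟩
      exact congrArg Subtype.val (hXab x hx y hy)
    · rintro l hl _ ⟨x, hx, rfl⟩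
      have key : ∀ l' : L, (l' : Cfsg.Sz F m) * L.subtype x * (l' : Cfsg.Sz F m)⁻¹ ∈
          X.map L.subtype := by
        intro l'
        refine Subgroup.mem_map.2 ⟨l' * x * l'⁻¹, hXn.conj_mem x hx l', ?_⟩
        rw [map_mul, map_mul, map_inv]
        rfl
      exact key ⟨l, hl⟩

end SzSubA

end Cfsg.Agent.Helper6
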