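import Mathlib
import Cfsg.Prelude.Def_LieExceptional
import Cfsg.Agent.Helper6.SzSubA

set_option autoImplicit false

universe v

namespace Cfsg.Agent.Helper6

open Matrix
open scoped Pointwise

section Generic

theorem h6_mem_of_pow_mem_of_coprime {G : Type*} [Group G] {H : Subgroup G} {x : G} {a b : ℕ}
    (ha : x ^ a ∈ H) (hb : x ^ b ∈ H) (h : Nat.Coprime a b) : x ∈ H := by
  have h1 := Nat.gcd_eq_gcd_ab a b
  rw [Nat.Coprime.gcd_eq_one h] at h1
  have h2 : x = (x ^ a) ^ (Nat.gcdA a b) * (x ^ b) ^ (Nat.gcdB a b) := by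
    rw [← zpow_natCast x a, ← zpow_natCast x b, ← _root_.zpow_mul, ← _root_.zpow_mul, ← _root_.zpow_add, ← h1]
    simp
  rw [h2]
  exact mul_mem (zpow_mem ha _) (zpow_mem hb _)

theorem h6_card_eq_card_mul_relIndex {G : Type*} [Group G] {H K : Subgroup G} (hHK : H ≤ K) :
    Nat.card K = Nat.card H * H.relIndex K := by
  have := Subgroup.relIndex_mul_relIndex (H := ⊥) (K := H) (L := K) bot_le hHK
  rw [Subgroup.relIndex_bot_left, Subgroup.relIndex_bot_left] at this
  exact this.symm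

/-- an element of `K ≤ N(H)` whose order is coprime to `[K : H]` lies in `H` -/
theorem h6_mem_of_relIndex_coprime {G : Type*} [Group G] {H K : Subgroup G}
    (hHK : H ≤ K) (hK : K ≤ Subgroup.normalizer (H : Set G)) {x : G} (hx : x ∈ K)
    (hcop : Nat.Coprime (H.relIndex K) (orderOf x)) : x ∈ H := by
  have hn : (H.subgroupOf K).Normal := (Subgroup.normal_subgroupOf_iff_le_normalizer hHK).2 hK
  have h1 : (⟨x, hx⟩ : K) ^ (H.subgroupOf K).index ∈ H.subgroupOf K :=
    Subgroup.pow_index_mem (H.subgroupOf K) ⟨x, hx⟩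
  have h2 : x ^ H.relIndex K ∈ H := by
    rw [Subgroup.mem_subgroupOf] at h1
    exact h1
  exact h6_mem_of_pow_mem_of_coprime h2 (by rw [pow_orderOf_eq_one]; exact one_mem _) hcop

/-- a lower bound for the number of fixed points of `g`: the orbit of `α` under a subgroup `R` all
of whose translates of `α` are fixed by `g` -/
theorem h6_card_le_fixedBy {G Ω : Type*} [Group G] [Finite G] [MulAction G Ω] [Finite Ω] (α : Ω)
    (g : G) (R : Subgroup G) (hR : ∀ x ∈ R, g • (x • α) = x • α) :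
    Nat.card R ≤ Nat.card (MulAction.fixedBy Ω g) *
      Nat.card (R ⊓ MulAction.stabilizer G α : Subgroup G) := by
  classical
  have hex : ∀ y : MulAction.fixedBy Ω g, ∃ r : R,
      (∃ x : R, (x : G) • α = y.1) → (r : G) • α = y.1 := by
    intro y
    by_cases h : ∃ x : R, (x : G) • α = y.1
    · obtain ⟨x, hx⟩ := h
      exact ⟨x, fun _ => hx⟩
    · exact ⟨1, fun h' => absurd h' h⟩
  choose r hr using hex
  let f : R → MulAction.fixedBy Ω g := fun x => ⟨(x : G) • α, hR x x.2⟩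
  let ι : R → MulAction.fixedBy Ω g × (R ⊓ MulAction.stabilizer G α : Subgroup G) := fun x =>
    (f x, ⟨((r (f x) : R) : G)⁻¹ * x, Subgroup.mem_inf.2 ⟨mul_mem (inv_mem (r (f x)).2) x.2, by
      rw [MulAction.mem_stabilizer_iff, mul_smul, inv_smul_eq_iff]
      exact (hr (f x) ⟨x, rfl⟩).symm⟩⟩)
  have hι : Function.Injective ι := by
    intro x x' h
    have h1 : f x = f x' := congrArg Prod.fst h
    have h2 : ((r (f x) : R) : G)⁻¹ * x = ((r (f x') : R) : G)⁻¹ * x' :=
      congrArg (fun p => ((p.2 : (R ⊓ MulAction.stabilizer G α : Subgroup G)) : G)) h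
    rw [h1] at h2
    exact Subtype.ext (mul_left_cancel h2)
  have := Nat.card_le_card_of_injective ι hι
  rwa [Nat.card_prod] at this

end Generic

section SzNorm
variable {F : Type v} [Field F] [Fintype F] {m : ℕ} [CharP F 2]

theorem wG_dG_wG (hF : Fintype.card F = 2 ^ (2 * m + 1)) (s : Fˣ) :
    Helper60.wG hF * Helper60.dG hF s * Helper60.wG hF = (Helper60.dG hF s⁻¹ : Cfsg.Sz F m) :=
  Subtype.ext (szW_mul_szD_mul_szW s)

/-- the points of the ovoid fixed by a nontrivial diagonal element -/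
theorem szD_fixed (hF : Fintype.card F = 2 ^ (2 * m + 1)) {t : Fˣ} (ht : t ≠ 1)
    {p : Projectivization F (Fin 4 → F)} (hp : p ∈ Cfsg.suzukiOvoid F m)
    (hfix : szD m t • p = p) : p = Cfsg.suzukiPointInfinity F ∨ p = szP m 0 0 := by
  rcases (mem_ovoid_iff p).1 hp with h | ⟨x, y, h⟩
  · left; exact h
  · right
    subst h
    by_contra hne
    apply ht
    refine szD_fix_imp hF (x := x) (y := y) ?_ hfix
    rintro ⟨rfl, rfl⟩
    exact hne rfl

/-- the normaliser of the group of diagonal elements -/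
theorem sz_normalizer_D_iff (hm : 1 ≤ m) (hF : Fintype.card F = 2 ^ (2 * m + 1))
    (n : Cfsg.Sz F m) :
    n ∈ Subgroup.normalizer (((szDG hF).range : Subgroup (Cfsg.Sz F m)) : Set (Cfsg.Sz F m)) ↔
      (∃ s : Fˣ, n = Helper60.dG hF s) ∨ (∃ s : Fˣ, n = Helper60.wG hF * Helper60.dG hF s) := by
  constructor
  · intro hn
    obtain ⟨t, ht⟩ := sz_exists_unit_ne_one (F := F) hm hF
    rw [Subgroup.mem_normalizer_iff] at hn
    obtain ⟨s, hs⟩ := (hn (Helper60.dG hF t)).1 ⟨t, rfl⟩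
    have hs' : Helper60.dG hF s = n * Helper60.dG hF t * n⁻¹ := hs
    have hs1 : s ≠ 1 := by
      rintro rfl
      rw [(dG_eq_one_iff hF).2 rfl] at hs'
      exact ht ((dG_eq_one_iff hF).1 (conj_eq_one_iff.1 hs'.symm))
    have hval : szD m s = (n : SpecialLinearGroup (Fin 4) F) * szD m t *
        (n : SpecialLinearGroup (Fin 4) F)⁻¹ := congrArg Subtype.val hs'
    have hfi : szD m s • ((n : SpecialLinearGroup (Fin 4) F) • Cfsg.suzukiPointInfinity F) =
        (n : SpecialLinearGroup (Fin 4) F) • Cfsg.suzukiPointInfinity F := by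
      rw [hval, mul_smul, mul_smul, inv_smul_smul, szD_smul_inf]
    have hf0 : szD m s • ((n : SpecialLinearGroup (Fin 4) F) • szP m (0 : F) 0) =
        (n : SpecialLinearGroup (Fin 4) F) • szP m (0 : F) 0 := by
      rw [hval, mul_smul, mul_smul, inv_smul_smul, szD_smul_zero hF]
    have hne : (n : SpecialLinearGroup (Fin 4) F) • Cfsg.suzukiPointInfinity F ≠
        (n : SpecialLinearGroup (Fin 4) F) • szP m (0 : F) 0 :=
      fun h => (szP_ne_inf (m := m) (0 : F) 0) (smul_left_cancel _ h).symm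
    rcases szD_fixed hF hs1 (sz_mem_smul_mem n.2 inf_mem_ovoid) hfi with h1 | h1
    · rcases szD_fixed hF hs1 (sz_mem_smul_mem n.2 (szP_mem_ovoid 0 0)) hf0 with h2 | h2
      · exact absurd (h1.trans h2.symm) hne
      · left
        obtain ⟨s', hs'⟩ := sz_fix_two hm hF n.2 h1 h2
        exact ⟨s', Subtype.ext hs'⟩
    · rcases szD_fixed hF hs1 (sz_mem_smul_mem n.2 (szP_mem_ovoid 0 0)) hf0 with h2 | h2
      · right
        obtain ⟨s', hs'⟩ := sz_fix_two hm hF (mul_mem (szW_mem hF) n.2)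
          (by rw [mul_smul, h1, szW_smul_szP_zero])
          (by rw [mul_smul, h2, szW_smul_inf])
        refine ⟨s', Subtype.ext ?_⟩
        show (n : SpecialLinearGroup (Fin 4) F) = szW F * szD m s'
        rw [← hs', ← mul_assoc, szW_mul_self, one_mul]
      · exact absurd (h1.trans h2.symm) hne
  · have hw : Helper60.wG hF ∈ Subgroup.normalizer
        (((szDG hF).range : Subgroup (Cfsg.Sz F m)) : Set (Cfsg.Sz F m)) := by
      rw [Subgroup.mem_normalizer_iff]
      intro h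
      constructor
      · rintro ⟨t, rfl⟩
        refine ⟨t⁻¹, ?_⟩
        show Helper60.dG hF t⁻¹ = Helper60.wG hF * Helper60.dG hF t * (Helper60.wG hF)⁻¹
        rw [Helper60.wG_inv, wG_dG_wG]
      · rintro ⟨t, ht⟩
        refine ⟨t⁻¹, ?_⟩
        have ht' : Helper60.dG hF t = Helper60.wG hF * h * (Helper60.wG hF)⁻¹ := ht
        show Helper60.dG hF t⁻¹ = h
        rw [← wG_dG_wG, ht', Helper60.wG_inv]
        have e : Helper60.wG hF * (Helper60.wG hF * h * Helper60.wG hF) * Helper60.wG hF =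
            (Helper60.wG hF * Helper60.wG hF) * h * (Helper60.wG hF * Helper60.wG hF) := by group
        rw [e, Helper60.wG_mul_self, one_mul, mul_one]
    have hd : ∀ s : Fˣ, Helper60.dG hF s ∈ Subgroup.normalizer
        (((szDG hF).range : Subgroup (Cfsg.Sz F m)) : Set (Cfsg.Sz F m)) :=
      fun s => Subgroup.le_normalizer (show Helper60.dG hF s ∈ (szDG hF).range from ⟨s, rfl⟩)
    rintro (⟨s, rfl⟩ | ⟨s, rfl⟩)
    · exact hd s
    · exact mul_mem hw (hd s)

theorem sz_normalizer_D_card (hm : 1 ≤ m) (hF : Fintype.card F = 2 ^ (2 * m + 1)) :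
    Nat.card (Subgroup.normalizer
      (((szDG hF).range : Subgroup (Cfsg.Sz F m)) : Set (Cfsg.Sz F m))) =
      2 * (2 ^ (2 * m + 1) - 1) := by
  have hle : (szDG (m := m) hF).range ≤ Subgroup.normalizer
      (((szDG hF).range : Subgroup (Cfsg.Sz F m)) : Set (Cfsg.Sz F m)) := Subgroup.le_normalizer
  rw [h6_card_eq_card_mul_relIndex hle, szDG_range_card, mul_comm]
  congr 1
  have hwn : Helper60.wG hF ∉ (szDG (m := m) hF).range := by
    rintro ⟨s, hs⟩
    apply Helper60.wG_not_mem_Bo (m := m) hF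
    have hs' : Helper60.dG hF s = Helper60.wG hF := hs
    rw [← hs']
    exact Helper60.dG_mem_Bo hF s
  rw [Subgroup.relIndex_eq_two_iff]
  refine ⟨Helper60.wG hF, (sz_normalizer_D_iff hm hF _).2
    (Or.inr ⟨1, by rw [(dG_eq_one_iff hF).2 rfl, mul_one]⟩), ?_⟩
  intro b hb
  rcases (sz_normalizer_D_iff hm hF b).1 hb with ⟨s, rfl⟩ | ⟨s, rfl⟩
  · refine Or.inr ⟨⟨s, rfl⟩, ?_⟩
    intro h
    apply hwn
    have : Helper60.wG hF = (Helper60.dG hF s)⁻¹ * (Helper60.dG hF s * Helper60.wG hF) := by group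
    rw [this]
    exact mul_mem (inv_mem ⟨s, rfl⟩) h
  · refine Or.inl ⟨?_, ?_⟩
    · rw [wG_dG_wG]
      exact ⟨s⁻¹, rfl⟩
    · intro h
      apply hwn
      have : Helper60.wG hF = (Helper60.wG hF * Helper60.dG hF s) * (Helper60.dG hF s)⁻¹ := by group
      rw [this]
      exact mul_mem h (inv_mem ⟨s, rfl⟩)

/-- the normaliser of the centraliser of a conjugate of a nontrivial diagonal element has order
`2 (q - 1)` -/
theorem szDnorm_card (hm : 1 ≤ m) (hF : Fintype.card F = 2 ^ (2 * m + 1)) {g : Cfsg.Sz F m}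
    (hg : g ∈ szDE hF) :
    Nat.card (Subgroup.normalizer
      ((Subgroup.centralizer ({g} : Set (Cfsg.Sz F m)) : Subgroup (Cfsg.Sz F m)) :
        Set (Cfsg.Sz F m))) = 2 * (2 ^ (2 * m + 1) - 1) := by
  obtain ⟨x, t, ht, e⟩ := hg
  have hg' : g = x⁻¹ * Helper60.dG hF t * x⁻¹⁻¹ := by rw [← e]; group
  rw [hg', ti_cent_conj, sz_centralizer_dG hm hF ht]
  have h1 := Subgroup.map_equiv_normalizer_eq ((szDG (m := m) hF).range) (MulAut.conj x⁻¹)
  have h2 : Subgroup.normalizer ((((szDG (m := m) hF).range).map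
      (MulAut.conj x⁻¹).toMonoidHom : Subgroup (Cfsg.Sz F m)) : Set (Cfsg.Sz F m)) =
      (Subgroup.normalizer (((szDG (m := m) hF).range : Subgroup (Cfsg.Sz F m)) :
        Set (Cfsg.Sz F m))).map (MulAut.conj x⁻¹).toMonoidHom := h1.symm
  rw [h2, Subgroup.card_map_of_injective (MulAut.conj x⁻¹).injective, sz_normalizer_D_card hm hF]

/-- the normaliser of the centraliser of a fixed-point-free element has order `4 |C(g)|` -/
theorem szEnorm_card (hm : 1 ≤ m) (hF : Fintype.card F = 2 ^ (2 * m + 1)) {g : Cfsg.Sz F m}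
    (hg : g ∈ szE F m) :
    Nat.card (Subgroup.normalizer
      ((Subgroup.centralizer ({g} : Set (Cfsg.Sz F m)) : Subgroup (Cfsg.Sz F m)) :
        Set (Cfsg.Sz F m))) = 4 * Nat.card (Subgroup.centralizer ({g} : Set (Cfsg.Sz F m))) := by
  obtain ⟨g₁, g₂, hg₁, hg₂, hc₁, hc₂, hn₁, hn₂, hall⟩ := sz_tori_main hm hF
  rcases hall g hg with h | h
  · rw [(ti_card_eq_of_mem h).1, (ti_card_eq_of_mem h).2, hn₁]
  · rw [(ti_card_eq_of_mem h).1, (ti_card_eq_of_mem h).2, hn₂]

/-- the index of a torus in its normaliser is `2` or `4` -/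
theorem szTorus_relIndex (hm : 1 ≤ m) (hF : Fintype.card F = 2 ^ (2 * m + 1)) {g : Cfsg.Sz F m}
    (hg : g ∈ szE F m ∨ g ∈ szDE hF) :
    (Subgroup.centralizer ({g} : Set (Cfsg.Sz F m))).relIndex (Subgroup.normalizer
      ((Subgroup.centralizer ({g} : Set (Cfsg.Sz F m)) : Subgroup (Cfsg.Sz F m)) :
        Set (Cfsg.Sz F m))) = 4 ∨
    (Subgroup.centralizer ({g} : Set (Cfsg.Sz F m))).relIndex (Subgroup.normalizer
      ((Subgroup.centralizer ({g} : Set (Cfsg.Sz F m)) : Subgroup (Cfsg.Sz F m)) :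
        Set (Cfsg.Sz F m))) = 2 := by
  have hle : Subgroup.centralizer ({g} : Set (Cfsg.Sz F m)) ≤ Subgroup.normalizer
      ((Subgroup.centralizer ({g} : Set (Cfsg.Sz F m)) : Subgroup (Cfsg.Sz F m)) :
        Set (Cfsg.Sz F m)) := Subgroup.le_normalizer
  have h1 := h6_card_eq_card_mul_relIndex hle
  have hpos : 0 < Nat.card (Subgroup.centralizer ({g} : Set (Cfsg.Sz F m))) := Nat.card_pos
  rcases hg with hg | hg
  · left
    rw [szEnorm_card hm hF hg, mul_comm] at h1
    exact (Nat.eq_of_mul_eq_mul_left hpos h1).symm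
  · right
    rw [szDnorm_card hm hF hg, (szDtor hm hF hg).2, mul_comm] at h1
    rw [← (szDtor hm hF hg).2] at h1
    exact (Nat.eq_of_mul_eq_mul_left hpos h1).symm

/-- elements of odd order in the normaliser of a torus lie in the torus -/
theorem szTorus_mem_of_odd (hm : 1 ≤ m) (hF : Fintype.card F = 2 ^ (2 * m + 1))
    {g : Cfsg.Sz F m} (hg : g ∈ szE F m ∨ g ∈ szDE hF) {x : Cfsg.Sz F m}
    (hx : x ∈ Subgroup.normalizer
      ((Subgroup.centralizer ({g} : Set (Cfsg.Sz F m)) : Subgroup (Cfsg.Sz F m)) :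
        Set (Cfsg.Sz F m))) (hodd : Odd (orderOf x)) :
    x ∈ Subgroup.centralizer ({g} : Set (Cfsg.Sz F m)) := by
  apply h6_mem_of_relIndex_coprime Subgroup.le_normalizer le_rfl hx
  rcases szTorus_relIndex hm hF hg with h | h
  · rw [h]
    have : Nat.Coprime (2 ^ 2) (orderOf x) :=
      Nat.Coprime.pow_left 2 (Nat.coprime_two_left.2 hodd)
    exact this
  · rw [h]
    exact Nat.coprime_two_left.2 hodd

/-- the normaliser of a Sylow `2`-subgroup is the stabiliser of a point of the ovoid -/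
theorem szSylow_normalizer (hm : 1 ≤ m) (hF : Fintype.card F = 2 ^ (2 * m + 1))
    (P : Sylow 2 (Cfsg.Sz F m)) :
    ∃ p ∈ Cfsg.suzukiOvoid F m, ∀ g : Cfsg.Sz F m,
      g ∈ Subgroup.normalizer ((P : Subgroup (Cfsg.Sz F m)) : Set (Cfsg.Sz F m)) ↔
        (g : SpecialLinearGroup (Fin 4) F) • p = p := by
  obtain ⟨c, rfl⟩ := MulAction.exists_smul_eq (Cfsg.Sz F m) (Helper60.UoSylow hF hm) P
  refine ⟨(c : SpecialLinearGroup (Fin 4) F) • Cfsg.suzukiPointInfinity F,
    sz_mem_smul_mem c.2 inf_mem_ovoid, ?_⟩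
  intro g
  have key : g ∈ Subgroup.normalizer (((c • Helper60.UoSylow hF hm : Sylow 2 (Cfsg.Sz F m)) :
      Subgroup (Cfsg.Sz F m)) : Set (Cfsg.Sz F m)) ↔ c⁻¹ * g * c ∈ Helper60.Bo F m := by
    rw [← Helper60.normalizer_Uo hF hm, ← Helper60.coe_UoSylow hF hm]
    constructor
    · intro h
      have h' : g • (c • Helper60.UoSylow hF hm) = c • Helper60.UoSylow hF hm :=
        Sylow.smul_eq_iff_mem_normalizer.2 h
      apply Sylow.smul_eq_iff_mem_normalizer.1
      rw [mul_smul, mul_smul, h', inv_smul_smul]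
    · intro h
      have h' : (c⁻¹ * g * c) • Helper60.UoSylow hF hm = Helper60.UoSylow hF hm :=
        Sylow.smul_eq_iff_mem_normalizer.2 h
      apply Sylow.smul_eq_iff_mem_normalizer.1
      rw [mul_smul, mul_smul, inv_smul_eq_iff] at h'
      exact h'
  rw [key, Helper60.mem_Bo]
  show ((c : SpecialLinearGroup (Fin 4) F)⁻¹ * (g : SpecialLinearGroup (Fin 4) F) *
    (c : SpecialLinearGroup (Fin 4) F)) • Cfsg.suzukiPointInfinity F =
      Cfsg.suzukiPointInfinity F ↔ _
  rw [mul_smul, mul_smul, inv_smul_eq_iff]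

/-- a cyclic subgroup of order `q - 1` or `q ± 2r + 1` is the centraliser of each of its
non-identity elements, which are fixed-point-free or conjugate to diagonal elements -/
theorem szTorus_of_cyclic (hm : 1 ≤ m) (hF : Fintype.card F = 2 ^ (2 * m + 1))
    {U : Subgroup (Cfsg.Sz F m)} (hc : IsCyclic U)
    (hcard : Nat.card U ∈ ({2 ^ (2 * m + 1) - 1, 2 ^ (2 * m + 1) + 2 ^ (m + 1) + 1,
      2 ^ (2 * m + 1) - 2 ^ (m + 1) + 1} : Set ℕ)) {u : Cfsg.Sz F m} (hu : u ∈ U) (hu1 : u ≠ 1) :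
    (u ∈ szE F m ∨ u ∈ szDE hF) ∧ U = Subgroup.centralizer ({u} : Set (Cfsg.Sz F m)) := by
  have hself : u ∈ Subgroup.centralizer ({u} : Set (Cfsg.Sz F m)) :=
    Subgroup.mem_centralizer_singleton_iff.2 rfl
  have huniq : ∀ V : Subgroup (Cfsg.Sz F m), szPartP F m V ∧ u ∈ V → U = V :=
    fun V hV => (szPart_all hm hF hu1).unique ⟨Or.inr ⟨hc, hcard⟩, hu⟩ hV
  rcases sz_trichotomy hm hF hu1 with hE | ⟨y, a, b, hab, e⟩ | ⟨y, t, ht, e⟩
  · refine ⟨Or.inl hE, huniq _ ⟨Or.inr ⟨szTor_cyclic hm hF hE, ?_⟩, hself⟩⟩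
    rcases szTor_card hm hF hE with h | h <;> rw [h] <;> simp
  · exfalso
    apply hab
    have hodd := szp_odd hm hcard
    have h1 : Helper60.tG hF a b ^ Nat.card U = 1 := by
      rw [← e, conj_pow, h6_pow_card_subgroup hu]
      group
    have hmem : Helper60.tG hF a b ∈ ((Helper60.UoSylow hF hm : Sylow 2 (Cfsg.Sz F m)) :
        Subgroup (Cfsg.Sz F m)) := by
      rw [Helper60.coe_UoSylow]
      exact Helper60.tG_mem_Uo hF a b
    have h2 := h6_eq_one_of_sylow_two_of_odd _ hmem hodd h1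
    rw [← Helper60.tG_zero hF] at h2
    exact Helper60.tG_inj hF h2
  · have hD : u ∈ szDE hF := ⟨y, t, ht, e⟩
    obtain ⟨hcyc, hcd⟩ := szDtor hm hF hD
    refine ⟨Or.inr hD, huniq _ ⟨Or.inr ⟨hcyc, ?_⟩, hself⟩⟩
    rw [hcd]; simp

end SzNorm

end Cfsg.Agent.Helper6
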