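import Mathlib
import Cfsg.Prelude.Def_LieExceptional
import Cfsg.Agent.Helper6.SzNorm

set_option autoImplicit false

universe v

namespace Cfsg.Agent.Helper6

open Matrix
open scoped Pointwise

section GenericFix

/-- if `A ≤ B` has index at most `2` then squares of elements of `B` lie in `A` -/
theorem h6_sq_mem_of_card_le {G : Type*} [Group G] [Finite G] {A B : Subgroup G} (hAB : A ≤ B)
    (hcard : Nat.card B ≤ 2 * Nat.card A) {g : G} (hg : g ∈ B) : g ^ 2 ∈ A := by
  have h1 := h6_card_eq_card_mul_relIndex hAB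
  have hApos : 0 < Nat.card A := Nat.card_pos
  have hBpos : 0 < Nat.card B := Nat.card_pos
  have hr0 : A.relIndex B ≠ 0 := by
    intro h
    rw [h, mul_zero] at h1
    omega
  have hr2 : A.relIndex B ≤ 2 := by
    by_contra hcon
    push Not at hcon
    have : Nat.card A * 3 ≤ Nat.card A * A.relIndex B := Nat.mul_le_mul_left _ hcon
    omega
  have := Subgroup.pow_mem_of_relIndex_ne_zero_of_dvd hr0 hg (n := 2) (by
    intro k hk0 hk
    have hk2 : k ≤ 2 := hk.trans hr2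
    interval_cases k <;> simp)
  exact this.1

end GenericFix

section SzFix
variable {F : Type v} [Field F] [Fintype F] {m : ℕ} [CharP F 2]

/-- the statement of the subgroup theorem of the Suzuki group, as a hypothesis -/
def SzSubHyp (F : Type v) [Field F] [Fintype F] (m : ℕ) : Prop :=
  ∀ M : Subgroup (Cfsg.Sz F m), M ≠ ⊤ →
    (∃ P : Sylow 2 (Cfsg.Sz F m),
      M ≤ Subgroup.normalizer ((P : Subgroup (Cfsg.Sz F m)) : Set (Cfsg.Sz F m))) ∨
    (∃ U : Subgroup (Cfsg.Sz F m), IsCyclic U ∧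
      Nat.card U ∈ ({2 ^ (2 * m + 1) - 1, 2 ^ (2 * m + 1) + 2 ^ (m + 1) + 1,
        2 ^ (2 * m + 1) - 2 ^ (m + 1) + 1} : Set ℕ) ∧
      M ≤ Subgroup.normalizer (U : Set (Cfsg.Sz F m))) ∨
    (∃ (K : Type) (_ : Field K) (_ : Fintype K) (k : ℕ), 1 ≤ k ∧ k < m ∧
      Fintype.card K = 2 ^ (2 * k + 1) ∧ 2 * k + 1 ∣ 2 * m + 1 ∧
      ∃ S : Subgroup (Cfsg.Sz F m), Nonempty (S ≃* Cfsg.Sz K k) ∧ M ≤ S)

theorem tG_comm_center (hF : Fintype.card F = 2 ^ (2 * m + 1)) (b a' b' : F) :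
    Helper60.tG hF 0 b * Helper60.tG hF a' b' = Helper60.tG hF a' b' * Helper60.tG hF 0 b := by
  rw [Helper60.tG_mul, Helper60.tG_mul]
  congr 1
  · ring
  · simp
    ring

/-- a `2`-subgroup of translations inside the normaliser of a torus has order at most `4` -/
theorem szTorus_two_sub_card (hm : 1 ≤ m) (hF : Fintype.card F = 2 ^ (2 * m + 1))
    {u : Cfsg.Sz F m} (hu : u ∈ szE F m ∨ u ∈ szDE hF) {S : Subgroup (Cfsg.Sz F m)}
    (hSU : S ≤ Helper60.Uo hF)
    (hSN : S ≤ Subgroup.normalizer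
      ((Subgroup.centralizer ({u} : Set (Cfsg.Sz F m)) : Subgroup (Cfsg.Sz F m)) :
        Set (Cfsg.Sz F m))) : Nat.card S ≤ 4 := by
  have hodd : Odd (Nat.card (Subgroup.centralizer ({u} : Set (Cfsg.Sz F m)))) := by
    rcases hu with hu | hu
    · have hdvd := szTor_card_dvd hm hF hu
      have hodd := sz_q_sq_add_one_odd (F := F) hF
      obtain ⟨k, hk⟩ := hdvd
      rw [hk] at hodd
      exact (Nat.odd_mul.1 hodd).1
    · rw [(szDtor hm hF hu).2]
      exact szp_odd hm (by simp)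
  let ι : S × Subgroup.centralizer ({u} : Set (Cfsg.Sz F m)) → Subgroup.normalizer
      ((Subgroup.centralizer ({u} : Set (Cfsg.Sz F m)) : Subgroup (Cfsg.Sz F m)) :
        Set (Cfsg.Sz F m)) :=
    fun p => ⟨(p.1 : Cfsg.Sz F m) * (p.2 : Cfsg.Sz F m),
      mul_mem (hSN p.1.2) (Subgroup.le_normalizer p.2.2)⟩
  have hι : Function.Injective ι := by
    rintro ⟨s₁, c₁⟩ ⟨s₂, c₂⟩ h
    have h1 : (s₁ : Cfsg.Sz F m) * (c₁ : Cfsg.Sz F m) = (s₂ : Cfsg.Sz F m) * (c₂ : Cfsg.Sz F m) :=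
      congrArg Subtype.val h
    have h2 : (s₂ : Cfsg.Sz F m)⁻¹ * (s₁ : Cfsg.Sz F m) =
        (c₂ : Cfsg.Sz F m) * (c₁ : Cfsg.Sz F m)⁻¹ := by
      rw [inv_mul_eq_iff_eq_mul, ← mul_assoc, eq_mul_inv_iff_mul_eq, h1]
    have h3 : (s₂ : Cfsg.Sz F m)⁻¹ * (s₁ : Cfsg.Sz F m) = 1 := by
      have hmemU : (s₂ : Cfsg.Sz F m)⁻¹ * (s₁ : Cfsg.Sz F m) ∈
          ((Helper60.UoSylow hF hm : Sylow 2 (Cfsg.Sz F m)) : Subgroup (Cfsg.Sz F m)) := by
        rw [Helper60.coe_UoSylow]
        exact hSU (mul_mem (inv_mem s₂.2) s₁.2)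
      have hmemC : (s₂ : Cfsg.Sz F m)⁻¹ * (s₁ : Cfsg.Sz F m) ∈
          Subgroup.centralizer ({u} : Set (Cfsg.Sz F m)) := by
        rw [h2]
        exact mul_mem c₂.2 (inv_mem c₁.2)
      exact h6_eq_one_of_sylow_two_of_odd _ hmemU hodd (h6_pow_card_subgroup hmemC)
    have h4 : (s₁ : Cfsg.Sz F m) = s₂ := by
      rw [inv_mul_eq_one] at h3
      exact h3.symm
    have h5 : (c₁ : Cfsg.Sz F m) = c₂ := by
      rw [h4] at h1
      exact mul_left_cancel h1
    exact Prod.ext (Subtype.ext h4) (Subtype.ext h5)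
  have h1 := Nat.card_le_card_of_injective ι hι
  rw [Nat.card_prod] at h1
  have hpos : 0 < Nat.card (Subgroup.centralizer ({u} : Set (Cfsg.Sz F m))) := Nat.card_pos
  have h2 : Nat.card (Subgroup.normalizer
      ((Subgroup.centralizer ({u} : Set (Cfsg.Sz F m)) : Subgroup (Cfsg.Sz F m)) :
        Set (Cfsg.Sz F m))) ≤ 4 * Nat.card (Subgroup.centralizer ({u} : Set (Cfsg.Sz F m))) := by
    rcases hu with hu | hu
    · rw [szEnorm_card hm hF hu]
    · rw [szDnorm_card hm hF hu, (szDtor hm hF hu).2]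
      omega
  exact Nat.le_of_mul_le_mul_right (h1.trans h2) hpos

theorem szp_gt_one {m : ℕ} (hm : 1 ≤ m) {n : ℕ}
    (hmem : n ∈ ({2 ^ (2 * m + 1) - 1, 2 ^ (2 * m + 1) + 2 ^ (m + 1) + 1,
      2 ^ (2 * m + 1) - 2 ^ (m + 1) + 1} : Set ℕ)) : 1 < n := by
  obtain ⟨h1, h2, h3, h4, h5⟩ := szp_num hm
  simp only [Set.mem_insert_iff, Set.mem_singleton_iff] at hmem
  generalize 2 ^ (2 * m + 1) = q at *
  generalize 2 ^ (m + 1) = s at *
  rcases hmem with h | h | h <;> omega

theorem tG_split (hF : Fintype.card F = 2 ^ (2 * m + 1)) (a b₁ b' : F) :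
    Helper60.tG hF a b' = Helper60.tG hF a b₁ * Helper60.tG hF 0 (b₁ + b') := by
  have h2 : (2 : F) = 0 := sz_two
  rw [Helper60.tG_mul]
  congr 1
  · ring
  · linear_combination (-b₁) * h2

theorem dG_mul_inv (hF : Fintype.card F = 2 ^ (2 * m + 1)) (s : Fˣ) :
    Helper60.dG hF s * Helper60.dG hF s⁻¹ = (1 : Cfsg.Sz F m) := by
  rw [← dG_mul, mul_inv_cancel]
  exact (dG_eq_one_iff hF).2 rfl

theorem dG_inv_mul (hF : Fintype.card F = 2 ^ (2 * m + 1)) (s : Fˣ) :
    Helper60.dG hF s⁻¹ * Helper60.dG hF s = (1 : Cfsg.Sz F m) := by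
  rw [← dG_mul, inv_mul_cancel]
  exact (dG_eq_one_iff hF).2 rfl

/-- conjugating a central translation by a diagonal element -/
theorem tG_center_mul_dG (hF : Fintype.card F = 2 ^ (2 * m + 1)) (b : F) (s : Fˣ) :
    ∃ c : F, Helper60.tG hF 0 b * Helper60.dG hF s = Helper60.dG hF s * Helper60.tG hF 0 c := by
  refine ⟨szS F m (s⁻¹ : Fˣ) ^ 2 * ((s⁻¹ : Fˣ) : F) ^ 2 * b, ?_⟩
  have e1 : Helper60.dG hF s⁻¹ * Helper60.tG hF 0 b =
      Helper60.tG hF 0 (szS F m (s⁻¹ : Fˣ) ^ 2 * ((s⁻¹ : Fˣ) : F) ^ 2 * b) * Helper60.dG hF s⁻¹ := by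
    rw [Helper60.dG_mul_tG, mul_zero]
  calc Helper60.tG hF 0 b * Helper60.dG hF s
      = (Helper60.dG hF s * Helper60.dG hF s⁻¹) * Helper60.tG hF 0 b * Helper60.dG hF s := by
        rw [dG_mul_inv, one_mul]
    _ = Helper60.dG hF s * (Helper60.dG hF s⁻¹ * Helper60.tG hF 0 b) * Helper60.dG hF s := by
        group
    _ = Helper60.dG hF s * (Helper60.tG hF 0 (szS F m (s⁻¹ : Fˣ) ^ 2 * ((s⁻¹ : Fˣ) : F) ^ 2 * b) *
          Helper60.dG hF s⁻¹) * Helper60.dG hF s := by rw [e1]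
    _ = Helper60.dG hF s * Helper60.tG hF 0 (szS F m (s⁻¹ : Fˣ) ^ 2 * ((s⁻¹ : Fˣ) : F) ^ 2 * b) *
          (Helper60.dG hF s⁻¹ * Helper60.dG hF s) := by group
    _ = _ := by rw [dG_inv_mul, mul_one]

/-- a point stabiliser containing an involution, in an action of the Suzuki group where
non-identity elements fix at most two points, is a point stabiliser of the ovoid -/
theorem szFix_invol (hm : 1 ≤ m) (hF : Fintype.card F = 2 ^ (2 * m + 1)) (hsub : SzSubHyp F m)
    {Ω : Type*} [Finite Ω] [MulAction (Cfsg.Sz F m) Ω]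
    (hfix : ∀ g : Cfsg.Sz F m, g ≠ 1 → Nat.card (MulAction.fixedBy Ω g) ≤ 2)
    (α : Ω) {b : F} (hb : b ≠ 0)
    (ht : Helper60.tG hF 0 b ∈ MulAction.stabilizer (Cfsg.Sz F m) α)
    (hne : MulAction.stabilizer (Cfsg.Sz F m) α ≠ ⊤) :
    MulAction.stabilizer (Cfsg.Sz F m) α = Helper60.Bo F m := by
  have h2 : (2 : F) = 0 := sz_two
  have ht1 : Helper60.tG hF 0 b ≠ 1 := by
    intro h
    rw [← Helper60.tG_zero hF] at h
    exact hb (Helper60.tG_inj hF h).2
  have hq8 := sz_q_ge hm hF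
  have hS : Fintype.card F ^ 2 ≤ 2 * Nat.card (Helper60.Uo hF ⊓
      MulAction.stabilizer (Cfsg.Sz F m) α : Subgroup (Cfsg.Sz F m)) := by
    have h1 := h6_card_le_fixedBy α (Helper60.tG hF 0 b) (Helper60.Uo hF) (by
      rintro x ⟨a', b', rfl⟩
      rw [← mul_smul, tG_comm_center, mul_smul, MulAction.mem_stabilizer_iff.1 ht])
    rw [Helper60.card_Uo] at h1
    exact h1.trans (Nat.mul_le_mul_right _ (hfix _ ht1))
  have hMB : MulAction.stabilizer (Cfsg.Sz F m) α ≤ Helper60.Bo F m := by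
    rcases hsub _ hne with ⟨P, hP⟩ | ⟨U, hUc, hUcard, hU⟩ |
      ⟨K, instK, instK', k, hk1, hkm, hK, hdiv, S', ⟨ε⟩, hS'⟩
    · obtain ⟨p, hp, hiff⟩ := szSylow_normalizer hm hF P
      have hp' : p = Cfsg.suzukiPointInfinity F := by
        apply Helper60.ov_fix_T hF (a := 0) (b := b) (by rintro ⟨-, h⟩; exact hb h) hp
        exact (hiff _).1 (hP ht)
      subst hp'
      intro g hg
      exact (hiff g).1 (hP hg)
    · exfalso
      have hU1 : 1 < Nat.card U := szp_gt_one hm hUcard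
      have hUne : U ≠ ⊥ := (Subgroup.one_lt_card_iff_ne_bot U).1 hU1
      obtain ⟨u', hu'⟩ := (Subgroup.ne_bot_iff_exists_ne_one (H := U)).1 hUne
      obtain ⟨hutype, hUeq⟩ := szTorus_of_cyclic hm hF hUc hUcard u'.2
        (fun h => hu' (Subtype.ext h))
      rw [hUeq] at hU
      have h4 := szTorus_two_sub_card hm hF hutype
        (S := Helper60.Uo hF ⊓ MulAction.stabilizer (Cfsg.Sz F m) α) inf_le_left
        (inf_le_right.trans hU)
      nlinarith
    · exfalso
      have : CharP K 2 := sz_charP hK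
      have hcardS' : Nat.card S' =
          (Fintype.card K ^ 2 + 1) * (Fintype.card K ^ 2 * (Fintype.card K - 1)) := by
        rw [Nat.card_congr ε.toEquiv, sz_card hk1 hK]
      have hdvd1 : Nat.card (Helper60.Uo hF ⊓ MulAction.stabilizer (Cfsg.Sz F m) α :
          Subgroup (Cfsg.Sz F m)) ∣ Nat.card S' := Subgroup.card_dvd_of_le (inf_le_right.trans hS')
      have hdvd2 : Nat.card (Helper60.Uo hF ⊓ MulAction.stabilizer (Cfsg.Sz F m) α :
          Subgroup (Cfsg.Sz F m)) ∣ Fintype.card F ^ 2 := by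
        rw [← Helper60.card_Uo hF]
        exact Subgroup.card_dvd_of_le inf_le_left
      rw [hF, ← pow_mul] at hdvd2
      obtain ⟨i, hi, hcard⟩ := (Nat.dvd_prime_pow Nat.prime_two).1 hdvd2
      rw [hcard, hcardS', hK] at hdvd1
      have hodd1 : Odd ((2 ^ (2 * k + 1)) ^ 2 + 1) := by
        refine Even.add_one ?_
        rw [← pow_mul]
        exact (Nat.even_pow' (by omega)).2 even_two
      have hodd2 : Odd (2 ^ (2 * k + 1) - 1) := by
        have h1 : Even (2 ^ (2 * k + 1)) := (Nat.even_pow' (by omega)).2 even_two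
        have h3 : 1 ≤ 2 ^ (2 * k + 1) := Nat.one_le_two_pow
        obtain ⟨j, hj⟩ := h1
        rw [hj, Nat.odd_iff]
        omega
      have hcop1 : Nat.Coprime (2 ^ i) ((2 ^ (2 * k + 1)) ^ 2 + 1) :=
        Nat.Coprime.pow_left i (Nat.coprime_two_left.2 hodd1)
      have hcop2 : Nat.Coprime (2 ^ i) (2 ^ (2 * k + 1) - 1) :=
        Nat.Coprime.pow_left i (Nat.coprime_two_left.2 hodd2)
      have h4 := hcop1.dvd_of_dvd_mul_left hdvd1
      have h5 := hcop2.dvd_of_dvd_mul_right h4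
      rw [← pow_mul] at h5
      have h6 : i ≤ (2 * k + 1) * 2 := (Nat.pow_dvd_pow_iff_le_right (by norm_num)).1 h5
      rw [hF, hcard, ← pow_mul, ← pow_succ'] at hS
      have h7 : (2 * m + 1) * 2 ≤ i + 1 := (Nat.pow_le_pow_iff_right (by norm_num)).1 hS
      omega
  have hZ : ∀ b' : F, Helper60.tG hF 0 b' ∈ MulAction.stabilizer (Cfsg.Sz F m) α := by
    intro b'
    have hsurj : Function.Surjective (fun a : F => szS F m a * a) :=
      Finite.injective_iff_surjective.1 (fun a a' h => sz_sigma_mul_inj hF h)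
    obtain ⟨a', ha'⟩ := hsurj b'
    have h1 := h6_sq_mem_of_card_le (inf_le_left : Helper60.Uo hF ⊓
      MulAction.stabilizer (Cfsg.Sz F m) α ≤ Helper60.Uo hF)
      (by rw [Helper60.card_Uo]; exact hS) (Helper60.tG_mem_Uo hF a' 0)
    rw [pow_two, tG_sq] at h1
    have ha'' : szS F m a' * a' = b' := ha'
    rw [ha''] at h1
    exact h1.2
  have hB : Nat.card (Helper60.Bo F m) ≤ 2 * Nat.card (MulAction.stabilizer (Cfsg.Sz F m) α) := by
    have h1 := h6_card_le_fixedBy α (Helper60.tG hF 0 b) (Helper60.Bo F m) (by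
      intro x hx
      obtain ⟨a', b', s, rfl⟩ := (Helper60.mem_Bo_iff hF hm).1 hx
      obtain ⟨c, hc⟩ := tG_center_mul_dG hF b s
      have e : Helper60.tG hF 0 b * (Helper60.tG hF a' b' * Helper60.dG hF s) =
          (Helper60.tG hF a' b' * Helper60.dG hF s) * Helper60.tG hF 0 c := by
        rw [← mul_assoc, tG_comm_center, mul_assoc, hc, ← mul_assoc]
      rw [← mul_smul, e, mul_smul, MulAction.mem_stabilizer_iff.1 (hZ c)])
    rw [inf_eq_right.2 hMB] at h1
    exact h1.trans (Nat.mul_le_mul_right _ (hfix _ ht1))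
  have hBM : Helper60.Bo F m ≤ MulAction.stabilizer (Cfsg.Sz F m) α := by
    have hD : ∀ s : Fˣ, Helper60.dG hF s ∈ MulAction.stabilizer (Cfsg.Sz F m) α := by
      intro s
      obtain ⟨r0, hr0⟩ : ∃ r0 : F, (s : F) = r0 * r0 :=
        FiniteField.isSquare_of_char_two (ringChar.eq F 2) _
      have hr00 : r0 ≠ 0 := by
        rintro rfl
        simp at hr0
      have hs : s = Units.mk0 r0 hr00 * Units.mk0 r0 hr00 := by
        apply Units.ext
        simp [hr0]
      have h1 := h6_sq_mem_of_card_le hMB hB (Helper60.dG_mem_Bo hF (Units.mk0 r0 hr00))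
      rw [pow_two, ← dG_mul, ← hs] at h1
      exact h1
    have hT : ∀ a' b' : F, Helper60.tG hF a' b' ∈ MulAction.stabilizer (Cfsg.Sz F m) α := by
      intro a' b'
      obtain ⟨s, hs⟩ := sz_exists_unit_ne_one (F := F) hm hF
      have hs2 : (1 : F) + (s : F) ^ 2 ≠ 0 := by
        intro h
        apply hs
        apply Units.ext
        have : ((s : F) - 1) ^ 2 = 0 := by linear_combination h - (s : F) * h2
        exact sub_eq_zero.1 ((pow_eq_zero_iff two_ne_zero).1 this)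
      have hy := h6_sq_mem_of_card_le hMB hB
        (mul_mem (Helper60.tG_mem_Bo hF (a' / (1 + (s : F) ^ 2)) 0) (Helper60.dG_mem_Bo hF s))
      have e : (Helper60.tG hF (a' / (1 + (s : F) ^ 2)) 0 * Helper60.dG hF s) ^ 2 =
          Helper60.tG hF (a' / (1 + (s : F) ^ 2)) 0 *
            Helper60.tG hF ((s : F) ^ 2 * (a' / (1 + (s : F) ^ 2)))
              (szS F m s ^ 2 * (s : F) ^ 2 * 0) * Helper60.dG hF (s * s) := by
        have h3 := Helper60.dG_mul_tG hF s (a' / (1 + (s : F) ^ 2)) 0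
        rw [pow_two, dG_mul]
        calc Helper60.tG hF (a' / (1 + (s : F) ^ 2)) 0 * Helper60.dG hF s *
              (Helper60.tG hF (a' / (1 + (s : F) ^ 2)) 0 * Helper60.dG hF s)
            = Helper60.tG hF (a' / (1 + (s : F) ^ 2)) 0 *
              (Helper60.dG hF s * Helper60.tG hF (a' / (1 + (s : F) ^ 2)) 0) *
                Helper60.dG hF s := by group
          _ = _ := by rw [h3]; group
      rw [e, Helper60.tG_mul] at hy
      have h4 := mul_mem hy (inv_mem (hD (s * s)))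
      rw [mul_inv_cancel_right] at h4
      have hcc : a' / (1 + (s : F) ^ 2) + (s : F) ^ 2 * (a' / (1 + (s : F) ^ 2)) = a' := by
        field_simp
      rw [hcc] at h4
      rw [tG_split hF a' _ b']
      exact mul_mem h4 (hZ _)
    intro g hg
    obtain ⟨a', b', s, rfl⟩ := (Helper60.mem_Bo_iff hF hm).1 hg
    exact mul_mem (hT a' b') (hD s)
  exact le_antisymm hMB hBM

omit [CharP F 2] in
theorem Bo_eq_stabilizer :
    Helper60.Bo F m = MulAction.stabilizer (Cfsg.Sz F m) (Cfsg.suzukiPointInfinity F) :=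
  Subgroup.ext fun _ => Iff.rfl

theorem card_Bo (hm : 1 ≤ m) (hF : Fintype.card F = 2 ^ (2 * m + 1)) :
    Nat.card (Helper60.Bo F m) = Fintype.card F ^ 2 * (Fintype.card F - 1) := by
  rw [Bo_eq_stabilizer, sz_stab_inf_card hm hF]

/-- an action of the Suzuki group with the ovoid point stabiliser as a point stabiliser is doubly
transitive of degree `q² + 1` -/
theorem szFix_Bo (hm : 1 ≤ m) (hF : Fintype.card F = 2 ^ (2 * m + 1))
    {Ω : Type*} [Fintype Ω] [MulAction (Cfsg.Sz F m) Ω]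
    [MulAction.IsPretransitive (Cfsg.Sz F m) Ω] (α : Ω)
    (hM : MulAction.stabilizer (Cfsg.Sz F m) α = Helper60.Bo F m) :
    Fintype.card Ω = Fintype.card F ^ 2 + 1 ∧
      ∀ a b c d : Ω, a ≠ b → c ≠ d → ∃ g : Cfsg.Sz F m, g • a = c ∧ g • b = d := by
  classical
  have hq8 := sz_q_ge hm hF
  have hcardΩ : Fintype.card Ω = Fintype.card F ^ 2 + 1 := by
    have h1 := MulAction.index_stabilizer_of_transitive (Cfsg.Sz F m) α
    have h2 := Subgroup.index_mul_card (MulAction.stabilizer (Cfsg.Sz F m) α)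
    rw [h1, hM, card_Bo hm hF, sz_card hm hF, Nat.card_eq_fintype_card] at h2
    have hpos : 0 < Fintype.card F ^ 2 * (Fintype.card F - 1) := by
      have : 0 < Fintype.card F - 1 := by omega
      positivity
    exact Nat.eq_of_mul_eq_mul_right hpos h2
  refine ⟨hcardΩ, ?_⟩
  -- translations act regularly on the points other than `α`
  have hfree : ∀ (w : Cfsg.Sz F m), w ∈ Helper60.Uo hF → ∀ β : Ω, β ≠ α → w • β = β → w = 1 := by
    rintro w ⟨a, b, rfl⟩ β hβ hfix
    obtain ⟨y, rfl⟩ := MulAction.exists_smul_eq (Cfsg.Sz F m) α β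
    by_contra hw
    apply hβ
    have h1 : y⁻¹ * Helper60.tG hF a b * y ∈ MulAction.stabilizer (Cfsg.Sz F m) α := by
      rw [MulAction.mem_stabilizer_iff, mul_smul, mul_smul, hfix, inv_smul_smul]
    rw [hM, Helper60.mem_Bo] at h1
    have h2 : szT m a b • ((y : SpecialLinearGroup (Fin 4) F) • Cfsg.suzukiPointInfinity F) =
        (y : SpecialLinearGroup (Fin 4) F) • Cfsg.suzukiPointInfinity F := by
      have h3 : ((y : SpecialLinearGroup (Fin 4) F)⁻¹ * szT m a b *
          (y : SpecialLinearGroup (Fin 4) F)) • Cfsg.suzukiPointInfinity F =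
          Cfsg.suzukiPointInfinity F := h1
      rw [mul_smul, mul_smul, inv_smul_eq_iff] at h3
      exact h3
    have hab : ¬ (a = 0 ∧ b = 0) := by
      rintro ⟨rfl, rfl⟩
      exact hw (Helper60.tG_zero hF)
    have h4 := Helper60.ov_fix_T hF hab (sz_mem_smul_mem y.2 inf_mem_ovoid) h2
    have h5 : y ∈ MulAction.stabilizer (Cfsg.Sz F m) α := by
      rw [hM, Helper60.mem_Bo]
      exact h4
    exact MulAction.mem_stabilizer_iff.1 h5
  have hUM : Helper60.Uo hF ≤ MulAction.stabilizer (Cfsg.Sz F m) α := by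
    rw [hM]
    exact Helper60.Uo_le_Bo hF
  have htrans : ∀ β γ : Ω, β ≠ α → γ ≠ α → ∃ u ∈ Helper60.Uo hF, u • β = γ := by
    intro β γ hβ hγ
    let φ : Helper60.Uo hF → {δ : Ω // δ ≠ α} := fun u => ⟨(u : Cfsg.Sz F m) • β, by
      intro h
      apply hβ
      have h1 : ((u : Cfsg.Sz F m))⁻¹ • α = β := by rw [inv_smul_eq_iff, h]
      rw [← h1]
      exact MulAction.mem_stabilizer_iff.1 (hUM (inv_mem u.2))⟩
    have hφ : Function.Injective φ := by
      intro u u' h
      have h1 : (u : Cfsg.Sz F m) • β = (u' : Cfsg.Sz F m) • β := congrArg Subtype.val h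
      have h2 : ((u' : Cfsg.Sz F m)⁻¹ * (u : Cfsg.Sz F m)) • β = β := by
        rw [mul_smul, h1, inv_smul_smul]
      have h3 := hfree _ (mul_mem (inv_mem u'.2) u.2) β hβ h2
      rw [inv_mul_eq_one] at h3
      exact Subtype.ext h3.symm
    have hcard : Nat.card {δ : Ω // δ ≠ α} ≤ Nat.card (Helper60.Uo hF) := by
      rw [Helper60.card_Uo, Nat.card_eq_fintype_card, Fintype.card_subtype_compl, hcardΩ]
      simp
    obtain ⟨u, hu⟩ := (hφ.bijective_of_nat_card_le hcard).2 ⟨γ, hγ⟩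
    exact ⟨u, u.2, congrArg Subtype.val hu⟩
  intro a b c d hab hcd
  obtain ⟨g₁, hg₁⟩ := MulAction.exists_smul_eq (Cfsg.Sz F m) a α
  obtain ⟨g₂, hg₂⟩ := MulAction.exists_smul_eq (Cfsg.Sz F m) c α
  have hb : g₁ • b ≠ α := by
    intro h
    rw [← hg₁] at h
    exact hab (smul_left_cancel g₁ h).symm
  have hd : g₂ • d ≠ α := by
    intro h
    rw [← hg₂] at h
    exact hcd (smul_left_cancel g₂ h).symm
  obtain ⟨u, hu, hub⟩ := htrans _ _ hb hd
  refine ⟨g₂⁻¹ * u * g₁, ?_, ?_⟩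
  · rw [mul_smul, mul_smul, hg₁, MulAction.mem_stabilizer_iff.1 (hUM hu), inv_smul_eq_iff, hg₂]
  · rw [mul_smul, mul_smul, hub, inv_smul_smul]

theorem tG_pow_four (hF : Fintype.card F = 2 ^ (2 * m + 1)) (a b : F) :
    (Helper60.tG hF a b : Cfsg.Sz F m) ^ 4 = 1 := by
  have e4 : (Helper60.tG hF a b : Cfsg.Sz F m) ^ 4 =
      (Helper60.tG hF a b * Helper60.tG hF a b) * (Helper60.tG hF a b * Helper60.tG hF a b) := by
    simp only [pow_succ, pow_zero, one_mul, mul_assoc]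
  rw [e4, tG_sq, tG_sq, map_zero, zero_mul, Helper60.tG_zero]

/-- an element of odd order conjugate to a translation is trivial -/
theorem tG_conj_odd (hF : Fintype.card F = 2 ^ (2 * m + 1)) {x y : Cfsg.Sz F m} {a b : F}
    (e : y * x * y⁻¹ = Helper60.tG hF a b) (hodd : Odd (orderOf x)) : x = 1 := by
  have h1 : orderOf (y * x * y⁻¹) = orderOf x :=
    orderOf_injective (MulAut.conj y).toMonoidHom (MulAut.conj y).injective x
  rw [e] at h1
  have h2 : orderOf (Helper60.tG hF a b : Cfsg.Sz F m) ∣ 2 ^ 2 :=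
    orderOf_dvd_of_pow_eq_one (tG_pow_four hF a b)
  rw [h1] at h2
  have hcop : Nat.Coprime (orderOf x) (2 ^ 2) :=
    (Nat.Coprime.pow_left 2 (Nat.coprime_two_left.2 hodd)).symm
  have h3 : orderOf x = 1 := Nat.Coprime.eq_one_of_dvd hcop h2
  exact orderOf_eq_one_iff.1 h3

/-- a nontrivial point stabiliser without involutions, in an action of the Suzuki group where
non-identity elements fix at most two points, has order `q - 1` -/
theorem szFix_odd (hm : 1 ≤ m) (hF : Fintype.card F = 2 ^ (2 * m + 1))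
    {Ω : Type*} [Finite Ω] [MulAction (Cfsg.Sz F m) Ω]
    (hfix : ∀ g : Cfsg.Sz F m, g ≠ 1 → Nat.card (MulAction.fixedBy Ω g) ≤ 2) (α : Ω)
    (hinv : ∀ t ∈ MulAction.stabilizer (Cfsg.Sz F m) α, orderOf t ≠ 2)
    (hne : MulAction.stabilizer (Cfsg.Sz F m) α ≠ ⊥) :
    Nat.card (MulAction.stabilizer (Cfsg.Sz F m) α) = Fintype.card F - 1 := by
  have hZ : IsZGroup (MulAction.stabilizer (Cfsg.Sz F m) α) :=
    szSub_isZGroup hm hF _ (fun t₁ ht₁ t₂ ht₂ ho₁ => absurd ho₁ (hinv t₁ ht₁))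
  have hsolv : Group.IsSolvable (MulAction.stabilizer (Cfsg.Sz F m) α) := inferInstance
  have hnt : Nontrivial (MulAction.stabilizer (Cfsg.Sz F m) α) :=
    (Subgroup.nontrivial_iff_ne_bot _).2 hne
  obtain ⟨X, hXn, hXne, hXab⟩ := h6_exists_abelian_normal (MulAction.stabilizer (Cfsg.Sz F m) α)
  obtain ⟨x₀', hx₀'⟩ := (Subgroup.ne_bot_iff_exists_ne_one (H := X)).1 hXne
  obtain ⟨x₀, hx₀M, hx₀X, hx₀1⟩ : ∃ x₀ : Cfsg.Sz F m,
      ∃ h : x₀ ∈ MulAction.stabilizer (Cfsg.Sz F m) α, (⟨x₀, h⟩ : MulAction.stabilizer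
        (Cfsg.Sz F m) α) ∈ X ∧ x₀ ≠ 1 :=
    ⟨x₀'.1.1, x₀'.1.2, x₀'.2, fun h => hx₀' (Subtype.ext (Subtype.ext h))⟩
  have hoddM : ∀ x ∈ MulAction.stabilizer (Cfsg.Sz F m) α, Odd (orderOf x) := by
    intro x hx
    by_contra hodd
    rw [Nat.not_odd_iff_even] at hodd
    obtain ⟨k, hk⟩ := hodd
    have hpos : 0 < orderOf x := orderOf_pos x
    have hk0 : k ≠ 0 := by omega
    have h1 : orderOf (x ^ k) = 2 := by
      rw [orderOf_pow_of_dvd hk0 ⟨2, by omega⟩, hk]
      have : k + k = 2 * k := by ring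
      rw [this, Nat.mul_div_cancel _ (by omega)]
    exact hinv _ (pow_mem hx k) h1
  have hx₀ : x₀ ∈ szE F m ∨ x₀ ∈ szDE hF := by
    rcases sz_trichotomy hm hF hx₀1 with hE | ⟨y, a, b, hab, e⟩ | ⟨y, t, ht, e⟩
    · exact Or.inl hE
    · exact absurd (tG_conj_odd hF e (hoddM x₀ hx₀M)) hx₀1
    · exact Or.inr ⟨y, t, ht, e⟩
  have hself : x₀ ∈ Subgroup.centralizer ({x₀} : Set (Cfsg.Sz F m)) :=
    Subgroup.mem_centralizer_singleton_iff.2 rfl
  have hMN : MulAction.stabilizer (Cfsg.Sz F m) α ≤ Subgroup.normalizer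
      ((Subgroup.centralizer ({x₀} : Set (Cfsg.Sz F m)) : Subgroup (Cfsg.Sz F m)) :
        Set (Cfsg.Sz F m)) := by
    intro l hl
    have h1 : (⟨l, hl⟩ : MulAction.stabilizer (Cfsg.Sz F m) α) * ⟨x₀, hx₀M⟩ * ⟨l, hl⟩⁻¹ ∈ X :=
      hXn.conj_mem _ hx₀X _
    have h2 := hXab _ h1 _ hx₀X
    have h3 : l * x₀ * l⁻¹ * x₀ = x₀ * (l * x₀ * l⁻¹) := congrArg Subtype.val h2
    have h4 : l * x₀ * l⁻¹ ∈ Subgroup.centralizer ({x₀} : Set (Cfsg.Sz F m)) :=
      Subgroup.mem_centralizer_singleton_iff.2 h3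
    rcases hx₀ with hE | hD
    · exact ti_mem_normalizer (szE_tiData hm hF) hE hself hx₀1 h4
    · exact ti_mem_normalizer (szDE_tiData hm hF) hD hself hx₀1 h4
  have hMU : MulAction.stabilizer (Cfsg.Sz F m) α ≤
      Subgroup.centralizer ({x₀} : Set (Cfsg.Sz F m)) :=
    fun x hx => szTorus_mem_of_odd hm hF hx₀ (hMN hx) (hoddM x hx)
  have hUodd : Odd (Nat.card (Subgroup.centralizer ({x₀} : Set (Cfsg.Sz F m)))) := by
    rcases hx₀ with hu | hu
    · have hdvd := szTor_card_dvd hm hF hu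
      have hodd := sz_q_sq_add_one_odd (F := F) hF
      obtain ⟨k, hk⟩ := hdvd
      rw [hk] at hodd
      exact (Nat.odd_mul.1 hodd).1
    · rw [(szDtor hm hF hu).2]
      exact szp_odd hm (by simp)
  have h1 := h6_card_le_fixedBy α x₀ (Subgroup.centralizer ({x₀} : Set (Cfsg.Sz F m))) (by
    intro x hx
    rw [Subgroup.mem_centralizer_singleton_iff] at hx
    rw [← mul_smul, ← hx, mul_smul, MulAction.mem_stabilizer_iff.1 hx₀M])
  rw [inf_eq_right.2 hMU] at h1
  have h2 := h1.trans (Nat.mul_le_mul_right _ (hfix _ hx₀1))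
  have hcardeq : Nat.card (MulAction.stabilizer (Cfsg.Sz F m) α) =
      Nat.card (Subgroup.centralizer ({x₀} : Set (Cfsg.Sz F m))) := by
    have h3 := h6_card_eq_card_mul_relIndex hMU
    have hMpos : 0 < Nat.card (MulAction.stabilizer (Cfsg.Sz F m) α) := Nat.card_pos
    rw [h3] at hUodd h2
    have hj := (Nat.odd_mul.1 hUodd).2
    have hj2 : (MulAction.stabilizer (Cfsg.Sz F m) α).relIndex
        (Subgroup.centralizer ({x₀} : Set (Cfsg.Sz F m))) ≤ 2 := by
      rw [mul_comm 2] at h2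
      exact Nat.le_of_mul_le_mul_left h2 hMpos
    have hj1 : (MulAction.stabilizer (Cfsg.Sz F m) α).relIndex
        (Subgroup.centralizer ({x₀} : Set (Cfsg.Sz F m))) = 1 := by
      rw [Nat.odd_iff] at hj
      omega
    rw [h3, hj1, mul_one]
  rcases hx₀ with hE | hD
  · exfalso
    have hMeq : MulAction.stabilizer (Cfsg.Sz F m) α =
        Subgroup.centralizer ({x₀} : Set (Cfsg.Sz F m)) :=
      Subgroup.eq_of_le_of_card_ge hMU hcardeq.ge
    have h5 := h6_card_le_fixedBy α x₀ (Subgroup.normalizer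
      ((Subgroup.centralizer ({x₀} : Set (Cfsg.Sz F m)) : Subgroup (Cfsg.Sz F m)) :
        Set (Cfsg.Sz F m))) (by
      intro x hx
      have hx' : x⁻¹ ∈ Subgroup.normalizer
          ((Subgroup.centralizer ({x₀} : Set (Cfsg.Sz F m)) : Subgroup (Cfsg.Sz F m)) :
            Set (Cfsg.Sz F m)) := inv_mem hx
      rw [Subgroup.mem_normalizer_iff] at hx'
      have h6 := (hx' x₀).1 hself
      rw [inv_inv, ← hMeq, MulAction.mem_stabilizer_iff] at h6
      rw [mul_smul, mul_smul, inv_smul_eq_iff] at h6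
      exact h6)
    rw [inf_eq_right.2 hMN, szEnorm_card hm hF hE, ← hcardeq] at h5
    have h6 := h5.trans (Nat.mul_le_mul_right _ (hfix _ hx₀1))
    have hMpos : 0 < Nat.card (MulAction.stabilizer (Cfsg.Sz F m) α) := Nat.card_pos
    omega
  · rw [hcardeq, (szDtor hm hF hD).2, hF]

/-- **fixity two actions of the Suzuki group**, on the ovoid model, assuming the subgroup theorem -/
theorem sz_fixity_two (hm : 1 ≤ m) (hF : Fintype.card F = 2 ^ (2 * m + 1)) (hsub : SzSubHyp F m)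
    {Ω : Type*} [Fintype Ω] [MulAction (Cfsg.Sz F m) Ω]
    [MulAction.IsPretransitive (Cfsg.Sz F m) Ω]
    (hfix : ∀ g : Cfsg.Sz F m, g ≠ 1 → Nat.card (MulAction.fixedBy Ω g) ≤ 2)
    (hex : ∃ g : Cfsg.Sz F m, g ≠ 1 ∧ Nat.card (MulAction.fixedBy Ω g) = 2) :
    (Fintype.card Ω = Fintype.card F ^ 2 + 1 ∧
      ∀ a b c d : Ω, a ≠ b → c ≠ d → ∃ g : Cfsg.Sz F m, g • a = c ∧ g • b = d) ∨
    (Fintype.card Ω = Fintype.card F ^ 2 * (Fintype.card F ^ 2 + 1) ∧
      ∀ α : Ω, Nat.card (MulAction.stabilizer (Cfsg.Sz F m) α) = Fintype.card F - 1) := by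
  have hq8 := sz_q_ge hm hF
  obtain ⟨g₀, hg₀1, hg₀⟩ := hex
  have hne : Nonempty (MulAction.fixedBy Ω g₀) := by
    rw [← Finite.card_pos_iff, hg₀]
    norm_num
  obtain ⟨⟨α₀, hα₀⟩⟩ := hne
  have hg₀M : g₀ ∈ MulAction.stabilizer (Cfsg.Sz F m) α₀ := hα₀
  have hMbot : MulAction.stabilizer (Cfsg.Sz F m) α₀ ≠ ⊥ := by
    intro h
    rw [h] at hg₀M
    exact hg₀1 (Subgroup.mem_bot.1 hg₀M)
  have hMtop : ∀ α : Ω, MulAction.stabilizer (Cfsg.Sz F m) α ≠ ⊤ := by
    intro α h
    have hsub1 : Subsingleton Ω := by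
      constructor
      intro β γ
      obtain ⟨x, rfl⟩ := MulAction.exists_smul_eq (Cfsg.Sz F m) α β
      obtain ⟨y, rfl⟩ := MulAction.exists_smul_eq (Cfsg.Sz F m) α γ
      have hx : x ∈ MulAction.stabilizer (Cfsg.Sz F m) α := by rw [h]; trivial
      have hy : y ∈ MulAction.stabilizer (Cfsg.Sz F m) α := by rw [h]; trivial
      rw [MulAction.mem_stabilizer_iff.1 hx, MulAction.mem_stabilizer_iff.1 hy]
    have : Nat.card (MulAction.fixedBy Ω g₀) ≤ 1 := Finite.card_le_one_iff_subsingleton.2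
      inferInstance
    omega
  by_cases hinv : ∃ t ∈ MulAction.stabilizer (Cfsg.Sz F m) α₀, orderOf t = 2
  · left
    obtain ⟨t, htM, hto⟩ := hinv
    have ht1 : t ≠ 1 := by
      rintro rfl
      rw [orderOf_one] at hto
      omega
    have hodd_imp : ¬ Odd (orderOf t) := by
      rw [hto]
      decide
    rcases sz_trichotomy hm hF ht1 with hE | ⟨y, a, b, hab, e⟩ | ⟨y, s, hs, e⟩
    · exfalso
      have hC := h6_pow_card_subgroup (V := Subgroup.centralizer ({t} : Set (Cfsg.Sz F m)))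
        (Subgroup.mem_centralizer_singleton_iff.2 rfl)
      have hdvd := orderOf_dvd_of_pow_eq_one hC
      have hCodd : Odd (Nat.card (Subgroup.centralizer ({t} : Set (Cfsg.Sz F m)))) := by
        have hdvd' := szTor_card_dvd hm hF hE
        have hodd := sz_q_sq_add_one_odd (F := F) hF
        obtain ⟨k, hk⟩ := hdvd'
        rw [hk] at hodd
        exact (Nat.odd_mul.1 hodd).1
      rw [hto] at hdvd
      exact (Nat.not_even_iff_odd.2 hCodd) (even_iff_two_dvd.2 hdvd)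
    · have ha : a = 0 := by
        have h1 : orderOf (y * t * y⁻¹) = orderOf t :=
          orderOf_injective (MulAut.conj y).toMonoidHom (MulAut.conj y).injective t
        rw [e, hto] at h1
        have h2 : (Helper60.tG hF a b : Cfsg.Sz F m) ^ 2 = 1 := by
          rw [← h1]
          exact pow_orderOf_eq_one _
        rw [pow_two, tG_sq, ← Helper60.tG_zero hF] at h2
        have h3 := (Helper60.tG_inj hF h2).2
        rcases mul_eq_zero.1 h3 with h | h
        · simpa using h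
        · exact h
      subst ha
      have hb : b ≠ 0 := fun h => hab ⟨rfl, h⟩
      have htα : Helper60.tG hF 0 b ∈ MulAction.stabilizer (Cfsg.Sz F m) (y • α₀) := by
        rw [MulAction.mem_stabilizer_iff, ← e, mul_smul, mul_smul, inv_smul_smul,
          MulAction.mem_stabilizer_iff.1 htM]
      have hM := szFix_invol hm hF hsub hfix (y • α₀) hb htα (hMtop _)
      exact szFix_Bo hm hF (y • α₀) hM
    · exfalso
      have hD : t ∈ szDE hF := ⟨y, s, hs, e⟩
      have hC := h6_pow_card_subgroup (V := Subgroup.centralizer ({t} : Set (Cfsg.Sz F m)))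
        (Subgroup.mem_centralizer_singleton_iff.2 rfl)
      have hdvd := orderOf_dvd_of_pow_eq_one hC
      have hCodd : Odd (Nat.card (Subgroup.centralizer ({t} : Set (Cfsg.Sz F m)))) := by
        rw [(szDtor hm hF hD).2]
        exact szp_odd hm (by simp)
      rw [hto] at hdvd
      exact (Nat.not_even_iff_odd.2 hCodd) (even_iff_two_dvd.2 hdvd)
  · right
    push Not at hinv
    have hM₀ := szFix_odd hm hF hfix α₀ hinv hMbot
    have hcardΩ : Fintype.card Ω = Fintype.card F ^ 2 * (Fintype.card F ^ 2 + 1) := by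
      have h1 := MulAction.index_stabilizer_of_transitive (Cfsg.Sz F m) α₀
      have h2 := Subgroup.index_mul_card (MulAction.stabilizer (Cfsg.Sz F m) α₀)
      rw [h1, hM₀, sz_card hm hF, Nat.card_eq_fintype_card] at h2
      have hpos : 0 < Fintype.card F - 1 := by omega
      apply Nat.eq_of_mul_eq_mul_right hpos
      rw [h2]
      ring
    refine ⟨hcardΩ, ?_⟩
    intro α
    have h1 := MulAction.index_stabilizer_of_transitive (Cfsg.Sz F m) α
    have h2 := Subgroup.index_mul_card (MulAction.stabilizer (Cfsg.Sz F m) α)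
    rw [h1, sz_card hm hF, Nat.card_eq_fintype_card, hcardΩ] at h2
    have hpos : 0 < Fintype.card F ^ 2 * (Fintype.card F ^ 2 + 1) := by positivity
    apply Nat.eq_of_mul_eq_mul_left hpos
    rw [h2]
    ring

end SzFix

end Cfsg.Agent.Helper6
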