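import Mathlib
import Cfsg.Prelude.Def_LieExceptional
import Cfsg.Agent.Helper6.SzFix
import Cfsg.Agent.Helper60.SzSubC

set_option autoImplicit false

universe v

namespace Cfsg.Agent.Helper6

open Matrix
open scoped Pointwise commutatorElement

section GenericSol

/-- transport of solubilizers along an isomorphism -/
theorem h6_sol_card_equiv {G H : Type*} [Group G] [Group H] (φ : G ≃* H) (x : G) :
    Nat.card {y : G // Group.IsSolvable (Subgroup.closure ({x, y} : Set G))} =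
      Nat.card {y : H // Group.IsSolvable (Subgroup.closure ({φ x, y} : Set H))} := by
  have key : ∀ y : G, Group.IsSolvable (Subgroup.closure ({x, y} : Set G)) ↔
      Group.IsSolvable (Subgroup.closure ({φ x, φ y} : Set H)) := by
    intro y
    have hmap : (Subgroup.closure ({x, y} : Set G)).map φ.toMonoidHom =
        Subgroup.closure ({φ x, φ y} : Set H) := by
      rw [MonoidHom.map_closure, Set.image_pair]
      rfl
    have e : Subgroup.closure ({x, y} : Set G) ≃* Subgroup.closure ({φ x, φ y} : Set H) :=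
      (Subgroup.equivMapOfInjective _ φ.toMonoidHom φ.injective).trans
        (MulEquiv.subgroupCongr hmap)
    constructor
    · intro h
      exact Group.isSolvable_of_isSolvable_injective (f := e.symm.toMonoidHom) e.symm.injective
    · intro h
      exact Group.isSolvable_of_isSolvable_injective (f := e.toMonoidHom) e.injective
  apply Nat.card_congr
  exact
    { toFun := fun y => ⟨φ y.1, (key y.1).1 y.2⟩
      invFun := fun y => ⟨φ.symm y.1, (key _).2 (by rw [φ.apply_symm_apply]; exact y.2)⟩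
      left_inv := fun y => Subtype.ext (φ.symm_apply_apply y.1)
      right_inv := fun y => Subtype.ext (φ.apply_symm_apply y.1) }

/-- a sigma type with fibres of constant size -/
theorem h6_card_sigma_const {A : Type*} [Finite A] {β : A → Type*} [∀ a, Finite (β a)] (k : ℕ)
    (h : ∀ a, Nat.card (β a) = k) : Nat.card (Σ a, β a) = k * Nat.card A := by
  classical
  have := Fintype.ofFinite A
  rw [Nat.card_sigma]
  simp [h, mul_comm]

/-- double counting -/
theorem h6_double_count {A B : Type*} [Finite A] [Finite B] (R : A → B → Prop) (k l : ℕ)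
    (hA : ∀ a, Nat.card {b // R a b} = k) (hB : ∀ b, Nat.card {a // R a b} = l) :
    k * Nat.card A = l * Nat.card B := by
  have e1 : (Σ a, {b // R a b}) ≃ {p : A × B // R p.1 p.2} :=
    { toFun := fun s => ⟨(s.1, s.2.1), s.2.2⟩
      invFun := fun p => ⟨p.1.1, ⟨p.1.2, p.2⟩⟩
      left_inv := fun s => rfl
      right_inv := fun p => rfl }
  have e2 : (Σ b, {a // R a b}) ≃ {p : A × B // R p.1 p.2} :=
    { toFun := fun s => ⟨(s.2.1, s.1), s.2.2⟩
      invFun := fun p => ⟨p.1.2, ⟨p.1.1, p.2⟩⟩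
      left_inv := fun s => rfl
      right_inv := fun p => rfl }
  rw [← h6_card_sigma_const k hA, ← h6_card_sigma_const l hB, Nat.card_congr e1,
    Nat.card_congr e2]

/-- the normaliser of a cyclic self-centralising subgroup has its derived subgroup inside it -/
theorem h6_comm_le_of_cyclic {G : Type*} [Group G] (U : Subgroup G) (hc : IsCyclic U)
    (hcent : ∀ g : G, (∀ u ∈ U, g * u = u * g) → g ∈ U) :
    ⁅Subgroup.normalizer (U : Set G), Subgroup.normalizer (U : Set G)⁆ ≤ U := by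
  obtain ⟨g₀, hg₀⟩ := hc.exists_generator
  have hgen : ∀ u ∈ U, ∃ k : ℤ, u = (g₀ : G) ^ k := by
    intro u hu
    obtain ⟨k, hk⟩ := Subgroup.mem_zpowers_iff.1 (hg₀ ⟨u, hu⟩)
    exact ⟨k, by rw [← Subgroup.coe_zpow, hk]⟩
  have hconj : ∀ a ∈ Subgroup.normalizer (U : Set G), ∃ i : ℤ, ∀ k : ℤ,
      a * (g₀ : G) ^ k * a⁻¹ = (g₀ : G) ^ (i * k) := by
    intro a ha
    obtain ⟨i, hi⟩ := hgen _ ((Subgroup.mem_normalizer_iff.1 ha _).1 g₀.2)
    refine ⟨i, fun k => ?_⟩
    rw [_root_.zpow_mul, ← hi]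
    simp
  rw [Subgroup.commutator_le]
  intro a ha b hb
  apply hcent
  obtain ⟨i, hi⟩ := hconj a ha
  obtain ⟨j, hj⟩ := hconj b hb
  obtain ⟨i', hi'⟩ := hconj a⁻¹ (inv_mem ha)
  obtain ⟨j', hj'⟩ := hconj b⁻¹ (inv_mem hb)
  have h1 : (g₀ : G) ^ (i * i') = g₀ := by
    have := hi (i' * 1)
    rw [← hi' 1] at this
    rw [← mul_one (i * i'), mul_assoc, ← this]
    simp
    group
  have h2 : (g₀ : G) ^ (j * j') = g₀ := by
    have := hj (j' * 1)
    rw [← hj' 1] at this
    rw [← mul_one (j * j'), mul_assoc, ← this]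
    simp
    group
  have h3 : ⁅a, b⁆ * (g₀ : G) * ⁅a, b⁆⁻¹ = g₀ := by
    have e : ⁅a, b⁆ * (g₀ : G) * ⁅a, b⁆⁻¹ =
        a * (b * (a⁻¹ * (b⁻¹ * (g₀ : G) ^ (1 : ℤ) * b⁻¹⁻¹) * a⁻¹⁻¹) * b⁻¹) * a⁻¹ := by
      rw [commutatorElement_def]
      group
    rw [e, hj' 1, hi', hj, hi]
    have : i * (j * (i' * (j' * 1))) = (i * i') * (j * j') := by ring
    rw [this, _root_.zpow_mul, h1, h2]
  intro u hu
  obtain ⟨k, rfl⟩ := hgen u hu
  have h4 : ⁅a, b⁆ * (g₀ : G) = (g₀ : G) * ⁅a, b⁆ := by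
    calc ⁅a, b⁆ * (g₀ : G) = (⁅a, b⁆ * (g₀ : G) * ⁅a, b⁆⁻¹) * ⁅a, b⁆ := by group
      _ = (g₀ : G) * ⁅a, b⁆ := by rw [h3]
  exact ((Commute.zpow_right h4 k).eq)

/-- a Sylow `2`-subgroup of a subgroup through a given involution -/
theorem h6_exists_two_sub {G : Type*} [Group G] [Finite G] (N : Subgroup G) {z : G} (hz : z ∈ N)
    (hz2 : z * z = 1) : ∃ S : Subgroup G, S ≤ N ∧ z ∈ S ∧ IsPGroup 2 S ∧
      Nat.card S = 2 ^ (Nat.card N).factorization 2 := by
  have hP : IsPGroup 2 (Subgroup.zpowers (⟨z, hz⟩ : N)) := by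
    intro g
    refine ⟨1, ?_⟩
    obtain ⟨k, hk⟩ := Subgroup.mem_zpowers_iff.1 g.2
    apply Subtype.ext
    rw [Subgroup.coe_pow, ← hk, pow_one, Subgroup.coe_one, ← zpow_natCast, ← _root_.zpow_mul,
      mul_comm, _root_.zpow_mul]
    have : (⟨z, hz⟩ : N) ^ ((2 : ℕ) : ℤ) = 1 := by
      rw [zpow_natCast, pow_two]
      exact Subtype.ext hz2
    rw [this, _root_.one_zpow]
  obtain ⟨Q, hQ⟩ := hP.exists_le_sylow
  refine ⟨(Q : Subgroup N).map N.subtype, Subgroup.map_subtype_le _,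
    ⟨⟨z, hz⟩, hQ (Subgroup.mem_zpowers _), rfl⟩, Q.isPGroup'.map _, ?_⟩
  rw [Subgroup.card_map_of_injective N.subtype_injective]
  exact Sylow.card_eq_multiplicity Q

theorem h6_eq_one_of_sq_of_odd {G : Type*} [Group G] {g : G} (h2 : g * g = 1)
    (hodd : Odd (orderOf g)) : g = 1 := by
  have h1 : orderOf g ∣ 2 := orderOf_dvd_of_pow_eq_one (by rw [pow_two, h2])
  have h3 : orderOf g = 1 := by
    rcases (Nat.dvd_prime Nat.prime_two).1 h1 with h | h
    · exact h
    · rw [h] at hodd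
      exact absurd hodd (by decide)
  exact orderOf_eq_one_iff.1 h3

end GenericSol

section SzSol
variable {F : Type v} [Field F] [Fintype F] {m : ℕ} [CharP F 2]

/-- the normaliser of the centraliser of an element -/
abbrev szNC (u : Cfsg.Sz F m) : Subgroup (Cfsg.Sz F m) :=
  Subgroup.normalizer ((Subgroup.centralizer ({u} : Set (Cfsg.Sz F m)) :
    Subgroup (Cfsg.Sz F m)) : Set (Cfsg.Sz F m))

theorem szE_szDE_disjoint (hF : Fintype.card F = 2 ^ (2 * m + 1)) {c : Cfsg.Sz F m}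
    (h1 : c ∈ szE F m) (h2 : c ∈ szDE hF) : False := by
  obtain ⟨x, t, _, e⟩ := h2
  apply h1 ((x : SpecialLinearGroup (Fin 4) F)⁻¹ • Cfsg.suzukiPointInfinity F)
    (sz_mem_smul_mem (inv_mem x.2) inf_mem_ovoid)
  have h3 : c = x⁻¹ * Helper60.dG hF t * x := by rw [← e]; group
  rw [h3]
  show ((x : SpecialLinearGroup (Fin 4) F)⁻¹ * szD m t *
    (x : SpecialLinearGroup (Fin 4) F)) • ((x : SpecialLinearGroup (Fin 4) F)⁻¹ •
      Cfsg.suzukiPointInfinity F) = _
  rw [mul_smul, mul_smul, smul_inv_smul, szD_smul_inf]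

theorem szTor_tiData (hm : 1 ≤ m) (hF : Fintype.card F = 2 ^ (2 * m + 1)) {u : Cfsg.Sz F m}
    (hu : u ∈ szE F m ∨ u ∈ szDE hF) :
    ∃ T : Set (Cfsg.Sz F m), TIData T ∧ u ∈ T ∧ (T = szE F m ∨ T = szDE hF) := by
  rcases hu with h | h
  · exact ⟨_, szE_tiData hm hF, h, Or.inl rfl⟩
  · exact ⟨_, szDE_tiData hm hF, h, Or.inr rfl⟩

theorem szTor_cent_eq (hm : 1 ≤ m) (hF : Fintype.card F = 2 ^ (2 * m + 1)) {u c : Cfsg.Sz F m}
    (hu : u ∈ szE F m ∨ u ∈ szDE hF)
    (hc : c ∈ Subgroup.centralizer ({u} : Set (Cfsg.Sz F m))) (hc1 : c ≠ 1) :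
    Subgroup.centralizer ({c} : Set (Cfsg.Sz F m)) =
        Subgroup.centralizer ({u} : Set (Cfsg.Sz F m)) ∧
      (u ∈ szE F m → c ∈ szE F m) ∧ (u ∈ szDE hF → c ∈ szDE hF) := by
  refine ⟨?_, ?_, ?_⟩
  · obtain ⟨T, hT, huT, _⟩ := szTor_tiData hm hF hu
    exact ti_cent_eq hT huT hc hc1
  · intro h
    exact (szE_tiData hm hF).cent_mem u h c (Subgroup.mem_centralizer_singleton_iff.1 hc) hc1
  · intro h
    exact (szDE_tiData hm hF).cent_mem u h c (Subgroup.mem_centralizer_singleton_iff.1 hc) hc1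

theorem szTor_card_mem (hm : 1 ≤ m) (hF : Fintype.card F = 2 ^ (2 * m + 1)) {u : Cfsg.Sz F m}
    (hu : u ∈ szE F m ∨ u ∈ szDE hF) :
    Nat.card (Subgroup.centralizer ({u} : Set (Cfsg.Sz F m))) ∈
      ({2 ^ (2 * m + 1) - 1, 2 ^ (2 * m + 1) + 2 ^ (m + 1) + 1,
        2 ^ (2 * m + 1) - 2 ^ (m + 1) + 1} : Set ℕ) := by
  rcases hu with h | h
  · rcases szTor_card hm hF h with h' | h' <;> rw [h'] <;> simp
  · rw [(szDtor hm hF h).2]
    simp

theorem szTor_isCyclic (hm : 1 ≤ m) (hF : Fintype.card F = 2 ^ (2 * m + 1)) {u : Cfsg.Sz F m}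
    (hu : u ∈ szE F m ∨ u ∈ szDE hF) :
    IsCyclic (Subgroup.centralizer ({u} : Set (Cfsg.Sz F m))) := by
  rcases hu with h | h
  · exact szTor_cyclic hm hF h
  · exact (szDtor hm hF h).1

theorem szTor_odd (hm : 1 ≤ m) (hF : Fintype.card F = 2 ^ (2 * m + 1)) {u c : Cfsg.Sz F m}
    (hu : u ∈ szE F m ∨ u ∈ szDE hF)
    (hc : c ∈ Subgroup.centralizer ({u} : Set (Cfsg.Sz F m))) : Odd (orderOf c) := by
  have h1 : orderOf c ∣ Nat.card (Subgroup.centralizer ({u} : Set (Cfsg.Sz F m))) := by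
    have := orderOf_dvd_natCard (⟨c, hc⟩ : Subgroup.centralizer ({u} : Set (Cfsg.Sz F m)))
    rwa [Subgroup.orderOf_mk] at this
  exact Odd.of_dvd_nat (szp_odd hm (szTor_card_mem hm hF hu)) h1

omit [Fintype F] [CharP F 2] in
theorem szTor_self_mem (u : Cfsg.Sz F m) :
    u ∈ Subgroup.centralizer ({u} : Set (Cfsg.Sz F m)) :=
  Subgroup.mem_centralizer_singleton_iff.2 rfl

theorem szTor_ne_one (hm : 1 ≤ m) (hF : Fintype.card F = 2 ^ (2 * m + 1)) {u : Cfsg.Sz F m}
    (hu : u ∈ szE F m ∨ u ∈ szDE hF) : u ≠ 1 := by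
  rintro rfl
  rcases hu with h | h
  · exact (szE_tiData hm hF).one_notMem h
  · exact (szDE_tiData hm hF).one_notMem h

/-- the normaliser of a torus is solvable -/
theorem szTorNorm_solvable (hm : 1 ≤ m) (hF : Fintype.card F = 2 ^ (2 * m + 1))
    {u : Cfsg.Sz F m} (hu : u ∈ szE F m ∨ u ∈ szDE hF) : Group.IsSolvable (szNC u) := by
  obtain ⟨T, hT, huT, _⟩ := szTor_tiData hm hF hu
  apply isSolvable_of_chain3 _ (Subgroup.centralizer ({u} : Set (Cfsg.Sz F m)))
    (Subgroup.centralizer ({u} : Set (Cfsg.Sz F m)))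
  · apply h6_comm_le_of_cyclic _ (szTor_isCyclic hm hF hu)
    intro g hg
    exact Subgroup.mem_centralizer_singleton_iff.2 (hg u (szTor_self_mem u))
  · rw [Subgroup.commutator_le]
    intro a ha b hb
    rw [commutatorElement_def]
    exact mul_mem (mul_mem (mul_mem ha hb) (inv_mem ha)) (inv_mem hb)
  · refine le_bot_iff.1 (Subgroup.commutator_le.2 ?_)
    intro a ha b hb
    rw [Subgroup.mem_bot, commutatorElement_eq_one_iff_mul_comm]
    exact hT.cent_comm u huT a b (Subgroup.mem_centralizer_singleton_iff.1 ha)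
      (Subgroup.mem_centralizer_singleton_iff.1 hb)

/-- a subgroup fixing a point of the ovoid is solvable -/
theorem szStab_solvable (hm : 1 ≤ m) (hF : Fintype.card F = 2 ^ (2 * m + 1))
    {p : Projectivization F (Fin 4 → F)} (hp : p ∈ Cfsg.suzukiOvoid F m)
    (H : Subgroup (Cfsg.Sz F m))
    (hH : ∀ h ∈ H, (h : SpecialLinearGroup (Fin 4) F) • p = p) : Group.IsSolvable H := by
  obtain ⟨g, hg, hgp⟩ := sz_exists_smul_eq_inf hF hp
  have hsolv := sz_stab_solvable hm hF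
  have hmem : ∀ h : H, (⟨g, hg⟩ : Cfsg.Sz F m) * (h : Cfsg.Sz F m) * (⟨g, hg⟩ : Cfsg.Sz F m)⁻¹ ∈
      MulAction.stabilizer (Cfsg.Sz F m) (Cfsg.suzukiPointInfinity F) := by
    intro h
    rw [MulAction.mem_stabilizer_iff]
    show (g * ((h : Cfsg.Sz F m) : SpecialLinearGroup (Fin 4) F) * g⁻¹) •
      Cfsg.suzukiPointInfinity F = Cfsg.suzukiPointInfinity F
    rw [mul_smul, mul_smul, ← hgp, inv_smul_smul, hH _ h.2]
  let f : H →* MulAction.stabilizer (Cfsg.Sz F m) (Cfsg.suzukiPointInfinity F) :=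
    { toFun := fun h => ⟨_, hmem h⟩
      map_one' := by
        apply Subtype.ext
        simp
      map_mul' := fun a b => by
        apply Subtype.ext
        simp }
  have hf : Function.Injective f := by
    intro a b hab
    have h1 : (⟨g, hg⟩ : Cfsg.Sz F m) * (a : Cfsg.Sz F m) * (⟨g, hg⟩ : Cfsg.Sz F m)⁻¹ =
        (⟨g, hg⟩ : Cfsg.Sz F m) * (b : Cfsg.Sz F m) * (⟨g, hg⟩ : Cfsg.Sz F m)⁻¹ :=
      congrArg Subtype.val hab
    exact Subtype.ext (mul_left_cancel (mul_right_cancel h1))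
  exact Group.isSolvable_of_isSolvable_injective hf

theorem sz_not_solvable (hm : 1 ≤ m) (hF : Fintype.card F = 2 ^ (2 * m + 1)) :
    ¬ Group.IsSolvable (Cfsg.Sz F m) := by
  intro h
  have hs := sz_simple hm hF
  have := Group.IsSolvable.commutator_lt_top_of_nontrivial (Cfsg.Sz F m)
  rw [sz_perfect hm hF] at this
  exact lt_irrefl _ this

/-- for `2m+1` prime, the solvable subgroups of the Suzuki group are those fixing a point of the
ovoid or normalising a torus -/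
theorem szSol_iff (hm : 1 ≤ m) (hp : (2 * m + 1).Prime) (hF : Fintype.card F = 2 ^ (2 * m + 1))
    (hsub : SzSubHyp F m) (H : Subgroup (Cfsg.Sz F m)) :
    Group.IsSolvable H ↔
      (∃ p ∈ Cfsg.suzukiOvoid F m, ∀ h ∈ H, (h : SpecialLinearGroup (Fin 4) F) • p = p) ∨
      (∃ u : Cfsg.Sz F m, (u ∈ szE F m ∨ u ∈ szDE hF) ∧ H ≤ szNC u) := by
  constructor
  · intro hsol
    have hne : H ≠ ⊤ := by
      rintro rfl
      apply sz_not_solvable hm hF
      exact Group.isSolvable_of_isSolvable_injective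
        (f := (Subgroup.topEquiv (G := Cfsg.Sz F m)).symm.toMonoidHom)
        (Subgroup.topEquiv (G := Cfsg.Sz F m)).symm.injective
    rcases hsub H hne with ⟨P, hP⟩ | ⟨U, hUc, hUcard, hU⟩ | ⟨K, _, _, k, hk1, hkm, _, hdvd, _⟩
    · obtain ⟨p, hp', hiff⟩ := szSylow_normalizer hm hF P
      exact Or.inl ⟨p, hp', fun h hh => (hiff h).1 (hP hh)⟩
    · have hgt := szp_gt_one hm hUcard
      have hne' : U ≠ ⊥ := by
        rintro rfl
        rw [Subgroup.card_bot] at hgt
        exact lt_irrefl _ hgt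
      obtain ⟨u, hu1⟩ := (Subgroup.ne_bot_iff_exists_ne_one (H := U)).1 hne'
      have hu1' : (u : Cfsg.Sz F m) ≠ 1 := fun h => hu1 (Subtype.ext h)
      obtain ⟨h1, h2⟩ := szTorus_of_cyclic hm hF hUc hUcard u.2 hu1'
      refine Or.inr ⟨u, h1, ?_⟩
      unfold szNC
      rw [← h2]
      exact hU
    · exfalso
      rcases (Nat.dvd_prime hp).1 hdvd with h | h <;> omega
  · rintro (⟨p, hp', hfix⟩ | ⟨u, hu, hle⟩)
    · exact szStab_solvable hm hF hp' H hfix
    · have := szTorNorm_solvable hm hF hu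
      exact Group.isSolvable_of_isSolvable_injective (Subgroup.inclusion_injective hle)

end SzSol

end Cfsg.Agent.Helper6
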