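import Mathlib
import Cfsg.Prelude.Def_LieExceptional
import Cfsg.Agent.Helper6.SzSol1

set_option autoImplicit false

universe v

namespace Cfsg.Agent.Helper6

open Matrix
open scoped Pointwise

section SzSol2
variable {F : Type v} [Field F] [Fintype F] {m : ℕ} [CharP F 2]

theorem tG_center_sq (hF : Fintype.card F = 2 ^ (2 * m + 1)) (b : F) :
    Helper60.tG hF 0 b * Helper60.tG hF 0 b = (1 : Cfsg.Sz F m) := by
  rw [tG_sq]
  simp [Helper60.tG_zero]

theorem tG_center_inv (hF : Fintype.card F = 2 ^ (2 * m + 1)) (b : F) :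
    (Helper60.tG hF 0 b)⁻¹ = (Helper60.tG hF 0 b : Cfsg.Sz F m) :=
  inv_eq_of_mul_eq_one_left (tG_center_sq hF b)

theorem tG_center_ne_one (hF : Fintype.card F = 2 ^ (2 * m + 1)) {b : F} (hb : b ≠ 0) :
    (Helper60.tG hF 0 b : Cfsg.Sz F m) ≠ 1 := by
  intro h
  rw [← Helper60.tG_zero hF] at h
  exact hb (Helper60.tG_inj hF h).2

/-- a `2`-subgroup containing a central involution of `Uo` lies in `Uo` -/
theorem sz_two_sub_le_Uo (hm : 1 ≤ m) (hF : Fintype.card F = 2 ^ (2 * m + 1))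
    {S : Subgroup (Cfsg.Sz F m)} (hS : IsPGroup 2 S) {b : F} (hb : b ≠ 0)
    (hz : Helper60.tG hF 0 b ∈ S) : S ≤ Helper60.Uo hF := by
  obtain ⟨Q, hQ⟩ := hS.exists_le_sylow
  obtain ⟨c, rfl⟩ := MulAction.exists_smul_eq (Cfsg.Sz F m) (Helper60.UoSylow hF hm) Q
  have hmem : ∀ h ∈ S, c⁻¹ * h * c ∈ Helper60.Uo hF := by
    intro h hh
    have h1 := hQ hh
    rw [Sylow.coe_subgroup_smul, Helper60.mem_conj_smul_iff, Helper60.coe_UoSylow] at h1
    exact h1
  have hc : c⁻¹ ∈ Helper60.Bo F m := by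
    apply Helper60.invol_conj_Bo hF hm hb
    rw [inv_inv]
    exact Helper60.Uo_le_Bo hF (hmem _ hz)
  intro h hh
  have := Helper60.Uo_conj_of_Bo hF hm (inv_mem hc) (hmem h hh)
  rw [inv_inv] at this
  convert this using 1
  group

/-- an involution normalising a torus inverts it -/
theorem szTor_invol_inverts (hm : 1 ≤ m) (hF : Fintype.card F = 2 ^ (2 * m + 1))
    {u : Cfsg.Sz F m} (hu : u ∈ szE F m ∨ u ∈ szDE hF) {z : Cfsg.Sz F m} (hz : z ∈ szNC u)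
    (hz2 : z * z = 1) (hz1 : z ≠ 1) {c : Cfsg.Sz F m}
    (hc : c ∈ Subgroup.centralizer ({u} : Set (Cfsg.Sz F m))) : z * c * z⁻¹ = c⁻¹ := by
  obtain ⟨T, hT, huT, _⟩ := szTor_tiData hm hF hu
  have hzi : z⁻¹ = z := inv_eq_of_mul_eq_one_left hz2
  have hc' : z * c * z⁻¹ ∈ Subgroup.centralizer ({u} : Set (Cfsg.Sz F m)) :=
    (Subgroup.mem_normalizer_iff.1 hz c).1 hc
  have hcomm : (z * c * z⁻¹) * c = c * (z * c * z⁻¹) :=
    hT.cent_comm u huT _ _ (Subgroup.mem_centralizer_singleton_iff.1 hc')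
      (Subgroup.mem_centralizer_singleton_iff.1 hc)
  have he : (z * c * z⁻¹) * c ∈ Subgroup.centralizer ({u} : Set (Cfsg.Sz F m)) :=
    mul_mem hc' hc
  have hze : z * ((z * c * z⁻¹) * c) = ((z * c * z⁻¹) * c) * z := by
    calc z * ((z * c * z⁻¹) * c) = (z * z) * c * (z⁻¹ * c) := by group
      _ = c * (z * c) := by rw [hz2, hzi, one_mul]
      _ = (c * (z * c * z⁻¹)) * z := by group
      _ = ((z * c * z⁻¹) * c) * z := by rw [hcomm]
  by_cases h1 : (z * c * z⁻¹) * c = 1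
  · exact eq_inv_of_mul_eq_one_left h1
  · exfalso
    have h2 := (szTor_cent_eq hm hF hu he h1).1
    have h3 : z ∈ Subgroup.centralizer ({u} : Set (Cfsg.Sz F m)) := by
      rw [← h2]
      exact Subgroup.mem_centralizer_singleton_iff.2 hze
    exact hz1 (h6_eq_one_of_sq_of_odd hz2 (szTor_odd hm hF hu h3))

/-- a torus normalised by a central involution of `Uo` meets `Bo` trivially -/
theorem szTor_inter_Bo (hm : 1 ≤ m) (hF : Fintype.card F = 2 ^ (2 * m + 1))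
    {u : Cfsg.Sz F m} (hu : u ∈ szE F m ∨ u ∈ szDE hF) {b : F} (hb : b ≠ 0)
    (hz : Helper60.tG hF 0 b ∈ szNC u) {c : Cfsg.Sz F m}
    (hc : c ∈ Subgroup.centralizer ({u} : Set (Cfsg.Sz F m))) (hcB : c ∈ Helper60.Bo F m) :
    c = 1 := by
  have hinv := szTor_invol_inverts hm hF hu hz (tG_center_sq hF b) (tG_center_ne_one hF hb) hc
  rw [tG_center_inv] at hinv
  have h2 : (Helper60.tG hF 0 b * c) * (Helper60.tG hF 0 b * c) = 1 := by
    calc (Helper60.tG hF 0 b * c) * (Helper60.tG hF 0 b * c)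
        = (Helper60.tG hF 0 b * c * Helper60.tG hF 0 b) * c := by group
      _ = 1 := by rw [hinv, inv_mul_cancel]
  obtain ⟨b', hb'⟩ := Helper60.Bo_invol hF hm (mul_mem (Helper60.tG_mem_Bo hF 0 b) hcB) h2
  have hc2 : c = Helper60.tG hF 0 b * Helper60.tG hF 0 b' := by
    rw [← hb', ← mul_assoc, tG_center_sq, one_mul]
  apply h6_eq_one_of_sq_of_odd _ (szTor_odd hm hF hu hc)
  rw [hc2, Helper60.tG_mul, Helper60.tG_mul, ← Helper60.tG_zero hF]
  congr 1
  · simp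
  · simp
    have h2 : (2 : F) = 0 := sz_two
    linear_combination (b + b') * h2

/-- uniqueness of the decomposition `c * s` with `c` in a torus normalised by `z` and `s ∈ Uo` -/
theorem szZtor_inj (hm : 1 ≤ m) (hF : Fintype.card F = 2 ^ (2 * m + 1)) {b : F} (hb : b ≠ 0)
    {c c' : Cfsg.Sz F m} (hc : c ∈ szE F m ∨ c ∈ szDE hF) (hc' : c' ∈ szE F m ∨ c' ∈ szDE hF)
    (hz : Helper60.tG hF 0 b ∈ szNC c) (hz' : Helper60.tG hF 0 b ∈ szNC c')
    {s s' : Cfsg.Sz F m} (hs : s ∈ Helper60.Uo hF) (hs' : s' ∈ Helper60.Uo hF)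
    (e : c * s = c' * s') : c = c' ∧ s = s' := by
  have hi := szTor_invol_inverts hm hF hc hz (tG_center_sq hF b) (tG_center_ne_one hF hb)
    (szTor_self_mem c)
  have hi' := szTor_invol_inverts hm hF hc' hz' (tG_center_sq hF b) (tG_center_ne_one hF hb)
    (szTor_self_mem c')
  have key : ∀ (d t : Cfsg.Sz F m), t ∈ Helper60.Uo hF →
      Helper60.tG hF 0 b * d * (Helper60.tG hF 0 b)⁻¹ = d⁻¹ →
      (d * t) * (Helper60.tG hF 0 b * (d * t) * (Helper60.tG hF 0 b)⁻¹)⁻¹ = d * d := by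
    rintro d t ⟨a₁, b₁, rfl⟩ hd
    have h1 : Helper60.tG hF 0 b * (d * Helper60.tG hF a₁ b₁) * (Helper60.tG hF 0 b)⁻¹ =
        (Helper60.tG hF 0 b * d * (Helper60.tG hF 0 b)⁻¹) *
          (Helper60.tG hF 0 b * Helper60.tG hF a₁ b₁ * (Helper60.tG hF 0 b)⁻¹) := by group
    rw [h1, hd, tG_comm_center, mul_inv_cancel_right]
    group
  have h2 : c * c = c' * c' := by
    rw [← key c s hs hi, ← key c' s' hs' hi', e]
  have hcc : c * c ≠ 1 := fun h =>
    szTor_ne_one hm hF hc (h6_eq_one_of_sq_of_odd h (szTor_odd hm hF hc (szTor_self_mem c)))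
  have h3 := (szTor_cent_eq hm hF hc (mul_mem (szTor_self_mem c) (szTor_self_mem c)) hcc).1
  have h4 := (szTor_cent_eq hm hF hc' (mul_mem (szTor_self_mem c') (szTor_self_mem c'))
    (h2 ▸ hcc)).1
  rw [← h2, h3] at h4
  have h5 : c'⁻¹ * c ∈ Subgroup.centralizer ({c} : Set (Cfsg.Sz F m)) := by
    refine mul_mem (inv_mem ?_) (szTor_self_mem c)
    rw [h4]
    exact szTor_self_mem c'
  have h6 : c'⁻¹ * c = s' * s⁻¹ := by
    rw [inv_mul_eq_iff_eq_mul, ← mul_assoc, ← e]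
    group
  have h7 : c'⁻¹ * c = 1 := by
    apply szTor_inter_Bo hm hF hc hb hz h5
    rw [h6]
    exact Helper60.Uo_le_Bo hF (mul_mem hs' (inv_mem hs))
  have h8 : c = c' := by
    rw [inv_mul_eq_one] at h7
    exact h7.symm
  refine ⟨h8, ?_⟩
  rw [h8] at e
  exact mul_left_cancel e

/-- decomposition of the normaliser of a torus normalised by a central involution of `Uo` -/
theorem szTor_decomp (hm : 1 ≤ m) (hF : Fintype.card F = 2 ^ (2 * m + 1))
    {u : Cfsg.Sz F m} (hu : u ∈ szE F m ∨ u ∈ szDE hF) {b : F} (hb : b ≠ 0)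
    (hz : Helper60.tG hF 0 b ∈ szNC u) :
    Nat.card (szNC u ⊓ Helper60.Uo hF : Subgroup (Cfsg.Sz F m)) =
        (Subgroup.centralizer ({u} : Set (Cfsg.Sz F m))).relIndex (szNC u) ∧
      ∀ y ∈ szNC u, ∃ c ∈ Subgroup.centralizer ({u} : Set (Cfsg.Sz F m)),
        ∃ s ∈ Helper60.Uo hF, s ∈ szNC u ∧ y = c * s := by
  have hUN : Subgroup.centralizer ({u} : Set (Cfsg.Sz F m)) ≤ szNC u := Subgroup.le_normalizer
  have hcard := h6_card_eq_card_mul_relIndex hUN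
  have hodd : Odd (Nat.card (Subgroup.centralizer ({u} : Set (Cfsg.Sz F m)))) :=
    szp_odd hm (szTor_card_mem hm hF hu)
  obtain ⟨k, hk⟩ : ∃ k : ℕ,
      (Subgroup.centralizer ({u} : Set (Cfsg.Sz F m))).relIndex (szNC u) = 2 ^ k := by
    rcases szTorus_relIndex hm hF hu with h | h
    · exact ⟨2, by unfold szNC; rw [h]; norm_num⟩
    · exact ⟨1, by unfold szNC; rw [h]; norm_num⟩
  obtain ⟨S, hSN, hzS, hS2, hScard⟩ := h6_exists_two_sub (szNC u) hz (tG_center_sq hF b)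
  have hfac : (Nat.card (szNC u)).factorization 2 = k := by
    rw [hcard, hk, mul_comm]
    exact Helper60.ov_factorization_two_pow_mul k _ hodd.not_two_dvd_nat
  rw [hfac] at hScard
  have hSU : S ≤ Helper60.Uo hF := sz_two_sub_le_Uo hm hF hS2 hb hzS
  have hinj : ∀ c ∈ Subgroup.centralizer ({u} : Set (Cfsg.Sz F m)),
      ∀ c' ∈ Subgroup.centralizer ({u} : Set (Cfsg.Sz F m)), ∀ s ∈ Helper60.Uo hF,
      ∀ s' ∈ Helper60.Uo hF, c * s = c' * s' → c = c' ∧ s = s' := by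
    intro c hc c' hc' s hs s' hs' e
    have h6 : c'⁻¹ * c = s' * s⁻¹ := by
      rw [inv_mul_eq_iff_eq_mul, ← mul_assoc, ← e]
      group
    have h7 : c'⁻¹ * c = 1 := by
      apply szTor_inter_Bo hm hF hu hb hz (mul_mem (inv_mem hc') hc)
      rw [h6]
      exact Helper60.Uo_le_Bo hF (mul_mem hs' (inv_mem hs))
    have h8 : c = c' := by
      rw [inv_mul_eq_one] at h7
      exact h7.symm
    refine ⟨h8, ?_⟩
    rw [h8] at e
    exact mul_left_cancel e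
  let f : Subgroup.centralizer ({u} : Set (Cfsg.Sz F m)) × S → szNC u :=
    fun p => ⟨p.1.1 * p.2.1, mul_mem (hUN p.1.2) (hSN p.2.2)⟩
  have hf : Function.Injective f := by
    rintro ⟨⟨c, hc⟩, ⟨s, hs⟩⟩ ⟨⟨c', hc'⟩, ⟨s', hs'⟩⟩ h
    have h' : c * s = c' * s' := congrArg Subtype.val h
    obtain ⟨rfl, rfl⟩ := hinj c hc c' hc' s (hSU hs) s' (hSU hs') h'
    rfl
  have hbij : Function.Bijective f :=
    hf.bijective_of_nat_card_le (by rw [Nat.card_prod, hScard, hcard, hk])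
  constructor
  · apply le_antisymm
    · let f' : Subgroup.centralizer ({u} : Set (Cfsg.Sz F m)) ×
          (szNC u ⊓ Helper60.Uo hF : Subgroup (Cfsg.Sz F m)) → szNC u :=
        fun p => ⟨p.1.1 * p.2.1, mul_mem (hUN p.1.2) (Subgroup.mem_inf.1 p.2.2).1⟩
      have hf' : Function.Injective f' := by
        rintro ⟨⟨c, hc⟩, ⟨s, hs⟩⟩ ⟨⟨c', hc'⟩, ⟨s', hs'⟩⟩ h
        have h' : c * s = c' * s' := congrArg Subtype.val h
        obtain ⟨rfl, rfl⟩ := hinj c hc c' hc' s (Subgroup.mem_inf.1 hs).2 s'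
          (Subgroup.mem_inf.1 hs').2 h'
        rfl
      have h1 := Nat.card_le_card_of_injective f' hf'
      rw [Nat.card_prod, hcard] at h1
      exact Nat.le_of_mul_le_mul_left h1 Nat.card_pos
    · rw [hk, ← hScard]
      exact Subgroup.card_le_of_le (le_inf hSN hSU)
  · intro y hy
    obtain ⟨⟨⟨c, hc⟩, ⟨s, hs⟩⟩, hcs⟩ := hbij.2 ⟨y, hy⟩
    exact ⟨c, hc, s, hSU hs, hSN hs, (congrArg Subtype.val hcs).symm⟩

/-- the torus elements of a given kind whose torus is normalised by `x` -/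
def szI (T : Set (Cfsg.Sz F m)) (x : Cfsg.Sz F m) : Set (Cfsg.Sz F m) :=
  {c | c ∈ T ∧ x ∈ szNC c}

/-- the elements outside `Bo` of the normalisers of tori of a given kind normalised by `x` -/
def szA (T : Set (Cfsg.Sz F m)) (x : Cfsg.Sz F m) : Set (Cfsg.Sz F m) :=
  {y | y ∉ Helper60.Bo F m ∧ ∃ u ∈ T, x ∈ szNC u ∧ y ∈ szNC u}

theorem szA_card (hm : 1 ≤ m) (hF : Fintype.card F = 2 ^ (2 * m + 1))
    {T : Set (Cfsg.Sz F m)} (hT : T = szE F m ∨ T = szDE hF) (k : ℕ)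
    (hk : ∀ u ∈ T, (Subgroup.centralizer ({u} : Set (Cfsg.Sz F m))).relIndex (szNC u) = k)
    {b : F} (hb : b ≠ 0) (x : Cfsg.Sz F m)
    (hx : ∀ u : Cfsg.Sz F m, x ∈ szNC u → Helper60.tG hF 0 b ∈ szNC u) :
    (szA T x).ncard = k * (szI T x).ncard := by
  have hTu : ∀ u ∈ T, u ∈ szE F m ∨ u ∈ szDE hF := by
    intro u hu
    rcases hT with rfl | rfl
    · exact Or.inl hu
    · exact Or.inr hu
  have hTc : ∀ u ∈ T, ∀ c ∈ Subgroup.centralizer ({u} : Set (Cfsg.Sz F m)), c ≠ 1 → c ∈ T := by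
    intro u hu c hc hc1
    rcases hT with rfl | rfl
    · exact (szTor_cent_eq hm hF (Or.inl hu) hc hc1).2.1 hu
    · exact (szTor_cent_eq hm hF (Or.inr hu) hc hc1).2.2 hu
  have hfib : ∀ c : szI T x,
      Nat.card (szNC c.1 ⊓ Helper60.Uo hF : Subgroup (Cfsg.Sz F m)) = k := by
    intro c
    rw [(szTor_decomp hm hF (hTu _ c.2.1) hb (hx _ c.2.2)).1]
    exact hk _ c.2.1
  have hmem : ∀ (c : szI T x) (s : (szNC c.1 ⊓ Helper60.Uo hF : Subgroup (Cfsg.Sz F m))),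
      c.1 * s.1 ∈ szA T x := by
    intro c s
    refine ⟨?_, c.1, c.2.1, c.2.2,
      mul_mem (Subgroup.le_normalizer (szTor_self_mem c.1)) (Subgroup.mem_inf.1 s.2).1⟩
    intro hB
    have h1 : c.1 ∈ Helper60.Bo F m := by
      have := mul_mem hB (inv_mem (Helper60.Uo_le_Bo hF (Subgroup.mem_inf.1 s.2).2))
      rwa [mul_inv_cancel_right] at this
    exact szTor_ne_one hm hF (hTu _ c.2.1)
      (szTor_inter_Bo hm hF (hTu _ c.2.1) hb (hx _ c.2.2) (szTor_self_mem c.1) h1)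
  rw [← Nat.card_coe_set_eq, ← Nat.card_coe_set_eq, ← h6_card_sigma_const k hfib]
  symm
  apply Nat.card_congr
  refine Equiv.ofBijective (fun p => ⟨p.1.1 * p.2.1, hmem p.1 p.2⟩) ⟨?_, ?_⟩
  · rintro ⟨⟨c, hc⟩, ⟨s, hs⟩⟩ ⟨⟨c', hc'⟩, ⟨s', hs'⟩⟩ h
    have h' : c * s = c' * s' := congrArg Subtype.val h
    obtain ⟨rfl, rfl⟩ := szZtor_inj hm hF hb (hTu _ hc.1) (hTu _ hc'.1) (hx _ hc.2) (hx _ hc'.2)
      (Subgroup.mem_inf.1 hs).2 (Subgroup.mem_inf.1 hs').2 h'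
    rfl
  · rintro ⟨y, hyB, u, huT, hxu, hyu⟩
    obtain ⟨c, hc, s, hsU, hsN, rfl⟩ := (szTor_decomp hm hF (hTu u huT) hb (hx u hxu)).2 y hyu
    have hc1 : c ≠ 1 := by
      rintro rfl
      apply hyB
      rw [one_mul]
      exact Helper60.Uo_le_Bo hF hsU
    have hcent := (szTor_cent_eq hm hF (hTu u huT) hc hc1).1
    have hNC : szNC c = szNC u := by
      unfold szNC
      rw [hcent]
    have hxc : x ∈ szNC c := by rw [hNC]; exact hxu
    have hsc : s ∈ szNC c := by rw [hNC]; exact hsN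
    exact ⟨⟨⟨c, hTc u huT c hc hc1, hxc⟩, ⟨s, Subgroup.mem_inf.2 ⟨hsc, hsU⟩⟩⟩, rfl⟩

end SzSol2

end Cfsg.Agent.Helper6
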