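import Mathlib
import Cfsg.Prelude.Def_LieExceptional
import Cfsg.Agent.Helper6.SzSol2

set_option autoImplicit false

universe v

namespace Cfsg.Agent.Helper6

open Matrix
open scoped Pointwise

section SzSol3
variable {F : Type v} [Field F] [Fintype F] {m : ℕ} [CharP F 2]

/-- the solubilizer of `x` in the Suzuki group -/
def szSolSet (x : Cfsg.Sz F m) : Set (Cfsg.Sz F m) :=
  {y | Group.IsSolvable (Subgroup.closure ({x, y} : Set (Cfsg.Sz F m)))}

omit [Fintype F] [CharP F 2] in
theorem szSol_conj (g x : Cfsg.Sz F m) :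
    Nat.card {y : Cfsg.Sz F m //
        Group.IsSolvable (Subgroup.closure ({x, y} : Set (Cfsg.Sz F m)))} =
      Nat.card {y : Cfsg.Sz F m //
        Group.IsSolvable (Subgroup.closure ({g * x * g⁻¹, y} : Set (Cfsg.Sz F m)))} :=
  h6_sol_card_equiv (MulAut.conj g) x

theorem szSol_mem_iff (hm : 1 ≤ m) (hp : (2 * m + 1).Prime)
    (hF : Fintype.card F = 2 ^ (2 * m + 1)) (hsub : SzSubHyp F m) (x y : Cfsg.Sz F m) :
    Group.IsSolvable (Subgroup.closure ({x, y} : Set (Cfsg.Sz F m))) ↔
      (∃ p ∈ Cfsg.suzukiOvoid F m, (x : SpecialLinearGroup (Fin 4) F) • p = p ∧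
        (y : SpecialLinearGroup (Fin 4) F) • p = p) ∨
      (∃ u : Cfsg.Sz F m, (u ∈ szE F m ∨ u ∈ szDE hF) ∧ x ∈ szNC u ∧ y ∈ szNC u) := by
  rw [szSol_iff hm hp hF hsub]
  have h1 : ∀ p : Projectivization F (Fin 4 → F),
      (∀ h ∈ Subgroup.closure ({x, y} : Set (Cfsg.Sz F m)),
        (h : SpecialLinearGroup (Fin 4) F) • p = p) ↔
      ((x : SpecialLinearGroup (Fin 4) F) • p = p ∧
        (y : SpecialLinearGroup (Fin 4) F) • p = p) := by
    intro p
    constructor
    · intro h
      exact ⟨h x (Subgroup.subset_closure (by simp)), h y (Subgroup.subset_closure (by simp))⟩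
    · rintro ⟨hx, hy⟩ h hh
      have hle : Subgroup.closure ({x, y} : Set (Cfsg.Sz F m)) ≤
          MulAction.stabilizer (Cfsg.Sz F m) p := by
        rw [Subgroup.closure_le]
        rintro z (rfl | rfl)
        · exact hx
        · exact hy
      exact hle hh
  have h2 : ∀ u : Cfsg.Sz F m, Subgroup.closure ({x, y} : Set (Cfsg.Sz F m)) ≤ szNC u ↔
      (x ∈ szNC u ∧ y ∈ szNC u) := by
    intro u
    rw [Subgroup.closure_le]
    constructor
    · intro h
      exact ⟨h (by simp), h (by simp)⟩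
    · rintro ⟨hx, hy⟩ z (rfl | rfl)
      · exact hx
      · exact hy
  simp only [h1, h2]

/-- solubilizer of a fixed-point-free element -/
theorem szSol_E (hm : 1 ≤ m) (hp : (2 * m + 1).Prime)
    (hF : Fintype.card F = 2 ^ (2 * m + 1)) (hsub : SzSubHyp F m) {x : Cfsg.Sz F m}
    (hx : x ∈ szE F m) :
    Nat.card {y : Cfsg.Sz F m //
        Group.IsSolvable (Subgroup.closure ({x, y} : Set (Cfsg.Sz F m)))} =
      4 * Nat.card (Subgroup.centralizer ({x} : Set (Cfsg.Sz F m))) := by
  rw [← szEnorm_card hm hF hx]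
  apply Nat.card_congr
  apply Equiv.subtypeEquivRight
  intro y
  rw [szSol_mem_iff hm hp hF hsub]
  constructor
  · rintro (⟨p, hp', hxp, _⟩ | ⟨u, hu, hxu, hyu⟩)
    · exact absurd hxp (hx p hp')
    · have hxC := szTorus_mem_of_odd hm hF hu hxu (szTor_odd hm hF (Or.inl hx) (szTor_self_mem x))
      have hcent := (szTor_cent_eq hm hF hu hxC (szTor_ne_one hm hF (Or.inl hx))).1
      have hNC : szNC x = szNC u := by
        unfold szNC
        rw [hcent]
      have : y ∈ szNC x := by rw [hNC]; exact hyu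
      exact this
  · intro hy
    exact Or.inr ⟨x, Or.inl hx, Subgroup.le_normalizer (szTor_self_mem x), hy⟩

theorem dG_mem_szDE (hF : Fintype.card F = 2 ^ (2 * m + 1)) {t : Fˣ} (ht : t ≠ 1) :
    (Helper60.dG hF t : Cfsg.Sz F m) ∈ szDE hF :=
  ⟨1, t, ht, by simp⟩

/-- solubilizer of a diagonal element -/
theorem szSol_D (hm : 1 ≤ m) (hp : (2 * m + 1).Prime)
    (hF : Fintype.card F = 2 ^ (2 * m + 1)) (hsub : SzSubHyp F m) {t : Fˣ} (ht : t ≠ 1) :
    Nat.card {y : Cfsg.Sz F m //
        Group.IsSolvable (Subgroup.closure ({Helper60.dG hF t, y} : Set (Cfsg.Sz F m)))} =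
      2 * Fintype.card F ^ 2 * (Fintype.card F - 1) := by
  have hDE := dG_mem_szDE hF ht
  -- the three pieces
  set B₀ : Set (Cfsg.Sz F m) :=
    {y | (y : SpecialLinearGroup (Fin 4) F) • szP m (0 : F) 0 = szP m 0 0} with hB₀
  set W : Set (Cfsg.Sz F m) := Set.range (fun s : Fˣ => Helper60.wG hF * Helper60.dG hF s) with hW
  have hset : {y : Cfsg.Sz F m |
      Group.IsSolvable (Subgroup.closure ({Helper60.dG hF t, y} : Set (Cfsg.Sz F m)))} =
      ((Helper60.Bo F m : Set (Cfsg.Sz F m)) ∪ B₀) ∪ W := by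
    ext y
    simp only [Set.mem_ofPred_eq, Set.mem_union, SetLike.mem_coe]
    rw [szSol_mem_iff hm hp hF hsub]
    constructor
    · rintro (⟨p, hp', hxp, hyp⟩ | ⟨u, hu, hxu, hyu⟩)
      · rcases szD_fixed hF ht hp' hxp with rfl | rfl
        · exact Or.inl (Or.inl (Helper60.mem_Bo.2 hyp))
        · exact Or.inl (Or.inr hyp)
      · have hxC := szTorus_mem_of_odd hm hF hu hxu
          (szTor_odd hm hF (Or.inr hDE) (szTor_self_mem _))
        have hcent := (szTor_cent_eq hm hF hu hxC (szTor_ne_one hm hF (Or.inr hDE))).1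
        have hyN : y ∈ Subgroup.normalizer
            (((szDG hF).range : Subgroup (Cfsg.Sz F m)) : Set (Cfsg.Sz F m)) := by
          rw [← sz_centralizer_dG hm hF ht, hcent]
          exact hyu
        rcases (sz_normalizer_D_iff hm hF y).1 hyN with ⟨s, rfl⟩ | ⟨s, rfl⟩
        · exact Or.inl (Or.inl (Helper60.dG_mem_Bo hF s))
        · exact Or.inr ⟨s, rfl⟩
    · rintro ((hy | hy) | ⟨s, rfl⟩)
      · exact Or.inl ⟨_, inf_mem_ovoid, szD_smul_inf t, Helper60.mem_Bo.1 hy⟩
      · exact Or.inl ⟨_, szP_mem_ovoid 0 0, szD_smul_zero hF t, hy⟩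
      · refine Or.inr ⟨_, Or.inr hDE, Subgroup.le_normalizer (szTor_self_mem _), ?_⟩
        unfold szNC
        rw [sz_centralizer_dG hm hF ht]
        exact (sz_normalizer_D_iff hm hF _).2 (Or.inr ⟨s, rfl⟩)
  have hinter : (Helper60.Bo F m : Set (Cfsg.Sz F m)) ∩ B₀ =
      Set.range (fun s : Fˣ => (Helper60.dG hF s : Cfsg.Sz F m)) := by
    ext y
    simp only [Set.mem_inter_iff, SetLike.mem_coe, Set.mem_range, hB₀, Set.mem_ofPred_eq]
    constructor
    · rintro ⟨h1, h2⟩
      obtain ⟨s, hs⟩ := sz_fix_two hm hF y.2 (Helper60.mem_Bo.1 h1) h2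
      exact ⟨s, Subtype.ext hs.symm⟩
    · rintro ⟨s, rfl⟩
      exact ⟨Helper60.dG_mem_Bo hF s, szD_smul_zero hF s⟩
  have hcardD : (Set.range (fun s : Fˣ => (Helper60.dG hF s : Cfsg.Sz F m))).ncard =
      Fintype.card F - 1 := by
    rw [← Set.image_univ, Set.ncard_image_of_injective _ (fun s t h => Helper60.dG_inj hF h),
      Set.ncard_univ, Nat.card_units, Nat.card_eq_fintype_card]
  have hcardW : W.ncard = Fintype.card F - 1 := by
    rw [hW, ← Set.image_univ, Set.ncard_image_of_injective _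
      (fun s t h => Helper60.dG_inj hF (mul_left_cancel h)),
      Set.ncard_univ, Nat.card_units, Nat.card_eq_fintype_card]
  have hcardB : (Helper60.Bo F m : Set (Cfsg.Sz F m)).ncard =
      Fintype.card F ^ 2 * (Fintype.card F - 1) := by
    rw [← Nat.card_coe_set_eq]
    exact card_Bo hm hF
  have hB₀eq : B₀ = (fun y => Helper60.wG hF * y * Helper60.wG hF) ''
      (Helper60.Bo F m : Set (Cfsg.Sz F m)) := by
    ext y
    simp only [hB₀, Set.mem_ofPred_eq, Set.mem_image, SetLike.mem_coe]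
    constructor
    · intro hy
      refine ⟨Helper60.wG hF * y * Helper60.wG hF, ?_, ?_⟩
      · rw [Helper60.mem_Bo]
        show (szW F * (y : SpecialLinearGroup (Fin 4) F) * szW F) •
          Cfsg.suzukiPointInfinity F = Cfsg.suzukiPointInfinity F
        rw [mul_smul, mul_smul, szW_smul_inf (m := m), hy, szW_smul_szP_zero]
      · have hw := Helper60.wG_mul_self hF
        calc Helper60.wG hF * (Helper60.wG hF * y * Helper60.wG hF) * Helper60.wG hF
            = (Helper60.wG hF * Helper60.wG hF) * y * (Helper60.wG hF * Helper60.wG hF) := by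
              group
          _ = y := by rw [hw, one_mul, mul_one]
    · rintro ⟨β, hβ, rfl⟩
      show (szW F * (β : SpecialLinearGroup (Fin 4) F) * szW F) • szP m (0 : F) 0 = szP m 0 0
      rw [mul_smul, mul_smul, szW_smul_szP_zero, Helper60.mem_Bo.1 hβ, szW_smul_inf]
  have hcardB₀ : B₀.ncard = Fintype.card F ^ 2 * (Fintype.card F - 1) := by
    rw [hB₀eq, Set.ncard_image_of_injective _ (fun a b h => by
      exact mul_left_cancel (mul_right_cancel h)), hcardB]
  have hdisj : Disjoint ((Helper60.Bo F m : Set (Cfsg.Sz F m)) ∪ B₀) W := by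
    rw [Set.disjoint_left]
    rintro y (hy | hy) ⟨s, rfl⟩
    · apply Helper60.wG_not_mem_Bo hF
      have := mul_mem hy (inv_mem (Helper60.dG_mem_Bo hF s))
      rwa [mul_inv_cancel_right] at this
    · have h1 : (szW F * szD m s) • szP m (0 : F) 0 = szP m 0 0 := hy
      rw [mul_smul, szD_smul_zero hF, szW_smul_szP_zero] at h1
      exact szP_ne_inf 0 0 h1.symm
  have hunion := Set.ncard_union_add_ncard_inter (Helper60.Bo F m : Set (Cfsg.Sz F m)) B₀
  rw [hinter, hcardD, hcardB, hcardB₀] at hunion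
  rw [← Set.coe_ofPred, Nat.card_coe_set_eq, hset, Set.ncard_union_eq hdisj, hcardW]
  have hq := sz_q_ge hm hF
  have hpos : 0 < Fintype.card F ^ 2 := by positivity
  have : 2 * Fintype.card F ^ 2 * (Fintype.card F - 1) =
      Fintype.card F ^ 2 * (Fintype.card F - 1) + Fintype.card F ^ 2 * (Fintype.card F - 1) := by
    ring
  omega

end SzSol3

end Cfsg.Agent.Helper6
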