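import Mathlib
import Cfsg.Prelude.Def_LieExceptional
import Cfsg.Agent.Helper6.SzSol3

set_option autoImplicit false

universe v

namespace Cfsg.Agent.Helper6

open Matrix
open scoped Pointwise

section SzSol4
variable {F : Type v} [Field F] [Fintype F] {m : ℕ} [CharP F 2]

theorem sz_cent_tG (hm : 1 ≤ m) (hF : Fintype.card F = 2 ^ (2 * m + 1)) {a b : F}
    (hab : ¬ (a = 0 ∧ b = 0)) {c : Cfsg.Sz F m}
    (e : c * Helper60.tG hF a b = Helper60.tG hF a b * c) : ∃ x y : F, c = Helper60.tG hF x y := by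
  obtain ⟨x, y, h⟩ := sz_cent_T hm hF hab c.2 (congrArg Subtype.val e)
  exact ⟨x, y, Subtype.ext h⟩

/-- if the product of a central involution of `Uo` with an involution `t` is a non-identity
`2`-element, then `t` fixes the point at infinity -/
theorem sz_invol_prod (hm : 1 ≤ m) (hF : Fintype.card F = 2 ^ (2 * m + 1)) {b : F} (hb : b ≠ 0)
    {t : Cfsg.Sz F m} (ht2 : t * t = 1) (h4 : (Helper60.tG hF 0 b * t) ^ 4 = 1)
    (h1 : Helper60.tG hF 0 b * t ≠ 1) : t ∈ Helper60.Bo F m := by
  set z := Helper60.tG hF 0 b with hz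
  have hz2 : z * z = 1 := tG_center_sq hF b
  have hzi : z⁻¹ = z := tG_center_inv hF b
  have hti : t⁻¹ = t := inv_eq_of_mul_eq_one_left ht2
  have key : ∀ e₀ : Cfsg.Sz F m, e₀ ≠ 1 → e₀ * e₀ = 1 → e₀ * z = z * e₀ → t * e₀ = e₀ * t →
      t ∈ Helper60.Bo F m := by
    intro e₀ he1 he2 hez het
    obtain ⟨x₁, y₁, rfl⟩ := sz_cent_tG hm hF (a := 0) (b := b) (fun h => hb h.2) hez
    have hx₁ : x₁ = 0 := Helper60.tG_involution hF he2
    subst hx₁
    have hy₁ : y₁ ≠ 0 := by
      rintro rfl
      exact he1 (Helper60.tG_zero hF)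
    obtain ⟨x₂, y₂, rfl⟩ := sz_cent_tG hm hF (a := 0) (b := y₁) (fun h => hy₁ h.2) het
    exact Helper60.tG_mem_Bo hF x₂ y₂
  have hci : (z * t)⁻¹ = t * z := by rw [_root_.mul_inv_rev, hti, hzi]
  have hzc : (z * t) * z = z * (z * t)⁻¹ := by rw [hci]; group
  have htc : t * (z * t) = (z * t)⁻¹ * t := by rw [hci]; group
  by_cases hcc : (z * t) * (z * t) = 1
  · have hinv : (z * t)⁻¹ = z * t := inv_eq_of_mul_eq_one_left hcc
    rw [hinv] at hzc htc
    exact key _ h1 hcc hzc htc
  · have h4' : ((z * t) * (z * t)) * ((z * t) * (z * t)) = 1 := by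
      rw [← h4, pow_succ, pow_succ, pow_succ, pow_one]
      simp only [mul_assoc]
    have hinv : ((z * t) * (z * t))⁻¹ = (z * t) * (z * t) := inv_eq_of_mul_eq_one_left h4'
    refine key _ hcc h4' ?_ ?_
    · calc (z * t) * (z * t) * z = (z * t) * ((z * t) * z) := by simp only [mul_assoc]
        _ = (z * t) * (z * (z * t)⁻¹) := by rw [hzc]
        _ = ((z * t) * z) * (z * t)⁻¹ := by simp only [mul_assoc]
        _ = z * (z * t)⁻¹ * (z * t)⁻¹ := by rw [hzc]
        _ = z * ((z * t) * (z * t))⁻¹ := by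
          rw [_root_.mul_inv_rev (z * t) (z * t)]
          simp only [mul_assoc]
        _ = z * ((z * t) * (z * t)) := by rw [hinv]
    · calc t * ((z * t) * (z * t)) = (t * (z * t)) * (z * t) := by simp only [mul_assoc]
        _ = ((z * t)⁻¹ * t) * (z * t) := by rw [htc]
        _ = (z * t)⁻¹ * (t * (z * t)) := by simp only [mul_assoc]
        _ = (z * t)⁻¹ * ((z * t)⁻¹ * t) := by rw [htc]
        _ = ((z * t) * (z * t))⁻¹ * t := by
          rw [_root_.mul_inv_rev (z * t) (z * t)]
          simp only [mul_assoc]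
        _ = (z * t) * (z * t) * t := by rw [hinv]

/-- the torus elements inverted by a central involution `z` of `Uo` are the products of `z`
with the involutions outside `Bo` -/
theorem szI_union_eq (hm : 1 ≤ m) (hF : Fintype.card F = 2 ^ (2 * m + 1)) {b : F} (hb : b ≠ 0) :
    szI (szE F m) (Helper60.tG hF 0 b) ∪ szI (szDE hF) (Helper60.tG hF 0 b) =
      (fun t => Helper60.tG hF 0 b * t) ''
        {t : Cfsg.Sz F m | t * t = 1 ∧ t ∉ Helper60.Bo F m} := by
  set z := Helper60.tG hF 0 b with hz
  have hz2 : z * z = 1 := tG_center_sq hF b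
  have hzi : z⁻¹ = z := tG_center_inv hF b
  have hz1 : z ≠ 1 := tG_center_ne_one hF hb
  ext c
  simp only [Set.mem_union, Set.mem_image, Set.mem_ofPred_eq, szI]
  constructor
  · intro hc
    have hcT : c ∈ szE F m ∨ c ∈ szDE hF := by
      rcases hc with h | h
      · exact Or.inl h.1
      · exact Or.inr h.1
    have hcN : z ∈ szNC c := by
      rcases hc with h | h
      · exact h.2
      · exact h.2
    have hinv := szTor_invol_inverts hm hF hcT hcN hz2 hz1 (szTor_self_mem c)
    rw [hzi] at hinv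
    refine ⟨z * c, ⟨?_, ?_⟩, ?_⟩
    · calc (z * c) * (z * c) = (z * c * z) * c := by group
        _ = 1 := by rw [hinv, inv_mul_cancel]
    · intro hB
      have h1 : c ∈ Helper60.Bo F m := by
        have := mul_mem (inv_mem (Helper60.tG_mem_Bo hF 0 b)) hB
        rwa [inv_mul_cancel_left] at this
      exact szTor_ne_one hm hF hcT (szTor_inter_Bo hm hF hcT hb hcN (szTor_self_mem c) h1)
    · rw [← mul_assoc, hz2, one_mul]
  · rintro ⟨t, ⟨ht2, htB⟩, rfl⟩
    have hti : t⁻¹ = t := inv_eq_of_mul_eq_one_left ht2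
    have hc1 : z * t ≠ 1 := by
      intro h
      apply htB
      have h' : t = z := by
        rw [← hzi]
        exact eq_inv_of_mul_eq_one_right h
      rw [h']
      exact Helper60.tG_mem_Bo hF 0 b
    have hinv : z * (z * t) * z⁻¹ = (z * t)⁻¹ := by
      rw [_root_.mul_inv_rev, hti, hzi, ← mul_assoc, hz2, one_mul]
    have hT : z * t ∈ szE F m ∨ z * t ∈ szDE hF := by
      rcases sz_trichotomy hm hF hc1 with hE | ⟨x, a', b', hab, e⟩ | ⟨x, s, hs, e⟩
      · exact Or.inl hE
      · exfalso
        apply htB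
        apply sz_invol_prod hm hF hb ht2 _ hc1
        have h5 : (x * (z * t) * x⁻¹) ^ 4 = 1 := by rw [e, tG_pow_four]
        rw [conj_pow] at h5
        have h6 : (z * t) ^ 4 = x⁻¹ * (x * (z * t) ^ 4 * x⁻¹) * x := by group
        rw [h6, h5]
        group
      · exact Or.inr ⟨x, s, hs, e⟩
    have hN : z ∈ szNC (z * t) := by
      obtain ⟨T, hTI, hcT, _⟩ := szTor_tiData hm hF hT
      apply ti_mem_normalizer hTI hcT (szTor_self_mem _) hc1
      rw [hinv]
      exact inv_mem (szTor_self_mem _)
    rcases hT with h | h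
    · exact Or.inl ⟨h, hN⟩
    · exact Or.inr ⟨h, hN⟩

theorem tG_eq_dG (hF : Fintype.card F = 2 ^ (2 * m + 1)) {x y : F} {s : Fˣ}
    (h : Helper60.tG hF x y = (Helper60.dG hF s : Cfsg.Sz F m)) : x = 0 ∧ y = 0 := by
  have h1 : szT m x y • szP m (0 : F) 0 = szD m s • szP m (0 : F) 0 := by
    have := congrArg (fun g : Cfsg.Sz F m => (g : SpecialLinearGroup (Fin 4) F)) h
    exact congrArg (fun g : SpecialLinearGroup (Fin 4) F => g • szP m (0 : F) 0) this
  rw [szT_smul_zero hF, szD_smul_zero hF] at h1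
  exact szP_inj h1

/-- the number of involutions not fixing the point at infinity -/
theorem sz_invol_out_card (hm : 1 ≤ m) (hF : Fintype.card F = 2 ^ (2 * m + 1)) :
    {t : Cfsg.Sz F m | t * t = 1 ∧ t ∉ Helper60.Bo F m}.ncard =
      Fintype.card F ^ 2 * (Fintype.card F - 1) := by
  have hw := Helper60.wG_mul_self hF (m := m)
  have hwi := Helper60.wG_inv hF (m := m)
  set ι : (F × F) × Fˣ → Cfsg.Sz F m := fun p =>
    Helper60.tG hF p.1.1 p.1.2 * Helper60.wG hF * Helper60.tG hF 0 (p.2 : F) * Helper60.wG hF *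
      (Helper60.tG hF p.1.1 p.1.2)⁻¹ with hι
  have hinj : Function.Injective ι := by
    rintro ⟨⟨a, b⟩, s⟩ ⟨⟨a', b'⟩, s'⟩ h
    simp only [hι] at h
    obtain ⟨x, y, hxy⟩ : ∃ x y : F, (Helper60.tG hF a' b')⁻¹ * Helper60.tG hF a b =
        Helper60.tG hF x y :=
      mul_mem (inv_mem (Helper60.tG_mem_Uo hF a' b')) (Helper60.tG_mem_Uo hF a b)
    have h1 : (Helper60.wG hF * Helper60.tG hF x y * Helper60.wG hF) * Helper60.tG hF 0 (s : F) *
        (Helper60.wG hF * Helper60.tG hF x y * Helper60.wG hF)⁻¹ = Helper60.tG hF 0 (s' : F) := by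
      rw [← hxy]
      have e1 : (Helper60.wG hF * ((Helper60.tG hF a' b')⁻¹ * Helper60.tG hF a b) *
          Helper60.wG hF) * Helper60.tG hF 0 (s : F) *
          (Helper60.wG hF * ((Helper60.tG hF a' b')⁻¹ * Helper60.tG hF a b) * Helper60.wG hF)⁻¹ =
          Helper60.wG hF * (Helper60.tG hF a' b')⁻¹ * (Helper60.tG hF a b * Helper60.wG hF *
            Helper60.tG hF 0 (s : F) * Helper60.wG hF * (Helper60.tG hF a b)⁻¹) *
            Helper60.tG hF a' b' * Helper60.wG hF := by
        rw [_root_.mul_inv_rev, _root_.mul_inv_rev, _root_.mul_inv_rev, hwi, inv_inv]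
        group
      rw [e1, h]
      calc Helper60.wG hF * (Helper60.tG hF a' b')⁻¹ * (Helper60.tG hF a' b' * Helper60.wG hF *
            Helper60.tG hF 0 (s' : F) * Helper60.wG hF * (Helper60.tG hF a' b')⁻¹) *
            Helper60.tG hF a' b' * Helper60.wG hF
          = (Helper60.wG hF * Helper60.wG hF) * Helper60.tG hF 0 (s' : F) *
            (Helper60.wG hF * Helper60.wG hF) := by group
        _ = Helper60.tG hF 0 (s' : F) := by rw [hw, one_mul, mul_one]
    have h2 : Helper60.wG hF * Helper60.tG hF x y * Helper60.wG hF ∈ Helper60.Bo F m := by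
      apply Helper60.invol_conj_Bo hF hm (Units.ne_zero s)
      rw [h1]
      exact Helper60.tG_mem_Bo hF 0 _
    obtain ⟨s₀, hs₀⟩ := Helper60.opp_inter hF hm (Helper60.tG_mem_Bo hF x y) h2
    obtain ⟨rfl, rfl⟩ := tG_eq_dG hF hs₀
    rw [Helper60.tG_zero, inv_mul_eq_one] at hxy
    obtain ⟨rfl, rfl⟩ := Helper60.tG_inj hF hxy
    have h3 : Helper60.tG hF 0 (s : F) = Helper60.tG hF 0 (s' : F) := by
      have := mul_left_cancel (mul_right_cancel (mul_right_cancel h))
      exact this
    have h4 := (Helper60.tG_inj hF h3).2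
    rw [Units.ext h4]
  have hrange : {t : Cfsg.Sz F m | t * t = 1 ∧ t ∉ Helper60.Bo F m} = ι '' Set.univ := by
    ext t
    simp only [Set.mem_ofPred_eq, Set.image_univ, Set.mem_range]
    constructor
    · rintro ⟨ht2, htB⟩
      obtain ⟨p, hp, hfix⟩ := sz_invol_fixed hF t.2 (congrArg Subtype.val ht2)
      rcases (mem_ovoid_iff p).1 hp with rfl | ⟨a, b, rfl⟩
      · exact absurd (Helper60.mem_Bo.2 hfix) htB
      · have hB : Helper60.wG hF * (Helper60.tG hF a b)⁻¹ * t * Helper60.tG hF a b *
            Helper60.wG hF ∈ Helper60.Bo F m := by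
          rw [Helper60.mem_Bo]
          show (szW F * (szT m a b)⁻¹ * (t : SpecialLinearGroup (Fin 4) F) * szT m a b * szW F) •
            Cfsg.suzukiPointInfinity F = Cfsg.suzukiPointInfinity F
          rw [mul_smul, mul_smul, mul_smul, mul_smul, szW_smul_inf (m := m), szT_smul_zero hF,
            hfix, inv_smul_eq_iff.2 (szT_smul_zero hF a b).symm, szW_smul_szP_zero]
        have h2 : (Helper60.wG hF * (Helper60.tG hF a b)⁻¹ * t * Helper60.tG hF a b *
            Helper60.wG hF) * (Helper60.wG hF * (Helper60.tG hF a b)⁻¹ * t * Helper60.tG hF a b *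
            Helper60.wG hF) = 1 := by
          calc (Helper60.wG hF * (Helper60.tG hF a b)⁻¹ * t * Helper60.tG hF a b *
              Helper60.wG hF) * (Helper60.wG hF * (Helper60.tG hF a b)⁻¹ * t * Helper60.tG hF a b *
              Helper60.wG hF)
              = Helper60.wG hF * (Helper60.tG hF a b)⁻¹ * t * Helper60.tG hF a b *
                (Helper60.wG hF * Helper60.wG hF) * (Helper60.tG hF a b)⁻¹ * t *
                Helper60.tG hF a b * Helper60.wG hF := by group
            _ = Helper60.wG hF * (Helper60.tG hF a b)⁻¹ * (t * t) * Helper60.tG hF a b *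
                Helper60.wG hF := by rw [hw]; group
            _ = 1 := by rw [ht2]; simp [hw]
        obtain ⟨b'', hb''⟩ := Helper60.Bo_invol hF hm hB h2
        have ht : t = Helper60.tG hF a b * Helper60.wG hF * Helper60.tG hF 0 b'' * Helper60.wG hF *
            (Helper60.tG hF a b)⁻¹ := by
          rw [← hb'']
          calc t = Helper60.tG hF a b * (Helper60.wG hF * Helper60.wG hF) *
                (Helper60.tG hF a b)⁻¹ * t * Helper60.tG hF a b * (Helper60.wG hF * Helper60.wG hF) *
                (Helper60.tG hF a b)⁻¹ := by rw [hw]; group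
            _ = _ := by group
        have hb0 : b'' ≠ 0 := by
          rintro rfl
          apply htB
          rw [ht, Helper60.tG_zero, mul_one, mul_assoc (Helper60.tG hF a b), hw, mul_one,
            mul_inv_cancel]
          exact one_mem _
        exact ⟨⟨⟨a, b⟩, Units.mk0 b'' hb0⟩, ht.symm⟩
    · rintro ⟨⟨⟨a, b⟩, s⟩, rfl⟩
      simp only [hι]
      constructor
      · calc (Helper60.tG hF a b * Helper60.wG hF * Helper60.tG hF 0 (s : F) * Helper60.wG hF *
            (Helper60.tG hF a b)⁻¹) * (Helper60.tG hF a b * Helper60.wG hF *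
            Helper60.tG hF 0 (s : F) * Helper60.wG hF * (Helper60.tG hF a b)⁻¹)
            = Helper60.tG hF a b * Helper60.wG hF * Helper60.tG hF 0 (s : F) *
              (Helper60.wG hF * Helper60.wG hF) * Helper60.tG hF 0 (s : F) * Helper60.wG hF *
              (Helper60.tG hF a b)⁻¹ := by group
          _ = Helper60.tG hF a b * Helper60.wG hF * (Helper60.tG hF 0 (s : F) *
              Helper60.tG hF 0 (s : F)) * Helper60.wG hF * (Helper60.tG hF a b)⁻¹ := by
            rw [hw]; group
          _ = 1 := by rw [tG_center_sq, mul_one, mul_assoc (Helper60.tG hF a b), hw, mul_one,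
            mul_inv_cancel]
      · intro hB
        apply Helper60.wG_not_mem_Bo hF (m := m)
        apply Helper60.invol_conj_Bo hF hm (Units.ne_zero s)
        rw [hwi]
        have := mul_mem (mul_mem (inv_mem (Helper60.tG_mem_Bo hF a b)) hB)
          (Helper60.tG_mem_Bo hF a b)
        convert this using 1
        group
  rw [hrange, Set.ncard_image_of_injective _ hinj, Set.ncard_univ, Nat.card_prod, Nat.card_prod,
    Nat.card_units, Nat.card_eq_fintype_card]
  ring

end SzSol4

end Cfsg.Agent.Helper6
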