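import Mathlib

/-!
# Generic lemmas for the normaliser of an elementary abelian Sylow 2-subgroup of order 8
-/

set_option autoImplicit false

namespace Cfsg.Agent.Helper6

open Module

/-- The number of linear automorphisms of a finite vector space over a finite field. -/
theorem card_linearEquiv_self {K V : Type*} [Field K] [Fintype K] [AddCommGroup V] [Module K V]
    [Finite V] :
    Nat.card (V ≃ₗ[K] V) =
      ∏ i : Fin (finrank K V), (Fintype.card K ^ finrank K V - Fintype.card K ^ (i : ℕ)) := by
  classical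
  have : Module.Finite K V := Module.Finite.of_finite
  rw [← card_linearIndependent (K := K) (V := V) (le_refl _)]
  let b : Basis (Fin (finrank K V)) K V := Module.finBasis K V
  let Φ : (V ≃ₗ[K] V) → {s : Fin (finrank K V) → V // LinearIndependent K s} := fun e =>
    ⟨fun i => e (b i), b.linearIndependent.map' (e : V →ₗ[K] V) (LinearEquiv.ker e)⟩
  have hΦ : Function.Bijective Φ := by
    constructor
    · intro e e' h
      have h' : ∀ i, e (b i) = e' (b i) := fun i => congrFun (congrArg Subtype.val h) i
      apply LinearEquiv.toLinearMap_injective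
      exact b.ext h'
    · rintro ⟨s, hs⟩
      by_cases hn : finrank K V = 0
      · refine ⟨LinearEquiv.refl K V, ?_⟩
        apply Subtype.ext
        funext i
        have := i.2
        omega
      · haveI : Nonempty (Fin (finrank K V)) := ⟨⟨0, Nat.pos_of_ne_zero hn⟩⟩
        let b' : Basis (Fin (finrank K V)) K V :=
          basisOfLinearIndependentOfCardEqFinrank hs (by simp)
        refine ⟨b.equiv b' (Equiv.refl _), ?_⟩
        apply Subtype.ext
        funext i
        show b.equiv b' (Equiv.refl _) (b i) = s i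
        rw [Basis.equiv_apply, Equiv.refl_apply, coe_basisOfLinearIndependentOfCardEqFinrank]
  exact Nat.card_congr (Equiv.ofBijective Φ hΦ)

/-- An elementary abelian group of order 8 has 168 automorphisms. -/
theorem card_mulAut_elem8 {T : Type*} [Group T] [Finite T] (h8 : Nat.card T = 8)
    (h2 : ∀ x : T, x * x = 1) : Nat.card (MulAut T) = 168 := by
  classical
  have hinv : ∀ a : T, a⁻¹ = a := fun a => inv_eq_of_mul_eq_one_left (h2 a)
  have hcomm : ∀ a b : T, a * b = b * a := by
    intro a b
    calc a * b = (a * b)⁻¹ := (hinv (a * b)).symm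
      _ = b⁻¹ * a⁻¹ := mul_inv_rev a b
      _ = b * a := by rw [hinv a, hinv b]
  letI : CommGroup T := { (inferInstance : Group T) with mul_comm := hcomm }
  letI : Module (ZMod 2) (Additive T) := AddCommGroup.zmodModule (n := 2) (fun x => by
    rw [two_nsmul]
    exact congrArg Additive.ofMul (h2 (Additive.toMul x)))
  haveI : Finite (Additive T) := inferInstanceAs (Finite T)
  haveI : Fintype (Additive T) := Fintype.ofFinite _
  have hfr : finrank (ZMod 2) (Additive T) = 3 := by
    have h := Module.card_eq_pow_finrank (K := ZMod 2) (V := Additive T)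
    rw [ZMod.card, ← Nat.card_eq_fintype_card] at h
    have h8' : Nat.card (Additive T) = 8 := h8
    rw [h8'] at h
    exact Nat.pow_right_injective (le_refl 2) (h.symm.trans (by norm_num : 8 = 2 ^ 3))
  let E : MulAut T ≃ (Additive T ≃ₗ[ZMod 2] Additive T) :=
    { toFun := fun f => (MulEquiv.toAdditive f).toLinearEquiv (ZMod.map_smul _)
      invFun := fun e => MulEquiv.toAdditive.symm e.toAddEquiv
      left_inv := fun f => by
        ext x
        rfl
      right_inv := fun e => by
        ext x
        rfl }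
  rw [Nat.card_congr E, card_linearEquiv_self, hfr, ZMod.card]
  simp [Fin.prod_univ_succ]

/-- If conjugation by `g` maps a finite subgroup into itself, `g` normalises it. -/
theorem mem_normalizer_of_conj_mem {G : Type*} [Group G] (H : Subgroup G) [Finite H] (g : G)
    (h : ∀ x ∈ H, g * x * g⁻¹ ∈ H) : g ∈ Subgroup.normalizer (H : Set G) := by
  rw [Subgroup.mem_normalizer_iff]
  intro x
  refine ⟨h x, fun hx => ?_⟩
  let c : H → H := fun y => ⟨g * y * g⁻¹, h y y.2⟩
  have hc : Function.Injective c := by
    intro y y' hyy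
    have h1 : g * (y : G) * g⁻¹ = g * (y' : G) * g⁻¹ := congrArg Subtype.val hyy
    apply Subtype.ext
    exact mul_left_cancel (mul_right_cancel h1)
  obtain ⟨y, hy⟩ := (Finite.injective_iff_surjective.mp hc) ⟨g * x * g⁻¹, hx⟩
  have h1 : g * (y : G) * g⁻¹ = g * x * g⁻¹ := congrArg Subtype.val hy
  have h2 : (y : G) = x := mul_left_cancel (mul_right_cancel h1)
  rw [← h2]
  exact y.2

/-- The normaliser of a self-centralising elementary abelian Sylow 2-subgroup of order 8 has
order `8d` with `d ∣ 21`. -/
theorem card_normalizer_elem8 {G : Type*} [Group G] [Finite G] (T : Subgroup G)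
    (h8 : Nat.card T = 8) (h2 : ∀ x ∈ T, x * x = 1)
    (hC : Subgroup.centralizer (T : Set G) = T) {k : ℕ} (hk : Odd k) (hG : Nat.card G = 8 * k) :
    ∃ d, d ∣ 21 ∧ Nat.card (Subgroup.normalizer (T : Set G)) = 8 * d := by
  have key := Subgroup.card_dvd_of_injective _ (QuotientGroup.kerLift_injective T.normalizerMonoidHom)
  rw [Subgroup.normalizerMonoidHom_ker, hC,
    card_mulAut_elem8 h8 (fun x => Subtype.ext (h2 x x.2))] at key
  have h1 := Subgroup.card_eq_card_quotient_mul_card_subgroup
    (T.subgroupOf (Subgroup.normalizer (T : Set G)))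
  rw [Nat.card_congr (Subgroup.subgroupOfEquivOfLe Subgroup.le_normalizer).toEquiv, h8] at h1
  refine ⟨Nat.card (↥(Subgroup.normalizer (T : Set G)) ⧸
    T.subgroupOf (Subgroup.normalizer (T : Set G))), ?_, by rw [h1, mul_comm]⟩
  have h3 : Nat.card (Subgroup.normalizer (T : Set G)) ∣ 8 * k := by
    rw [← hG]; exact Subgroup.card_subgroup_dvd_card _
  rw [h1, mul_comm] at h3
  have h4 := Nat.dvd_of_mul_dvd_mul_left (by norm_num : 0 < 8) h3
  have hodd : Odd (Nat.card (↥(Subgroup.normalizer (T : Set G)) ⧸
      T.subgroupOf (Subgroup.normalizer (T : Set G)))) := Odd.of_dvd_nat hk h4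
  have hcop : Nat.Coprime (Nat.card (↥(Subgroup.normalizer (T : Set G)) ⧸
      T.subgroupOf (Subgroup.normalizer (T : Set G)))) 8 := by
    rw [show (8 : ℕ) = 2 ^ 3 from rfl]
    exact Nat.Coprime.pow_right 3 (Nat.coprime_two_right.mpr hodd)
  exact hcop.dvd_of_dvd_mul_left (by rw [show (8 : ℕ) * 21 = 168 from rfl]; exact key)

open scoped IsMulCommutative in
/-- In a perfect group, a non-trivial element of an abelian Sylow subgroup is not central in the
normaliser of the Sylow subgroup. -/
theorem sylow_transfer_central {G : Type*} [Group G] [Finite G] {p : ℕ} [Fact p.Prime]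
    (P : Sylow p G) (hcomm : ∀ a ∈ P, ∀ b ∈ P, a * b = b * a) (hperf : commutator G = ⊤)
    (x : G) (hxP : x ∈ P)
    (hx : ∀ n ∈ Subgroup.normalizer ((P : Subgroup G) : Set G), n * x = x * n) : x = 1 := by
  haveI : IsMulCommutative P := ⟨⟨fun a b => Subtype.ext (hcomm a a.2 b b.2)⟩⟩
  have key : ∀ (k : ℕ) (g₀ : G), g₀⁻¹ * x ^ k * g₀ ∈ (P : Subgroup G) →
      g₀⁻¹ * x ^ k * g₀ = x ^ k := by
    intro k g₀ h
    obtain ⟨n, hn, h'⟩ := P.conj_eq_normalizer_conj_of_mem (x ^ k) g₀ (P.pow_mem hxP k) h
    rw [h']
    have c : Commute n (x ^ k) := (show Commute n x from hx n hn).pow_right k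
    rw [mul_assoc, ← c.eq, inv_mul_cancel_left]
  have h1 := MonoidHom.transfer_eq_pow (MonoidHom.id P) x key
  have h2 : MonoidHom.transfer (MonoidHom.id P) x = 1 := by
    have hmem : x ∈ commutator G := by rw [hperf]; exact Subgroup.mem_top x
    exact MonoidHom.mem_ker.mp (Abelianization.commutator_subset_ker _ hmem)
  rw [h2] at h1
  have h3 : x ^ (P : Subgroup G).index = 1 := by
    have := congrArg Subtype.val h1
    simpa using this.symm
  have h4 : orderOf x ∣ (P : Subgroup G).index := orderOf_dvd_of_pow_eq_one h3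
  obtain ⟨j, hj⟩ := P.2 ⟨x, hxP⟩
  have h5 : orderOf x ∣ p ^ j := orderOf_dvd_of_pow_eq_one (by
    simpa using congrArg Subtype.val hj)
  have h6 : Nat.Coprime (p ^ j) (P : Subgroup G).index :=
    Nat.Coprime.pow_left j ((Nat.Prime.coprime_iff_not_dvd Fact.out).mpr P.not_dvd_index)
  have h7 : orderOf x = 1 := Nat.eq_one_of_dvd_coprimes h6 h5 h4
  exact orderOf_eq_one_iff.mp h7

/-- Transport of the statements on the centraliser and the normaliser along conjugation. -/
theorem sylow_cent_norm_of_conj {G : Type*} [Group G] [Finite G] {p : ℕ} [Fact p.Prime]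
    (T S : Sylow p G) (n : ℕ)
    (hC : Subgroup.centralizer ((T : Subgroup G) : Set G) = T)
    (hN : Nat.card (Subgroup.normalizer ((T : Subgroup G) : Set G)) = n) :
    Subgroup.centralizer ((S : Subgroup G) : Set G) = S ∧
      Nat.card (Subgroup.normalizer ((S : Subgroup G) : Set G)) = n := by
  obtain ⟨g, rfl⟩ := MulAction.exists_smul_eq G T S
  have hmem : ∀ x : G, x ∈ ((g • T : Sylow p G) : Subgroup G) ↔ g⁻¹ * x * g ∈ (T : Subgroup G) := by
    intro x
    rw [Sylow.coe_subgroup_smul, Subgroup.mem_pointwise_smul_iff_inv_smul_mem]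
    simp only [MulAut.smul_def, MulAut.conj_inv_apply]
  have hmem' : ∀ x : G, g * x * g⁻¹ ∈ ((g • T : Sylow p G) : Subgroup G) ↔ x ∈ (T : Subgroup G) := by
    intro x
    rw [hmem]
    have e : g⁻¹ * (g * x * g⁻¹) * g = x := by group
    rw [e]
  constructor
  · ext x
    rw [hmem, ← hC, Subgroup.mem_centralizer_iff, Subgroup.mem_centralizer_iff]
    constructor
    · intro h y hy
      have h1 := h (g * y * g⁻¹) ((hmem' y).mpr hy)
      have e1 : y * (g⁻¹ * x * g) = g⁻¹ * (g * y * g⁻¹ * x) * g := by group
      have e2 : g⁻¹ * x * g * y = g⁻¹ * (x * (g * y * g⁻¹)) * g := by group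
      rw [e1, e2, h1]
    · intro h y hy
      have h1 := h (g⁻¹ * y * g) ((hmem y).mp hy)
      have e1 : y * x = g * (g⁻¹ * y * g * (g⁻¹ * x * g)) * g⁻¹ := by group
      have e2 : x * y = g * (g⁻¹ * x * g * (g⁻¹ * y * g)) * g⁻¹ := by group
      rw [e1, e2, h1]
  · rw [← hN]
    have hnorm : ∀ x : G, x ∈ Subgroup.normalizer (((g • T : Sylow p G) : Subgroup G) : Set G) ↔
        g⁻¹ * x * g ∈ Subgroup.normalizer ((T : Subgroup G) : Set G) := by
      intro x
      rw [Subgroup.mem_normalizer_iff, Subgroup.mem_normalizer_iff]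
      constructor
      · intro h y
        have h1 := h (g * y * g⁻¹)
        rw [hmem' y] at h1
        rw [h1, hmem]
        have e : g⁻¹ * (x * (g * y * g⁻¹) * x⁻¹) * g = g⁻¹ * x * g * y * (g⁻¹ * x * g)⁻¹ := by
          group
        rw [e]
      · intro h y
        have h1 := h (g⁻¹ * y * g)
        rw [hmem, h1, hmem]
        have e : g⁻¹ * (x * y * x⁻¹) * g = g⁻¹ * x * g * (g⁻¹ * y * g) * (g⁻¹ * x * g)⁻¹ := by
          group
        rw [e]
    let φ : ↥(Subgroup.normalizer (((g • T : Sylow p G) : Subgroup G) : Set G)) →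
        ↥(Subgroup.normalizer ((T : Subgroup G) : Set G)) := fun x =>
      ⟨g⁻¹ * x * g, (hnorm x).mp x.2⟩
    have hφ : Function.Bijective φ := by
      constructor
      · intro x y hxy
        have h1 : g⁻¹ * (x : G) * g = g⁻¹ * (y : G) * g := congrArg Subtype.val hxy
        apply Subtype.ext
        exact mul_left_cancel (mul_right_cancel h1)
      · intro y
        refine ⟨⟨g * y * g⁻¹, (hnorm _).mpr ?_⟩, ?_⟩
        · have e : g⁻¹ * (g * (y : G) * g⁻¹) * g = y := by group
          rw [e]; exact y.2
        · apply Subtype.ext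
          show g⁻¹ * (g * (y : G) * g⁻¹) * g = y
          group
    exact Nat.card_congr (Equiv.ofBijective φ hφ)

end Cfsg.Agent.Helper6
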