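import Cfsg.Agent.Helper6.ReeGen
import Cfsg.Agent.Helper6.ReeGen2

/-!
# A group-theoretic criterion: self-centralising elementary abelian Sylow 2-subgroups of order 8
with normaliser of order 168
-/

set_option autoImplicit false

namespace Cfsg.Agent.Helper6

/-- Conjugates of commuting elements commute. -/
theorem conj_comm_of {G : Type*} [Group G] {ω n j g : G} (h : ω * n = j * ω)
    (hg : n * g = g * n) : j * (ω * g * ω⁻¹) = (ω * g * ω⁻¹) * j := by
  have e : j = ω * n * ω⁻¹ := by rw [h]; group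
  rw [e]
  calc ω * n * ω⁻¹ * (ω * g * ω⁻¹) = ω * (n * g) * ω⁻¹ := by group
    _ = ω * (g * n) * ω⁻¹ := by rw [hg]
    _ = ω * g * ω⁻¹ * (ω * n * ω⁻¹) := by group

theorem dvd_21_cases {d : ℕ} (hd : d ∣ 21) (h3 : 3 ∣ d) : d = 3 ∨ d = 21 := by
  have hdle : d ≤ 21 := Nat.le_of_dvd (by norm_num) hd
  interval_cases d <;> omega

/-- A perfect group of order `8k`, `k` odd, with elementary abelian Sylow 2-subgroups, containing
a Klein-type configuration `a, n, j` whose centraliser has exponent 2 and an element `ω` of order 3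
centralising `a` and permuting `n, j, nj`: the Sylow 2-subgroups are self-centralising with
normaliser of order 168. -/
theorem sylow_two_168 {G : Type*} [Group G] [Finite G]
    (hperf : commutator G = ⊤) {k : ℕ} (hk : Odd k) (hG : Nat.card G = 8 * k)
    (hS : ∀ S : Sylow 2 G, ∀ x ∈ S, x * x = 1)
    (a n j ω : G) (ha1 : a ≠ 1)
    (han : a * n = n * a) (haj : a * j = j * a) (haω : a * ω = ω * a)
    (hnj : n * j = j * n) (hωn : ω * n = j * ω) (hωj : ω * j = (n * j) * ω)
    (hω3 : ω ^ 3 = 1) (hω1 : ω ≠ 1)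
    (hT : ∀ g : G, a * g = g * a → n * g = g * n → j * g = g * j → g * g = 1)
    (S : Sylow 2 G) :
    Subgroup.centralizer ((S : Subgroup G) : Set G) = S ∧
      Nat.card (Subgroup.normalizer ((S : Subgroup G) : Set G)) = 168 := by
  have : Fact (Nat.Prime 2) := ⟨Nat.prime_two⟩
  have : Fact (Nat.Prime 3) := ⟨Nat.prime_three⟩
  -- the centraliser `T` of `a, n, j`
  obtain ⟨T, hTdef⟩ : ∃ T : Subgroup G, T = Subgroup.centralizer ({a, n, j} : Set G) := ⟨_, rfl⟩
  have hTmem : ∀ g : G, g ∈ T ↔ (a * g = g * a ∧ n * g = g * n ∧ j * g = g * j) := by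
    intro g
    rw [hTdef, Subgroup.mem_centralizer_iff]
    constructor
    · intro h
      exact ⟨h a (by simp), h n (by simp), h j (by simp)⟩
    · rintro ⟨h1, h2, h3⟩ h hh
      simp only [Set.mem_insert_iff, Set.mem_singleton_iff] at hh
      rcases hh with rfl | rfl | rfl <;> assumption
  have hTsq : ∀ g ∈ T, g * g = 1 := fun g hg => by
    obtain ⟨h1, h2, h3⟩ := (hTmem g).mp hg
    exact hT g h1 h2 h3
  have hTp : IsPGroup 2 T := by
    intro g
    refine ⟨1, ?_⟩
    rw [pow_one, pow_two]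
    exact Subtype.ext (hTsq g g.2)
  obtain ⟨S', hS'⟩ := hTp.exists_le_sylow
  have hS'sq := hS S'
  have hS'comm : ∀ u ∈ S', ∀ v ∈ S', u * v = v * u := by
    intro u hu v hv
    have e1 := hS'sq u hu
    have e2 := hS'sq v hv
    have e3 := hS'sq (u * v) (mul_mem hu hv)
    have hu' : u⁻¹ = u := inv_eq_of_mul_eq_one_left e1
    have hv' : v⁻¹ = v := inv_eq_of_mul_eq_one_left e2
    have e4 : (u * v)⁻¹ = u * v := inv_eq_of_mul_eq_one_left e3
    rw [← e4, mul_inv_rev, hu', hv']
  have haT : a ∈ T := (hTmem a).mpr ⟨rfl, han.symm, haj.symm⟩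
  have hnT : n ∈ T := (hTmem n).mpr ⟨han, rfl, hnj.symm⟩
  have hjT : j ∈ T := (hTmem j).mpr ⟨haj, hnj, rfl⟩
  have hS'T : (S' : Subgroup G) ≤ T := fun g hg => (hTmem g).mpr
    ⟨hS'comm a (hS' haT) g hg, hS'comm n (hS' hnT) g hg, hS'comm j (hS' hjT) g hg⟩
  have hC : Subgroup.centralizer ((S' : Subgroup G) : Set G) = S' := by
    apply le_antisymm
    · intro g hg
      rw [Subgroup.mem_centralizer_iff] at hg
      exact hS' ((hTmem g).mpr ⟨hg a (hS' haT), hg n (hS' hnT), hg j (hS' hjT)⟩)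
    · intro g hg
      rw [Subgroup.mem_centralizer_iff]
      intro h hh
      exact hS'comm h hh g hg
  have h8 : Nat.card S' = 8 := by
    rw [Sylow.card_eq_multiplicity, hG, factorization_two_eight_mul hk]; norm_num
  obtain ⟨d, hd, hN⟩ := card_normalizer_elem8 (S' : Subgroup G) h8 hS'sq hC hk hG
  -- `ω` normalises `S'`
  have hωN : ω ∈ Subgroup.normalizer ((S' : Subgroup G) : Set G) := by
    apply mem_normalizer_of_conj_mem
    intro g hg
    obtain ⟨g1, g2, g3⟩ := (hTmem g).mp (hS'T hg)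
    apply hS'
    rw [hTmem]
    have cA : Commute a (ω * g * ω⁻¹) :=
      ((show Commute a ω from haω).mul_right g1).mul_right (show Commute a ω from haω).inv_right
    have cJ : Commute j (ω * g * ω⁻¹) := conj_comm_of hωn g2
    have cNJ : Commute (n * j) (ω * g * ω⁻¹) := conj_comm_of hωj g3
    have cN : Commute n (ω * g * ω⁻¹) := by
      have := cNJ.mul_left cJ.inv_left
      rwa [mul_inv_cancel_right] at this
    exact ⟨cA.eq, cN.eq, cJ.eq⟩
  have hord : orderOf ω = 3 := orderOf_eq_prime hω3 hω1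
  -- the centraliser of `a` in the normaliser
  obtain ⟨Na, hNa⟩ : ∃ Na : Subgroup G, Na = Subgroup.normalizer ((S' : Subgroup G) : Set G) ⊓
      Subgroup.centralizer ({a} : Set G) := ⟨_, rfl⟩
  have hS'Na : (S' : Subgroup G) ≤ Na := by
    intro g hg
    rw [hNa]
    refine Subgroup.mem_inf.mpr ⟨Subgroup.le_normalizer hg, ?_⟩
    rw [Subgroup.mem_centralizer_iff]
    intro h hh
    rw [Set.mem_singleton_iff] at hh
    rw [hh]
    exact hS'comm a (hS' haT) g hg
  have hωNa : ω ∈ Na := by
    rw [hNa]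
    refine Subgroup.mem_inf.mpr ⟨hωN, ?_⟩
    rw [Subgroup.mem_centralizer_iff]
    intro h hh
    rw [Set.mem_singleton_iff] at hh
    rw [hh]
    exact haω
  have hNaN : Na ≤ Subgroup.normalizer ((S' : Subgroup G) : Set G) := by
    rw [hNa]; exact inf_le_left
  have d8 : 8 ∣ Nat.card Na := by
    rw [← h8]; exact Subgroup.card_dvd_of_le hS'Na
  have d3 : 3 ∣ Nat.card Na := by
    rw [← hord]; exact Subgroup.orderOf_dvd_natCard Na hωNa
  have d24 : 24 ∣ Nat.card Na :=
    Nat.Coprime.mul_dvd_of_dvd_of_dvd (by norm_num : Nat.Coprime 8 3) d8 d3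
  have dN : Nat.card Na ∣ 8 * d := by
    rw [← hN]; exact Subgroup.card_dvd_of_le hNaN
  have h24 : 24 ∣ 8 * d := d24.trans dN
  have h3d : 3 ∣ d := by
    have : 8 * 3 ∣ 8 * d := h24
    exact Nat.dvd_of_mul_dvd_mul_left (by norm_num) this
  have hd21 : d = 3 ∨ d = 21 := dvd_21_cases hd h3d
  have hfin : Nat.card (Subgroup.normalizer ((S' : Subgroup G) : Set G)) = 168 := by
    rcases hd21 with rfl | rfl
    · exfalso
      apply ha1
      have hle : Nat.card (Subgroup.normalizer ((S' : Subgroup G) : Set G)) ≤ Nat.card Na := by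
        rw [hN]
        exact Nat.le_of_dvd Nat.card_pos d24
      have hEq : Na = Subgroup.normalizer ((S' : Subgroup G) : Set G) :=
        Subgroup.eq_of_le_of_card_ge hNaN hle
      apply sylow_transfer_central S' hS'comm hperf a (hS' haT)
      intro x hx
      rw [← hEq, hNa] at hx
      have := (Subgroup.mem_inf.mp hx).2
      rw [Subgroup.mem_centralizer_iff] at this
      exact (this a (Set.mem_singleton a)).symm
    · rw [hN]
  exact sylow_cent_norm_of_conj S' S 168 hC hfin

end Cfsg.Agent.Helper6
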