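import Cfsg.Agent.Helper6.ReeSL

/-!
# The quaternion group in `SL₂(K)` (characteristic 3) and its normalising element of order 3
-/

set_option autoImplicit false

namespace Cfsg.Agent.Helper6

open Cfsg Cfsg.Lie Cfsg.Agent.Helper17 Matrix

section reeSL2

variable {K : Type*} [Field K]

/-- In a finite field of odd order, `-1` is a sum of two squares. -/
theorem exists_sq_add_sq_neg_one [Fintype K] (hK : Fintype.card K % 2 = 1) :
    ∃ x y : K, x ^ 2 + y ^ 2 = -1 := by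
  open Polynomial in
  obtain ⟨a, b, hab⟩ : ∃ a b, (X ^ 2 : K[X]).eval a + (X ^ 2 - C (-1) : K[X]).eval b = 0 :=
    FiniteField.exists_root_sum_quadratic (degree_X_pow 2) (degree_X_pow_sub_C (by decide) _) hK
  refine ⟨a, b, ?_⟩
  simp only [Polynomial.eval_C, Polynomial.eval_X, Polynomial.eval_pow, Polynomial.eval_sub] at hab
  linear_combination hab

/-- The matrix `[[x,y],[y,-x]]`, `x² + y² = -1`, in `SL₂(K)`. -/
def rsJ (x y : K) (h : x ^ 2 + y ^ 2 = -1) : Matrix.SpecialLinearGroup (Fin 2) K :=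
  ⟨!![x, y; y, -x], by rw [Matrix.det_fin_two_of]; linear_combination -h⟩

/-- The matrix `1 + w + d + wd` of order 3 (in characteristic 3). -/
def rsOm (x y : K) (h : x ^ 2 + y ^ 2 = -1) (h3 : (3 : K) = 0) : Matrix.SpecialLinearGroup (Fin 2) K :=
  ⟨!![1 + x - y, -1 + y + x; 1 + y + x, 1 - x + y], by
    rw [Matrix.det_fin_two_of]; linear_combination (-2 : K) * h + h3⟩

/-- The central element `-1`. -/
def rsZ : Matrix.SpecialLinearGroup (Fin 2) K := ⟨!![-1, 0; 0, -1], by simp [Matrix.det_fin_two_of]⟩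

theorem rsZ_mem_center : (rsZ : Matrix.SpecialLinearGroup (Fin 2) K) ∈
    Subgroup.center (Matrix.SpecialLinearGroup (Fin 2) K) := by
  rw [Matrix.SpecialLinearGroup.mem_center_iff]
  refine ⟨-1, by simp, ?_⟩
  show (Matrix.scalar (Fin 2)) (-1 : K) = !![-1, 0; 0, -1]
  ext i j
  fin_cases i <;> fin_cases j <;> simp

/-- `w d = -(d w)`. -/
theorem rsW_mul_rsJ (x y : K) (h : x ^ 2 + y ^ 2 = -1) :
    rsW * rsJ x y h = rsZ * (rsJ x y h * rsW) := by
  apply Subtype.ext
  show (!![0, -1; 1, 0] : Matrix (Fin 2) (Fin 2) K) * !![x, y; y, -x] =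
    !![-1, 0; 0, -1] * (!![x, y; y, -x] * !![0, -1; 1, 0])
  ext i j
  fin_cases i <;> fin_cases j <;> simp [Matrix.mul_apply, Fin.sum_univ_two]

/-- `ω w = d ω`. -/
theorem rsOm_mul_rsW (x y : K) (h : x ^ 2 + y ^ 2 = -1) (h3 : (3 : K) = 0) :
    rsOm x y h h3 * rsW = rsJ x y h * rsOm x y h h3 := by
  apply Subtype.ext
  show (!![1 + x - y, -1 + y + x; 1 + y + x, 1 - x + y] : Matrix (Fin 2) (Fin 2) K) *
    !![0, -1; 1, 0] = !![x, y; y, -x] * !![1 + x - y, -1 + y + x; 1 + y + x, 1 - x + y]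
  ext i j
  fin_cases i <;> fin_cases j <;> simp [Matrix.mul_apply, Fin.sum_univ_two] <;>
    first | ring1 | linear_combination h | linear_combination -h

/-- `ω d = (w d) ω`. -/
theorem rsOm_mul_rsJ (x y : K) (h : x ^ 2 + y ^ 2 = -1) (h3 : (3 : K) = 0) :
    rsOm x y h h3 * rsJ x y h = (rsW * rsJ x y h) * rsOm x y h h3 := by
  apply Subtype.ext
  show (!![1 + x - y, -1 + y + x; 1 + y + x, 1 - x + y] : Matrix (Fin 2) (Fin 2) K) *
    !![x, y; y, -x] = (!![0, -1; 1, 0] * !![x, y; y, -x]) *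
      !![1 + x - y, -1 + y + x; 1 + y + x, 1 - x + y]
  ext i j
  fin_cases i <;> fin_cases j <;> simp [Matrix.mul_apply, Fin.sum_univ_two] <;>
    first | ring1 | linear_combination h | linear_combination -h

/-- `ω³ = 1`. -/
theorem rsOm_pow_three (x y : K) (h : x ^ 2 + y ^ 2 = -1) (h3 : (3 : K) = 0) :
    rsOm x y h h3 ^ 3 = 1 := by
  refine Subtype.ext ((Matrix.SpecialLinearGroup.coe_pow _ _).trans ?_)
  have hsq := rs_sq _ (rsOm x y h h3).2
  have hτ : ((rsOm x y h h3 : Matrix.SpecialLinearGroup (Fin 2) K) : Matrix (Fin 2) (Fin 2) K) 0 0 +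
      ((rsOm x y h h3 : Matrix.SpecialLinearGroup (Fin 2) K) : Matrix (Fin 2) (Fin 2) K) 1 1 = 2 := by
    show (!![1 + x - y, -1 + y + x; 1 + y + x, 1 - x + y] : Matrix (Fin 2) (Fin 2) K) 0 0 +
      (!![1 + x - y, -1 + y + x; 1 + y + x, 1 - x + y] : Matrix (Fin 2) (Fin 2) K) 1 1 = 2
    simp
    ring
  rw [hτ] at hsq
  have e1 : ((rsOm x y h h3 : Matrix.SpecialLinearGroup (Fin 2) K) : Matrix (Fin 2) (Fin 2) K) ^ 1 =
      (1 : K) • ((rsOm x y h h3 : Matrix.SpecialLinearGroup (Fin 2) K) : Matrix (Fin 2) (Fin 2) K) +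
      (0 : K) • (1 : Matrix (Fin 2) (Fin 2) K) := by
    rw [pow_one, one_smul, zero_smul, add_zero]
  have e2 := rs_pow_succ _ 2 hsq _ _ _ e1
  have e3 := rs_pow_succ _ 2 hsq _ _ _ e2
  rw [show (3 : ℕ) = 1 + 1 + 1 from rfl, e3]
  have c1 : (2 * (2 * 1 + 0) + -1 : K) = 0 := by linear_combination h3
  have c2 : (-(2 * 1 + 0) : K) = 1 := by linear_combination -h3
  rw [c1, c2, zero_smul, zero_add, one_smul]
  rfl

/-- `ω` is not central. -/
theorem rsOm_not_center (x y : K) (h : x ^ 2 + y ^ 2 = -1) (h3 : (3 : K) = 0) :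
    rsOm x y h h3 ∉ Subgroup.center (Matrix.SpecialLinearGroup (Fin 2) K) := by
  rw [Matrix.SpecialLinearGroup.mem_center_iff]
  rintro ⟨r, -, hr⟩
  have h01 := congrFun (congrFun hr 0) 1
  have h10 := congrFun (congrFun hr 1) 0
  have e01 : (-1 + y + x : K) = 0 := by
    have : ((rsOm x y h h3 : Matrix.SpecialLinearGroup (Fin 2) K) : Matrix (Fin 2) (Fin 2) K) 0 1 =
        -1 + y + x := by
      show (!![1 + x - y, -1 + y + x; 1 + y + x, 1 - x + y] : Matrix (Fin 2) (Fin 2) K) 0 1 = _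
      simp
    rw [← this, ← h01]
    simp
  have e10 : (1 + y + x : K) = 0 := by
    have : ((rsOm x y h h3 : Matrix.SpecialLinearGroup (Fin 2) K) : Matrix (Fin 2) (Fin 2) K) 1 0 =
        1 + y + x := by
      show (!![1 + x - y, -1 + y + x; 1 + y + x, 1 - x + y] : Matrix (Fin 2) (Fin 2) K) 1 0 = _
      simp
    rw [← this, ← h10]
    simp
  have : (1 : K) = 0 := by linear_combination e01 - e10 + h3
  exact one_ne_zero this

/-- The centre of `SL₂(K)` has exponent 2. -/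
theorem rs_center_sq {z : Matrix.SpecialLinearGroup (Fin 2) K}
    (hz : z ∈ Subgroup.center (Matrix.SpecialLinearGroup (Fin 2) K)) : z * z = 1 := by
  rw [Matrix.SpecialLinearGroup.mem_center_iff] at hz
  obtain ⟨r, hr, hz⟩ := hz
  rw [Fintype.card_fin, pow_two] at hr
  apply Subtype.ext
  show (z : Matrix (Fin 2) (Fin 2) K) * (z : Matrix (Fin 2) (Fin 2) K) = 1
  rw [← hz, ← map_mul, hr, map_one]

/-- A matrix commuting with `w` and `d` is central (characteristic not 2). -/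
theorem rs_comm_center (h2 : (2 : K) ≠ 0) (x y : K) (h : x ^ 2 + y ^ 2 = -1)
    (N : Matrix.SpecialLinearGroup (Fin 2) K) (hw : N * rsW = rsW * N)
    (hd : N * rsJ x y h = rsJ x y h * N) :
    N ∈ Subgroup.center (Matrix.SpecialLinearGroup (Fin 2) K) := by
  have hw' : (N : Matrix (Fin 2) (Fin 2) K) * !![0, -1; 1, 0] =
      !![0, -1; 1, 0] * (N : Matrix (Fin 2) (Fin 2) K) := congrArg Subtype.val hw
  have hd' : (N : Matrix (Fin 2) (Fin 2) K) * !![x, y; y, -x] =
      !![x, y; y, -x] * (N : Matrix (Fin 2) (Fin 2) K) := congrArg Subtype.val hd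
  have w00 := congrFun (congrFun hw' 0) 0
  have w01 := congrFun (congrFun hw' 0) 1
  have d00 := congrFun (congrFun hd' 0) 0
  have d01 := congrFun (congrFun hd' 0) 1
  simp [Matrix.mul_apply, Fin.sum_univ_two] at w00 w01 d00 d01
  -- `w00 : N 0 1 = -N 1 0`, `w01 : N 0 0 = N 1 1`
  have hb1 : (N : Matrix (Fin 2) (Fin 2) K) 0 1 * y = 0 := by
    have : (2 : K) * ((N : Matrix (Fin 2) (Fin 2) K) 0 1 * y) = 0 := by
      linear_combination d00 + y * w00
    exact (mul_eq_zero.mp this).resolve_left h2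
  have hb2 : (N : Matrix (Fin 2) (Fin 2) K) 0 1 * x = 0 := by
    have : (2 : K) * ((N : Matrix (Fin 2) (Fin 2) K) 0 1 * x) = 0 := by
      linear_combination -d01 + y * w01
    exact (mul_eq_zero.mp this).resolve_left h2
  have hb : (N : Matrix (Fin 2) (Fin 2) K) 0 1 = 0 := by
    linear_combination ((N : Matrix (Fin 2) (Fin 2) K) 0 1) * h - x * hb2 - y * hb1
  have hc : (N : Matrix (Fin 2) (Fin 2) K) 1 0 = 0 := by
    linear_combination w00 - hb
  rw [Matrix.SpecialLinearGroup.mem_center_iff]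
  have hdet : (N : Matrix (Fin 2) (Fin 2) K) 0 0 * (N : Matrix (Fin 2) (Fin 2) K) 1 1 -
      (N : Matrix (Fin 2) (Fin 2) K) 0 1 * (N : Matrix (Fin 2) (Fin 2) K) 1 0 = 1 := by
    rw [← Matrix.det_fin_two]; exact N.2
  refine ⟨(N : Matrix (Fin 2) (Fin 2) K) 0 0, ?_, ?_⟩
  · rw [Fintype.card_fin]
    linear_combination hdet + (N : Matrix (Fin 2) (Fin 2) K) 0 0 * w01 +
      (N : Matrix (Fin 2) (Fin 2) K) 1 0 * hb
  · show (Matrix.scalar (Fin 2)) ((N : Matrix (Fin 2) (Fin 2) K) 0 0) =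
      (N : Matrix (Fin 2) (Fin 2) K)
    ext i j
    fin_cases i <;> fin_cases j
    · simp
    · simp [hb]
    · simp [hc]
    · simp [w01]

/-- If the commutator of `M` and `w` is central of square one, `M²` commutes with `w`. -/
theorem comm_sq_of_central {G : Type*} [Group G] (M w : G)
    (hc : M * w * M⁻¹ * w⁻¹ ∈ Subgroup.center G)
    (h2 : (M * w * M⁻¹ * w⁻¹) * (M * w * M⁻¹ * w⁻¹) = 1) : (M * M) * w = w * (M * M) := by
  obtain ⟨c, hc1, hc2, hc3⟩ : ∃ c : G, M * w = c * (w * M) ∧ (∀ g : G, g * c = c * g) ∧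
      c * c = 1 :=
    ⟨M * w * M⁻¹ * w⁻¹, by group, fun g => Subgroup.mem_center_iff.mp hc g, h2⟩
  calc M * M * w = M * (M * w) := mul_assoc _ _ _
    _ = M * (c * (w * M)) := by rw [hc1]
    _ = (M * c) * (w * M) := (mul_assoc _ _ _).symm
    _ = (c * M) * (w * M) := by rw [hc2 M]
    _ = c * ((M * w) * M) := by simp only [mul_assoc]
    _ = c * ((c * (w * M)) * M) := by rw [hc1]
    _ = (c * c) * (w * (M * M)) := by simp only [mul_assoc]
    _ = w * (M * M) := by rw [hc3, one_mul]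

end reeSL2

end Cfsg.Agent.Helper6
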