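import Cfsg.Agent.Helper6.ReeF
import Cfsg.Agent.Helper6.ReeSL2
import Cfsg.Agent.Helper6.ReeGen3

/-!
# The small Ree groups: the normaliser of a Sylow 2-subgroup
-/

set_option autoImplicit false

namespace Cfsg.Agent.Helper6

open Cfsg Cfsg.Lie Cfsg.Agent.Helper36 Cfsg.Agent.Helper17 Matrix

section reeG

variable {K : Type*} [Field K] [CharP K 3] [Fintype K] {m : ℕ}
  {σ : ↥(chevG2.group K) →* ↥(chevG2.group K)}

/-- The embedding `Φ` with values in `G¹`. -/
noncomputable def reePhiG (hK : Fintype.card K = 3 ^ (2 * m + 1)) :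
    Matrix.SpecialLinearGroup (Fin 2) K →* ↥(twistedG2 K (3 ^ m)) :=
  (reePhi K m).codRestrict (twistedG2 K (3 ^ m)) (fun M => reePhi_mem_G1 hK M)

theorem reePhiG_val (hK : Fintype.card K = 3 ^ (2 * m + 1))
    (M : Matrix.SpecialLinearGroup (Fin 2) K) :
    ((reePhiG hK M : ↥(twistedG2 K (3 ^ m))) : GL chevG2.Idx K) = reePhi K m M := rfl

/-- An element of `G¹` commuting with `h(-1)`, `Φ(w)` and `Φ(d)` has square one. -/
theorem ree_T_sq (hK : Fintype.card K = 3 ^ (2 * m + 1)) (hσ : ReeSig m σ)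
    (hX : XAdd chevG2 K) (x y : K) (h : x ^ 2 + y ^ 2 = -1) {g : GL chevG2.Idx K}
    (hG : g ∈ twistedG2 K (3 ^ m)) (hc : Commute (reeInv K hX m) g)
    (hw : Commute (reePhi K m rsW) g) (hd : Commute (reePhi K m (rsJ x y h)) g) : g * g = 1 := by
  have h2K : (2 : K) ≠ 0 := by
    intro h2
    have h3 := three_eq_zero' (K := K)
    exact one_ne_zero (by linear_combination h3 - h2 : (1 : K) = 0)
  obtain ⟨p, rfl⟩ := reePsi_surj hK hσ hX hG hc
  have key : ∀ N : Matrix.SpecialLinearGroup (Fin 2) K,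
      Commute (reePhi K m N) (reePsi hK hσ hX p) → (p.2 * p.2) * N = N * (p.2 * p.2) := by
    intro N hN
    have e1 : reePsi hK hσ hX (p * (1, N) * p⁻¹ * (1, N)⁻¹) = 1 := by
      have e0 : reePsi hK hσ hX (1, N) = reePhi K m N := by
        rw [reePsi_apply, map_one, one_mul]
      simp only [map_mul, map_inv, e0]
      rw [← hN.eq]
      group
    have e2 := ((reePsi_ker hK hσ hX _).mp e1).2
    have e3 : (p * (1, N) * p⁻¹ * (1, N)⁻¹).2 = p.2 * N * p.2⁻¹ * N⁻¹ := rfl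
    rw [e3] at e2
    exact comm_sq_of_central p.2 N e2 (rs_center_sq e2)
  have hc2 : p.2 * p.2 ∈ Subgroup.center (Matrix.SpecialLinearGroup (Fin 2) K) :=
    rs_comm_center h2K x y h (p.2 * p.2) (key _ hw) (key _ hd)
  rw [← map_mul, reePsi_ker]
  exact ⟨zmod2_sq p.1, hc2⟩

/-- A Sylow 2-subgroup of `²G₂(q)`, `q > 3`, is self-centralising with normaliser of order
168. -/
theorem ree_sylow_two_normalizer (hK : Fintype.card K = 3 ^ (2 * m + 1)) (hσ : ReeSig m σ)
    (hm : 1 ≤ m) (S : Sylow 2 ↥(twistedG2 K (3 ^ m))) :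
    Subgroup.centralizer ((S : Subgroup ↥(twistedG2 K (3 ^ m))) : Set ↥(twistedG2 K (3 ^ m))) = S ∧
      Nat.card (Subgroup.normalizer ((S : Subgroup ↥(twistedG2 K (3 ^ m))) :
        Set ↥(twistedG2 K (3 ^ m)))) = 168 := by
  have hX := xAdd_of_mem (F := K) g2_mem
  have h3 := three_eq_zero' (K := K)
  have hKodd : Fintype.card K % 2 = 1 := by
    rw [hK]; exact Nat.odd_iff.mp (Odd.pow (by decide))
  obtain ⟨x, y, hxy⟩ := exists_sq_add_sq_neg_one (K := K) hKodd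
  obtain ⟨k, hk, hGk⟩ := ree_card_two_part hK hσ
  have haΦ : ∀ M : Matrix.SpecialLinearGroup (Fin 2) K,
      (⟨reeInv K hX m, reeInv_mem_G1 hK hX⟩ : ↥(twistedG2 K (3 ^ m))) * reePhiG hK M =
        reePhiG hK M * ⟨reeInv K hX m, reeInv_mem_G1 hK hX⟩ :=
    fun M => Subtype.ext (reeInv_comm_Phi hK hσ hX M).eq
  have hZ : reePhiG hK (rsZ : Matrix.SpecialLinearGroup (Fin 2) K) = 1 :=
    Subtype.ext (reePhi_center hK hX _ rsZ_mem_center)
  refine sylow_two_168 (ree_perfect hK hσ hm) hk hGk (fun S' => (ree_sylow_two hK hσ S').2)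
    ⟨reeInv K hX m, reeInv_mem_G1 hK hX⟩ (reePhiG hK rsW) (reePhiG hK (rsJ x y hxy))
    (reePhiG hK (rsOm x y hxy h3)) ?_ (haΦ _) (haΦ _) (haΦ _) ?_ ?_ ?_ ?_ ?_ ?_ S
  · exact fun h => reeInv_ne_one hX m (congrArg Subtype.val h)
  · rw [← map_mul, rsW_mul_rsJ, map_mul, map_mul, hZ, one_mul]
  · rw [← map_mul, rsOm_mul_rsW, map_mul]
  · rw [← map_mul, rsOm_mul_rsJ, map_mul, map_mul]
  · rw [← map_pow, rsOm_pow_three, map_one]
  · intro h
    have h1 : reePhi K m (rsOm x y hxy h3) = 1 := congrArg Subtype.val h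
    exact rsOm_not_center x y hxy h3 (reePhi_ker_aux hK hσ hX _ (Or.inl h1)).2
  · intro g h1 h2 h3'
    apply Subtype.ext
    exact ree_T_sq hK hσ hX x y hxy g.2 (congrArg Subtype.val h1) (congrArg Subtype.val h2)
      (congrArg Subtype.val h3')

end reeG

end Cfsg.Agent.Helper6
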