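import Mathlib
import Cfsg.Prelude.Def_GeometricClasses
import Cfsg.Prelude.Def_ClassicalGeometry
import Cfsg.Prelude.Def_LieClassical
import Cfsg.Agent.Helper94.SpLag2

/-!
# CALL S5976 piece R1 (helper6)

A symplectic involution `x` commutes with a skew-adjoint square root of `n`: the eigenspaces
`ker (x - 1)` and `ker (x + 1)` are perpendicular and non-degenerate, and `J'` acts on a hyperbolic
basis `(e_r, f_r)` adapted to them by `e_r ↦ f_r`, `f_r ↦ n e_r`.
-/

set_option autoImplicit false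

namespace Cfsg.Agent.Helper6

open Matrix Module Cfsg Cfsg.Geo Cfsg.Agent.Helper94

/-- PIECE R1: involutions -/
theorem c3u_r1 {F : Type*} [Field F] (h2 : (2 : F) ≠ 0) (d : ℕ) (n : F)
    (x : GL (Fin d ⊕ Fin d) F) (hx : x ∈ Cfsg.spGL d F)
    (hx2 : ((x ^ 2 : GL (Fin d ⊕ Fin d) F) : Matrix (Fin d ⊕ Fin d) (Fin d ⊕ Fin d) F) = 1) :
    ∃ J' : Matrix (Fin d ⊕ Fin d) (Fin d ⊕ Fin d) F,
      J' * J' = n • (1 : Matrix (Fin d ⊕ Fin d) (Fin d ⊕ Fin d) F) ∧
      (∀ u v, Cfsg.sympForm d F (J' *ᵥ u) v = - Cfsg.sympForm d F u (J' *ᵥ v)) ∧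
      (x : Matrix (Fin d ⊕ Fin d) (Fin d ⊕ Fin d) F) * J' =
        J' * (x : Matrix (Fin d ⊕ Fin d) (Fin d ⊕ Fin d) F) := by
  classical
  obtain ⟨X, hX⟩ : ∃ X : Matrix (Fin d ⊕ Fin d) (Fin d ⊕ Fin d) F,
      X = (x : Matrix (Fin d ⊕ Fin d) (Fin d ⊕ Fin d) F) := ⟨_, rfl⟩
  have hXX : ∀ v, X *ᵥ (X *ᵥ v) = v := by
    intro v
    rw [Matrix.mulVec_mulVec, hX]
    have h1 : (x : Matrix (Fin d ⊕ Fin d) (Fin d ⊕ Fin d) F) *
        (x : Matrix (Fin d ⊕ Fin d) (Fin d ⊕ Fin d) F) = 1 := by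
      rw [← hx2, pow_two]
      rfl
    rw [h1, Matrix.one_mulVec]
  have hsp : ∀ u v, sympForm d F (X *ᵥ u) (X *ᵥ v) = sympForm d F u v := by
    intro u v
    rw [hX]
    exact hx u v
  let U : Submodule F (Fin d ⊕ Fin d → F) :=
    { carrier := {v | X *ᵥ v = v}
      add_mem' := by
        intro a b ha hb
        simp only [Set.mem_ofPred_eq] at *
        rw [Matrix.mulVec_add, ha, hb]
      zero_mem' := by simp
      smul_mem' := by
        intro c a ha
        simp only [Set.mem_ofPred_eq] at *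
        rw [Matrix.mulVec_smul, ha] }
  let W : Submodule F (Fin d ⊕ Fin d → F) :=
    { carrier := {v | X *ᵥ v = -v}
      add_mem' := by
        intro a b ha hb
        simp only [Set.mem_ofPred_eq] at *
        rw [Matrix.mulVec_add, ha, hb, neg_add]
      zero_mem' := by simp
      smul_mem' := by
        intro c a ha
        simp only [Set.mem_ofPred_eq] at *
        rw [Matrix.mulVec_smul, ha, smul_neg] }
  have hUmem : ∀ v, v ∈ U ↔ X *ᵥ v = v := fun v => Iff.rfl
  have hWmem : ∀ v, v ∈ W ↔ X *ᵥ v = -v := fun v => Iff.rfl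
  have hUW : ∀ a ∈ U, ∀ b ∈ W, sympForm d F a b = 0 := by
    intro a ha b hb
    rw [hUmem] at ha
    rw [hWmem] at hb
    have h1 := hsp a b
    rw [ha, hb, sf_neg_right] at h1
    have h3 : (2 : F) * sympForm d F a b = 0 := by linear_combination (-1 : F) * h1
    exact (mul_eq_zero.1 h3).resolve_left h2
  have hWU : ∀ b ∈ W, ∀ a ∈ U, sympForm d F b a = 0 := by
    intro b hb a ha
    rw [sf_swap, hUW a ha b hb, neg_zero]
  have hdec : ∀ v : Fin d ⊕ Fin d → F, ∃ a ∈ U, ∃ b ∈ W, v = a + b := by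
    intro v
    refine ⟨(2 : F)⁻¹ • (v + X *ᵥ v), ?_, (2 : F)⁻¹ • (v - X *ᵥ v), ?_, ?_⟩
    · rw [hUmem, Matrix.mulVec_smul, Matrix.mulVec_add, hXX, add_comm]
    · rw [hWmem, Matrix.mulVec_smul, Matrix.mulVec_sub, hXX, ← smul_neg, neg_sub]
    · rw [← smul_add]
      have h7 : v + X *ᵥ v + (v - X *ᵥ v) = (2 : F) • v := by
        rw [two_smul]
        abel
      rw [h7, smul_smul, inv_mul_cancel₀ h2, one_smul]
  have hUnd : IsNondegenerateOn (sympForm d F) U := by
    intro w hw hw0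
    obtain ⟨y, hy⟩ := sf_exists_ne w hw0
    obtain ⟨a, ha, b, hb, rfl⟩ := hdec y
    rw [sf_add_right, hUW w hw b hb, add_zero] at hy
    refine ⟨⟨a, ha, ?_⟩, ⟨a, ha, hy⟩⟩
    rw [sf_swap]
    exact neg_ne_zero.2 hy
  have hWnd : IsNondegenerateOn (sympForm d F) W := by
    intro w hw hw0
    obtain ⟨y, hy⟩ := sf_exists_ne w hw0
    obtain ⟨a, ha, b, hb, rfl⟩ := hdec y
    rw [sf_add_right, hWU w hw a ha, zero_add] at hy
    refine ⟨⟨b, hb, ?_⟩, ⟨b, hb, hy⟩⟩
    rw [sf_swap]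
    exact neg_ne_zero.2 hy
  obtain ⟨n₁, e₁, f₁, he₁, hf₁, hef₁, hee₁, hff₁, hrec₁, -⟩ := exists_hyp_basis U hUnd
  obtain ⟨n₂, e₂, f₂, he₂, hf₂, hef₂, hee₂, hff₂, hrec₂, -⟩ := exists_hyp_basis W hWnd
  -- the merged family
  obtain ⟨e, he⟩ : ∃ e : Fin n₁ ⊕ Fin n₂ → Fin d ⊕ Fin d → F, e = Sum.elim e₁ e₂ := ⟨_, rfl⟩
  obtain ⟨f, hf⟩ : ∃ f : Fin n₁ ⊕ Fin n₂ → Fin d ⊕ Fin d → F, f = Sum.elim f₁ f₂ := ⟨_, rfl⟩
  obtain ⟨ε, hε⟩ : ∃ ε : Fin n₁ ⊕ Fin n₂ → F, ε = Sum.elim (fun _ => 1) (fun _ => -1) := ⟨_, rfl⟩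
  have hεε : ∀ r, ε r * ε r = 1 := by
    rintro (r | r) <;> simp [hε]
  have heX : ∀ r, X *ᵥ e r = ε r • e r := by
    rintro (r | r)
    · have := he₁ r
      rw [hUmem] at this
      simp [he, hε, this]
    · have := he₂ r
      rw [hWmem] at this
      simp [he, hε, this]
  have hfX : ∀ r, X *ᵥ f r = ε r • f r := by
    rintro (r | r)
    · have := hf₁ r
      rw [hUmem] at this
      simp [hf, hε, this]
    · have := hf₂ r
      rw [hWmem] at this
      simp [hf, hε, this]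
  have hef : ∀ i j, sympForm d F (e i) (f j) = if i = j then 1 else 0 := by
    rintro (i | i) (j | j)
    · simp [he, hf, hef₁]
    · simp [he, hf, hUW _ (he₁ i) _ (hf₂ j)]
    · simp [he, hf, hWU _ (he₂ i) _ (hf₁ j)]
    · simp [he, hf, hef₂]
  have hfe : ∀ i j, sympForm d F (f i) (e j) = if i = j then -1 else 0 := by
    intro i j
    rw [sf_swap, hef j i]
    by_cases hij : i = j
    · simp [hij]
    · simp [hij, Ne.symm hij]
  have hee : ∀ i j, sympForm d F (e i) (e j) = 0 := by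
    rintro (i | i) (j | j)
    · simp [he, hee₁]
    · simp [he, hUW _ (he₁ i) _ (he₂ j)]
    · simp [he, hWU _ (he₂ i) _ (he₁ j)]
    · simp [he, hee₂]
  have hff : ∀ i j, sympForm d F (f i) (f j) = 0 := by
    rintro (i | i) (j | j)
    · simp [hf, hff₁]
    · simp [hf, hUW _ (hf₁ i) _ (hf₂ j)]
    · simp [hf, hWU _ (hf₂ i) _ (hf₁ j)]
    · simp [hf, hff₂]
  have hR3 : ∀ y : Fin d ⊕ Fin d → F,
      y = ∑ j, (sympForm d F y (f j) • e j - sympForm d F y (e j) • f j) := by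
    intro y
    obtain ⟨a, ha, b, hb, rfl⟩ := hdec y
    rw [Fintype.sum_sum_type]
    have h1 : ∑ j, (sympForm d F (a + b) (f (Sum.inl j)) • e (Sum.inl j) -
        sympForm d F (a + b) (e (Sum.inl j)) • f (Sum.inl j)) = a := by
      conv_rhs => rw [hrec₁ a ha]
      apply Finset.sum_congr rfl
      intro j _
      simp only [he, hf, Sum.elim_inl]
      rw [sf_add_left, sf_add_left, hWU b hb _ (hf₁ j), hWU b hb _ (he₁ j), add_zero, add_zero]
    have h2' : ∑ j, (sympForm d F (a + b) (f (Sum.inr j)) • e (Sum.inr j) -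
        sympForm d F (a + b) (e (Sum.inr j)) • f (Sum.inr j)) = b := by
      conv_rhs => rw [hrec₂ b hb]
      apply Finset.sum_congr rfl
      intro j _
      simp only [he, hf, Sum.elim_inr]
      rw [sf_add_left, sf_add_left, hUW a ha _ (hf₂ j), hUW a ha _ (he₂ j), zero_add, zero_add]
    rw [h1, h2']
  -- the map `J'`
  obtain ⟨S, hS⟩ : ∃ S : (Fin d ⊕ Fin d → F) →ₗ[F] (Fin d ⊕ Fin d → F),
      ∀ v, S v = ∑ r, (sympForm d F v (f r) • f r - n • (sympForm d F v (e r) • e r)) := by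
    refine ⟨∑ r, (((Helper13.sympB d F).flip (f r)).smulRight (f r) -
      n • ((Helper13.sympB d F).flip (e r)).smulRight (e r)), fun v => ?_⟩
    simp [LinearMap.sum_apply, Helper13.sympB_apply]
  have k1 : ∀ v k, sympForm d F (S v) (e k) = - sympForm d F v (f k) := by
    intro v k
    rw [hS, sf_sum_left]
    simp [sf_sub_left, sf_smul_left, hee, hfe]
  have k2 : ∀ v k, sympForm d F (S v) (f k) = - (n * sympForm d F v (e k)) := by
    intro v k
    rw [hS, sf_sum_left]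
    simp [sf_sub_left, sf_smul_left, hff, hef]
  have hSS : ∀ v, S (S v) = n • v := by
    intro v
    rw [hS (S v)]
    simp only [k1, k2]
    conv_rhs => rw [hR3 v]
    rw [Finset.smul_sum]
    apply Finset.sum_congr rfl
    intro r _
    module
  have hskew : ∀ u v, sympForm d F (S u) v = - sympForm d F u (S v) := by
    intro u v
    rw [hS u, hS v, sf_sum_left, sf_sum_right, ← Finset.sum_neg_distrib]
    apply Finset.sum_congr rfl
    intro r _
    rw [sf_sub_left, sf_sub_right, sf_smul_left, sf_smul_left, sf_smul_left, sf_smul_right,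
      sf_smul_right, sf_smul_right, sf_swap (f r) v, sf_swap (e r) v]
    ring
  have hcomm : ∀ v, X *ᵥ (S v) = S (X *ᵥ v) := by
    intro v
    have hXlin : ∀ w, X *ᵥ w = Matrix.toLin' X w := fun w => (Matrix.toLin'_apply X w).symm
    rw [hS v, hS (X *ᵥ v), hXlin, map_sum]
    apply Finset.sum_congr rfl
    intro r _
    rw [← hXlin]
    have h1 : sympForm d F (X *ᵥ v) (f r) = ε r * sympForm d F v (f r) := by
      have h3 : X *ᵥ (ε r • f r) = f r := by
        rw [Matrix.mulVec_smul, hfX, smul_smul, hεε, one_smul]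
      calc sympForm d F (X *ᵥ v) (f r) = sympForm d F (X *ᵥ v) (X *ᵥ (ε r • f r)) := by rw [h3]
        _ = sympForm d F v (ε r • f r) := hsp _ _
        _ = ε r * sympForm d F v (f r) := sf_smul_right _ _ _
    have h1' : sympForm d F (X *ᵥ v) (e r) = ε r * sympForm d F v (e r) := by
      have h3 : X *ᵥ (ε r • e r) = e r := by
        rw [Matrix.mulVec_smul, heX, smul_smul, hεε, one_smul]
      calc sympForm d F (X *ᵥ v) (e r) = sympForm d F (X *ᵥ v) (X *ᵥ (ε r • e r)) := by rw [h3]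
        _ = sympForm d F v (ε r • e r) := hsp _ _
        _ = ε r * sympForm d F v (e r) := sf_smul_right _ _ _
    rw [Matrix.mulVec_sub, Matrix.mulVec_smul, Matrix.mulVec_smul, Matrix.mulVec_smul, heX, hfX,
      h1, h1']
    module
  refine ⟨LinearMap.toMatrix' S, ?_, ?_, ?_⟩
  · rw [← LinearMap.toMatrix'_comp]
    have h1 : S.comp S = n • LinearMap.id := by
      apply LinearMap.ext
      intro v
      simp only [LinearMap.comp_apply, LinearMap.smul_apply, LinearMap.id_apply]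
      exact hSS v
    rw [h1, map_smul, LinearMap.toMatrix'_id]
  · intro u v
    rw [LinearMap.toMatrix'_mulVec, LinearMap.toMatrix'_mulVec]
    exact hskew u v
  · have hlin : (Matrix.toLin' X).comp S = S.comp (Matrix.toLin' X) := by
      apply LinearMap.ext
      intro v
      simp only [LinearMap.comp_apply, Matrix.toLin'_apply]
      exact hcomm v
    have h3 := congrArg LinearMap.toMatrix' hlin
    rw [LinearMap.toMatrix'_comp, LinearMap.toMatrix'_comp, LinearMap.toMatrix'_toLin'] at h3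
    rw [← hX]
    exact h3

end Cfsg.Agent.Helper6
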