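import Mathlib
import Cfsg.Agent.Helper6.Words

/-!
Matsumoto's theorem for a group with an exchange family, and the resulting Coxeter system
(Bourbaki, Lie IV §1.5 Prop. 5 and §1.6 Thm. 1).
-/

set_option autoImplicit false
set_option linter.unusedSectionVars false
set_option linter.unusedVariables false

namespace Cfsg.Agent.Helper6

section Alt

variable {α : Type*}

/-- the alternating word `c, d, c, d, ...` of length `n` (starting with `c`) -/
def altW : α → α → ℕ → List α
  | _, _, 0 => []
  | c, d, n + 1 => c :: altW d c n

theorem altW_zero (c d : α) : altW c d 0 = [] := rfl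

theorem altW_succ (c d : α) (n : ℕ) : altW c d (n + 1) = c :: altW d c n := rfl

theorem altW_length (c d : α) (n : ℕ) : (altW c d n).length = n := by
  induction n generalizing c d with
  | zero => rfl
  | succ n ih => rw [altW_succ, List.length_cons, ih]

theorem altW_map {β : Type*} (f : α → β) (c d : α) (n : ℕ) :
    (altW c d n).map f = altW (f c) (f d) n := by
  induction n generalizing c d with
  | zero => rfl
  | succ n ih => rw [altW_succ, List.map_cons, ih, altW_succ]

theorem altW_ne_nil (c d : α) (n : ℕ) : altW c d (n + 1) ≠ [] := by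
  rw [altW_succ]
  exact List.cons_ne_nil _ _

theorem altW_dropLast (c d : α) (n : ℕ) : (altW c d (n + 1)).dropLast = altW c d n := by
  induction n generalizing c d with
  | zero => rfl
  | succ n ih =>
    rw [altW_succ, List.dropLast_cons_of_ne_nil (altW_ne_nil d c n), ih, altW_succ]

theorem altW_mem {c d x : α} {n : ℕ} (hx : x ∈ altW c d n) : x = c ∨ x = d := by
  induction n generalizing c d with
  | zero =>
    rw [altW_zero] at hx
    simp at hx
  | succ n ih =>
    rw [altW_succ, List.mem_cons] at hx
    rcases hx with h | h
    · exact Or.inl h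
    · exact (ih h).symm

end Alt

section AltGroup

variable {G : Type*} [Group G]

theorem altW_prod_mul_inv {c d : G} (hc : c * c = 1) (hd : d * d = 1) (n : ℕ) :
    (altW c d n).prod * ((altW d c n).prod)⁻¹ = (c * d) ^ n := by
  induction n generalizing c d with
  | zero => simp [altW_zero]
  | succ n ih =>
    rw [altW_succ, altW_succ, List.prod_cons, List.prod_cons, mul_inv_rev]
    have h1 := ih hd hc
    have hdinv : d⁻¹ = d := inv_eq_self_of_sq hd
    calc c * (altW d c n).prod * ((altW c d n).prod⁻¹ * d⁻¹)
        = c * ((altW d c n).prod * (altW c d n).prod⁻¹) * d := by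
          rw [hdinv]
          group
      _ = c * (d * c) ^ n * d := by rw [h1]
      _ = (c * d) ^ n * c * d := by rw [mul_pow_mul]
      _ = (c * d) ^ (n + 1) := by rw [pow_succ, mul_assoc]

theorem altW_prod_add_two_mul (c d : G) (n k : ℕ) :
    (altW c d (n + 2 * k)).prod = (c * d) ^ k * (altW c d n).prod := by
  induction k with
  | zero => simp
  | succ k ih =>
    have : n + 2 * (k + 1) = (n + 2 * k) + 1 + 1 := by ring
    rw [this, altW_succ, altW_succ, List.prod_cons, List.prod_cons, ih, pow_succ']
    group

end AltGroup

section Mats

variable {W : Type*} [Group W]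

theorem Reduced.of_append_left {S : Set W} {l₁ l₂ : List W} (h : Reduced S (l₁ ++ l₂)) :
    Reduced S l₁ := by
  refine ⟨(isWord_append.1 h.1).1, fun l' hl' hp => ?_⟩
  have := h.2 (l' ++ l₂) (isWord_append.2 ⟨hl', (isWord_append.1 h.1).2⟩) (by simp [hp])
  simp only [List.length_append] at this
  omega

theorem Reduced.of_length_eq {S : Set W} {l l' : List W} (h : Reduced S l) (hl' : IsWord S l')
    (hp : l'.prod = l.prod) (hlen : l'.length = l.length) : Reduced S l' := by
  refine ⟨hl', fun l'' hl'' hp'' => ?_⟩
  rw [hlen]
  exact h.2 l'' hl'' (hp''.trans hp)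

theorem Reduced.length_eq {S : Set W} {l l' : List W} (h : Reduced S l) (h' : Reduced S l')
    (hp : l.prod = l'.prod) : l.length = l'.length :=
  le_antisymm (h.2 l' h'.1 hp.symm) (h'.2 l h.1 hp)

namespace ExchFamily

variable {S : Set W} {Ps : W → Set W}

/-- Matsumoto's theorem: a map `f` to a monoid satisfying the braid relations takes the same
value on all reduced words of an element. -/
theorem matsumoto (h : ExchFamily S Ps) {Mon : Type*} [Monoid Mon] (f : W → Mon)
    (hf : ∀ c ∈ S, ∀ d ∈ S, c ≠ d → orderOf (c * d) ≠ 0 →
      ((altW c d (orderOf (c * d))).map f).prod = ((altW d c (orderOf (c * d))).map f).prod) :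
    ∀ (q : ℕ) (l l' : List W), Reduced S l → Reduced S l' → l.length = q → l'.length = q →
      l.prod = l'.prod → (l.map f).prod = (l'.map f).prod := by
  intro q
  induction q with
  | zero =>
    intro l l' _ _ hl hl' _
    rw [List.length_eq_zero_iff.1 hl, List.length_eq_zero_iff.1 hl']
  | succ q ih =>
    -- (a1): same first letter
    have a1 : ∀ (x : W) (t t' : List W), Reduced S (x :: t) → Reduced S (x :: t') →
        t.length = q → t'.length = q → (x :: t).prod = (x :: t').prod →
        ((x :: t).map f).prod = ((x :: t').map f).prod := by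
      intro x t t' hr hr' hlen hlen' hp
      have hp' : t.prod = t'.prod := by
        rw [List.prod_cons, List.prod_cons] at hp
        exact mul_left_cancel hp
      rw [List.map_cons, List.map_cons, List.prod_cons, List.prod_cons,
        ih t t' hr.tail hr'.tail hlen hlen' hp']
    -- (a2): same last letter
    have a2 : ∀ (z : W) (t t' : List W), Reduced S (t ++ [z]) → Reduced S (t' ++ [z]) →
        t.length = q → t'.length = q → (t ++ [z]).prod = (t' ++ [z]).prod →
        ((t ++ [z]).map f).prod = ((t' ++ [z]).map f).prod := by
      intro z t t' hr hr' hlen hlen' hp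
      have hp' : t.prod = t'.prod := by
        rw [List.prod_append, List.prod_append] at hp
        exact mul_right_cancel hp
      rw [List.map_append, List.map_append, List.prod_append, List.prod_append,
        ih t t' hr.of_append_left hr'.of_append_left hlen hlen' hp']
    -- (L): Bourbaki's lemma
    have L : ∀ (X Y' : List W) (d : W), Reduced S X → Reduced S (d :: Y') →
        X.length = q + 1 → Y'.length = q → X.prod = (d :: Y').prod →
        (X.map f).prod ≠ ((d :: Y').map f).prod →
        Reduced S (d :: X.dropLast) ∧ (d :: X.dropLast).prod = X.prod ∧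
          ((d :: X.dropLast).map f).prod ≠ (X.map f).prod := by
      intro X Y' d hX hY hXlen hYlen hp hne
      have hd : d ∈ S := (isWord_cons.1 hY.1).1
      have hdd := h.sq d hd
      have hn : X.prod ∉ Ps d := by
        rw [hp]
        exact h.not_mem_of_reduced_cons hY
      obtain ⟨l₁, y, l₂, hXeq, _, herase⟩ := h.exchange_erase hd hX.1 hn
      have hw : IsWord S (l₁ ++ l₂) := by
        rw [hXeq] at hX
        have := hX.1
        rw [isWord_append, isWord_cons] at this
        exact isWord_append.2 ⟨this.1, this.2.2⟩
      have hZp : (d :: (l₁ ++ l₂)).prod = X.prod := by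
        rw [List.prod_cons, ← herase, ← mul_assoc, hdd, one_mul]
      have hZlen : (d :: (l₁ ++ l₂)).length = X.length := by
        rw [hXeq]
        simp
        omega
      have hZ : Reduced S (d :: (l₁ ++ l₂)) :=
        hX.of_length_eq (isWord_cons.2 ⟨hd, hw⟩) hZp hZlen
      have hl12 : (l₁ ++ l₂).length = q := by
        have := hZlen
        rw [hXlen] at this
        simpa using this
      have hFZ : ((d :: (l₁ ++ l₂)).map f).prod = ((d :: Y').map f).prod :=
        a1 d (l₁ ++ l₂) Y' hZ hY hl12 hYlen (hZp.trans hp)
      by_cases hl₂ : l₂ = []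
      · subst hl₂
        have hdrop : X.dropLast = l₁ := by
          rw [hXeq]
          simp
        rw [hdrop]
        rw [List.append_nil] at hZ hZp hFZ
        exact ⟨hZ, hZp, by rw [hFZ]; exact fun e => hne e.symm⟩
      · exfalso
        apply hne
        rw [← hFZ]
        have e1 : l₂ = l₂.dropLast ++ [l₂.getLast hl₂] := (List.dropLast_append_getLast hl₂).symm
        have eX : X = (l₁ ++ y :: l₂.dropLast) ++ [l₂.getLast hl₂] := by
          rw [hXeq]
          conv_lhs => rw [e1]
          simp
        have eZ : d :: (l₁ ++ l₂) = (d :: (l₁ ++ l₂.dropLast)) ++ [l₂.getLast hl₂] := by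
          conv_lhs => rw [e1]
          simp
        have hlenl₂ : l₂.dropLast.length + 1 = l₂.length := by
          conv_rhs => rw [e1]
          simp
        have hlenX : (l₁ ++ y :: l₂.dropLast).length = q := by
          have := hXlen
          rw [hXeq] at this
          simp at this
          simp
          omega
        have hlenZ : (d :: (l₁ ++ l₂.dropLast)).length = q := by
          have := hl12
          simp at this
          simp
          omega
        rw [eX] at hX
        rw [eZ] at hZ
        have := a2 (l₂.getLast hl₂) (l₁ ++ y :: l₂.dropLast) (d :: (l₁ ++ l₂.dropLast)) hX hZ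
          hlenX hlenZ (by rw [← eX, ← eZ]; exact hZp.symm)
        rw [eX, eZ]
        exact this
    -- (Alt): two alternating reduced words
    have Alt : ∀ (c d : W), Reduced S (altW c d (q + 1)) → Reduced S (altW d c (q + 1)) →
        (altW c d (q + 1)).prod = (altW d c (q + 1)).prod →
        ((altW c d (q + 1)).map f).prod = ((altW d c (q + 1)).map f).prod := by
      intro c d hr hr' hp
      by_cases hcd : c = d
      · rw [hcd]
      have hc : c ∈ S := hr.1 c (by rw [altW_succ]; simp)
      have hd : d ∈ S := hr'.1 d (by rw [altW_succ]; simp)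
      have hcc := h.sq c hc
      have hdd := h.sq d hd
      have hpow : (c * d) ^ (q + 1) = 1 := by
        rw [← altW_prod_mul_inv hcc hdd, hp, mul_inv_cancel]
      have hdvd := orderOf_dvd_of_pow_eq_one hpow
      have hpos : 0 < orderOf (c * d) :=
        Nat.pos_of_dvd_of_pos hdvd (Nat.succ_pos q)
      have hlt : q + 1 < 2 * orderOf (c * d) := by
        by_contra hge
        rw [not_lt] at hge
        obtain ⟨n, hn⟩ := Nat.exists_eq_add_of_le hge
        have hq : q + 1 = n + 2 * orderOf (c * d) := by omega
        have hw : IsWord S (altW c d n) := by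
          intro x hx
          rcases altW_mem hx with rfl | rfl
          · exact hc
          · exact hd
        have hp2 : (altW c d n).prod = (altW c d (q + 1)).prod := by
          rw [hq, altW_prod_add_two_mul, pow_orderOf_eq_one, one_mul]
        have := hr.2 (altW c d n) hw hp2
        rw [altW_length, altW_length] at this
        omega
      have heq : q + 1 = orderOf (c * d) := by
        obtain ⟨k, hk⟩ := hdvd
        have hk1 : k = 1 := by
          rcases k with _ | _ | k
          · simp at hk
          · rfl
          · exfalso
            have : orderOf (c * d) * (k + 1 + 1) ≥ 2 * orderOf (c * d) := by nlinarith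
            omega
        rw [hk1, mul_one] at hk
        exact hk
      rw [heq]
      exact hf c hc d hd hcd (Nat.pos_iff_ne_zero.1 hpos)
    -- (I): the alternating induction
    have I : ∀ (n k : ℕ) (c d : W) (u Y' : List W), u.length = n →
        Reduced S (altW c d (k + 1) ++ u) → Reduced S (d :: Y') →
        (altW c d (k + 1) ++ u).length = q + 1 → Y'.length = q →
        (altW c d (k + 1) ++ u).prod = (d :: Y').prod →
        ((altW c d (k + 1) ++ u).map f).prod ≠ ((d :: Y').map f).prod → False := by
      intro n
      induction n with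
      | zero =>
        intro k c d u Y' hu hX hY hXlen hYlen hp hne
        have hu' : u = [] := List.length_eq_zero_iff.1 hu
        subst hu'
        rw [List.append_nil] at hX hXlen hp hne
        have hk : k = q := by
          rw [altW_length] at hXlen
          omega
        subst hk
        obtain ⟨hZ, hZp, hZF⟩ := L _ Y' d hX hY hXlen hYlen hp hne
        rw [altW_dropLast, ← altW_succ] at hZ hZp hZF
        exact hZF (Alt d c hZ hX hZp)
      | succ n ihn =>
        intro k c d u Y' hu hX hY hXlen hYlen hp hne
        obtain ⟨hZ, hZp, hZF⟩ := L _ Y' d hX hY hXlen hYlen hp hne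
        have hune : u ≠ [] := by
          intro h0
          rw [h0] at hu
          simp at hu
        have hdrop : (altW c d (k + 1) ++ u).dropLast = altW c d (k + 1) ++ u.dropLast :=
          List.dropLast_append_of_ne_nil hune
        rw [hdrop] at hZ hZp hZF
        have e : d :: (altW c d (k + 1) ++ u.dropLast) = altW d c (k + 1 + 1) ++ u.dropLast := by
          rw [altW_succ d c (k + 1)]
          rfl
        rw [e] at hZ hZp hZF
        have hudl : u.dropLast.length = n := by
          rw [List.length_dropLast, hu]
          rfl
        have hZlen : (altW d c (k + 1 + 1) ++ u.dropLast).length = q + 1 := by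
          rw [List.length_append, altW_length, hudl]
          rw [List.length_append, altW_length, hu] at hXlen
          omega
        have hXcons : altW c d (k + 1) ++ u = c :: (altW d c k ++ u) := by
          rw [altW_succ]
          rfl
        have hY'len : (altW d c k ++ u).length = q := by
          rw [hXcons] at hXlen
          simpa using hXlen
        rw [hXcons] at hX hZp hZF
        exact ihn (k + 1) d c u.dropLast (altW d c k ++ u) hudl hZ hX hZlen hY'len hZp hZF
    -- conclusion
    intro l l' hl hl' hlen hlen' hp
    by_contra hne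
    match l, l', hl, hl', hlen, hlen', hp, hne with
    | a :: t, b :: t', hl, hl', hlen, hlen', hp, hne =>
      have e : a :: t = altW a b (0 + 1) ++ t := rfl
      rw [e] at hl hlen hp hne
      exact I t.length 0 a b t t' rfl hl hl' hlen (by simpa using hlen') hp hne

/-- the well-defined value of `f` on reduced words -/
noncomputable def redVal (h : ExchFamily S Ps) {Mon : Type*} [Monoid Mon] (f : W → Mon)
    (w : W) : Mon :=
  ((Classical.choose (exists_reduced_of_word (h.gen w))).map f).prod

theorem redVal_eq (h : ExchFamily S Ps) {Mon : Type*} [Monoid Mon] (f : W → Mon)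
    (hf : ∀ c ∈ S, ∀ d ∈ S, c ≠ d → orderOf (c * d) ≠ 0 →
      ((altW c d (orderOf (c * d))).map f).prod = ((altW d c (orderOf (c * d))).map f).prod)
    {l : List W} (hl : Reduced S l) : h.redVal f l.prod = (l.map f).prod := by
  have hspec := Classical.choose_spec (exists_reduced_of_word (h.gen l.prod))
  unfold redVal
  exact h.matsumoto f hf _ _ _ hspec.1 hl (hspec.1.length_eq hl hspec.2) rfl hspec.2

theorem redVal_mul (h : ExchFamily S Ps) {Mon : Type*} [Monoid Mon] (f : W → Mon)
    (hf : ∀ c ∈ S, ∀ d ∈ S, c ≠ d → orderOf (c * d) ≠ 0 →
      ((altW c d (orderOf (c * d))).map f).prod = ((altW d c (orderOf (c * d))).map f).prod)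
    {s : W} (hs : s ∈ S) (hfs : f s * f s = 1) (w : W) :
    h.redVal f (s * w) = f s * h.redVal f w := by
  obtain ⟨l, hl, rfl⟩ := exists_reduced_of_word (h.gen w)
  have hss := h.sq s hs
  by_cases hP : l.prod ∈ Ps s
  · have hr : Reduced S (s :: l) := by
      refine ⟨isWord_cons.2 ⟨hs, hl.1⟩, fun l'' hl'' hp'' => ?_⟩
      by_contra hlt
      rw [not_le] at hlt
      have hn : l''.prod ∉ Ps s := by
        rw [hp'', List.prod_cons]
        exact h.not_mem s hs _ hP
      obtain ⟨l₃, hl₃, _, hlen₃, hp₃⟩ := h.exists_shorter hs hl'' hn
      have hp₄ : l₃.prod = l.prod := by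
        rw [hp₃, hp'', List.prod_cons, ← mul_assoc, hss, one_mul]
      have := hl.2 l₃ hl₃ hp₄
      simp only [List.length_cons] at hlt
      omega
    have e : s * l.prod = (s :: l).prod := by simp
    rw [e, h.redVal_eq f hf hr, h.redVal_eq f hf hl, List.map_cons, List.prod_cons]
  · obtain ⟨l', hl', _, hlen', hp'⟩ := h.exists_shorter hs hl.1 hP
    have hr' : Reduced S l' := by
      refine ⟨hl', fun l'' hl'' hp'' => ?_⟩
      by_contra hlt
      rw [not_le] at hlt
      have := hl.2 (s :: l'') (isWord_cons.2 ⟨hs, hl''⟩) (by
        rw [List.prod_cons, hp'', hp', ← mul_assoc, hss, one_mul])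
      simp only [List.length_cons] at this
      omega
    have hp₂ : (s :: l').prod = l.prod := by
      rw [List.prod_cons, hp', ← mul_assoc, hss, one_mul]
    have hr₂ : Reduced S (s :: l') :=
      hl.of_length_eq (isWord_cons.2 ⟨hs, hl'⟩) hp₂ (by simpa using hlen')
    rw [← hp', h.redVal_eq f hf hr', ← hp₂, h.redVal_eq f hf hr₂, List.map_cons, List.prod_cons,
      ← mul_assoc, hfs, one_mul]

/-- A group with an exchange family is a Coxeter group on the given generators. -/
theorem exists_coxeterSystem (h : ExchFamily S Ps) {B : Type*} (σ : B → W)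
    (hσ : Function.Injective σ) (hrange : Set.range σ = S) :
    ∃ (M : CoxeterMatrix B) (cs : CoxeterSystem M W), ∀ i, cs.simple i = σ i := by
  classical
  have hS : ∀ i, σ i ∈ S := fun i => hrange ▸ Set.mem_range_self i
  have hsq : ∀ i, σ i * σ i = 1 := fun i => h.sq _ (hS i)
  have hinv : ∀ i, (σ i)⁻¹ = σ i := fun i => inv_eq_self_of_sq (hsq i)
  let M : CoxeterMatrix B :=
    { M := Matrix.of fun i j => orderOf (σ i * σ j)
      isSymm := by
        ext i j
        simp only [Matrix.transpose_apply, Matrix.of_apply]
        have : σ i * σ j = (σ j * σ i)⁻¹ := by rw [mul_inv_rev, hinv, hinv]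
        rw [this, orderOf_inv]
      diagonal := by
        intro i
        simp only [Matrix.of_apply]
        rw [hsq, orderOf_one]
      off_diagonal := by
        intro i j hij
        simp only [Matrix.of_apply]
        rw [Ne, orderOf_eq_one_iff]
        intro h1
        apply hij
        apply hσ
        have : σ i = (σ j)⁻¹ := eq_inv_of_mul_eq_one_left h1
        rw [this, hinv] }
  have hlift : M.IsLiftable σ := by
    intro i j
    exact pow_orderOf_eq_one _
  let φ : M.Group →* W := M.toCoxeterSystem.lift ⟨σ, hlift⟩
  have hφ : ∀ i, φ (M.simple i) = σ i := fun i => M.toCoxeterSystem.lift_apply_simple hlift i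
  let f : W → M.Group := fun w => if hw : ∃ i, σ i = w then M.simple (Classical.choose hw) else 1
  have hfσ : ∀ i, f (σ i) = M.simple i := by
    intro i
    have hw : ∃ j, σ j = σ i := ⟨i, rfl⟩
    show (if hw : ∃ j, σ j = σ i then M.simple (Classical.choose hw) else 1) = M.simple i
    rw [dif_pos hw]
    exact congrArg M.simple (hσ (Classical.choose_spec hw))
  have hsimple_sq : ∀ i, M.simple i * M.simple i = 1 := fun i =>
    M.toCoxeterSystem.simple_mul_simple_self i
  have hf : ∀ c ∈ S, ∀ d ∈ S, c ≠ d → orderOf (c * d) ≠ 0 →
      ((altW c d (orderOf (c * d))).map f).prod = ((altW d c (orderOf (c * d))).map f).prod := by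
    intro c hc d hd _ _
    rw [← hrange] at hc hd
    obtain ⟨i, rfl⟩ := hc
    obtain ⟨j, rfl⟩ := hd
    rw [altW_map, altW_map, hfσ, hfσ]
    have h1 := altW_prod_mul_inv (hsimple_sq i) (hsimple_sq j) (orderOf (σ i * σ j))
    have h2 : (M.simple i * M.simple j) ^ orderOf (σ i * σ j) = 1 :=
      M.toCoxeterSystem.simple_mul_simple_pow i j
    rw [h2] at h1
    exact mul_inv_eq_one.1 h1
  let g : W → M.Group := h.redVal f
  have hg1 : g 1 = 1 := by
    have := h.redVal_eq f hf (reduced_nil S)
    simpa using this
  have hgmul : ∀ i w, g (σ i * w) = M.simple i * g w := by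
    intro i w
    have := h.redVal_mul f hf (hS i) (by rw [hfσ]; exact hsimple_sq i) w
    rw [hfσ] at this
    exact this
  have hgφ : ∀ x : M.Group, g (φ x) = x := by
    intro x
    refine M.toCoxeterSystem.simple_induction_left (p := fun x => g (φ x) = x) x ?_ ?_
    · show g (φ 1) = 1
      rw [map_one]
      exact hg1
    · intro w i hw
      show g (φ (M.toCoxeterSystem.simple i * w)) = M.toCoxeterSystem.simple i * w
      rw [map_mul]
      have : φ (M.toCoxeterSystem.simple i) = σ i := hφ i
      rw [this, hgmul, hw]
      rfl
  have hφf : ∀ (l : List W), IsWord S l → φ ((l.map f).prod) = l.prod := by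
    intro l
    induction l with
    | nil => intro _; simp
    | cons x l ih =>
      intro hl
      rw [isWord_cons] at hl
      have hx := hl.1
      rw [← hrange] at hx
      obtain ⟨i, rfl⟩ := hx
      rw [List.map_cons, List.prod_cons, map_mul, ih hl.2, hfσ, hφ, List.prod_cons]
  have hφg : ∀ w : W, φ (g w) = w := by
    intro w
    obtain ⟨l, hl, rfl⟩ := exists_reduced_of_word (h.gen w)
    show φ (h.redVal f l.prod) = l.prod
    rw [h.redVal_eq f hf hl]
    exact hφf l hl.1
  let e : W ≃* M.Group :=
    { toFun := g
      invFun := φ
      left_inv := hφg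
      right_inv := hgφ
      map_mul' := by
        intro a b
        have : Function.Injective φ := by
          intro x y hxy
          rw [← hgφ x, ← hgφ y, hxy]
        apply this
        rw [map_mul, hφg, hφg, hφg] }
  refine ⟨M, ⟨e⟩, fun i => ?_⟩
  show φ (PresentedGroup.of i) = σ i
  exact hφ i

end ExchFamily

end Mats

end Cfsg.Agent.Helper6
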