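import Cfsg.Prelude.Def_Transfer
import Cfsg.Prelude.Def_Solvable
import Cfsg.Agent.Helper63.N15Defs

/-! CALL S4415 (helper63), piece m3 (double): in dimension `3`, `R` is a four-group. -/

set_option autoImplicit false
set_option linter.unusedSectionVars false

namespace Cfsg.Agent.Helper6.N15

open Cfsg.Agent.Helper63.N15
open scoped commutatorElement

variable {G : Type*} [Group G] [Finite G] {V : Type*} [AddCommGroup V] [Module (ZMod 3) V]
  [Finite V] {ρ : Representation (ZMod 3) G V} {R : Subgroup G} {b q₁ q₂ q₃ : G} {v₁ v₂ v₃ : V}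

set_option maxRecDepth 100000 in
theorem m3_perm_a : ∀ τ : Equiv.Perm (Fin 3), τ ^ 2 = 1 ∨ τ ^ 3 = 1 := by decide

set_option maxRecDepth 100000 in
theorem m3_perm_b : ∀ τ c : Equiv.Perm (Fin 3), c 0 = 1 → c 1 = 2 → c 2 = 0 → τ ^ 2 = 1 →
    (τ * (c * τ * c⁻¹)) ^ 2 = 1 → τ = 1 := by decide

theorem m3_zmod : ∀ ε₁ ε₂ ε₃ δ₃ : ZMod 3, (ε₁ = 1 ∨ ε₁ = -1) → (ε₂ = 1 ∨ ε₂ = -1) →
    ε₁ * ε₂ * ε₃ = 1 → ε₁ * ε₂ * δ₃ = 1 → ε₃ = δ₃ := by decide

theorem m3_sq : ∀ ε : ZMod 3, (ε = 1 ∨ ε = -1) → ε * ε = 1 := by decide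

theorem m3_pm_mul : ∀ ε δ : ZMod 3, (ε = 1 ∨ ε = -1) → (δ = 1 ∨ δ = -1) →
    (ε * δ = 1 ∨ ε * δ = -1) := by decide

omit [Finite V] in
theorem m3_neg_ne (v : V) (hv : v ≠ 0) : -v ≠ v := by
  intro h
  have h2 : (2 : ZMod 3) • v = 0 := by
    rw [two_smul]
    nth_rewrite 1 [← h]
    exact neg_add_cancel v
  rcases smul_eq_zero.1 h2 with h3 | h3
  · exact absurd h3 (by decide)
  · exact hv h3

/-- `g` acts diagonally on `e₁, e₂, e₃` with signs of product `p`. -/
def m3Dp (ρ : Representation (ZMod 3) G V) (e₁ e₂ e₃ : V) (g : G) (p : ZMod 3) : Prop :=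
  ∃ ε₁ ε₂ ε₃ : ZMod 3, (ε₁ = 1 ∨ ε₁ = -1) ∧ (ε₂ = 1 ∨ ε₂ = -1) ∧ (ε₃ = 1 ∨ ε₃ = -1) ∧
    ρ g e₁ = ε₁ • e₁ ∧ ρ g e₂ = ε₂ • e₂ ∧ ρ g e₃ = ε₃ • e₃ ∧ ε₁ * ε₂ * ε₃ = p

omit [Finite G] [Finite V] in
theorem m3Dp_one (e₁ e₂ e₃ : V) : m3Dp ρ e₁ e₂ e₃ 1 1 :=
  ⟨1, 1, 1, Or.inl rfl, Or.inl rfl, Or.inl rfl, by simp, by simp, by simp, by norm_num⟩

omit [Finite G] [Finite V] in
theorem m3Dp_mul {e₁ e₂ e₃ : V} {g g' : G} {p p' : ZMod 3} (h : m3Dp ρ e₁ e₂ e₃ g p)
    (h' : m3Dp ρ e₁ e₂ e₃ g' p') : m3Dp ρ e₁ e₂ e₃ (g * g') (p * p') := by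
  obtain ⟨ε₁, ε₂, ε₃, h1, h2, h3, k1, k2, k3, hp⟩ := h
  obtain ⟨δ₁, δ₂, δ₃, h1', h2', h3', k1', k2', k3', hp'⟩ := h'
  refine ⟨ε₁ * δ₁, ε₂ * δ₂, ε₃ * δ₃, m3_pm_mul _ _ h1 h1', m3_pm_mul _ _ h2 h2',
    m3_pm_mul _ _ h3 h3', ?_, ?_, ?_, ?_⟩
  · rw [map_mul, Module.End.mul_apply, k1', map_smul, k1, smul_smul, mul_comm]
  · rw [map_mul, Module.End.mul_apply, k2', map_smul, k2, smul_smul, mul_comm]
  · rw [map_mul, Module.End.mul_apply, k3', map_smul, k3, smul_smul, mul_comm]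
  · rw [← hp, ← hp']
    ring

omit [Finite G] [Finite V] in
theorem m3Dp_inv {e₁ e₂ e₃ : V} {g : G} {p : ZMod 3} (h : m3Dp ρ e₁ e₂ e₃ g p) :
    m3Dp ρ e₁ e₂ e₃ g⁻¹ p := by
  obtain ⟨ε₁, ε₂, ε₃, h1, h2, h3, k1, k2, k3, hp⟩ := h
  have key : ∀ (ε : ZMod 3) (e : V), (ε = 1 ∨ ε = -1) → ρ g e = ε • e → ρ g⁻¹ e = ε • e := by
    intro ε e hε he
    have h4 : ρ g (ε • e) = e := by
      rw [map_smul, he, smul_smul, m3_sq ε hε, one_smul]
    calc ρ g⁻¹ e = ρ g⁻¹ (ρ g (ε • e)) := by rw [h4]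
      _ = ε • e := by
        rw [← Module.End.mul_apply, ← map_mul, inv_mul_cancel, map_one, Module.End.one_apply]
  exact ⟨ε₁, ε₂, ε₃, h1, h2, h3, key _ _ h1 k1, key _ _ h2 k2, key _ _ h3 k3, hp⟩

omit [Finite G] [Finite V] in
theorem m3Dp_sq {e₁ e₂ e₃ : V} {g : G} {p : ZMod 3} (h : m3Dp ρ e₁ e₂ e₃ g p) : p * p = 1 := by
  obtain ⟨ε₁, ε₂, ε₃, h1, h2, h3, k1, k2, k3, hp⟩ := h
  rw [← hp]
  have a1 := m3_sq _ h1
  have a2 := m3_sq _ h2
  have a3 := m3_sq _ h3
  calc ε₁ * ε₂ * ε₃ * (ε₁ * ε₂ * ε₃) = (ε₁ * ε₁) * (ε₂ * ε₂) * (ε₃ * ε₃) := by ring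
    _ = 1 := by rw [a1, a2, a3]; norm_num

omit [Finite G] [Finite V] in
theorem m3Dp_conj {e₁ e₂ e₃ : V} {b : G} (hb1 : ρ b e₁ = e₂) (hb2 : ρ b e₂ = e₃)
    (hb3 : ρ b e₃ = e₁) {g : G} {p : ZMod 3} (h : m3Dp ρ e₁ e₂ e₃ g p) :
    m3Dp ρ e₁ e₂ e₃ (b * g * b⁻¹) p := by
  obtain ⟨ε₁, ε₂, ε₃, h1, h2, h3, k1, k2, k3, hp⟩ := h
  have binv : ∀ e e' : V, ρ b e = e' → ρ b⁻¹ e' = e := by
    intro e e' he
    rw [← he, ← Module.End.mul_apply, ← map_mul, inv_mul_cancel, map_one, Module.End.one_apply]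
  refine ⟨ε₃, ε₁, ε₂, h3, h1, h2, ?_, ?_, ?_, ?_⟩
  · rw [map_mul, map_mul, Module.End.mul_apply, Module.End.mul_apply, binv _ _ hb3, k3, map_smul,
      hb3]
  · rw [map_mul, map_mul, Module.End.mul_apply, Module.End.mul_apply, binv _ _ hb1, k1, map_smul,
      hb1]
  · rw [map_mul, map_mul, Module.End.mul_apply, Module.End.mul_apply, binv _ _ hb2, k2, map_smul,
      hb2]
  · rw [← hp]
    ring

omit [Finite G] [Finite V] in
theorem m3Dp_pow_conj {e₁ e₂ e₃ : V} {b : G} (hb1 : ρ b e₁ = e₂) (hb2 : ρ b e₂ = e₃)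
    (hb3 : ρ b e₃ = e₁) (n : ℕ) {g : G} {p : ZMod 3} (h : m3Dp ρ e₁ e₂ e₃ g p) :
    m3Dp ρ e₁ e₂ e₃ (b ^ n * g * (b ^ n)⁻¹) p := by
  induction n with
  | zero => simpa using h
  | succ n ih =>
    have h1 := m3Dp_conj hb1 hb2 hb3 ih
    have e : b ^ (n + 1) * g * (b ^ (n + 1))⁻¹ = b * (b ^ n * g * (b ^ n)⁻¹) * b⁻¹ := by
      rw [pow_succ']
      group
    rw [e]
    exact h1

/-- M3. In dimension `3`, `R` is elementary abelian of order `4`. -/
theorem m3 (c : Cfg ρ R b q₁ q₂ q₃ v₁ v₂ v₃) (e₁ e₂ e₃ : V) (h : Mono3 ρ b e₁ e₂ e₃) :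
    IsV4 R := by
  classical
  obtain ⟨hspan, hind, hmono, hb1, hb2, hb3⟩ := h
  -- two elements agreeing on the basis are equal
  have hext : ∀ g g' : G, ρ g e₁ = ρ g' e₁ → ρ g e₂ = ρ g' e₂ → ρ g e₃ = ρ g' e₃ → g = g' := by
    intro g g' h1 h2 h3
    have hall : ∀ v, ρ g v = ρ g' v := by
      intro v
      obtain ⟨c₁, c₂, c₃, rfl⟩ := hspan v
      simp only [map_add, map_smul, h1, h2, h3]
    have h4 : g'⁻¹ * g = 1 := c.faith _ (fun v => by
      rw [map_mul, Module.End.mul_apply, hall v, ← Module.End.mul_apply, ← map_mul,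
        inv_mul_cancel, map_one, Module.End.one_apply])
    exact (inv_mul_eq_one.1 h4).symm
  set E : Fin 3 → V := ![e₁, e₂, e₃] with hE
  have hindE : ∀ cf : Fin 3 → ZMod 3, ∑ k, cf k • E k = 0 → ∀ k, cf k = 0 := by
    intro cf hcf k
    rw [Fin.sum_univ_three] at hcf
    obtain ⟨h0, h1, h2⟩ := hind (cf 0) (cf 1) (cf 2) hcf
    fin_cases k
    · exact h0
    · exact h1
    · exact h2
  have huniq : ∀ i j : Fin 3, (E i = E j ∨ E i = -E j) → i = j := by
    intro i j hij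
    by_contra hne
    rcases hij with hij | hij
    · have h1 := hindE (fun k => (if k = i then 1 else 0) - (if k = j then 1 else 0)) (by
        simp only [sub_smul, Finset.sum_sub_distrib, ite_smul, one_smul, zero_smul,
          Finset.sum_ite_eq', Finset.mem_univ, if_true]
        rw [hij, sub_self]) i
      simp [hne] at h1
    · have h1 := hindE (fun k => (if k = i then 1 else 0) + (if k = j then 1 else 0)) (by
        simp only [add_smul, Finset.sum_add_distrib, ite_smul, one_smul, zero_smul,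
          Finset.sum_ite_eq', Finset.mem_univ, if_true]
        rw [hij, neg_add_cancel]) i
      simp [hne] at h1
  have hmemE : ∀ e ∈ ({e₁, e₂, e₃} : Set V), ∃ j : Fin 3, e = E j := by
    intro e he
    rcases he with rfl | rfl | rfl
    · exact ⟨0, rfl⟩
    · exact ⟨1, rfl⟩
    · exact ⟨2, rfl⟩
  have hEmem : ∀ i : Fin 3, E i ∈ ({e₁, e₂, e₃} : Set V) := by
    intro i
    fin_cases i
    · exact Or.inl rfl
    · exact Or.inr (Or.inl rfl)
    · exact Or.inr (Or.inr rfl)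
  have hmono' : ∀ (g : G) (i : Fin 3), ∃ j : Fin 3, ρ g (E i) = E j ∨ ρ g (E i) = -E j := by
    intro g i
    obtain ⟨e', he', h'⟩ := hmono g (E i) (hEmem i)
    obtain ⟨j, rfl⟩ := hmemE e' he'
    exact ⟨j, h'⟩
  set π : G → Fin 3 → Fin 3 := fun g i => Classical.choose (hmono' g i) with hπdef
  have hπ : ∀ g i, ρ g (E i) = E (π g i) ∨ ρ g (E i) = -E (π g i) :=
    fun g i => Classical.choose_spec (hmono' g i)
  have hπu : ∀ g i j, (ρ g (E i) = E j ∨ ρ g (E i) = -E j) → π g i = j := by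
    intro g i j hj
    apply huniq
    rcases hπ g i with h1 | h1 <;> rcases hj with h2 | h2
    · left; rw [← h1, h2]
    · right; rw [← h1, h2]
    · right; rw [← h2, h1, neg_neg]
    · left; exact neg_injective (h1.symm.trans h2)
  let act : MulAction G (Fin 3) :=
    { smul := fun g i => π g i
      one_smul := fun i => hπu 1 i i (Or.inl (by rw [map_one, Module.End.one_apply]))
      mul_smul := fun g g' i => by
        show π (g * g') i = π g (π g' i)
        apply hπu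
        rw [map_mul, Module.End.mul_apply]
        rcases hπ g' i with h1 | h1 <;> rcases hπ g (π g' i) with h2 | h2
        · left; rw [h1, h2]
        · right; rw [h1, h2]
        · right; rw [h1, map_neg, h2]
        · left; rw [h1, map_neg, h2, neg_neg] }
  set σ : G →* Equiv.Perm (Fin 3) := MulAction.toPermHom G (Fin 3) with hσdef
  have hσ : ∀ g i, σ g i = π g i := fun g i => rfl
  have hc0 : σ b 0 = 1 := hπu b 0 1 (Or.inl hb1)
  have hc1 : σ b 1 = 2 := hπu b 1 2 (Or.inl hb2)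
  have hc2 : σ b 2 = 0 := hπu b 2 0 (Or.inl hb3)
  have hR2 : ∀ r ∈ R, σ r ^ 2 = 1 := by
    intro r hr
    have hm : r ^ Nat.card R = 1 := by
      have h1 := pow_card_eq_one' (G := R) (x := ⟨r, hr⟩)
      have h2 := congrArg Subtype.val h1
      rw [Subgroup.coe_pow, Subgroup.coe_one] at h2
      exact h2
    have hm' : σ r ^ Nat.card R = 1 := by rw [← map_pow, hm, map_one]
    rcases m3_perm_a (σ r) with h2 | h3
    · exact h2
    · have h4 := pow_gcd_eq_one.2 ⟨hm', h3⟩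
      rw [Nat.Coprime.gcd_eq_one c.R3, pow_one] at h4
      rw [h4]
      exact one_pow 2
  have hσR : ∀ r ∈ R, σ r = 1 := by
    intro r hr
    have hr' : r * (b * r * b⁻¹) ∈ R := R.mul_mem hr (c.Rn.conj_mem r hr b)
    have h1 := hR2 r hr
    have h2 := hR2 _ hr'
    rw [map_mul, map_mul, map_mul, map_inv] at h2
    exact m3_perm_b (σ r) (σ b) hc0 hc1 hc2 h1 h2
  have hdiag : ∀ r ∈ R, ∀ i, ρ r (E i) = E i ∨ ρ r (E i) = -E i := by
    intro r hr i
    have h1 := hπ r i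
    have hi : π r i = i := by
      rw [← hσ, hσR r hr]
      rfl
    rwa [hi] at h1
  have hDpR : ∀ r ∈ R, ∃ p, m3Dp ρ e₁ e₂ e₃ r p := by
    intro r hr
    have key : ∀ i, ∃ ε : ZMod 3, (ε = 1 ∨ ε = -1) ∧ ρ r (E i) = ε • E i := by
      intro i
      rcases hdiag r hr i with h | h
      · exact ⟨1, Or.inl rfl, by rw [h, one_smul]⟩
      · exact ⟨-1, Or.inr rfl, by rw [h, neg_smul, one_smul]⟩
    obtain ⟨ε₁, h1, h1'⟩ := key 0
    obtain ⟨ε₂, h2, h2'⟩ := key 1
    obtain ⟨ε₃, h3, h3'⟩ := key 2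
    exact ⟨_, ε₁, ε₂, ε₃, h1, h2, h3, h1', h2', h3', rfl⟩
  have hDp1 : ∀ r ∈ R, m3Dp ρ e₁ e₂ e₃ r 1 := by
    intro r hr
    have hr' : r ∈ ⁅R, Subgroup.zpowers b⁆ := by
      rw [c.comm]
      exact hr
    rw [Subgroup.commutator_def] at hr'
    refine Subgroup.closure_induction (p := fun x _ => m3Dp ρ e₁ e₂ e₃ x 1) ?_ ?_ ?_ ?_ hr'
    · rintro x ⟨r₀, hr₀, z, hz, rfl⟩
      obtain ⟨p, hp⟩ := hDpR r₀ hr₀
      obtain ⟨n, rfl⟩ : ∃ n : ℕ, b ^ n = z := by
        have h1 := (mem_powers_iff_mem_zpowers).2 hz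
        exact (Submonoid.mem_powers_iff _ _).1 h1
      have h1 := m3Dp_pow_conj hb1 hb2 hb3 n (m3Dp_inv hp)
      have h2 := m3Dp_mul hp h1
      rw [m3Dp_sq hp] at h2
      have e : ⁅r₀, b ^ n⁆ = r₀ * (b ^ n * r₀⁻¹ * (b ^ n)⁻¹) := by
        rw [commutatorElement_def]
        group
      rw [e]
      exact h2
    · exact m3Dp_one e₁ e₂ e₃
    · intro x y _ _ hx hy
      have h1 := m3Dp_mul hx hy
      rwa [mul_one] at h1
    · intro x _ hx
      exact m3Dp_inv hx
  have he1 : e₁ ≠ 0 := by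
    intro h0
    have h1 := (hind 1 0 0 (by rw [h0]; simp)).1
    exact one_ne_zero h1
  have he2 : e₂ ≠ 0 := by
    intro h0
    have h1 := (hind 0 1 0 (by rw [h0]; simp)).2.1
    exact one_ne_zero h1
  refine ⟨?_, ?_, ?_⟩
  · -- abelian
    intro x hx y hy
    obtain ⟨ε₁, ε₂, ε₃, h1, h2, h3, k1, k2, k3, hp⟩ := hDp1 x hx
    obtain ⟨δ₁, δ₂, δ₃, h1', h2', h3', k1', k2', k3', hp'⟩ := hDp1 y hy
    apply hext
    · rw [map_mul, map_mul, Module.End.mul_apply, Module.End.mul_apply, k1, k1', map_smul,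
        map_smul, k1, k1', smul_comm]
    · rw [map_mul, map_mul, Module.End.mul_apply, Module.End.mul_apply, k2, k2', map_smul,
        map_smul, k2, k2', smul_comm]
    · rw [map_mul, map_mul, Module.End.mul_apply, Module.End.mul_apply, k3, k3', map_smul,
        map_smul, k3, k3', smul_comm]
  · -- exponent two
    intro x hx
    obtain ⟨ε₁, ε₂, ε₃, h1, h2, h3, k1, k2, k3, hp⟩ := hDp1 x hx
    rw [pow_two]
    apply hext
    · rw [map_mul, Module.End.mul_apply, k1, map_smul, k1, smul_smul, m3_sq _ h1, one_smul,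
        map_one, Module.End.one_apply]
    · rw [map_mul, Module.End.mul_apply, k2, map_smul, k2, smul_smul, m3_sq _ h2, one_smul,
        map_one, Module.End.one_apply]
    · rw [map_mul, Module.End.mul_apply, k3, map_smul, k3, smul_smul, m3_sq _ h3, one_smul,
        map_one, Module.End.one_apply]
  · -- order four
    apply le_antisymm
    · -- at most four
      let f : ↥R → Bool × Bool := fun r =>
        (decide (ρ (r : G) e₁ = e₁), decide (ρ (r : G) e₂ = e₂))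
      have hf : Function.Injective f := by
        intro r s hrs
        obtain ⟨ε₁, ε₂, ε₃, h1, h2, h3, k1, k2, k3, hp⟩ := hDp1 r.1 r.2
        obtain ⟨δ₁, δ₂, δ₃, h1', h2', h3', k1', k2', k3', hp'⟩ := hDp1 s.1 s.2
        have hrs1 : (ρ (r : G) e₁ = e₁) ↔ (ρ (s : G) e₁ = e₁) := by
          have := congrArg Prod.fst hrs
          simpa [f] using this
        have hrs2 : (ρ (r : G) e₂ = e₂) ↔ (ρ (s : G) e₂ = e₂) := by
          have := congrArg Prod.snd hrs
          simpa [f] using this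
        have sign : ∀ (e : V), e ≠ 0 → ∀ ε δ : ZMod 3, (ε = 1 ∨ ε = -1) → (δ = 1 ∨ δ = -1) →
            (ε • e = e ↔ δ • e = e) → ε = δ := by
          intro e he ε δ hε hδ hiff
          rcases hε with rfl | rfl <;> rcases hδ with rfl | rfl
          · rfl
          · exfalso
            have h4 := hiff.1 (one_smul _ e)
            rw [neg_smul, one_smul] at h4
            exact m3_neg_ne e he h4
          · exfalso
            have h4 := hiff.2 (one_smul _ e)
            rw [neg_smul, one_smul] at h4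
            exact m3_neg_ne e he h4
          · rfl
        rw [k1, k1'] at hrs1
        rw [k2, k2'] at hrs2
        have e1 : ε₁ = δ₁ := sign e₁ he1 _ _ h1 h1' hrs1
        have e2 : ε₂ = δ₂ := sign e₂ he2 _ _ h2 h2' hrs2
        have e3 : ε₃ = δ₃ := m3_zmod ε₁ ε₂ ε₃ δ₃ h1 h2 hp (by rw [e1, e2]; exact hp')
        apply Subtype.ext
        apply hext
        · rw [k1, k1', e1]
        · rw [k2, k2', e2]
        · rw [k3, k3', e3]
      have h1 := Nat.card_le_card_of_injective f hf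
      have h2 : Nat.card (Bool × Bool) = 4 := by
        rw [Nat.card_prod]
        simp
      rwa [h2] at h1
    · -- at least four
      have hv2 : v₂ ≠ 0 := by
        intro h0
        have h1 := c.bv2
        rw [h0, map_zero] at h1
        have h3 := c.bv3
        rw [← h1, map_zero] at h3
        exact c.v1 h3.symm
      have n1 : (1 : G) ≠ q₁ := by
        intro h
        have h1 := c.s12
        rw [← h, map_one, Module.End.one_apply] at h1
        exact m3_neg_ne v₂ hv2 h1.symm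
      have n2 : (1 : G) ≠ q₂ := by
        intro h
        have h1 := c.s21
        rw [← h, map_one, Module.End.one_apply] at h1
        exact m3_neg_ne v₁ c.v1 h1.symm
      have n3 : (1 : G) ≠ q₃ := by
        intro h
        have h1 := c.s31
        rw [← h, map_one, Module.End.one_apply] at h1
        exact m3_neg_ne v₁ c.v1 h1.symm
      have n12 : q₁ ≠ q₂ := by
        intro h
        have h1 := c.s11
        rw [h, c.s21] at h1
        exact m3_neg_ne v₁ c.v1 h1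
      have n13 : q₁ ≠ q₃ := by
        intro h
        have h1 := c.s11
        rw [h, c.s31] at h1
        exact m3_neg_ne v₁ c.v1 h1
      have n23 : q₂ ≠ q₃ := by
        intro h
        have h1 := c.s22
        rw [h, c.s32] at h1
        exact m3_neg_ne v₂ hv2 h1
      have hs : (({1, q₁, q₂, q₃} : Finset G) : Set G) ⊆ (R : Set G) := by
        intro x hx
        simp only [Finset.coe_insert, Finset.coe_singleton, Set.mem_insert_iff,
          Set.mem_singleton_iff] at hx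
        rcases hx with rfl | rfl | rfl | rfl
        · exact R.one_mem
        · exact c.q1R
        · exact c.q2R
        · exact c.q3R
      have hcard : ({1, q₁, q₂, q₃} : Finset G).card = 4 := by
        rw [Finset.card_insert_of_notMem, Finset.card_insert_of_notMem,
          Finset.card_insert_of_notMem, Finset.card_singleton]
        · simp [n23]
        · simp [n12, n13]
        · simp [n1, n2, n3]
      have h1 := Set.ncard_le_ncard hs (Set.toFinite _)
      rw [Set.ncard_coe_finset, hcard] at h1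
      exact h1

end Cfsg.Agent.Helper6.N15
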