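import Cfsg.Agent.Helper36.Ree18

/-!
# The small Ree groups: the arithmetic of `U¹` and `H¹` in Ree coordinates
-/

set_option autoImplicit false

namespace Cfsg.Agent.Helper6

open Cfsg Cfsg.Lie Cfsg.Agent.Helper36

section reeA

variable {K : Type*} [Field K] [CharP K 3] [Fintype K] {m : ℕ}
  {σ : ↥(chevG2.group K) →* ↥(chevG2.group K)}

/-- The product law of `U¹` in Ree coordinates. -/
theorem reeX_mul (hK : Fintype.card K = 3 ^ (2 * m + 1)) (hσ : ReeSig m σ) (hX : XAdd chevG2 K)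
    (t u v t' u' v' : K) :
    wordGL hX (reeWordU (3 ^ m) t u v) * wordGL hX (reeWordU (3 ^ m) t' u' v') =
      wordGL hX (reeWordU (3 ^ m) (t + t') (u + u' - t * frL K m t')
        (v + v' - t' * u + t * t' * frL K m t' - t ^ 2 * frL K m t')) := by
  have hmem : wordGL hX (reeWordU (3 ^ m) t u v) * wordGL hX (reeWordU (3 ^ m) t' u' v') ∈
      chevG2.posUnipotent K ⊓ twistedG2 K (3 ^ m) :=
    Subgroup.mem_inf.mpr ⟨mul_mem (reeU_mem_U hX _ _ _) (reeU_mem_U hX _ _ _),
      mul_mem (reeU_mem_G1 hX _ _ _) (reeU_mem_G1 hX _ _ _)⟩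
  obtain ⟨t'', u'', v'', e⟩ := (ree_U_iff hK hσ hX _).mp hmem
  rw [e]
  rw [wordGL_reeU, wordGL_reeU, g2_U_mul, wordGL_reeU] at e
  obtain ⟨-, h2, -, -, h5, h6⟩ := g2_U_unique hX e
  have e5 : u'' = u + u' - t * frL K m t' := by rw [← h5, frT_pow3]; ring
  have e6 : v'' = v + v' - t' * u + t * t' * frL K m t' - t ^ 2 * frL K m t' := by
    rw [← h6, frT_pow3]; ring
  rw [← h2, e5, e6]

/-- The cube of an element of `U¹`. -/
theorem reeX_cube (hK : Fintype.card K = 3 ^ (2 * m + 1)) (hσ : ReeSig m σ) (hX : XAdd chevG2 K)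
    (t u v : K) :
    wordGL hX (reeWordU (3 ^ m) t u v) ^ 3 =
      wordGL hX (reeWordU (3 ^ m) 0 0 (-(t ^ 2 * frL K m t))) := by
  have h3 := three_eq_zero' (K := K)
  have a1 : t + t + t = 0 := by linear_combination t * h3
  have a2 : (u + u - t * frL K m t) + u - (t + t) * frL K m t = 0 := by
    linear_combination (u - t * frL K m t) * h3
  have a3 : (v + v - t * u + t * t * frL K m t - t ^ 2 * frL K m t) + v -
      t * (u + u - t * frL K m t) + (t + t) * t * frL K m t - (t + t) ^ 2 * frL K m t =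
      -(t ^ 2 * frL K m t) := by
    linear_combination (v - t * u) * h3
  rw [pow_succ, pow_two, reeX_mul hK hσ hX, reeX_mul hK hσ hX, a1, a2, a3]

/-- `X(t,u,v) = 1` only for `t = u = v = 0`. -/
theorem reeX_eq_one (hX : XAdd chevG2 K) {t u v : K}
    (h : wordGL hX (reeWordU (3 ^ m) t u v) = 1) : t = 0 ∧ u = 0 ∧ v = 0 := by
  rw [← reeU_zero (m := m) hX] at h
  exact reeU_inj hX h

/-- The inverse of an element of `U¹`. -/
theorem reeX_inv (hK : Fintype.card K = 3 ^ (2 * m + 1)) (hσ : ReeSig m σ) (hX : XAdd chevG2 K)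
    (t u v : K) :
    (wordGL hX (reeWordU (3 ^ m) t u v))⁻¹ =
      wordGL hX (reeWordU (3 ^ m) (-t) (-u - t * frL K m t)
        (-v - t * u + t ^ 2 * frL K m t)) := by
  symm
  rw [eq_inv_iff_mul_eq_one, reeX_mul hK hσ hX, ← reeU_zero (m := m) hX]
  have a1 : -t + t = 0 := by ring
  have a2 : -u - t * frL K m t + u - -t * frL K m t = 0 := by ring
  have a3 : -v - t * u + t ^ 2 * frL K m t + v - t * (-u - t * frL K m t) +
      -t * t * frL K m t - (-t) ^ 2 * frL K m t = 0 := by ring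
  rw [a1, a2, a3]

/-- An element of `U¹` has order 3 exactly when its first coordinate vanishes and it is not
trivial. -/
theorem reeX_order_three (hK : Fintype.card K = 3 ^ (2 * m + 1)) (hσ : ReeSig m σ)
    (hX : XAdd chevG2 K) (t u v : K) :
    orderOf (wordGL hX (reeWordU (3 ^ m) t u v)) = 3 ↔ t = 0 ∧ ¬ (u = 0 ∧ v = 0) := by
  haveI : Fact (Nat.Prime 3) := ⟨Nat.prime_three⟩
  rw [orderOf_eq_prime_iff, reeX_cube hK hσ hX]
  constructor
  · rintro ⟨h1, h2⟩
    obtain ⟨-, -, h⟩ := reeX_eq_one hX h1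
    have ht : t = 0 := by
      by_contra ht
      have : frL K m t ≠ 0 := (map_ne_zero _).mpr ht
      have h' : t ^ 2 * frL K m t = 0 := neg_eq_zero.mp h
      exact mul_ne_zero (pow_ne_zero 2 ht) this h'
    refine ⟨ht, ?_⟩
    rintro ⟨hu, hv⟩
    apply h2
    rw [ht, hu, hv, reeU_zero]
  · rintro ⟨ht, huv⟩
    refine ⟨?_, ?_⟩
    · rw [ht]
      simp only [ne_eq, OfNat.ofNat_ne_zero, not_false_eq_true, zero_pow, zero_mul, neg_zero]
      exact reeU_zero hX
    · intro h
      obtain ⟨-, hu, hv⟩ := reeX_eq_one hX h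
      exact huv ⟨hu, hv⟩

/-- The parametrisation `z ↦ h(z) = h_a(z^θ) h_b(z)` of `H¹` as a group homomorphism. -/
noncomputable def reeHHom (hK : Fintype.card K = 3 ^ (2 * m + 1)) (hX : XAdd chevG2 K) :
    Kˣ →* ↥(chevG2.diagonalSubgroup K ⊓ twistedG2 K (3 ^ m)) where
  toFun z := ⟨hGL hX 7 (frT K m (z : K)) * hGL hX 6 (z : K),
      Subgroup.mem_inf.mpr ⟨mul_mem (hGL_mem hX (by decide) ((map_ne_zero _).mpr z.ne_zero))
        (hGL_mem hX (by decide) z.ne_zero), reeH_mem hK hX z.ne_zero⟩⟩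
  map_one' := by
    apply Subtype.ext
    simp only [Units.val_one, map_one, Subgroup.coe_one]
    rw [g2_hGL_one hX (by decide), g2_hGL_one hX (by decide), mul_one]
  map_mul' z z' := by
    apply Subtype.ext
    have hHD := Cfsg.Agent.Helper17.hDiag_of_mem (F := K) g2_mem
    have c := g2_hGL_comm hX (r := 6) (s := 7) (by decide) (by decide) z.ne_zero
      ((map_ne_zero (frT K m)).mpr z'.ne_zero)
    simp only [Units.val_mul, map_mul, Subgroup.coe_mul]
    rw [← hGL_mul hX hHD (by decide) ((map_ne_zero (frT K m)).mpr z.ne_zero)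
        ((map_ne_zero (frT K m)).mpr z'.ne_zero),
      ← hGL_mul hX hHD (by decide) z.ne_zero z'.ne_zero]
    calc hGL hX 7 (frT K m (z : K)) * hGL hX 7 (frT K m (z' : K)) *
          (hGL hX 6 (z : K) * hGL hX 6 (z' : K))
        = hGL hX 7 (frT K m (z : K)) * (hGL hX 7 (frT K m (z' : K)) * hGL hX 6 (z : K)) *
          hGL hX 6 (z' : K) := by simp only [mul_assoc]
      _ = hGL hX 7 (frT K m (z : K)) * (hGL hX 6 (z : K) * hGL hX 7 (frT K m (z' : K))) *
          hGL hX 6 (z' : K) := by rw [c.eq]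
      _ = _ := by simp only [mul_assoc]

theorem reeHHom_val (hK : Fintype.card K = 3 ^ (2 * m + 1)) (hX : XAdd chevG2 K) (z : Kˣ) :
    ((reeHHom hK hX z : ↥(chevG2.diagonalSubgroup K ⊓ twistedG2 K (3 ^ m))) :
      GL chevG2.Idx K) = hGL hX 7 (frT K m (z : K)) * hGL hX 6 (z : K) := rfl

theorem reeHHom_bij (hK : Fintype.card K = 3 ^ (2 * m + 1)) (hσ : ReeSig m σ)
    (hX : XAdd chevG2 K) : Function.Bijective (reeHHom (m := m) hK hX) := by
  constructor
  · intro z z' h
    have h' := congrArg Subtype.val h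
    obtain ⟨-, h2⟩ := g2_h_inj hX ((map_ne_zero _).mpr z.ne_zero) z.ne_zero
      ((map_ne_zero _).mpr z'.ne_zero) z'.ne_zero h'
    exact Units.ext h2
  · rintro ⟨g, hg⟩
    obtain ⟨z, hz, rfl⟩ := ree_H_fixed hK hσ hX hg.1 (twistedG2_le_sigFix hK hσ hg.2).2
    exact ⟨Units.mk0 z hz, rfl⟩

/-- `H¹` is cyclic. -/
theorem ree_H_cyclic (hK : Fintype.card K = 3 ^ (2 * m + 1)) (hσ : ReeSig m σ) :
    IsCyclic ↥(chevG2.diagonalSubgroup K ⊓ twistedG2 K (3 ^ m)) := by
  have hX := xAdd_of_mem (F := K) g2_mem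
  exact isCyclic_of_surjective (reeHHom (m := m) hK hX) (reeHHom_bij hK hσ hX).2

/-- If `z^(3^(m+1)) = z` and `z ≠ 0` then `z² = 1`. -/
theorem ree_field_sq (hK : Fintype.card K = 3 ^ (2 * m + 1)) {z : K} (hz : z ≠ 0)
    (h : frL K m z = z) : z * z = 1 := by
  have h1 : frT K m z = z := by
    have := congrArg (frT K m) h
    rw [frT_frL hK] at this
    exact this.symm
  have h2 : z ^ 3 = z := by
    have := frT_pow3 m z
    rw [h1, h] at this
    exact this
  have h3 : z * (z * z - 1) = 0 := by linear_combination h2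
  rcases mul_eq_zero.mp h3 with h4 | h4
  · exact absurd h4 hz
  · linear_combination h4

/-- If `z^(3^(m+1)) = z²` and `z ≠ 0` then `z = 1`. -/
theorem ree_field_one (hK : Fintype.card K = 3 ^ (2 * m + 1)) {z : K} (hz : z ≠ 0)
    (h : frL K m z = z ^ 2) : z = 1 := by
  have ha0 : frT K m z ≠ 0 := (map_ne_zero _).mpr hz
  have h1 : z = (frT K m z) ^ 2 := by
    have := congrArg (frT K m) h
    rwa [frT_frL hK, map_pow] at this
  have h2 : (frT K m z) ^ 3 = z ^ 2 := by rw [frT_pow3, h]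
  have h3 : (frT K m z) ^ 3 * (frT K m z - 1) = 0 := by
    have : (frT K m z) ^ 3 = ((frT K m z) ^ 2) ^ 2 := by rw [← h1]; exact h2
    linear_combination -this
  rcases mul_eq_zero.mp h3 with h4 | h4
  · exact absurd h4 (pow_ne_zero 3 ha0)
  · have h5 : frT K m z = 1 := by linear_combination h4
    rw [h1, h5]; norm_num

/-- The elements of `H¹` commuting with a non-trivial element of `U¹` are `h(±1)`. -/
theorem ree_H_centralizer (hK : Fintype.card K = 3 ^ (2 * m + 1)) (hσ : ReeSig m σ)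
    (hX : XAdd chevG2 K) {z : K} (hz : z ≠ 0) {t u v : K}
    (hc : (hGL hX 7 (frT K m z) * hGL hX 6 z) * wordGL hX (reeWordU (3 ^ m) t u v) =
      wordGL hX (reeWordU (3 ^ m) t u v) * (hGL hX 7 (frT K m z) * hGL hX 6 z))
    (hne : ¬ (t = 0 ∧ u = 0 ∧ v = 0)) : z * z = 1 ∧ (z = 1 ∨ (t = 0 ∧ v = 0)) := by
  have ha0 : frT K m z ≠ 0 := (map_ne_zero _).mpr hz
  have hL0 : frL K m z ≠ 0 := (map_ne_zero _).mpr hz
  have h1 := ree_h_conj hK hσ hX hz rfl t u v
  rw [hc, mul_inv_cancel_right, frT_pow3] at h1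
  obtain ⟨e1, e2, e3⟩ := reeU_inj hX h1
  have hv : v ≠ 0 → z = 1 := by
    intro hv
    have : (z - 1) * v = 0 := by linear_combination -e3
    rcases mul_eq_zero.mp this with h | h
    · linear_combination h
    · exact absurd h hv
  have ht : t ≠ 0 → z = 1 := by
    intro ht
    apply ree_field_one hK hz
    have : (z ^ 2 - frL K m z) * t = 0 := by
      have e1' : frL K m z * t = z ^ 2 * t := by
        calc frL K m z * t = frL K m z * ((frL K m z)⁻¹ * z ^ 2 * t) := by rw [← e1]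
          _ = z ^ 2 * t := by field_simp
      linear_combination -e1'
    rcases mul_eq_zero.mp this with h | h
    · linear_combination -h
    · exact absurd h ht
  have hu : u ≠ 0 → z * z = 1 := by
    intro hu
    apply ree_field_sq hK hz
    have : (frL K m z - z) * u = 0 := by
      have e2' : z * u = frL K m z * u := by
        calc z * u = z * (frL K m z * z⁻¹ * u) := by rw [← e2]
          _ = frL K m z * u := by field_simp
      linear_combination -e2'
    rcases mul_eq_zero.mp this with h | h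
    · linear_combination h
    · exact absurd h hu
  by_cases h0 : t = 0 ∧ v = 0
  · have hu0 : u ≠ 0 := fun hu0 => hne ⟨h0.1, hu0, h0.2⟩
    exact ⟨hu hu0, Or.inr h0⟩
  · have hz1 : z = 1 := by
      by_cases ht0 : t = 0
      · exact hv (fun hv0 => h0 ⟨ht0, hv0⟩)
      · exact ht ht0
    exact ⟨by rw [hz1, mul_one], Or.inl hz1⟩

end reeA

end Cfsg.Agent.Helper6
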