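import Cfsg.Agent.Helper6.ReeA

/-!
# The small Ree groups: point stabilisers on the cosets of `B¹` and the Sylow 3-subgroups
-/

set_option autoImplicit false

namespace Cfsg.Agent.Helper6

open Cfsg Cfsg.Lie Cfsg.Agent.Helper36

section reeB

variable {K : Type*} [Field K]

/-- `B` normalises `U` in `G₂`. -/
theorem g2_B_le_normalizer_U : chevG2.borelSubgroup K ≤
    Subgroup.normalizer (chevG2.posUnipotent K : Set (GL chevG2.Idx K)) := by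
  unfold ChevalleyDatum.borelSubgroup
  exact sup_le Subgroup.le_normalizer (bRel_of_mem (F := K) g2_mem).hU

theorem g2_B_conj_U {b s : GL chevG2.Idx K} (hb : b ∈ chevG2.borelSubgroup K) :
    b * s * b⁻¹ ∈ chevG2.posUnipotent K ↔ s ∈ chevG2.posUnipotent K :=
  (Subgroup.mem_normalizer_iff.mp (g2_B_le_normalizer_U hb) s).symm

theorem g2_B_conj_U' {b s : GL chevG2.Idx K} (hb : b ∈ chevG2.borelSubgroup K) :
    b⁻¹ * s * b ∈ chevG2.posUnipotent K ↔ s ∈ chevG2.posUnipotent K := by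
  have := g2_B_conj_U (s := s) (inv_mem hb)
  rwa [inv_inv] at this

/-- `U ∩ V = 1`. -/
theorem g2_U_inf_V {g : GL chevG2.Idx K} (hU : g ∈ chevG2.posUnipotent K)
    (hV : g ∈ chevG2.negUnipotent K) : g = 1 := by
  have R := bRel_of_mem (F := K) g2_mem
  have : g ∈ chevG2.borelSubgroup K ⊓ chevG2.negUnipotent K :=
    Subgroup.mem_inf.mpr ⟨BRel.U_le_B _ _ hU, hV⟩
  rw [R.bv] at this
  exact Subgroup.mem_bot.mp this

/-- `B ∩ V = 1`. -/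
theorem g2_B_inf_V {g : GL chevG2.Idx K} (hB : g ∈ chevG2.borelSubgroup K)
    (hV : g ∈ chevG2.negUnipotent K) : g = 1 := by
  have R := bRel_of_mem (F := K) g2_mem
  have : g ∈ chevG2.borelSubgroup K ⊓ chevG2.negUnipotent K := Subgroup.mem_inf.mpr ⟨hB, hV⟩
  rw [R.bv] at this
  exact Subgroup.mem_bot.mp this

variable [CharP K 3] [Fintype K] {m : ℕ} {σ : ↥(chevG2.group K) →* ↥(chevG2.group K)}

theorem reeN0_sq_mem (hK : Fintype.card K = 3 ^ (2 * m + 1)) (hσ : ReeSig m σ)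
    (hX : XAdd chevG2 K) : reeN0 hX * reeN0 hX ∈ chevG2.diagonalSubgroup K :=
  ree_N_mul hK hσ (reeN0_mem_N hX) (reeN0_mem_G1 hX m) (reeN0_not_mem_H hX) (reeN0_mem_N hX)
    (reeN0_mem_G1 hX m) (reeN0_not_mem_H hX)

/-- Conjugation by `n₀⁻¹` carries `U` into `V`. -/
theorem reeN0_inv_conj_U (hK : Fintype.card K = 3 ^ (2 * m + 1)) (hσ : ReeSig m σ)
    (hX : XAdd chevG2 K) {u : GL chevG2.Idx K} (hu : u ∈ chevG2.posUnipotent K) :
    (reeN0 hX)⁻¹ * u * reeN0 hX ∈ chevG2.negUnipotent K := by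
  have h1 : (reeN0 hX)⁻¹ * g2N0 K ∈ chevG2.diagonalSubgroup K := by
    have e : (reeN0 hX)⁻¹ * g2N0 K = (reeN0 hX * reeN0 hX)⁻¹ * (reeN0 hX * g2N0 K) := by group
    rw [e]
    exact mul_mem (inv_mem (reeN0_sq_mem hK hσ hX)) (reeN0_mul_g2N0 hK hσ hX)
  have := ree_n_conj_U h1 u hu
  rwa [inv_inv] at this

/-- Conjugation by `n₀` carries `U` into `V`. -/
theorem reeN0_conj_U (hK : Fintype.card K = 3 ^ (2 * m + 1)) (hσ : ReeSig m σ)
    (hX : XAdd chevG2 K) {u : GL chevG2.Idx K} (hu : u ∈ chevG2.posUnipotent K) :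
    reeN0 hX * u * (reeN0 hX)⁻¹ ∈ chevG2.negUnipotent K :=
  ree_n_conj_U (reeN0_mul_g2N0 hK hσ hX) u hu

/-- The elements of `G¹` outside `B` lie in `U¹ n₀ B¹`. -/
theorem ree_not_B_form (hK : Fintype.card K = 3 ^ (2 * m + 1)) (hσ : ReeSig m σ)
    (hX : XAdd chevG2 K) {g : GL chevG2.Idx K} (hg : g ∈ twistedG2 K (3 ^ m))
    (hB : g ∉ chevG2.borelSubgroup K) :
    ∃ u ∈ chevG2.posUnipotent K ⊓ twistedG2 K (3 ^ m),
      ∃ b ∈ chevG2.borelSubgroup K ⊓ twistedG2 K (3 ^ m), g = u * reeN0 hX * b := by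
  have R := bRel_of_mem (F := K) g2_mem
  obtain ⟨u₁, hu₁, n, hn, u₂, hu₂, rfl⟩ := ree_bruhat hK hσ hg
  have hnH : n ∉ chevG2.diagonalSubgroup K := by
    intro hnH
    exact hB (mul_mem (mul_mem (BRel.U_le_B _ _ hu₁.1) (BRel.H_le_B _ _ hnH))
      (BRel.U_le_B _ _ hu₂.1))
  have h1 := ree_N_cases hK hσ hn.1 hn.2 hnH
  have h2 := reeN0_mul_g2N0 hK hσ hX
  have h3 : n * (reeN0 hX)⁻¹ ∈ chevG2.diagonalSubgroup K := by
    have e : n * (reeN0 hX)⁻¹ = (n * g2N0 K) * (reeN0 hX * g2N0 K)⁻¹ := by group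
    rw [e]
    exact mul_mem h1 (inv_mem h2)
  have h4 : (reeN0 hX)⁻¹ * n ∈ chevG2.diagonalSubgroup K := by
    have e : (reeN0 hX)⁻¹ * n = (reeN0 hX)⁻¹ * (n * (reeN0 hX)⁻¹) * reeN0 hX := by group
    rw [e]
    exact R.N_conj_H' _ (reeN0_mem_N hX) _ h3
  have h4G : (reeN0 hX)⁻¹ * n ∈ twistedG2 K (3 ^ m) :=
    mul_mem (inv_mem (reeN0_mem_G1 hX m)) hn.2
  refine ⟨u₁, hu₁, (reeN0 hX)⁻¹ * n * u₂, Subgroup.mem_inf.mpr
    ⟨mul_mem (BRel.H_le_B _ _ h4) (BRel.U_le_B _ _ hu₂.1), mul_mem h4G hu₂.2⟩, ?_⟩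
  group

/-- The stabiliser of the two points `B¹`, `n₀B¹` is `H¹`. -/
theorem ree_two_point (hK : Fintype.card K = 3 ^ (2 * m + 1)) (hσ : ReeSig m σ)
    (hX : XAdd chevG2 K) {t : GL chevG2.Idx K} (htB : t ∈ chevG2.borelSubgroup K)
    (htG : t ∈ twistedG2 K (3 ^ m))
    (h : (reeN0 hX)⁻¹ * t * reeN0 hX ∈ chevG2.borelSubgroup K) :
    t ∈ chevG2.diagonalSubgroup K := by
  have R := bRel_of_mem (F := K) g2_mem
  obtain ⟨u, hu, h', hh', rfl⟩ := ree_B_decomp hK hσ htB htG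
  have h1 : (reeN0 hX)⁻¹ * h' * reeN0 hX ∈ chevG2.diagonalSubgroup K :=
    R.N_conj_H' _ (reeN0_mem_N hX) _ hh'.1
  have h2 : (reeN0 hX)⁻¹ * u * reeN0 hX ∈ chevG2.borelSubgroup K := by
    have e : (reeN0 hX)⁻¹ * u * reeN0 hX =
        ((reeN0 hX)⁻¹ * (u * h') * reeN0 hX) * ((reeN0 hX)⁻¹ * h' * reeN0 hX)⁻¹ := by group
    rw [e]
    exact mul_mem h (inv_mem (BRel.H_le_B _ _ h1))
  have h3 := g2_B_inf_V h2 (reeN0_inv_conj_U hK hσ hX hu.1)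
  have h4 : u = 1 := by
    have e : u = reeN0 hX * ((reeN0 hX)⁻¹ * u * reeN0 hX) * (reeN0 hX)⁻¹ := by group
    rw [e, h3]; group
  rw [h4, one_mul]
  exact hh'.1

/-- An element of `H` fixing the point `w n₀ B¹` (`w ∈ U`) commutes with `w`. -/
theorem ree_three_point (hK : Fintype.card K = 3 ^ (2 * m + 1)) (hσ : ReeSig m σ)
    (hX : XAdd chevG2 K) {t w : GL chevG2.Idx K} (htH : t ∈ chevG2.diagonalSubgroup K)
    (hw : w ∈ chevG2.posUnipotent K)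
    (h : (w * reeN0 hX)⁻¹ * t * (w * reeN0 hX) ∈ chevG2.borelSubgroup K) : t * w = w * t := by
  have R := bRel_of_mem (F := K) g2_mem
  have h1 : (reeN0 hX)⁻¹ * t * reeN0 hX ∈ chevG2.diagonalSubgroup K :=
    R.N_conj_H' _ (reeN0_mem_N hX) _ htH
  have hu5 : t⁻¹ * w⁻¹ * t * w ∈ chevG2.posUnipotent K := by
    have : t⁻¹ * w⁻¹ * t⁻¹⁻¹ ∈ chevG2.posUnipotent K :=
      (Subgroup.mem_normalizer_iff.mp (R.hU (inv_mem htH)) _).mp (inv_mem hw)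
    rw [inv_inv] at this
    exact mul_mem this hw
  have h2 : (reeN0 hX)⁻¹ * (t⁻¹ * w⁻¹ * t * w) * reeN0 hX ∈ chevG2.borelSubgroup K := by
    have e : (reeN0 hX)⁻¹ * (t⁻¹ * w⁻¹ * t * w) * reeN0 hX =
        ((reeN0 hX)⁻¹ * t * reeN0 hX)⁻¹ * ((w * reeN0 hX)⁻¹ * t * (w * reeN0 hX)) := by group
    rw [e]
    exact mul_mem (inv_mem (BRel.H_le_B _ _ h1)) h
  have h3 := g2_B_inf_V h2 (reeN0_inv_conj_U hK hσ hX hu5)
  have h4 : t⁻¹ * w⁻¹ * t * w = 1 := by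
    have e : t⁻¹ * w⁻¹ * t * w =
        reeN0 hX * ((reeN0 hX)⁻¹ * (t⁻¹ * w⁻¹ * t * w) * reeN0 hX) * (reeN0 hX)⁻¹ := by group
    rw [e, h3]; group
  have e : t * w = w * t * (t⁻¹ * w⁻¹ * t * w) := by group
  rw [e, h4, mul_one]

/-- `U` meets its conjugates by elements of `G¹` outside `B` trivially. -/
theorem ree_U_TI (hK : Fintype.card K = 3 ^ (2 * m + 1)) (hσ : ReeSig m σ)
    {y : GL chevG2.Idx K} (hy : y ∈ twistedG2 K (3 ^ m)) (hyB : y ∉ chevG2.borelSubgroup K)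
    {s : GL chevG2.Idx K} (hs : s ∈ chevG2.posUnipotent K)
    (h : y * s * y⁻¹ ∈ chevG2.posUnipotent K) : s = 1 := by
  have hX := xAdd_of_mem (F := K) g2_mem
  obtain ⟨u, hu, b, hb, rfl⟩ := ree_not_B_form hK hσ hX hy hyB
  have h1 : b * s * b⁻¹ ∈ chevG2.posUnipotent K := (g2_B_conj_U hb.1).mpr hs
  have h2 := reeN0_conj_U hK hσ hX h1
  have h3 : reeN0 hX * (b * s * b⁻¹) * (reeN0 hX)⁻¹ ∈ chevG2.posUnipotent K := by
    have e : reeN0 hX * (b * s * b⁻¹) * (reeN0 hX)⁻¹ =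
        u⁻¹ * (u * reeN0 hX * b * s * (u * reeN0 hX * b)⁻¹) * u := by group
    rw [e]
    exact mul_mem (mul_mem (inv_mem hu.1) h) hu.1
  have h4 := g2_U_inf_V h3 h2
  have e : s = (reeN0 hX * b)⁻¹ * (reeN0 hX * (b * s * b⁻¹) * (reeN0 hX)⁻¹) * (reeN0 hX * b) := by
    group
  rw [e, h4]; group

/-- The involution `h(-1)`. -/
noncomputable def reeInv (K : Type*) [Field K] [CharP K 3] (hX : XAdd chevG2 K) (m : ℕ) :
    GL chevG2.Idx K := hGL hX 7 (frT K m (-1)) * hGL hX 6 (-1)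

omit [Fintype K] in
theorem reeInv_mem_H (hX : XAdd chevG2 K) (m : ℕ) : reeInv K hX m ∈ chevG2.diagonalSubgroup K :=
  mul_mem (hGL_mem hX (by decide) ((map_ne_zero _).mpr (neg_ne_zero.mpr one_ne_zero)))
    (hGL_mem hX (by decide) (neg_ne_zero.mpr one_ne_zero))

theorem reeInv_mem_G1 (hK : Fintype.card K = 3 ^ (2 * m + 1)) (hX : XAdd chevG2 K) :
    reeInv K hX m ∈ twistedG2 K (3 ^ m) :=
  reeH_mem hK hX (neg_ne_zero.mpr one_ne_zero)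

omit [Fintype K] in
theorem reeInv_ne_one (hX : XAdd chevG2 K) (m : ℕ) : reeInv K hX m ≠ 1 := by
  intro h
  have h1 : (1 : GL chevG2.Idx K) = hGL hX 7 (frT K m 1) * hGL hX 6 1 := by
    rw [map_one, g2_hGL_one hX (by decide), g2_hGL_one hX (by decide), mul_one]
  rw [h1] at h
  have hm1 : (-1 : K) ≠ 0 := neg_ne_zero.mpr one_ne_zero
  obtain ⟨-, h2⟩ := g2_h_inj hX ((map_ne_zero _).mpr hm1) hm1
    ((map_ne_zero _).mpr one_ne_zero) one_ne_zero h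
  have h3 := three_eq_zero' (K := K)
  have : (1 : K) = 0 := by linear_combination h2 + h3
  exact one_ne_zero this

/-- `h(-1)` commutes with `X(0,u,0)`. -/
theorem reeInv_comm (hK : Fintype.card K = 3 ^ (2 * m + 1)) (hσ : ReeSig m σ)
    (hX : XAdd chevG2 K) (u : K) :
    reeInv K hX m * wordGL hX (reeWordU (3 ^ m) 0 u 0) =
      wordGL hX (reeWordU (3 ^ m) 0 u 0) * reeInv K hX m := by
  have h := ree_h_conj hK hσ hX (neg_ne_zero.mpr (one_ne_zero (α := K))) rfl 0 u 0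
  have e1 : ((frT K m (-1 : K)) ^ 3)⁻¹ * (-1 : K) ^ 2 * 0 = 0 := by ring
  have e2 : (frT K m (-1 : K)) ^ 3 * (-1 : K)⁻¹ * u = u := by
    rw [map_neg, map_one]
    have : (-1 : K)⁻¹ = -1 := by rw [inv_neg, inv_one]
    rw [this]; ring
  have e3 : (-1 : K) * 0 = 0 := by ring
  rw [e1, e2, e3] at h
  exact mul_inv_eq_iff_eq_mul.mp h

/-- The joint stabiliser of three distinct cosets of `B¹` has at most two elements. -/
theorem ree_three_stab (hK : Fintype.card K = 3 ^ (2 * m + 1)) (hσ : ReeSig m σ)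
    (hX : XAdd chevG2 K) {a b c : GL chevG2.Idx K} (ha : a ∈ twistedG2 K (3 ^ m))
    (hb : b ∈ twistedG2 K (3 ^ m)) (hc : c ∈ twistedG2 K (3 ^ m))
    (hab : a⁻¹ * b ∉ chevG2.borelSubgroup K) (hac : a⁻¹ * c ∉ chevG2.borelSubgroup K)
    (hbc : b⁻¹ * c ∉ chevG2.borelSubgroup K) :
    ∃ c₀ : GL chevG2.Idx K, ∀ t ∈ twistedG2 K (3 ^ m), a⁻¹ * t * a ∈ chevG2.borelSubgroup K →
      b⁻¹ * t * b ∈ chevG2.borelSubgroup K → c⁻¹ * t * c ∈ chevG2.borelSubgroup K →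
      t = 1 ∨ t = c₀ := by
  have R := bRel_of_mem (F := K) g2_mem
  obtain ⟨u₀, hu₀, b₁, hb₁, e₁⟩ := ree_not_B_form hK hσ hX (mul_mem (inv_mem ha) hb) hab
  have hc'G : (a * u₀)⁻¹ * c ∈ twistedG2 K (3 ^ m) :=
    mul_mem (inv_mem (mul_mem ha hu₀.2)) hc
  have hc'B : (a * u₀)⁻¹ * c ∉ chevG2.borelSubgroup K := by
    intro h
    apply hac
    have e : a⁻¹ * c = u₀ * ((a * u₀)⁻¹ * c) := by group
    rw [e]
    exact mul_mem (BRel.U_le_B _ _ hu₀.1) h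
  obtain ⟨u₂, hu₂, b₂, hb₂, e₂⟩ := ree_not_B_form hK hσ hX hc'G hc'B
  have eb : b = a * u₀ * reeN0 hX * b₁ := by
    have : b = a * (a⁻¹ * b) := by group
    rw [this, e₁]; group
  have ec : c = a * u₀ * (u₂ * reeN0 hX * b₂) := by
    have : c = a * u₀ * ((a * u₀)⁻¹ * c) := by group
    rw [this, e₂]
  have hu₂1 : u₂ ≠ 1 := by
    intro h
    apply hbc
    have e : b⁻¹ * c = b₁⁻¹ * b₂ := by
      rw [eb, ec, h]; group
    rw [e]
    exact mul_mem (inv_mem hb₁.1) hb₂.1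
  obtain ⟨t₂, u₂', v₂, rfl⟩ := (ree_U_iff hK hσ hX _).mp hu₂
  have hne : ¬ (t₂ = 0 ∧ u₂' = 0 ∧ v₂ = 0) := by
    rintro ⟨h1, h2, h3⟩
    apply hu₂1
    rw [h1, h2, h3, reeU_zero]
  refine ⟨(a * u₀) * reeInv K hX m * (a * u₀)⁻¹, ?_⟩
  intro t htG hta htb htc
  have h1B : (a * u₀)⁻¹ * t * (a * u₀) ∈ chevG2.borelSubgroup K := by
    have e : (a * u₀)⁻¹ * t * (a * u₀) = u₀⁻¹ * (a⁻¹ * t * a) * u₀ := by group
    rw [e]
    exact mul_mem (mul_mem (inv_mem (BRel.U_le_B _ _ hu₀.1)) hta) (BRel.U_le_B _ _ hu₀.1)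
  have h1G : (a * u₀)⁻¹ * t * (a * u₀) ∈ twistedG2 K (3 ^ m) :=
    mul_mem (mul_mem (inv_mem (mul_mem ha hu₀.2)) htG) (mul_mem ha hu₀.2)
  have h2 : (reeN0 hX)⁻¹ * ((a * u₀)⁻¹ * t * (a * u₀)) * reeN0 hX ∈ chevG2.borelSubgroup K := by
    have e : (reeN0 hX)⁻¹ * ((a * u₀)⁻¹ * t * (a * u₀)) * reeN0 hX =
        b₁ * (b⁻¹ * t * b) * b₁⁻¹ := by
      rw [eb]; group
    rw [e]
    exact mul_mem (mul_mem hb₁.1 htb) (inv_mem hb₁.1)
  have h3H := ree_two_point hK hσ hX h1B h1G h2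
  have h4 : (wordGL hX (reeWordU (3 ^ m) t₂ u₂' v₂) * reeN0 hX)⁻¹ *
      ((a * u₀)⁻¹ * t * (a * u₀)) * (wordGL hX (reeWordU (3 ^ m) t₂ u₂' v₂) * reeN0 hX) ∈
      chevG2.borelSubgroup K := by
    have e : (wordGL hX (reeWordU (3 ^ m) t₂ u₂' v₂) * reeN0 hX)⁻¹ *
        ((a * u₀)⁻¹ * t * (a * u₀)) * (wordGL hX (reeWordU (3 ^ m) t₂ u₂' v₂) * reeN0 hX) =
        b₂ * (c⁻¹ * t * c) * b₂⁻¹ := by
      rw [ec]; group
    rw [e]
    exact mul_mem (mul_mem hb₂.1 htc) (inv_mem hb₂.1)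
  have h5 := ree_three_point hK hσ hX h3H hu₂.1 h4
  obtain ⟨z, hz, e6⟩ := ree_H_fixed hK hσ hX h3H (twistedG2_le_sigFix hK hσ h1G).2
  rw [e6] at h5
  obtain ⟨hzz, -⟩ := ree_H_centralizer hK hσ hX hz h5 hne
  have hz' : (z - 1) * (z + 1) = 0 := by linear_combination hzz
  rcases mul_eq_zero.mp hz' with hz1 | hz1
  · left
    have hz1' : z = 1 := by linear_combination hz1
    rw [hz1', map_one, g2_hGL_one hX (by decide), g2_hGL_one hX (by decide), mul_one] at e6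
    have e : t = (a * u₀) * ((a * u₀)⁻¹ * t * (a * u₀)) * (a * u₀)⁻¹ := by group
    rw [e, e6]; group
  · right
    have hz1' : z = -1 := by linear_combination hz1
    rw [hz1'] at e6
    have e : t = (a * u₀) * ((a * u₀)⁻¹ * t * (a * u₀)) * (a * u₀)⁻¹ := by group
    rw [e, e6]
    rfl

end reeB

end Cfsg.Agent.Helper6
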