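import Mathlib

/-!
# Generic group-theoretic lemmas used for the small Ree groups
-/

set_option autoImplicit false

namespace Cfsg.Agent.Helper6

/-- In a cyclic group of order `2k` with `k` odd there are exactly `k` elements of odd order. -/
theorem card_odd_order_of_cyclic {G : Type*} [CommGroup G] [IsCyclic G] [Finite G] {k : ℕ}
    (hk : Odd k) (hG : Nat.card G = 2 * k) : Nat.card {g : G // Odd (orderOf g)} = k := by
  have h1 := IsCyclic.card_powMonoidHom_ker (G := G) k
  rw [hG] at h1
  have h2 : Nat.gcd (2 * k) k = k := Nat.gcd_eq_right (Dvd.intro_left 2 rfl)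
  rw [h2] at h1
  rw [← h1]
  apply Nat.card_congr
  apply Equiv.subtypeEquivRight
  intro g
  rw [MonoidHom.mem_ker, powMonoidHom_apply, ← orderOf_dvd_iff_pow_eq_one]
  constructor
  · intro hodd
    have hdvd : orderOf g ∣ 2 * k := by rw [← hG]; exact orderOf_dvd_natCard g
    exact Nat.Coprime.dvd_of_dvd_mul_left (Nat.coprime_two_right.mpr hodd) hdvd
  · intro hdvd
    exact Odd.of_dvd_nat hk hdvd

/-- A subgroup all of whose elements take one of two values under an injective map has at most
two elements. -/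
theorem card_le_two_of_forall {G M : Type*} [Group G] (S : Subgroup G) (f : G → M)
    (hf : Function.Injective f) (c₁ c₂ : M) (h : ∀ t ∈ S, f t = c₁ ∨ f t = c₂) :
    Nat.card S ≤ 2 := by
  classical
  have key : Function.Injective (fun t : S => decide (f (t : G) = c₁)) := by
    intro t t' htt
    simp only [decide_eq_decide] at htt
    apply Subtype.ext
    apply hf
    by_cases h1 : f (t : G) = c₁
    · rw [h1, htt.mp h1]
    · have h2 : f (t' : G) ≠ c₁ := fun h2 => h1 (htt.mpr h2)
      rw [(h t t.2).resolve_left h1, (h t' t'.2).resolve_left h2]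
  have := Nat.card_le_card_of_injective _ key
  simpa using this

/-- If a Sylow `p`-subgroup `S` meets each of its conjugates by elements outside its normaliser
trivially, then any two distinct Sylow `p`-subgroups meet trivially. -/
theorem sylow_TI_of_core {G : Type*} [Group G] [Finite G] {p : ℕ} [Fact p.Prime] (S : Sylow p G)
    (h : ∀ y : G, y ∉ Subgroup.normalizer ((S : Subgroup G) : Set G) → ∀ s ∈ S,
      y * s * y⁻¹ ∈ S → s = 1)
    (P Q : Sylow p G) (hPQ : P ≠ Q) : (P : Subgroup G) ⊓ (Q : Subgroup G) = ⊥ := by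
  obtain ⟨g, rfl⟩ := MulAction.exists_smul_eq G S P
  obtain ⟨g', rfl⟩ := MulAction.exists_smul_eq G S Q
  rw [eq_bot_iff]
  intro x hx
  rw [Subgroup.mem_bot]
  obtain ⟨hx1, hx2⟩ := Subgroup.mem_inf.mp hx
  rw [Sylow.coe_subgroup_smul, Subgroup.mem_pointwise_smul_iff_inv_smul_mem] at hx1 hx2
  simp only [MulAut.smul_def, MulAut.conj_inv_apply] at hx1 hx2
  have hy : g'⁻¹ * g ∉ Subgroup.normalizer ((S : Subgroup G) : Set G) := by
    intro hy
    apply hPQ
    have h1 : (g'⁻¹ * g) • S = S := Sylow.smul_eq_iff_mem_normalizer.mpr hy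
    have h2 : g • S = g' • ((g'⁻¹ * g) • S) := by
      rw [← mul_smul]; congr 1; group
    rw [h2, h1]
  have h3 := h (g'⁻¹ * g) hy (g⁻¹ * x * g) hx1 (by
    have e : g'⁻¹ * g * (g⁻¹ * x * g) * (g'⁻¹ * g)⁻¹ = g'⁻¹ * x * g' := by group
    rw [e]; exact hx2)
  have e : x = g * (g⁻¹ * x * g) * g⁻¹ := by group
  rw [e, h3]; group

/-- Membership in the stabiliser of a coset. -/
theorem mem_stab_coset_iff {G : Type*} [Group G] (H : Subgroup G) (a t : G) :
    t ∈ MulAction.stabilizer G (a : G ⧸ H) ↔ a⁻¹ * t * a ∈ H := by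
  rw [MulAction.mem_stabilizer_iff]
  have e : t • (a : G ⧸ H) = ((t * a : G) : G ⧸ H) := rfl
  rw [e, QuotientGroup.eq]
  have e2 : (t * a)⁻¹ * a = (a⁻¹ * t * a)⁻¹ := by group
  rw [e2, inv_mem_iff]

theorem coset_ne_iff {G : Type*} [Group G] (H : Subgroup G) (a b : G) :
    (a : G ⧸ H) ≠ (b : G ⧸ H) ↔ a⁻¹ * b ∉ H := by
  rw [Ne, QuotientGroup.eq]

/-- A property stable under conjugation which holds on one Sylow `p`-subgroup holds on all. -/
theorem sylow_forall_of_conj {G : Type*} [Group G] [Finite G] {p : ℕ} [Fact p.Prime]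
    (T S : Sylow p G) (P : G → Prop) (hP : ∀ g x, P x → P (g * x * g⁻¹))
    (hT : ∀ x ∈ T, P x) : ∀ x ∈ S, P x := by
  obtain ⟨g, rfl⟩ := MulAction.exists_smul_eq G T S
  intro x hx
  have hx' : x ∈ ((g • T : Sylow p G) : Subgroup G) := hx
  rw [Sylow.coe_subgroup_smul, Subgroup.mem_pointwise_smul_iff_inv_smul_mem] at hx'
  simp only [MulAut.smul_def, MulAut.conj_inv_apply] at hx'
  have h := hP g _ (hT _ hx')
  have e : g * (g⁻¹ * x * g) * g⁻¹ = x := by group
  rwa [e] at h

/-- Two surjective homomorphisms with the same kernel have isomorphic codomains. -/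
theorem nonempty_mulEquiv_of_ker_eq {G A B : Type*} [Group G] [Group A] [Group B] (f : G →* A)
    (g : G →* B) (hf : Function.Surjective f) (hg : Function.Surjective g) (h : f.ker = g.ker) :
    Nonempty (A ≃* B) :=
  ⟨(QuotientGroup.quotientKerEquivOfSurjective f hf).symm.trans
    ((QuotientGroup.quotientMulEquivOfEq h).trans (QuotientGroup.quotientKerEquivOfSurjective g hg))⟩

/-- The 2-part of `8k`, `k` odd. -/
theorem factorization_two_eight_mul {k : ℕ} (hk : Odd k) : (8 * k).factorization 2 = 3 := by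
  have hk0 : k ≠ 0 := by
    rintro rfl
    exact absurd hk (by decide)
  rw [show (8 : ℕ) = 2 ^ 3 from rfl, Nat.factorization_mul (by norm_num) hk0,
    Nat.factorization_pow]
  simp [Nat.Prime.factorization_self Nat.prime_two,
    Nat.factorization_eq_zero_of_not_dvd hk.not_two_dvd_nat]

end Cfsg.Agent.Helper6
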