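import Cfsg.Agent.Helper6.ReeB
import Cfsg.Agent.Helper6.ReeGen

/-!
# The small Ree groups: statements about `H¹`, `U¹`, the Sylow 3-subgroups and the action on
the cosets of `B¹`
-/

set_option autoImplicit false

namespace Cfsg.Agent.Helper6

open Cfsg Cfsg.Lie Cfsg.Agent.Helper36

section reeC

variable {K : Type*} [Field K] [CharP K 3] [Fintype K] {m : ℕ}
  {σ : ↥(chevG2.group K) →* ↥(chevG2.group K)}

/-- `H¹` has exactly `(q - 1)/2` elements of odd order. -/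
theorem ree_H_odd_card (hK : Fintype.card K = 3 ^ (2 * m + 1)) (hσ : ReeSig m σ) :
    2 * Nat.card {h : ↥(chevG2.diagonalSubgroup K ⊓ twistedG2 K (3 ^ m)) // Odd (orderOf h)} =
      3 ^ (2 * m + 1) - 1 := by
  have hX := xAdd_of_mem (F := K) g2_mem
  let e : Kˣ ≃* ↥(chevG2.diagonalSubgroup K ⊓ twistedG2 K (3 ^ m)) :=
    MulEquiv.ofBijective (reeHHom (m := m) hK hX) (reeHHom_bij hK hσ hX)
  obtain ⟨k, hk, hkodd⟩ : ∃ k, 3 ^ (2 * m + 1) - 1 = 2 * k ∧ Odd k := by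
    have h4 := three_pow_mod_four m
    refine ⟨(3 ^ (2 * m + 1) - 1) / 2, by omega, ?_⟩
    rw [Nat.odd_iff]; omega
  have hc : Nat.card Kˣ = 2 * k := by
    rw [Nat.card_units, Nat.card_eq_fintype_card, hK, hk]
  have h1 := card_odd_order_of_cyclic (G := Kˣ) hkodd hc
  have h2 : Nat.card {h : ↥(chevG2.diagonalSubgroup K ⊓ twistedG2 K (3 ^ m)) //
      Odd (orderOf h)} = Nat.card {z : Kˣ // Odd (orderOf z)} := by
    apply Nat.card_congr
    refine (e.toEquiv.subtypeEquiv (fun z => ?_)).symm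
    rw [MulEquiv.toEquiv_eq_coe, EquivLike.coe_coe, MulEquiv.orderOf_eq]
  rw [h2, h1, hk]

/-- A non-identity element of odd order of `H¹` centralises no non-identity element of `U¹`. -/
theorem ree_H_odd_fpf (hK : Fintype.card K = 3 ^ (2 * m + 1)) (hσ : ReeSig m σ) :
    ∀ h ∈ (chevG2.diagonalSubgroup K ⊓ twistedG2 K (3 ^ m)), h ≠ 1 → Odd (orderOf h) →
      (chevG2.posUnipotent K ⊓ twistedG2 K (3 ^ m)) ⊓ Subgroup.centralizer {h} = ⊥ := by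
  have hX := xAdd_of_mem (F := K) g2_mem
  intro h hh hne hodd
  obtain ⟨z, hz, rfl⟩ := ree_H_fixed hK hσ hX hh.1 (twistedG2_le_sigFix hK hσ hh.2).2
  rw [eq_bot_iff]
  intro g hg
  rw [Subgroup.mem_bot]
  obtain ⟨hgU, hgC⟩ := Subgroup.mem_inf.mp hg
  obtain ⟨t, u, v, rfl⟩ := (ree_U_iff hK hσ hX _).mp hgU
  have hc := Subgroup.mem_centralizer_iff.mp hgC _ (Set.mem_singleton _)
  by_contra hg1
  have hne' : ¬ (t = 0 ∧ u = 0 ∧ v = 0) := by
    rintro ⟨h1, h2, h3⟩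
    apply hg1
    rw [h1, h2, h3, reeU_zero]
  obtain ⟨hzz, -⟩ := ree_H_centralizer hK hσ hX hz hc hne'
  have hsq : (hGL hX 7 (frT K m z) * hGL hX 6 z) ^ 2 = 1 := by
    have e1 : reeHHom (m := m) hK hX (Units.mk0 z hz) * reeHHom (m := m) hK hX (Units.mk0 z hz) =
        1 := by
      rw [← map_mul]
      have : Units.mk0 z hz * Units.mk0 z hz = 1 := Units.ext hzz
      rw [this, map_one]
    have e2 := congrArg Subtype.val e1
    rw [pow_two]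
    exact e2
  have hdvd : orderOf (hGL hX 7 (frT K m z) * hGL hX 6 z) ∣ 2 := orderOf_dvd_of_pow_eq_one hsq
  have h1 : orderOf (hGL hX 7 (frT K m z) * hGL hX 6 z) = 1 := by
    rcases (Nat.dvd_prime Nat.prime_two).mp hdvd with h | h
    · exact h
    · rw [h] at hodd
      exact absurd hodd (by decide)
  exact hne (orderOf_eq_one_iff.mp h1)

/-- `U¹` has exactly `q² - 1` elements of order 3. -/
theorem ree_U_order_three_card (hK : Fintype.card K = 3 ^ (2 * m + 1)) (hσ : ReeSig m σ) :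
    Nat.card {u : ↥(chevG2.posUnipotent K ⊓ twistedG2 K (3 ^ m)) // orderOf u = 3} =
      (3 ^ (2 * m + 1)) ^ 2 - 1 := by
  classical
  have hX := xAdd_of_mem (F := K) g2_mem
  let φ : {p : K × K // ¬ (p = 0)} →
      {u : ↥(chevG2.posUnipotent K ⊓ twistedG2 K (3 ^ m)) // orderOf u = 3} := fun p =>
    ⟨⟨wordGL hX (reeWordU (3 ^ m) 0 p.1.1 p.1.2),
      (ree_U_iff hK hσ hX _).mpr ⟨0, p.1.1, p.1.2, rfl⟩⟩, by
      rw [← Subgroup.orderOf_coe]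
      exact (reeX_order_three hK hσ hX 0 p.1.1 p.1.2).mpr
        ⟨rfl, fun h => p.2 (Prod.ext h.1 h.2)⟩⟩
  have hφ : Function.Bijective φ := by
    constructor
    · intro p p' h
      have h' := congrArg (fun x => (x.1.1 : GL chevG2.Idx K)) h
      obtain ⟨-, h1, h2⟩ := reeU_inj hX h'
      exact Subtype.ext (Prod.ext h1 h2)
    · rintro ⟨⟨g, hg⟩, ho⟩
      obtain ⟨t, u, v, rfl⟩ := (ree_U_iff hK hσ hX _).mp hg
      rw [← Subgroup.orderOf_coe] at ho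
      obtain ⟨ht, huv⟩ := (reeX_order_three hK hσ hX t u v).mp ho
      subst ht
      exact ⟨⟨(u, v), fun h => huv ⟨congrArg Prod.fst h, congrArg Prod.snd h⟩⟩, rfl⟩
  rw [← Nat.card_congr (Equiv.ofBijective φ hφ), Nat.card_eq_fintype_card,
    Fintype.card_subtype_compl, Fintype.card_prod, hK, Fintype.card_subtype_eq, pow_two]

/-- Distinct Sylow 3-subgroups of `²G₂(q)` meet trivially. -/
theorem ree_sylow_TI (hK : Fintype.card K = 3 ^ (2 * m + 1)) (hσ : ReeSig m σ)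
    (P Q : Sylow 3 ↥(twistedG2 K (3 ^ m))) (hPQ : P ≠ Q) :
    (P : Subgroup ↥(twistedG2 K (3 ^ m))) ⊓ (Q : Subgroup ↥(twistedG2 K (3 ^ m))) = ⊥ := by
  haveI : Fact (Nat.Prime 3) := ⟨Nat.prime_three⟩
  have hcS : Nat.card ((chevG2.posUnipotent K ⊓ twistedG2 K (3 ^ m)).subgroupOf
      (twistedG2 K (3 ^ m))) = 3 ^ ((2 * m + 1) * 3) := by
    rw [Nat.card_congr (Subgroup.subgroupOfEquivOfLe inf_le_right).toEquiv, ree_U_card hK hσ,
      ← pow_mul]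
  have hp : IsPGroup 3 ((chevG2.posUnipotent K ⊓ twistedG2 K (3 ^ m)).subgroupOf
      (twistedG2 K (3 ^ m))) := IsPGroup.of_card hcS
  have hidx : ¬ 3 ∣ ((chevG2.posUnipotent K ⊓ twistedG2 K (3 ^ m)).subgroupOf
      (twistedG2 K (3 ^ m))).index := by
    have h1 := Subgroup.card_mul_index ((chevG2.posUnipotent K ⊓ twistedG2 K (3 ^ m)).subgroupOf
      (twistedG2 K (3 ^ m)))
    rw [hcS, ree_card hK hσ] at h1
    have h2 : ((chevG2.posUnipotent K ⊓ twistedG2 K (3 ^ m)).subgroupOf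
        (twistedG2 K (3 ^ m))).index = (3 ^ (2 * m + 1) - 1) * ((3 ^ (2 * m + 1)) ^ 3 + 1) := by
      have hpos : 0 < 3 ^ ((2 * m + 1) * 3) := by positivity
      apply Nat.eq_of_mul_eq_mul_left hpos
      rw [h1, pow_mul, mul_assoc]
    rw [h2]
    have hq : 3 ^ (2 * m + 1) = 3 * 3 ^ (2 * m) := by rw [pow_succ]; ring
    have hr : 1 ≤ 3 ^ (2 * m) := Nat.one_le_pow _ _ (by norm_num)
    rw [hq]
    generalize 3 ^ (2 * m) = r at hr
    intro hdvd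
    rcases (Nat.Prime.dvd_mul Nat.prime_three).mp hdvd with h | h
    · omega
    · have e : (3 * r) ^ 3 + 1 = 3 * (9 * r ^ 3) + 1 := by ring
      rw [e] at h
      generalize 9 * r ^ 3 = r' at h
      omega
  refine sylow_TI_of_core (hp.toSylow hidx) ?_ P Q hPQ
  intro y hy s hs hys
  rw [IsPGroup.mem_toSylow, Subgroup.mem_subgroupOf] at hs hys
  have hyB : (y : GL chevG2.Idx K) ∉ chevG2.borelSubgroup K := by
    intro hyB
    apply hy
    rw [Subgroup.mem_normalizer_iff]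
    intro h
    rw [IsPGroup.toSylow_coe, Subgroup.mem_subgroupOf, Subgroup.mem_subgroupOf]
    constructor
    · intro hh
      exact Subgroup.mem_inf.mpr ⟨(g2_B_conj_U hyB).mpr hh.1, (y * h * y⁻¹).2⟩
    · intro hh
      exact Subgroup.mem_inf.mpr ⟨(g2_B_conj_U hyB).mp hh.1, h.2⟩
  have h1 := ree_U_TI hK hσ y.2 hyB hs.1 hys.1
  exact Subtype.ext h1

/-- Facts on the three points `B¹`, `n₀B¹`, `X(0,1,0)n₀B¹`. -/
theorem ree_three_stab_ex (hK : Fintype.card K = 3 ^ (2 * m + 1)) (hσ : ReeSig m σ)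
    (hX : XAdd chevG2 K) :
    wordGL hX (reeWordU (3 ^ m) 0 1 0) * reeN0 hX ∉ chevG2.borelSubgroup K ∧
    (reeN0 hX)⁻¹ * (wordGL hX (reeWordU (3 ^ m) 0 1 0) * reeN0 hX) ∉ chevG2.borelSubgroup K ∧
    (reeN0 hX)⁻¹ * reeInv K hX m * reeN0 hX ∈ chevG2.borelSubgroup K ∧
    (wordGL hX (reeWordU (3 ^ m) 0 1 0) * reeN0 hX)⁻¹ * reeInv K hX m *
      (wordGL hX (reeWordU (3 ^ m) 0 1 0) * reeN0 hX) ∈ chevG2.borelSubgroup K := by
  have R := bRel_of_mem (F := K) g2_mem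
  have hwU : wordGL hX (reeWordU (3 ^ m) (0 : K) 1 0) ∈ chevG2.posUnipotent K :=
    reeU_mem_U hX _ _ _
  have hi : (reeN0 hX)⁻¹ * reeInv K hX m * reeN0 hX ∈ chevG2.borelSubgroup K :=
    BRel.H_le_B _ _ (R.N_conj_H' _ (reeN0_mem_N hX) _ (reeInv_mem_H hX m))
  refine ⟨?_, ?_, hi, ?_⟩
  · intro h
    apply reeN0_not_mem_B hX
    have e : reeN0 hX = (wordGL hX (reeWordU (3 ^ m) (0 : K) 1 0))⁻¹ *
        (wordGL hX (reeWordU (3 ^ m) 0 1 0) * reeN0 hX) := by group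
    rw [e]
    exact mul_mem (inv_mem (BRel.U_le_B _ _ hwU)) h
  · intro h
    rw [← mul_assoc] at h
    have h1 := g2_B_inf_V h (reeN0_inv_conj_U hK hσ hX hwU)
    have h2 : wordGL hX (reeWordU (3 ^ m) (0 : K) 1 0) = 1 := by
      have e : wordGL hX (reeWordU (3 ^ m) (0 : K) 1 0) = reeN0 hX *
          ((reeN0 hX)⁻¹ * wordGL hX (reeWordU (3 ^ m) 0 1 0) * reeN0 hX) * (reeN0 hX)⁻¹ := by
        group
      rw [e, h1]; group
    exact one_ne_zero (reeX_eq_one hX h2).2.1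
  · have hc := reeInv_comm hK hσ hX (1 : K)
    have e : (wordGL hX (reeWordU (3 ^ m) 0 1 0) * reeN0 hX)⁻¹ * reeInv K hX m *
        (wordGL hX (reeWordU (3 ^ m) 0 1 0) * reeN0 hX) =
        (reeN0 hX)⁻¹ * reeInv K hX m * reeN0 hX := by
      have e1 : (wordGL hX (reeWordU (3 ^ m) 0 1 0) * reeN0 hX)⁻¹ * reeInv K hX m *
          (wordGL hX (reeWordU (3 ^ m) 0 1 0) * reeN0 hX) =
          (reeN0 hX)⁻¹ * (wordGL hX (reeWordU (3 ^ m) (0 : K) 1 0))⁻¹ *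
          (reeInv K hX m * wordGL hX (reeWordU (3 ^ m) 0 1 0)) * reeN0 hX := by group
      rw [e1, hc]; group
    rw [e]
    exact hi

/-- The three-point stabilisers of `²G₂(q)` on the cosets of `B¹`. -/
theorem ree_three_point_stab (hK : Fintype.card K = 3 ^ (2 * m + 1)) (hσ : ReeSig m σ) :
    (∀ x y z : ↥(twistedG2 K (3 ^ m)) ⧸ ((chevG2.borelSubgroup K ⊓
        twistedG2 K (3 ^ m))).subgroupOf (twistedG2 K (3 ^ m)), x ≠ y → x ≠ z → y ≠ z →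
        Nat.card ↥(MulAction.stabilizer ↥(twistedG2 K (3 ^ m)) x ⊓
          MulAction.stabilizer ↥(twistedG2 K (3 ^ m)) y ⊓
          MulAction.stabilizer ↥(twistedG2 K (3 ^ m)) z) ≤ 2) ∧
      ∃ x y z : ↥(twistedG2 K (3 ^ m)) ⧸ ((chevG2.borelSubgroup K ⊓
        twistedG2 K (3 ^ m))).subgroupOf (twistedG2 K (3 ^ m)), x ≠ y ∧ x ≠ z ∧ y ≠ z ∧
        Nat.card ↥(MulAction.stabilizer ↥(twistedG2 K (3 ^ m)) x ⊓
          MulAction.stabilizer ↥(twistedG2 K (3 ^ m)) y ⊓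
          MulAction.stabilizer ↥(twistedG2 K (3 ^ m)) z) = 2 := by
  have hX := xAdd_of_mem (F := K) g2_mem
  have R := bRel_of_mem (F := K) g2_mem
  have key : ∀ x y z : ↥(twistedG2 K (3 ^ m)) ⧸ ((chevG2.borelSubgroup K ⊓
        twistedG2 K (3 ^ m))).subgroupOf (twistedG2 K (3 ^ m)), x ≠ y → x ≠ z → y ≠ z →
        Nat.card ↥(MulAction.stabilizer ↥(twistedG2 K (3 ^ m)) x ⊓
          MulAction.stabilizer ↥(twistedG2 K (3 ^ m)) y ⊓
          MulAction.stabilizer ↥(twistedG2 K (3 ^ m)) z) ≤ 2 := by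
    intro x y z hxy hxz hyz
    obtain ⟨a, rfl⟩ := QuotientGroup.mk_surjective x
    obtain ⟨b, rfl⟩ := QuotientGroup.mk_surjective y
    obtain ⟨c, rfl⟩ := QuotientGroup.mk_surjective z
    rw [coset_ne_iff, Subgroup.mem_subgroupOf] at hxy hxz hyz
    have hab : (a : GL chevG2.Idx K)⁻¹ * (b : GL chevG2.Idx K) ∉ chevG2.borelSubgroup K :=
      fun h => hxy (Subgroup.mem_inf.mpr ⟨h, (a⁻¹ * b).2⟩)
    have hac : (a : GL chevG2.Idx K)⁻¹ * (c : GL chevG2.Idx K) ∉ chevG2.borelSubgroup K :=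
      fun h => hxz (Subgroup.mem_inf.mpr ⟨h, (a⁻¹ * c).2⟩)
    have hbc : (b : GL chevG2.Idx K)⁻¹ * (c : GL chevG2.Idx K) ∉ chevG2.borelSubgroup K :=
      fun h => hyz (Subgroup.mem_inf.mpr ⟨h, (b⁻¹ * c).2⟩)
    obtain ⟨c₀, hc₀⟩ := ree_three_stab hK hσ hX a.2 b.2 c.2 hab hac hbc
    apply card_le_two_of_forall _ Subtype.val Subtype.val_injective 1 c₀
    intro t ht
    obtain ⟨ht12, ht3⟩ := Subgroup.mem_inf.mp ht
    obtain ⟨ht1, ht2⟩ := Subgroup.mem_inf.mp ht12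
    rw [mem_stab_coset_iff, Subgroup.mem_subgroupOf] at ht1 ht2 ht3
    exact hc₀ t.1 t.2 ht1.1 ht2.1 ht3.1
  refine ⟨key, ?_⟩
  obtain ⟨e1, e2, e3, e4⟩ := ree_three_stab_ex hK hσ hX
  have hwG : wordGL hX (reeWordU (3 ^ m) (0 : K) 1 0) * reeN0 hX ∈ twistedG2 K (3 ^ m) :=
    mul_mem (reeU_mem_G1 hX _ _ _) (reeN0_mem_G1 hX m)
  have hxy : (((1 : ↥(twistedG2 K (3 ^ m))) : ↥(twistedG2 K (3 ^ m)) ⧸
      ((chevG2.borelSubgroup K ⊓ twistedG2 K (3 ^ m))).subgroupOf (twistedG2 K (3 ^ m)))) ≠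
      ((⟨reeN0 hX, reeN0_mem_G1 hX m⟩ : ↥(twistedG2 K (3 ^ m))) : ↥(twistedG2 K (3 ^ m)) ⧸
      ((chevG2.borelSubgroup K ⊓ twistedG2 K (3 ^ m))).subgroupOf (twistedG2 K (3 ^ m))) := by
    rw [coset_ne_iff, Subgroup.mem_subgroupOf]
    intro h
    apply reeN0_not_mem_B hX
    have := h.1
    simpa using this
  have hxz : (((1 : ↥(twistedG2 K (3 ^ m))) : ↥(twistedG2 K (3 ^ m)) ⧸
      ((chevG2.borelSubgroup K ⊓ twistedG2 K (3 ^ m))).subgroupOf (twistedG2 K (3 ^ m)))) ≠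
      ((⟨_, hwG⟩ : ↥(twistedG2 K (3 ^ m))) : ↥(twistedG2 K (3 ^ m)) ⧸
      ((chevG2.borelSubgroup K ⊓ twistedG2 K (3 ^ m))).subgroupOf (twistedG2 K (3 ^ m))) := by
    rw [coset_ne_iff, Subgroup.mem_subgroupOf]
    intro h
    apply e1
    have := h.1
    simpa using this
  have hyz : ((⟨reeN0 hX, reeN0_mem_G1 hX m⟩ : ↥(twistedG2 K (3 ^ m))) : ↥(twistedG2 K (3 ^ m)) ⧸
      ((chevG2.borelSubgroup K ⊓ twistedG2 K (3 ^ m))).subgroupOf (twistedG2 K (3 ^ m))) ≠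
      ((⟨_, hwG⟩ : ↥(twistedG2 K (3 ^ m))) : ↥(twistedG2 K (3 ^ m)) ⧸
      ((chevG2.borelSubgroup K ⊓ twistedG2 K (3 ^ m))).subgroupOf (twistedG2 K (3 ^ m))) := by
    rw [coset_ne_iff, Subgroup.mem_subgroupOf]
    intro h
    exact e2 h.1
  refine ⟨_, _, _, hxy, hxz, hyz, le_antisymm (key _ _ _ hxy hxz hyz) ?_⟩
  have hiG := reeInv_mem_G1 (m := m) hK hX
  have hmem : (⟨reeInv K hX m, hiG⟩ : ↥(twistedG2 K (3 ^ m))) ∈
      MulAction.stabilizer ↥(twistedG2 K (3 ^ m)) (((1 : ↥(twistedG2 K (3 ^ m))) :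
        ↥(twistedG2 K (3 ^ m)) ⧸ ((chevG2.borelSubgroup K ⊓
          twistedG2 K (3 ^ m))).subgroupOf (twistedG2 K (3 ^ m)))) ⊓
      MulAction.stabilizer ↥(twistedG2 K (3 ^ m))
        ((⟨reeN0 hX, reeN0_mem_G1 hX m⟩ : ↥(twistedG2 K (3 ^ m))) : ↥(twistedG2 K (3 ^ m)) ⧸
          ((chevG2.borelSubgroup K ⊓ twistedG2 K (3 ^ m))).subgroupOf (twistedG2 K (3 ^ m))) ⊓
      MulAction.stabilizer ↥(twistedG2 K (3 ^ m))
        ((⟨_, hwG⟩ : ↥(twistedG2 K (3 ^ m))) : ↥(twistedG2 K (3 ^ m)) ⧸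
          ((chevG2.borelSubgroup K ⊓ twistedG2 K (3 ^ m))).subgroupOf (twistedG2 K (3 ^ m))) := by
    refine Subgroup.mem_inf.mpr ⟨Subgroup.mem_inf.mpr ⟨?_, ?_⟩, ?_⟩
    · rw [mem_stab_coset_iff, Subgroup.mem_subgroupOf]
      refine Subgroup.mem_inf.mpr ⟨?_, Subtype.property _⟩
      have : reeInv K hX m ∈ chevG2.borelSubgroup K := BRel.H_le_B _ _ (reeInv_mem_H hX m)
      simpa using this
    · rw [mem_stab_coset_iff, Subgroup.mem_subgroupOf]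
      exact Subgroup.mem_inf.mpr ⟨e3, Subtype.property _⟩
    · rw [mem_stab_coset_iff, Subgroup.mem_subgroupOf]
      exact Subgroup.mem_inf.mpr ⟨e4, Subtype.property _⟩
  have hne : (⟨reeInv K hX m, hiG⟩ : ↥(twistedG2 K (3 ^ m))) ≠ 1 := by
    intro h
    exact reeInv_ne_one hX m (congrArg Subtype.val h)
  have hnb : MulAction.stabilizer ↥(twistedG2 K (3 ^ m)) (((1 : ↥(twistedG2 K (3 ^ m))) :
        ↥(twistedG2 K (3 ^ m)) ⧸ ((chevG2.borelSubgroup K ⊓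
          twistedG2 K (3 ^ m))).subgroupOf (twistedG2 K (3 ^ m)))) ⊓
      MulAction.stabilizer ↥(twistedG2 K (3 ^ m))
        ((⟨reeN0 hX, reeN0_mem_G1 hX m⟩ : ↥(twistedG2 K (3 ^ m))) : ↥(twistedG2 K (3 ^ m)) ⧸
          ((chevG2.borelSubgroup K ⊓ twistedG2 K (3 ^ m))).subgroupOf (twistedG2 K (3 ^ m))) ⊓
      MulAction.stabilizer ↥(twistedG2 K (3 ^ m))
        ((⟨_, hwG⟩ : ↥(twistedG2 K (3 ^ m))) : ↥(twistedG2 K (3 ^ m)) ⧸
          ((chevG2.borelSubgroup K ⊓ twistedG2 K (3 ^ m))).subgroupOf (twistedG2 K (3 ^ m))) ≠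
      ⊥ := by
    intro hbot
    rw [hbot, Subgroup.mem_bot] at hmem
    exact hne hmem
  exact Nat.succ_le_of_lt ((Subgroup.one_lt_card_iff_ne_bot _).mpr hnb)

end reeC

end Cfsg.Agent.Helper6
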