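import Cfsg.Agent.Helper17.ChevSL2Hom

/-!
# Facts on `SL₂(K)` used for the involution centralisers of the small Ree groups
-/

set_option autoImplicit false

namespace Cfsg.Agent.Helper6

open Cfsg Cfsg.Lie Cfsg.Agent.Helper17 Matrix

section reeSL

variable {K : Type*} [Field K]

/-- The lower unitriangular matrix `[[1,0],[t,1]]` in `SL₂(K)`. -/
def rsU (t : K) : Matrix.SpecialLinearGroup (Fin 2) K := ⟨sl2U t, by simp [sl2U, Matrix.det_fin_two]⟩

/-- The upper unitriangular matrix `[[1,t],[0,1]]` in `SL₂(K)`. -/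
def rsL (t : K) : Matrix.SpecialLinearGroup (Fin 2) K := ⟨sl2L t, by simp [sl2L, Matrix.det_fin_two]⟩

/-- The diagonal matrix `[[c⁻¹,0],[0,c]]` in `SL₂(K)`. -/
def rsD (c : Kˣ) : Matrix.SpecialLinearGroup (Fin 2) K :=
  ⟨sl2D (c : K), by simp [sl2D, Matrix.det_fin_two]⟩

/-- The matrix `[[0,-1],[1,0]]` in `SL₂(K)`. -/
def rsW : Matrix.SpecialLinearGroup (Fin 2) K := ⟨!![0, -1; 1, 0], by simp [Matrix.det_fin_two]⟩

theorem rsU_val (t : K) : ((rsU t : Matrix.SpecialLinearGroup (Fin 2) K) : Matrix (Fin 2) (Fin 2) K) =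
    sl2U t := rfl

theorem rsL_val (t : K) : ((rsL t : Matrix.SpecialLinearGroup (Fin 2) K) : Matrix (Fin 2) (Fin 2) K) =
    sl2L t := rfl

theorem rsD_val (c : Kˣ) : ((rsD c : Matrix.SpecialLinearGroup (Fin 2) K) : Matrix (Fin 2) (Fin 2) K) =
    sl2D (c : K) := rfl

theorem rsW_val : ((rsW : Matrix.SpecialLinearGroup (Fin 2) K) : Matrix (Fin 2) (Fin 2) K) =
    !![0, -1; 1, 0] := rfl

/-- The lower triangular elements of `SL₂(K)`. -/
theorem rs_form_zero (M : Matrix.SpecialLinearGroup (Fin 2) K)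
    (h : (M : Matrix (Fin 2) (Fin 2) K) 0 1 = 0) : ∃ (t : K) (c : Kˣ), M = rsU t * rsD c := by
  have hdet : (M : Matrix (Fin 2) (Fin 2) K) 0 0 * (M : Matrix (Fin 2) (Fin 2) K) 1 1 -
      (M : Matrix (Fin 2) (Fin 2) K) 0 1 * (M : Matrix (Fin 2) (Fin 2) K) 1 0 = 1 := by
    rw [← Matrix.det_fin_two]; exact M.2
  rw [h, zero_mul, sub_zero] at hdet
  have ha : (M : Matrix (Fin 2) (Fin 2) K) 0 0 ≠ 0 := left_ne_zero_of_mul_eq_one hdet
  have hd : (M : Matrix (Fin 2) (Fin 2) K) 1 1 ≠ 0 := right_ne_zero_of_mul_eq_one hdet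
  refine ⟨(M : Matrix (Fin 2) (Fin 2) K) 1 0 / (M : Matrix (Fin 2) (Fin 2) K) 0 0,
    Units.mk0 _ hd, ?_⟩
  have hinv : ((M : Matrix (Fin 2) (Fin 2) K) 1 1)⁻¹ = (M : Matrix (Fin 2) (Fin 2) K) 0 0 :=
    (eq_inv_of_mul_eq_one_left hdet).symm
  refine Subtype.ext ?_
  show (M : Matrix (Fin 2) (Fin 2) K) = sl2U _ * sl2D _
  ext i j
  fin_cases i <;> fin_cases j
  · simp [sl2U, sl2D, Matrix.mul_apply, Fin.sum_univ_two, hinv]
  · simp [sl2U, sl2D, Matrix.mul_apply, Fin.sum_univ_two, h]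
  · simp [sl2U, sl2D, Matrix.mul_apply, Fin.sum_univ_two, hinv]
    field_simp
  · simp [sl2U, sl2D, Matrix.mul_apply, Fin.sum_univ_two]

/-- The elements of `SL₂(K)` outside the lower triangular subgroup. -/
theorem rs_form_ne (M : Matrix.SpecialLinearGroup (Fin 2) K)
    (h : (M : Matrix (Fin 2) (Fin 2) K) 0 1 ≠ 0) :
    ∃ (t : K) (c : Kˣ) (t' : K), M = rsU t * rsD c * rsW * rsU t' := by
  have hdet : (M : Matrix (Fin 2) (Fin 2) K) 0 0 * (M : Matrix (Fin 2) (Fin 2) K) 1 1 -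
      (M : Matrix (Fin 2) (Fin 2) K) 0 1 * (M : Matrix (Fin 2) (Fin 2) K) 1 0 = 1 := by
    rw [← Matrix.det_fin_two]; exact M.2
  have hb' : -((M : Matrix (Fin 2) (Fin 2) K) 0 1)⁻¹ ≠ 0 := neg_ne_zero.mpr (inv_ne_zero h)
  refine ⟨(M : Matrix (Fin 2) (Fin 2) K) 1 1 / (M : Matrix (Fin 2) (Fin 2) K) 0 1,
    Units.mk0 _ hb', (M : Matrix (Fin 2) (Fin 2) K) 0 0 / (M : Matrix (Fin 2) (Fin 2) K) 0 1, ?_⟩
  refine Subtype.ext ?_
  show (M : Matrix (Fin 2) (Fin 2) K) = sl2U _ * sl2D _ * !![0, -1; 1, 0] * sl2U _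
  have hinv : (-((M : Matrix (Fin 2) (Fin 2) K) 0 1)⁻¹)⁻¹ = -(M : Matrix (Fin 2) (Fin 2) K) 0 1 := by
    rw [inv_neg, inv_inv]
  ext i j
  fin_cases i <;> fin_cases j
  · simp [sl2U, sl2D, Matrix.mul_apply, Fin.sum_univ_two, hinv]
    field_simp
  · simp [sl2U, sl2D, Matrix.mul_apply, Fin.sum_univ_two, hinv]
  · simp [sl2U, sl2D, Matrix.mul_apply, Fin.sum_univ_two, hinv]
    field_simp
    linear_combination -hdet
  · simp [sl2U, sl2D, Matrix.mul_apply, Fin.sum_univ_two, hinv]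
    field_simp

/-- The words of the generators. -/
theorem rs_word_U (r : ℕ) (t : K) : sl2Word r [(r, t)] = sl2U t := by
  simp [sl2Word]

theorem rs_word_L {r s : ℕ} (hs : s ≠ r) (t : K) : sl2Word r [(s, t)] = sl2L t := by
  simp [sl2Word, hs]

theorem rs_word_D (D : ChevalleyDatum) {r : ℕ} (hr : D.neg r ≠ r) (c : K) (hc : c ≠ 0) :
    sl2Word r (D.hWord r c) = sl2D c := by
  unfold sl2Word ChevalleyDatum.hWord ChevalleyDatum.nWord
  simp only [List.cons_append, List.nil_append, List.map_cons, List.map_nil, List.prod_cons,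
    List.prod_nil, if_true, if_neg hr]
  exact sl2_hword c hc

theorem rs_word_W (D : ChevalleyDatum) {r : ℕ} (hr : D.neg r ≠ r) :
    sl2Word r (D.nWord r (1 : K)) = !![0, -1; 1, 0] := by
  unfold sl2Word ChevalleyDatum.nWord
  simp only [List.map_cons, List.map_nil, List.prod_cons, List.prod_nil, if_true, if_neg hr]
  simp only [sl2U, sl2L, Matrix.one_fin_two, Matrix.mul_fin_two]
  ext i j; fin_cases i <;> fin_cases j <;> simp

/-- Cayley–Hamilton for a matrix of determinant one. -/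
theorem rs_sq (A : Matrix (Fin 2) (Fin 2) K) (hdet : A.det = 1) :
    A * A = (A 0 0 + A 1 1) • A - 1 := by
  rw [Matrix.det_fin_two] at hdet
  ext i j
  fin_cases i <;> fin_cases j
  · simp [Matrix.mul_apply, Fin.sum_univ_two]
    linear_combination -hdet
  · simp [Matrix.mul_apply, Fin.sum_univ_two]
    ring
  · simp [Matrix.mul_apply, Fin.sum_univ_two]
    ring
  · simp [Matrix.mul_apply, Fin.sum_univ_two]
    linear_combination -hdet

theorem rs_pow_succ (A : Matrix (Fin 2) (Fin 2) K) (τ : K) (h : A * A = τ • A - 1) (p r : K)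
    (k : ℕ) (hk : A ^ k = p • A + r • (1 : Matrix (Fin 2) (Fin 2) K)) :
    A ^ (k + 1) = (τ * p + r) • A + (-p) • (1 : Matrix (Fin 2) (Fin 2) K) := by
  rw [pow_succ, hk, add_mul, smul_mul_assoc, h, smul_mul_assoc, one_mul]
  module

/-- If 2 is not a square in `K`, a matrix of determinant one whose eighth power is `±1` has
square `±1`. -/
theorem rs_pow_eight (h2 : ¬ IsSquare (2 : K)) (A : Matrix (Fin 2) (Fin 2) K) (hdet : A.det = 1)
    (h8 : A ^ 8 = 1 ∨ A ^ 8 = -1) : A ^ 2 = 1 ∨ A ^ 2 = -1 := by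
  set τ := A 0 0 + A 1 1 with hτ
  have hsq := rs_sq A hdet
  have e1 : A ^ 1 = (1 : K) • A + (0 : K) • (1 : Matrix (Fin 2) (Fin 2) K) := by
    rw [pow_one, one_smul, zero_smul, add_zero]
  have e2 := rs_pow_succ A τ hsq _ _ _ e1
  have e3 := rs_pow_succ A τ hsq _ _ _ e2
  have e4 := rs_pow_succ A τ hsq _ _ _ e3
  have e5 := rs_pow_succ A τ hsq _ _ _ e4
  have e6 := rs_pow_succ A τ hsq _ _ _ e5
  have e7 := rs_pow_succ A τ hsq _ _ _ e6
  have e8 := rs_pow_succ A τ hsq _ _ _ e7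
  -- the coefficient of `A` in `A ^ 8`
  have hp : ∀ p r ε : K, A ^ 8 = p • A + r • (1 : Matrix (Fin 2) (Fin 2) K) →
      A ^ 8 = ε • (1 : Matrix (Fin 2) (Fin 2) K) → ε * ε = 1 → p ≠ 0 → A ^ 2 = 1 := by
    intro p r ε hA hε hεε hp0
    have hA' : A = ((ε - r) / p) • (1 : Matrix (Fin 2) (Fin 2) K) := by
      have h1 : p • A = (ε - r) • (1 : Matrix (Fin 2) (Fin 2) K) := by
        rw [hA] at hε
        rw [sub_smul, ← hε]; module
      have h2 : A = p⁻¹ • (p • A) := by rw [smul_smul, inv_mul_cancel₀ hp0, one_smul]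
      rw [h2, h1, smul_smul]; congr 1; field_simp
    have hc : ((ε - r) / p) * ((ε - r) / p) = 1 := by
      have := hdet
      rw [hA', Matrix.det_smul, Matrix.det_one, Fintype.card_fin, mul_one, pow_two] at this
      exact this
    rw [hA', pow_two, smul_mul_smul_comm, hc, one_smul, mul_one]
  have e8' : A ^ 8 = (τ * (τ ^ 2 - 2) * ((τ ^ 2 - 2) ^ 2 - 2)) • A +
      (-(τ ^ 6 - 5 * τ ^ 4 + 6 * τ ^ 2 - 1)) • (1 : Matrix (Fin 2) (Fin 2) K) := by
    rw [show (8 : ℕ) = 1 + 1 + 1 + 1 + 1 + 1 + 1 + 1 from rfl, e8]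
    congr 2 <;> ring
  by_cases hp0 : τ * (τ ^ 2 - 2) * ((τ ^ 2 - 2) ^ 2 - 2) = 0
  · right
    have hτ0 : τ = 0 := by
      rcases mul_eq_zero.mp hp0 with h | h
      · rcases mul_eq_zero.mp h with h | h
        · exact h
        · exact absurd ⟨τ, by linear_combination -h⟩ h2
      · exact absurd ⟨τ ^ 2 - 2, by linear_combination -h⟩ h2
    rw [pow_two, hsq, ← hτ, hτ0, zero_smul, zero_sub]
  · left
    rcases h8 with h | h
    · exact hp _ _ 1 e8' (by rw [h, one_smul]) (by ring) hp0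
    · exact hp _ _ (-1) e8' (by rw [h, neg_smul, one_smul]) (by ring) hp0

end reeSL

end Cfsg.Agent.Helper6
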