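import Cfsg.Agent.Helper6.ReeC
import Cfsg.Agent.Helper6.ReeSL
import Cfsg.Agent.Helper17.ChevRankOne

/-!
# The small Ree groups: the subgroup `PSL₂(q)` in the centraliser of the involution `h(-1)`
-/

set_option autoImplicit false

namespace Cfsg.Agent.Helper6

open Cfsg Cfsg.Lie Cfsg.Agent.Helper36 Cfsg.Agent.Helper17 Matrix

section reeD

variable {K : Type*} [Field K]

/-- The homomorphism `SL₂(K) → G₂(K)` of a root. -/
noncomputable def g2Phi (K : Type*) [Field K] (r : ℕ) (hr : r < chevG2.nroots) :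
    Matrix.SpecialLinearGroup (Fin 2) K →* GL chevG2.Idx K :=
  (exists_sl2Hom (F := K) (rankOne_G2 hr) (cartanFacts_of_mem g2_mem)).choose

theorem g2Phi_spec (hX : XAdd chevG2 K) {r : ℕ} (hr : r < chevG2.nroots)
    (g : Matrix.SpecialLinearGroup (Fin 2) K) (w : List (ℕ × K))
    (hw : ∀ p ∈ w, p.1 = r ∨ p.1 = chevG2.neg r)
    (h : sl2Word r w = (g : Matrix (Fin 2) (Fin 2) K)) : g2Phi K r hr g = wordGL hX w := by
  apply Units.ext
  rw [wordGL_val]
  exact (exists_sl2Hom (F := K) (rankOne_G2 hr) (cartanFacts_of_mem g2_mem)).choose_spec g w hw h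

theorem g2Phi_U (hX : XAdd chevG2 K) {r : ℕ} (hr : r < chevG2.nroots) (t : K) :
    g2Phi K r hr (rsU t) = xGL hX r t := by
  rw [g2Phi_spec hX hr (rsU t) [(r, t)] (by simp) (rs_word_U r t), wordGL_cons, wordGL_nil,
    mul_one]

theorem g2Phi_D (hX : XAdd chevG2 K) {r : ℕ} (hr : r < chevG2.nroots) (c : Kˣ) :
    g2Phi K r hr (rsD c) = hGL hX r (c : K) := by
  rw [g2Phi_spec hX hr (rsD c) (chevG2.hWord r (c : K)) ?_
    (rs_word_D chevG2 (rankOne_G2 hr).neg_ne (c : K) c.ne_zero)]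
  · rfl
  · intro p hp
    unfold ChevalleyDatum.hWord ChevalleyDatum.nWord at hp
    simp only [List.cons_append, List.nil_append, List.mem_cons, List.not_mem_nil, or_false] at hp
    rcases hp with rfl | rfl | rfl | rfl | rfl | rfl <;> simp

theorem g2Phi_W (hX : XAdd chevG2 K) {r : ℕ} (hr : r < chevG2.nroots) :
    g2Phi K r hr rsW = nGL hX r 1 := by
  rw [g2Phi_spec hX hr rsW (chevG2.nWord r (1 : K)) ?_
    (rs_word_W chevG2 (rankOne_G2 hr).neg_ne)]
  · rfl
  · intro p hp
    unfold ChevalleyDatum.nWord at hp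
    simp only [List.mem_cons, List.not_mem_nil, or_false] at hp
    rcases hp with rfl | rfl | rfl <;> simp

/-- Words in commuting root elements commute. -/
theorem wordGL_comm_of (hX : XAdd chevG2 K) (w w' : List (ℕ × K))
    (h : ∀ p ∈ w, ∀ p' ∈ w', Commute (xGL hX p.1 p.2) (xGL hX p'.1 p'.2)) :
    Commute (wordGL hX w) (wordGL hX w') := by
  induction w with
  | nil => rw [wordGL_nil]; exact Commute.one_left _
  | cons p w ih =>
    rw [wordGL_cons]
    refine Commute.mul_left ?_ (ih (fun q hq q' hq' => h q (List.mem_cons_of_mem _ hq) q' hq'))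
    have hp : ∀ p' ∈ w', Commute (xGL hX p.1 p.2) (xGL hX p'.1 p'.2) :=
      fun p' hp' => h p List.mem_cons_self p' hp'
    clear ih h
    induction w' with
    | nil => rw [wordGL_nil]; exact Commute.one_right _
    | cons p' w' ih' =>
      rw [wordGL_cons]
      exact Commute.mul_right (hp p' List.mem_cons_self)
        (ih' (fun q hq => hp q (List.mem_cons_of_mem _ hq)))

variable [CharP K 3]

/-- The images of the root homomorphisms of the orthogonal roots `a + b` and `3a + b` commute. -/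
theorem g2Phi_comm (A B : Matrix.SpecialLinearGroup (Fin 2) K) :
    Commute (g2Phi K 8 (by decide) A) (g2Phi K 10 (by decide) B) := by
  have hX := xAdd_of_mem (F := K) g2_mem
  obtain ⟨w, hw, hwA⟩ := exists_sl2Word (m := 8) (m' := 3) (by decide) A.1 A.2
  obtain ⟨w', hw', hwB⟩ := exists_sl2Word (m := 10) (m' := 1) (by decide) B.1 B.2
  rw [g2Phi_spec hX (by decide) A w hw hwA, g2Phi_spec hX (by decide) B w' hw' hwB]
  apply wordGL_comm_of
  intro p hp p' hp'
  rcases hw p hp with h1 | h1 <;> rcases hw' p' hp' with h2 | h2 <;> rw [h1, h2]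
  · exact g2_comm_nil hX (by decide) (by decide) (by decide) (by decide) (by decide) _ _
  · exact g2_comm_8_1 hX _ _
  · exact g2_comm_3_10 hX _ _
  · exact g2_comm_nil hX (by decide) (by decide) (by decide) (by decide) (by decide) _ _

/-- The twisted diagonal embedding `M ↦ φ_{a+b}(M^θ) φ_{3a+b}(M)` of `SL₂(K)`. -/
noncomputable def reePhi (K : Type*) [Field K] [CharP K 3] (m : ℕ) :
    Matrix.SpecialLinearGroup (Fin 2) K →* GL chevG2.Idx K where
  toFun M := g2Phi K 8 (by decide) (Matrix.SpecialLinearGroup.map (frT K m) M) *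
    g2Phi K 10 (by decide) M
  map_one' := by simp
  map_mul' A B := by
    rw [map_mul, map_mul, map_mul]
    exact (g2Phi_comm _ _).mul_mul_mul_comm _ _

theorem reePhi_apply (m : ℕ) (M : Matrix.SpecialLinearGroup (Fin 2) K) :
    reePhi K m M = g2Phi K 8 (by decide) (Matrix.SpecialLinearGroup.map (frT K m) M) *
      g2Phi K 10 (by decide) M := rfl

theorem rsU_map (m : ℕ) (t : K) :
    Matrix.SpecialLinearGroup.map (frT K m) (rsU t) = rsU (frT K m t) := by
  apply Subtype.ext
  show (frT K m).mapMatrix (sl2U t) = sl2U (frT K m t)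
  ext i j
  fin_cases i <;> fin_cases j <;> simp [sl2U]

theorem rsD_map (m : ℕ) (c : Kˣ) :
    Matrix.SpecialLinearGroup.map (frT K m) (rsD c) = rsD (Units.map (frT K m : K →* K) c) := by
  apply Subtype.ext
  show (frT K m).mapMatrix (sl2D (c : K)) = sl2D ((Units.map (frT K m : K →* K) c : Kˣ) : K)
  ext i j
  fin_cases i <;> fin_cases j <;> simp [sl2D]

theorem rsW_map (m : ℕ) :
    Matrix.SpecialLinearGroup.map (frT K m) (rsW : Matrix.SpecialLinearGroup (Fin 2) K) = rsW := by
  apply Subtype.ext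
  show (frT K m).mapMatrix (!![0, -1; 1, 0] : Matrix (Fin 2) (Fin 2) K) = !![0, -1; 1, 0]
  ext i j
  fin_cases i <;> fin_cases j <;> simp

theorem reePhi_U (hX : XAdd chevG2 K) (m : ℕ) (t : K) :
    reePhi K m (rsU t) = wordGL hX (reeWordU (3 ^ m) 0 t 0) := by
  rw [reePhi_apply, rsU_map, g2Phi_U hX, g2Phi_U hX, reeU010]

theorem reePhi_W (hX : XAdd chevG2 K) (m : ℕ) : reePhi K m rsW = reeN0 hX := by
  rw [reePhi_apply, rsW_map, g2Phi_W hX, g2Phi_W hX]
  rfl

variable [Fintype K] {m : ℕ} {σ : ↥(chevG2.group K) →* ↥(chevG2.group K)}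

theorem reePhi_D (hK : Fintype.card K = 3 ^ (2 * m + 1)) (hX : XAdd chevG2 K) (c : Kˣ) :
    reePhi K m (rsD c) = hGL hX 7 (frT K m (frL K m (c : K) * (c : K))) *
      hGL hX 6 (frL K m (c : K) * (c : K)) := by
  have hHD := Cfsg.Agent.Helper17.hDiag_of_mem (F := K) g2_mem
  have hc : (c : K) ≠ 0 := c.ne_zero
  have hTc : frT K m (c : K) ≠ 0 := (map_ne_zero _).mpr hc
  have hLc : frL K m (c : K) ≠ 0 := (map_ne_zero _).mpr hc
  rw [reePhi_apply, rsD_map, g2Phi_D hX, g2Phi_D hX]
  have e1 : ((Units.map (frT K m : K →* K) c : Kˣ) : K) = frT K m (c : K) := rfl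
  rw [e1, g2_h8 hX hTc, g2_h10 hX hc, frT_pow3, map_mul, frT_frL hK,
    ← hGL_mul hX hHD (r := 7) (by decide) hc hTc, ← hGL_mul hX hHD (r := 6) (by decide) hLc hc]
  have c1 := g2_hGL_comm hX (r := 6) (s := 7) (by decide) (by decide) hLc hc
  have c2 := g2_hGL_comm hX (r := 7) (s := 7) (by decide) (by decide) hc hTc
  calc hGL hX 7 (frT K m (c : K)) * hGL hX 6 (frL K m (c : K)) *
        (hGL hX 7 (c : K) * hGL hX 6 (c : K))
      = hGL hX 7 (frT K m (c : K)) * (hGL hX 6 (frL K m (c : K)) * hGL hX 7 (c : K)) *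
        hGL hX 6 (c : K) := by simp only [mul_assoc]
    _ = hGL hX 7 (frT K m (c : K)) * (hGL hX 7 (c : K) * hGL hX 6 (frL K m (c : K))) *
        hGL hX 6 (c : K) := by rw [c1.eq]
    _ = (hGL hX 7 (frT K m (c : K)) * hGL hX 7 (c : K)) * (hGL hX 6 (frL K m (c : K)) *
        hGL hX 6 (c : K)) := by simp only [mul_assoc]
    _ = _ := by rw [c2.eq]

end reeD

end Cfsg.Agent.Helper6
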