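import Cfsg.Agent.Helper6.ReeD

/-!
# The small Ree groups: the centraliser of the involution `h(-1)` (elements)
-/

set_option autoImplicit false

namespace Cfsg.Agent.Helper6

open Cfsg Cfsg.Lie Cfsg.Agent.Helper36 Cfsg.Agent.Helper17 Matrix

/-- The homomorphism from `Z₂` determined by an element of square one. -/
def zmod2Hom {M : Type*} [Monoid M] (a : M) (ha : a * a = 1) : Multiplicative (ZMod 2) →* M where
  toFun x := a ^ (Multiplicative.toAdd x).val
  map_one' := by simp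
  map_mul' x y := by
    rw [← pow_add]
    have h2 : ∀ n : ℕ, a ^ n = a ^ (n % 2) := by
      intro n
      conv_lhs => rw [← Nat.div_add_mod n 2, pow_add, pow_mul, pow_two, ha, one_pow, one_mul]
    rw [h2 ((Multiplicative.toAdd x).val + (Multiplicative.toAdd y).val), toAdd_mul, ZMod.val_add]

theorem zmod2Hom_apply {M : Type*} [Monoid M] (a : M) (ha : a * a = 1)
    (x : Multiplicative (ZMod 2)) : zmod2Hom a ha x = a ^ (Multiplicative.toAdd x).val := rfl

theorem zmod2_cases (x : Multiplicative (ZMod 2)) : x = 1 ∨ x = Multiplicative.ofAdd 1 := by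
  have h : ∀ y : ZMod 2, y = 0 ∨ y = 1 := by decide
  rcases h (Multiplicative.toAdd x) with h0 | h1
  · left
    exact Multiplicative.toAdd.injective h0
  · right
    exact Multiplicative.toAdd.injective h1

theorem zmod2Hom_one' {M : Type*} [Monoid M] (a : M) (ha : a * a = 1) :
    zmod2Hom a ha (Multiplicative.ofAdd 1) = a := by
  rw [zmod2Hom_apply]
  simp [ZMod.val_one]

theorem zmod2_sq (x : Multiplicative (ZMod 2)) : x * x = 1 := by
  have h : ∀ y : ZMod 2, y + y = 0 := by decide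
  exact Multiplicative.toAdd.injective (h (Multiplicative.toAdd x))

section reeE

variable {K : Type*} [Field K] [CharP K 3] [Fintype K] {m : ℕ}
  {σ : ↥(chevG2.group K) →* ↥(chevG2.group K)}

theorem reeInv_eq (hK : Fintype.card K = 3 ^ (2 * m + 1)) (hX : XAdd chevG2 K) :
    reeInv K hX m = ((reeHHom (m := m) hK hX (Units.mk0 (-1) (neg_ne_zero.mpr one_ne_zero)) :
      ↥(chevG2.diagonalSubgroup K ⊓ twistedG2 K (3 ^ m))) : GL chevG2.Idx K) := rfl

theorem reeInv_sq (hK : Fintype.card K = 3 ^ (2 * m + 1)) (hX : XAdd chevG2 K) :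
    reeInv K hX m * reeInv K hX m = 1 := by
  rw [reeInv_eq hK hX, ← Subgroup.coe_mul, ← map_mul]
  have : Units.mk0 (-1 : K) (neg_ne_zero.mpr one_ne_zero) *
      Units.mk0 (-1 : K) (neg_ne_zero.mpr one_ne_zero) = 1 := by
    apply Units.ext; simp
  rw [this, map_one]; rfl

/-- `h(-1)` is the only involution of `H¹`. -/
theorem ree_H_inv_unique (hK : Fintype.card K = 3 ^ (2 * m + 1)) (hσ : ReeSig m σ)
    (hX : XAdd chevG2 K) {g : GL chevG2.Idx K} (hgH : g ∈ chevG2.diagonalSubgroup K)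
    (hgG : g ∈ twistedG2 K (3 ^ m)) (hg1 : g ≠ 1) (hg2 : g * g = 1) : g = reeInv K hX m := by
  obtain ⟨z, hz, rfl⟩ := ree_H_fixed hK hσ hX hgH (twistedG2_le_sigFix hK hσ hgG).2
  have e1 : reeHHom (m := m) hK hX (Units.mk0 z hz * Units.mk0 z hz) = 1 := by
    rw [map_mul]; exact Subtype.ext hg2
  have e2 : Units.mk0 z hz * Units.mk0 z hz = 1 :=
    (reeHHom_bij hK hσ hX).1 (by rw [e1, map_one])
  have hzz : z * z = 1 := by
    have := congrArg Units.val e2
    simpa using this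
  have hz' : (z - 1) * (z + 1) = 0 := by linear_combination hzz
  rcases mul_eq_zero.mp hz' with h | h
  · exfalso
    apply hg1
    have : z = 1 := by linear_combination h
    rw [this, map_one, g2_hGL_one hX (by decide), g2_hGL_one hX (by decide), mul_one]
  · have : z = -1 := by linear_combination h
    rw [this]; rfl

/-- `h(-1)` commutes with `H¹`. -/
theorem reeInv_comm_H (hK : Fintype.card K = 3 ^ (2 * m + 1)) (hσ : ReeSig m σ)
    (hX : XAdd chevG2 K) {h : GL chevG2.Idx K} (hH : h ∈ chevG2.diagonalSubgroup K)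
    (hG : h ∈ twistedG2 K (3 ^ m)) : Commute (reeInv K hX m) h := by
  obtain ⟨z, hz, rfl⟩ := ree_H_fixed hK hσ hX hH (twistedG2_le_sigFix hK hσ hG).2
  have c : Commute (reeHHom (m := m) hK hX (Units.mk0 (-1) (neg_ne_zero.mpr one_ne_zero)))
      (reeHHom (m := m) hK hX (Units.mk0 z hz)) := (Commute.all _ _).map (reeHHom (m := m) hK hX)
  exact congrArg Subtype.val c.eq

/-- `h(-1)` commutes with `n₀`. -/
theorem reeInv_comm_N0 (hK : Fintype.card K = 3 ^ (2 * m + 1)) (hσ : ReeSig m σ)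
    (hX : XAdd chevG2 K) : Commute (reeInv K hX m) (reeN0 hX) := by
  have R := bRel_of_mem (F := K) g2_mem
  have h1 : (reeN0 hX)⁻¹ * reeInv K hX m * reeN0 hX ∈ chevG2.diagonalSubgroup K :=
    R.N_conj_H' _ (reeN0_mem_N hX) _ (reeInv_mem_H hX m)
  have h2 : (reeN0 hX)⁻¹ * reeInv K hX m * reeN0 hX ∈ twistedG2 K (3 ^ m) :=
    mul_mem (mul_mem (inv_mem (reeN0_mem_G1 hX m)) (reeInv_mem_G1 hK hX)) (reeN0_mem_G1 hX m)
  have h3 : (reeN0 hX)⁻¹ * reeInv K hX m * reeN0 hX ≠ 1 := by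
    intro h
    apply reeInv_ne_one hX m
    have e : reeInv K hX m = reeN0 hX * ((reeN0 hX)⁻¹ * reeInv K hX m * reeN0 hX) *
        (reeN0 hX)⁻¹ := by group
    rw [e, h]; group
  have h4 : (reeN0 hX)⁻¹ * reeInv K hX m * reeN0 hX *
      ((reeN0 hX)⁻¹ * reeInv K hX m * reeN0 hX) = 1 := by
    have e : (reeN0 hX)⁻¹ * reeInv K hX m * reeN0 hX *
        ((reeN0 hX)⁻¹ * reeInv K hX m * reeN0 hX) =
        (reeN0 hX)⁻¹ * (reeInv K hX m * reeInv K hX m) * reeN0 hX := by group
    rw [e, reeInv_sq hK hX]; group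
  have h5 := ree_H_inv_unique hK hσ hX h1 h2 h3 h4
  show reeInv K hX m * reeN0 hX = reeN0 hX * reeInv K hX m
  nth_rewrite 2 [← h5]
  group

/-- The values of the embedding on the torus of `SL₂`. -/
theorem reePhi_D_mem (hK : Fintype.card K = 3 ^ (2 * m + 1)) (hX : XAdd chevG2 K) (c : Kˣ) :
    reePhi K m (rsD c) ∈ chevG2.diagonalSubgroup K ⊓ twistedG2 K (3 ^ m) := by
  rw [reePhi_D hK hX]
  have hz : frL K m (c : K) * (c : K) ≠ 0 :=
    mul_ne_zero ((map_ne_zero _).mpr c.ne_zero) c.ne_zero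
  exact Subgroup.mem_inf.mpr ⟨mul_mem (hGL_mem hX (by decide) ((map_ne_zero _).mpr hz))
    (hGL_mem hX (by decide) hz), reeH_mem hK hX hz⟩

/-- The Bruhat form of the image of a lower triangular matrix. -/
theorem reePhi_form_zero (hK : Fintype.card K = 3 ^ (2 * m + 1)) (hX : XAdd chevG2 K)
    (M : Matrix.SpecialLinearGroup (Fin 2) K) (h : (M : Matrix (Fin 2) (Fin 2) K) 0 1 = 0) :
    ∃ (t : K) (c : Kˣ), M = rsU t * rsD c ∧
      reePhi K m M = wordGL hX (reeWordU (3 ^ m) 0 t 0) * reePhi K m (rsD c) := by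
  obtain ⟨t, c, rfl⟩ := rs_form_zero M h
  exact ⟨t, c, rfl, by rw [map_mul, reePhi_U hX]⟩

/-- The Bruhat form of the image of a matrix which is not lower triangular. -/
theorem reePhi_form_ne (hK : Fintype.card K = 3 ^ (2 * m + 1)) (hX : XAdd chevG2 K)
    (M : Matrix.SpecialLinearGroup (Fin 2) K) (h : (M : Matrix (Fin 2) (Fin 2) K) 0 1 ≠ 0) :
    ∃ (t : K) (c : Kˣ) (t' : K), M = rsU t * rsD c * rsW * rsU t' ∧
      reePhi K m M = wordGL hX (reeWordU (3 ^ m) 0 t 0) * reePhi K m (rsD c) * reeN0 hX *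
        wordGL hX (reeWordU (3 ^ m) 0 t' 0) := by
  obtain ⟨t, c, t', rfl⟩ := rs_form_ne M h
  exact ⟨t, c, t', rfl, by rw [map_mul, map_mul, map_mul, reePhi_U hX, reePhi_U hX, reePhi_W hX]⟩

/-- The image of the embedding lies in `G¹`. -/
theorem reePhi_mem_G1 (hK : Fintype.card K = 3 ^ (2 * m + 1)) (M : Matrix.SpecialLinearGroup (Fin 2) K) :
    reePhi K m M ∈ twistedG2 K (3 ^ m) := by
  have hX := xAdd_of_mem (F := K) g2_mem
  by_cases h : (M : Matrix (Fin 2) (Fin 2) K) 0 1 = 0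
  · obtain ⟨t, c, -, e⟩ := reePhi_form_zero hK hX M h
    rw [e]
    exact mul_mem (reeU_mem_G1 hX _ _ _) (reePhi_D_mem hK hX c).2
  · obtain ⟨t, c, t', -, e⟩ := reePhi_form_ne hK hX M h
    rw [e]
    exact mul_mem (mul_mem (mul_mem (reeU_mem_G1 hX _ _ _) (reePhi_D_mem hK hX c).2)
      (reeN0_mem_G1 hX m)) (reeU_mem_G1 hX _ _ _)

/-- The image of the embedding centralises `h(-1)`. -/
theorem reeInv_comm_Phi (hK : Fintype.card K = 3 ^ (2 * m + 1)) (hσ : ReeSig m σ)
    (hX : XAdd chevG2 K) (M : Matrix.SpecialLinearGroup (Fin 2) K) :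
    Commute (reeInv K hX m) (reePhi K m M) := by
  have cU : ∀ t : K, Commute (reeInv K hX m) (wordGL hX (reeWordU (3 ^ m) 0 t 0)) :=
    fun t => reeInv_comm hK hσ hX t
  have cD : ∀ c : Kˣ, Commute (reeInv K hX m) (reePhi K m (rsD c)) :=
    fun c => reeInv_comm_H hK hσ hX (reePhi_D_mem hK hX c).1 (reePhi_D_mem hK hX c).2
  by_cases h : (M : Matrix (Fin 2) (Fin 2) K) 0 1 = 0
  · obtain ⟨t, c, -, e⟩ := reePhi_form_zero hK hX M h
    rw [e]
    exact (cU t).mul_right (cD c)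
  · obtain ⟨t, c, t', -, e⟩ := reePhi_form_ne hK hX M h
    rw [e]
    exact (((cU t).mul_right (cD c)).mul_right (reeInv_comm_N0 hK hσ hX)).mul_right (cU t')

/-- The images of matrices which are not lower triangular lie outside `B`. -/
theorem reePhi_not_B (hK : Fintype.card K = 3 ^ (2 * m + 1)) (hX : XAdd chevG2 K)
    (M : Matrix.SpecialLinearGroup (Fin 2) K) (h : (M : Matrix (Fin 2) (Fin 2) K) 0 1 ≠ 0) :
    reePhi K m M ∉ chevG2.borelSubgroup K := by
  obtain ⟨t, c, t', -, e⟩ := reePhi_form_ne hK hX M h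
  rw [e]
  intro hB
  apply reeN0_not_mem_B hX
  have hU : ∀ s : K, wordGL hX (reeWordU (3 ^ m) 0 s 0) ∈ chevG2.borelSubgroup K :=
    fun s => BRel.U_le_B _ _ (reeU_mem_U hX _ _ _)
  have hD : reePhi K m (rsD c) ∈ chevG2.borelSubgroup K :=
    BRel.H_le_B _ _ (reePhi_D_mem hK hX c).1
  have e2 : reeN0 hX = (wordGL hX (reeWordU (3 ^ m) 0 t 0) * reePhi K m (rsD c))⁻¹ *
      (wordGL hX (reeWordU (3 ^ m) 0 t 0) * reePhi K m (rsD c) * reeN0 hX *
        wordGL hX (reeWordU (3 ^ m) 0 t' 0)) * (wordGL hX (reeWordU (3 ^ m) 0 t' 0))⁻¹ := by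
    group
  rw [e2]
  exact mul_mem (mul_mem (inv_mem (mul_mem (hU t) hD)) hB) (inv_mem (hU t'))

/-- `-1` is not a value of `c ↦ c^(3^(m+1)+1)`. -/
theorem ree_frL_mul_ne (hK : Fintype.card K = 3 ^ (2 * m + 1)) (c : K) :
    frL K m c * c ≠ -1 := by
  intro h
  have hsq : IsSquare (-1 : K) := by
    rw [← h, frL_apply]
    obtain ⟨k, hk⟩ : ∃ k, 3 ^ (m + 1) = 2 * k + 1 := by
      have : Odd (3 ^ (m + 1)) := Odd.pow (by decide)
      obtain ⟨k, hk⟩ := this
      exact ⟨k, hk⟩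
    refine ⟨c ^ (k + 1), ?_⟩
    rw [hk, ← pow_succ, ← pow_add]
    congr 1
    ring
  rw [FiniteField.isSquare_neg_one_iff, hK, three_pow_mod_four] at hsq
  exact hsq rfl

/-- `c^(3^(m+1)+1) = 1` forces `c² = 1`. -/
theorem ree_frL_mul_one (hK : Fintype.card K = 3 ^ (2 * m + 1)) {c : K}
    (h : frL K m c * c = 1) : c * c = 1 := by
  have h2 : frT K m c * c = 1 := by
    have := congrArg (frT K m) h
    rw [map_mul, frT_frL hK, map_one] at this
    rw [mul_comm]; exact this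
  have hB : frL K m c * c ^ 3 = 1 := by
    rw [← frT_pow3, ← mul_pow, h2, one_pow]
  linear_combination hB - (c * c) * h

/-- The kernel of the embedding: a lower triangular matrix whose image lies in `{1, h(-1)}`
is central, with image `1`. -/
theorem reePhi_ker_aux (hK : Fintype.card K = 3 ^ (2 * m + 1)) (hσ : ReeSig m σ)
    (hX : XAdd chevG2 K) (M : Matrix.SpecialLinearGroup (Fin 2) K)
    (h : reePhi K m M = 1 ∨ reePhi K m M = reeInv K hX m) :
    reePhi K m M = 1 ∧ M ∈ Subgroup.center (Matrix.SpecialLinearGroup (Fin 2) K) := by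
  have R := bRel_of_mem (F := K) g2_mem
  have hB : reePhi K m M ∈ chevG2.borelSubgroup K := by
    rcases h with h | h
    · rw [h]; exact one_mem _
    · rw [h]; exact BRel.H_le_B _ _ (reeInv_mem_H hX m)
  have h01 : (M : Matrix (Fin 2) (Fin 2) K) 0 1 = 0 := by
    by_contra h01
    exact reePhi_not_B hK hX M h01 hB
  obtain ⟨t, c, hM, e⟩ := reePhi_form_zero hK hX M h01
  have hD := reePhi_D_mem (m := m) hK hX c
  have hz : frL K m (c : K) * (c : K) ≠ 0 :=
    mul_ne_zero ((map_ne_zero _).mpr c.ne_zero) c.ne_zero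
  have key : ∀ h₀ : GL chevG2.Idx K, h₀ ∈ chevG2.diagonalSubgroup K → reePhi K m M = h₀ →
      wordGL hX (reeWordU (3 ^ m) 0 t 0) = 1 ∧ reePhi K m (rsD c) = h₀ := by
    intro h₀ hh₀ e0
    rw [e] at e0
    exact g2_UH_unique (reeU_mem_U hX _ _ _) (one_mem _) hD.1 hh₀ (by rw [e0, one_mul])
  have hcase : reePhi K m (rsD c) = 1 := by
    rcases h with h | h
    · exact (key 1 (one_mem _) h).2
    · exfalso
      have h1 := (key _ (reeInv_mem_H hX m) h).2
      rw [reePhi_D hK hX] at h1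
      obtain ⟨-, h2⟩ := g2_h_inj hX ((map_ne_zero _).mpr hz) hz
        ((map_ne_zero _).mpr (neg_ne_zero.mpr one_ne_zero)) (neg_ne_zero.mpr one_ne_zero) h1
      exact ree_frL_mul_ne hK _ h2
  have ht : t = 0 := by
    rcases h with h | h
    · exact (reeX_eq_one hX (key 1 (one_mem _) h).1).2.1
    · exact (reeX_eq_one hX (key _ (reeInv_mem_H hX m) h).1).2.1
  have hcc : (c : K) * (c : K) = 1 := by
    apply ree_frL_mul_one hK
    have h1 := hcase
    rw [reePhi_D hK hX] at h1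
    have h1' : hGL hX 7 (frT K m (frL K m (c : K) * (c : K))) *
        hGL hX 6 (frL K m (c : K) * (c : K)) = hGL hX 7 (frT K m 1) * hGL hX 6 1 := by
      rw [h1, map_one, g2_hGL_one hX (by decide), g2_hGL_one hX (by decide), mul_one]
    exact (g2_h_inj hX ((map_ne_zero _).mpr hz) hz ((map_ne_zero _).mpr one_ne_zero)
      one_ne_zero h1').2
  refine ⟨?_, ?_⟩
  · rw [e, ht, reeU_zero, one_mul, hcase]
  · rw [Matrix.SpecialLinearGroup.mem_center_iff]
    refine ⟨(c : K), by rw [Fintype.card_fin, pow_two, hcc], ?_⟩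
    rw [hM, ht]
    have hinv : ((c : K))⁻¹ = (c : K) := inv_eq_of_mul_eq_one_left hcc
    show (Matrix.scalar (Fin 2)) (c : K) = sl2U 0 * sl2D (c : K)
    ext i j
    fin_cases i <;> fin_cases j <;> simp [sl2U, sl2D, Matrix.mul_apply, Fin.sum_univ_two, hinv]

/-- The centre of `SL₂(K)` lies in the kernel of the embedding. -/
theorem reePhi_center (hK : Fintype.card K = 3 ^ (2 * m + 1)) (hX : XAdd chevG2 K)
    (M : Matrix.SpecialLinearGroup (Fin 2) K)
    (h : M ∈ Subgroup.center (Matrix.SpecialLinearGroup (Fin 2) K)) : reePhi K m M = 1 := by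
  rw [Matrix.SpecialLinearGroup.mem_center_iff] at h
  obtain ⟨r, hr, hM⟩ := h
  rw [Fintype.card_fin, pow_two] at hr
  have hr0 : r ≠ 0 := left_ne_zero_of_mul_eq_one hr
  have hinv : r⁻¹ = r := inv_eq_of_mul_eq_one_left hr
  have hMD : M = rsD (Units.mk0 r hr0) := by
    apply Subtype.ext
    rw [← hM]
    show (Matrix.scalar (Fin 2)) r = sl2D r
    ext i j
    fin_cases i <;> fin_cases j <;> simp [sl2D, hinv]
  have hr' : (r - 1) * (r + 1) = 0 := by linear_combination hr
  have hz : frL K m r * r = 1 := by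
    rcases mul_eq_zero.mp hr' with h | h
    · have : r = 1 := by linear_combination h
      rw [this, map_one, one_mul]
    · have : r = -1 := by linear_combination h
      rw [this, map_neg, map_one]; ring
  rw [hMD, reePhi_D hK hX, Units.val_mk0, hz, map_one, g2_hGL_one hX (by decide),
    g2_hGL_one hX (by decide), mul_one]

end reeE

end Cfsg.Agent.Helper6
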