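import Cfsg.Agent.Helper6.ReeE
import Cfsg.Agent.Helper5.SLCard

/-!
# The small Ree groups: the centraliser of an involution and the Sylow 2-subgroups
-/

set_option autoImplicit false

namespace Cfsg.Agent.Helper6

open Cfsg Cfsg.Lie Cfsg.Agent.Helper36 Cfsg.Agent.Helper17 Matrix

section reeF

variable {K : Type*} [Field K] [CharP K 3] [Fintype K] {m : ℕ}
  {σ : ↥(chevG2.group K) →* ↥(chevG2.group K)}

/-- The homomorphism `Z₂ × SL₂(K) → G₂(K)`, `(ε, M) ↦ h(-1)^ε Φ(M)`. -/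
noncomputable def reePsi (hK : Fintype.card K = 3 ^ (2 * m + 1)) (hσ : ReeSig m σ)
    (hX : XAdd chevG2 K) :
    Multiplicative (ZMod 2) × Matrix.SpecialLinearGroup (Fin 2) K →* GL chevG2.Idx K :=
  (zmod2Hom (reeInv K hX m) (reeInv_sq hK hX)).noncommCoprod (reePhi K m)
    (fun x M => by
      rw [zmod2Hom_apply]
      exact (reeInv_comm_Phi hK hσ hX M).pow_left _)

theorem reePsi_apply (hK : Fintype.card K = 3 ^ (2 * m + 1)) (hσ : ReeSig m σ)
    (hX : XAdd chevG2 K) (x : Multiplicative (ZMod 2) × Matrix.SpecialLinearGroup (Fin 2) K) :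
    reePsi hK hσ hX x = zmod2Hom (reeInv K hX m) (reeInv_sq hK hX) x.1 * reePhi K m x.2 := rfl

theorem reePsi_mem_G1 (hK : Fintype.card K = 3 ^ (2 * m + 1)) (hσ : ReeSig m σ)
    (hX : XAdd chevG2 K) (x : Multiplicative (ZMod 2) × Matrix.SpecialLinearGroup (Fin 2) K) :
    reePsi hK hσ hX x ∈ twistedG2 K (3 ^ m) := by
  rw [reePsi_apply, zmod2Hom_apply]
  exact mul_mem (pow_mem (reeInv_mem_G1 hK hX) _) (reePhi_mem_G1 hK _)

theorem reePsi_comm (hK : Fintype.card K = 3 ^ (2 * m + 1)) (hσ : ReeSig m σ)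
    (hX : XAdd chevG2 K) (x : Multiplicative (ZMod 2) × Matrix.SpecialLinearGroup (Fin 2) K) :
    Commute (reeInv K hX m) (reePsi hK hσ hX x) := by
  rw [reePsi_apply, zmod2Hom_apply]
  exact ((Commute.refl _).pow_right _).mul_right (reeInv_comm_Phi hK hσ hX _)

/-- The elements of `U¹` centralised by `h(-1)`. -/
theorem ree_U_cent (hK : Fintype.card K = 3 ^ (2 * m + 1)) (hσ : ReeSig m σ)
    (hX : XAdd chevG2 K) {u : GL chevG2.Idx K}
    (hu : u ∈ chevG2.posUnipotent K ⊓ twistedG2 K (3 ^ m))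
    (hc : Commute (reeInv K hX m) u) : ∃ s : K, u = wordGL hX (reeWordU (3 ^ m) 0 s 0) := by
  obtain ⟨t, s, v, rfl⟩ := (ree_U_iff hK hσ hX _).mp hu
  by_cases hne : t = 0 ∧ s = 0 ∧ v = 0
  · exact ⟨0, by rw [hne.1, hne.2.1, hne.2.2]⟩
  · obtain ⟨-, h2⟩ := ree_H_centralizer hK hσ hX (z := -1) (neg_ne_zero.mpr one_ne_zero)
      hc.eq hne
    rcases h2 with h2 | h2
    · exfalso
      have h3 := three_eq_zero' (K := K)
      have : (1 : K) = 0 := by linear_combination h2 + h3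
      exact one_ne_zero this
    · exact ⟨s, by rw [h2.1, h2.2]⟩

/-- The elements of `H¹` are `h(-1)^ε Φ(diag)`. -/
theorem ree_H_form (hK : Fintype.card K = 3 ^ (2 * m + 1)) (hσ : ReeSig m σ)
    (hX : XAdd chevG2 K) {h : GL chevG2.Idx K} (hH : h ∈ chevG2.diagonalSubgroup K)
    (hG : h ∈ twistedG2 K (3 ^ m)) :
    ∃ (x : Multiplicative (ZMod 2)) (c : Kˣ),
      h = zmod2Hom (reeInv K hX m) (reeInv_sq hK hX) x * reePhi K m (rsD c) := by
  obtain ⟨z, hz, rfl⟩ := ree_H_fixed hK hσ hX hH (twistedG2_le_sigFix hK hσ hG).2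
  obtain ⟨w, hw, hzw⟩ := ree_sq_or_neg hK hz
  obtain ⟨u, hu, huw⟩ := ree_sq_eq (m := m) hK hw
  rcases hzw with rfl | rfl
  · refine ⟨1, Units.mk0 u hu, ?_⟩
    rw [map_one, one_mul, reePhi_D hK hX, Units.val_mk0, huw]
  · refine ⟨Multiplicative.ofAdd 1, Units.mk0 u hu, ?_⟩
    rw [zmod2Hom_one', reePhi_D hK hX, Units.val_mk0, huw]
    have hww : w * w ≠ 0 := mul_ne_zero hw hw
    have e : Units.mk0 (-(w * w)) hz =
        Units.mk0 (-1) (neg_ne_zero.mpr one_ne_zero) * Units.mk0 (w * w) hww := by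
      apply Units.ext; simp
    have h1 := congrArg Subtype.val (congrArg (reeHHom (m := m) hK hX) e)
    rw [map_mul] at h1
    exact h1

/-- Every element of `G¹` commuting with `h(-1)` is a value of `Ψ`. -/
theorem reePsi_surj (hK : Fintype.card K = 3 ^ (2 * m + 1)) (hσ : ReeSig m σ)
    (hX : XAdd chevG2 K) {g : GL chevG2.Idx K} (hG : g ∈ twistedG2 K (3 ^ m))
    (hc : Commute (reeInv K hX m) g) : ∃ x, reePsi hK hσ hX x = g := by
  have R := bRel_of_mem (F := K) g2_mem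
  have cx : ∀ (x : Multiplicative (ZMod 2)) (y : GL chevG2.Idx K), Commute (reeInv K hX m) y →
      Commute (zmod2Hom (reeInv K hX m) (reeInv_sq hK hX) x) y := by
    intro x y hy
    rw [zmod2Hom_apply]
    exact hy.pow_left _
  by_cases hB : g ∈ chevG2.borelSubgroup K
  · obtain ⟨u, hu, h, hh, rfl⟩ := ree_B_decomp hK hσ hB hG
    have ch : Commute (reeInv K hX m) h := reeInv_comm_H hK hσ hX hh.1 hh.2
    have cu : Commute (reeInv K hX m) u := by
      have e : reeInv K hX m * u * h = u * reeInv K hX m * h := by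
        rw [mul_assoc, hc.eq, mul_assoc, mul_assoc, ch.eq]
      exact mul_right_cancel e
    obtain ⟨s, rfl⟩ := ree_U_cent hK hσ hX hu cu
    obtain ⟨x, c, rfl⟩ := ree_H_form hK hσ hX hh.1 hh.2
    refine ⟨(x, rsU s * rsD c), ?_⟩
    rw [reePsi_apply, map_mul, reePhi_U hX]
    have c1 := cx x _ (reeInv_comm hK hσ hX s)
    rw [← mul_assoc, c1.eq, mul_assoc]
  · obtain ⟨u, hu, b, hb, rfl⟩ := ree_not_B_form hK hσ hX hG hB
    obtain ⟨u', hu', h, hh, rfl⟩ := ree_B_decomp hK hσ hb.1 hb.2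
    have ch : Commute (reeInv K hX m) h := reeInv_comm_H hK hσ hX hh.1 hh.2
    have cn : Commute (reeInv K hX m) (reeN0 hX) := reeInv_comm_N0 hK hσ hX
    have hUa : ∀ w ∈ chevG2.posUnipotent K,
        reeInv K hX m * w * (reeInv K hX m)⁻¹ ∈ chevG2.posUnipotent K := fun w hw =>
      (Subgroup.mem_normalizer_iff.mp (R.hU (reeInv_mem_H hX m)) w).mp hw
    have e1 : (reeInv K hX m * u * (reeInv K hX m)⁻¹) * reeN0 hX *
        (reeInv K hX m * u' * (reeInv K hX m)⁻¹) = u * reeN0 hX * u' := by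
      have e0 : reeInv K hX m * (u * reeN0 hX * (u' * h)) * (reeInv K hX m)⁻¹ =
          u * reeN0 hX * (u' * h) := by
        rw [hc.eq]; group
      have e0' : reeInv K hX m * (u * reeN0 hX * (u' * h)) * (reeInv K hX m)⁻¹ =
          (reeInv K hX m * u * (reeInv K hX m)⁻¹) *
          (reeInv K hX m * reeN0 hX * (reeInv K hX m)⁻¹) *
          (reeInv K hX m * u' * (reeInv K hX m)⁻¹) *
          (reeInv K hX m * h * (reeInv K hX m)⁻¹) := by group
      have e2 : reeInv K hX m * reeN0 hX * (reeInv K hX m)⁻¹ = reeN0 hX := by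
        rw [cn.eq]; group
      have e3 : reeInv K hX m * h * (reeInv K hX m)⁻¹ = h := by
        rw [ch.eq]; group
      rw [e0', e2, e3] at e0
      have e4 : (reeInv K hX m * u * (reeInv K hX m)⁻¹) * reeN0 hX *
          (reeInv K hX m * u' * (reeInv K hX m)⁻¹) * h = u * reeN0 hX * u' * h := by
        rw [e0]; group
      exact mul_right_cancel e4
    have e4 : (reeN0 hX)⁻¹ * (u⁻¹ * (reeInv K hX m * u * (reeInv K hX m)⁻¹)) * reeN0 hX =
        u' * (reeInv K hX m * u' * (reeInv K hX m)⁻¹)⁻¹ := by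
      have e5 : (reeN0 hX)⁻¹ * (u⁻¹ * (reeInv K hX m * u * (reeInv K hX m)⁻¹)) * reeN0 hX =
          (reeN0 hX)⁻¹ * u⁻¹ * ((reeInv K hX m * u * (reeInv K hX m)⁻¹) * reeN0 hX *
            (reeInv K hX m * u' * (reeInv K hX m)⁻¹)) *
            (reeInv K hX m * u' * (reeInv K hX m)⁻¹)⁻¹ := by group
      rw [e5, e1]; group
    have hV : (reeN0 hX)⁻¹ * (u⁻¹ * (reeInv K hX m * u * (reeInv K hX m)⁻¹)) * reeN0 hX ∈
        chevG2.negUnipotent K :=
      reeN0_inv_conj_U hK hσ hX (mul_mem (inv_mem hu.1) (hUa u hu.1))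
    have hU' : u' * (reeInv K hX m * u' * (reeInv K hX m)⁻¹)⁻¹ ∈ chevG2.posUnipotent K :=
      mul_mem hu'.1 (inv_mem (hUa u' hu'.1))
    have h5 : u' * (reeInv K hX m * u' * (reeInv K hX m)⁻¹)⁻¹ = 1 :=
      g2_U_inf_V hU' (by rw [← e4]; exact hV)
    have h6 : (reeN0 hX)⁻¹ * (u⁻¹ * (reeInv K hX m * u * (reeInv K hX m)⁻¹)) * reeN0 hX = 1 := by
      rw [e4, h5]
    have cu' : Commute (reeInv K hX m) u' := by
      have h7 : u' = reeInv K hX m * u' * (reeInv K hX m)⁻¹ := by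
        have h8 := mul_eq_one_iff_eq_inv.mp h5
        rw [inv_inv] at h8
        exact h8
      show reeInv K hX m * u' = u' * reeInv K hX m
      calc reeInv K hX m * u' = (reeInv K hX m * u' * (reeInv K hX m)⁻¹) * reeInv K hX m := by
            group
        _ = u' * reeInv K hX m := by rw [← h7]
    have cu : Commute (reeInv K hX m) u := by
      have h7 : u⁻¹ * (reeInv K hX m * u * (reeInv K hX m)⁻¹) = 1 := by
        have e6 : u⁻¹ * (reeInv K hX m * u * (reeInv K hX m)⁻¹) = reeN0 hX *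
            ((reeN0 hX)⁻¹ * (u⁻¹ * (reeInv K hX m * u * (reeInv K hX m)⁻¹)) * reeN0 hX) *
            (reeN0 hX)⁻¹ := by group
        rw [e6, h6]; group
      have h8 : reeInv K hX m * u * (reeInv K hX m)⁻¹ = u := (inv_mul_eq_one.mp h7).symm
      show reeInv K hX m * u = u * reeInv K hX m
      calc reeInv K hX m * u = (reeInv K hX m * u * (reeInv K hX m)⁻¹) * reeInv K hX m := by
            group
        _ = u * reeInv K hX m := by rw [h8]
    obtain ⟨s, rfl⟩ := ree_U_cent hK hσ hX hu cu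
    obtain ⟨s', rfl⟩ := ree_U_cent hK hσ hX hu' cu'
    obtain ⟨x, c, rfl⟩ := ree_H_form hK hσ hX hh.1 hh.2
    refine ⟨(x, rsU s * rsW * rsU s' * rsD c), ?_⟩
    rw [reePsi_apply, map_mul, map_mul, map_mul, reePhi_U hX, reePhi_U hX, reePhi_W hX]
    have c1 := cx x _ (reeInv_comm hK hσ hX s)
    have c2 := cx x _ cn
    have c3 := cx x _ (reeInv_comm hK hσ hX s')
    have c123 := (c1.mul_right c2).mul_right c3
    rw [← mul_assoc, c123.eq]
    simp only [mul_assoc]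

/-- The kernel of `Ψ`. -/
theorem reePsi_ker (hK : Fintype.card K = 3 ^ (2 * m + 1)) (hσ : ReeSig m σ)
    (hX : XAdd chevG2 K) (x : Multiplicative (ZMod 2) × Matrix.SpecialLinearGroup (Fin 2) K) :
    reePsi hK hσ hX x = 1 ↔
      x.1 = 1 ∧ x.2 ∈ Subgroup.center (Matrix.SpecialLinearGroup (Fin 2) K) := by
  rw [reePsi_apply]
  constructor
  · intro h
    rcases zmod2_cases x.1 with h1 | h1
    · rw [h1, map_one, one_mul] at h
      exact ⟨h1, (reePhi_ker_aux hK hσ hX x.2 (Or.inl h)).2⟩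
    · exfalso
      rw [h1, zmod2Hom_one'] at h
      have h2 : reePhi K m x.2 = reeInv K hX m := by
        have e : reePhi K m x.2 = reeInv K hX m * (reeInv K hX m * reePhi K m x.2) := by
          rw [← mul_assoc, reeInv_sq hK hX, one_mul]
        rw [e, h, mul_one]
      have h3 := (reePhi_ker_aux hK hσ hX x.2 (Or.inr h2)).1
      rw [h3] at h2
      exact reeInv_ne_one hX m h2.symm
  · rintro ⟨h1, h2⟩
    rw [h1, map_one, one_mul]
    exact reePhi_center hK hX x.2 h2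

/-- The centraliser of an involution of `H¹` is `Z₂ × PSL₂(q)`. -/
theorem ree_inv_centralizer (hK : Fintype.card K = 3 ^ (2 * m + 1)) (hσ : ReeSig m σ)
    (a : ↥(twistedG2 K (3 ^ m)))
    (haH : (a : GL chevG2.Idx K) ∈ chevG2.diagonalSubgroup K) (ha1 : a ≠ 1) (ha2 : a * a = 1) :
    Nonempty (↥(Subgroup.centralizer ({a} : Set ↥(twistedG2 K (3 ^ m)))) ≃*
      Multiplicative (ZMod 2) × Matrix.ProjectiveSpecialLinearGroup (Fin 2) K) := by
  have hX := xAdd_of_mem (F := K) g2_mem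
  have haI : (a : GL chevG2.Idx K) = reeInv K hX m :=
    ree_H_inv_unique hK hσ hX haH a.2 (fun h => ha1 (Subtype.ext h)) (congrArg Subtype.val ha2)
  let Ψ₁ : Multiplicative (ZMod 2) × Matrix.SpecialLinearGroup (Fin 2) K →* ↥(twistedG2 K (3 ^ m)) :=
    (reePsi hK hσ hX).codRestrict (twistedG2 K (3 ^ m)) (fun x => reePsi_mem_G1 hK hσ hX x)
  have hΨ₁ : ∀ x, Ψ₁ x ∈ Subgroup.centralizer ({a} : Set ↥(twistedG2 K (3 ^ m))) := by
    intro x
    rw [Subgroup.mem_centralizer_iff]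
    intro y hy
    rw [Set.mem_singleton_iff] at hy
    subst hy
    apply Subtype.ext
    show (y : GL chevG2.Idx K) * reePsi hK hσ hX x = reePsi hK hσ hX x * (y : GL chevG2.Idx K)
    rw [haI]
    exact (reePsi_comm hK hσ hX x).eq
  let Ψ₂ : Multiplicative (ZMod 2) × Matrix.SpecialLinearGroup (Fin 2) K →*
      ↥(Subgroup.centralizer ({a} : Set ↥(twistedG2 K (3 ^ m)))) := Ψ₁.codRestrict _ hΨ₁
  let π : Multiplicative (ZMod 2) × Matrix.SpecialLinearGroup (Fin 2) K →*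
      Multiplicative (ZMod 2) × Matrix.ProjectiveSpecialLinearGroup (Fin 2) K :=
    (MonoidHom.id _).prodMap (QuotientGroup.mk' (Subgroup.center (Matrix.SpecialLinearGroup (Fin 2) K)))
  have hπ : Function.Surjective π := by
    rintro ⟨x, y⟩
    obtain ⟨M, rfl⟩ := QuotientGroup.mk'_surjective _ y
    exact ⟨(x, M), rfl⟩
  have hΨ₂ : Function.Surjective Ψ₂ := by
    rintro ⟨g, hg⟩
    have hc : Commute (reeInv K hX m) (g : GL chevG2.Idx K) := by
      have h1 := Subgroup.mem_centralizer_iff.mp hg a (Set.mem_singleton a)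
      rw [← haI]
      exact congrArg Subtype.val h1
    obtain ⟨x, hx⟩ := reePsi_surj hK hσ hX g.2 hc
    exact ⟨x, Subtype.ext (Subtype.ext hx)⟩
  have hker : Ψ₂.ker = π.ker := by
    ext x
    rw [MonoidHom.mem_ker, MonoidHom.mem_ker]
    have e1 : Ψ₂ x = 1 ↔ reePsi hK hσ hX x = 1 := by
      constructor
      · intro h
        exact congrArg (fun y : ↥(Subgroup.centralizer ({a} : Set ↥(twistedG2 K (3 ^ m)))) =>
          ((y : ↥(twistedG2 K (3 ^ m))) : GL chevG2.Idx K)) h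
      · intro h
        exact Subtype.ext (Subtype.ext h)
    have e2 : π x = 1 ↔ x.1 = 1 ∧ x.2 ∈ Subgroup.center (Matrix.SpecialLinearGroup (Fin 2) K) := by
      rw [Prod.ext_iff]
      show x.1 = 1 ∧ ((x.2 : Matrix.SpecialLinearGroup (Fin 2) K) :
        Matrix.ProjectiveSpecialLinearGroup (Fin 2) K) = 1 ↔ _
      rw [QuotientGroup.eq_one_iff]
    rw [e1, e2, reePsi_ker]
  exact nonempty_mulEquiv_of_ker_eq Ψ₂ π hΨ₂ hπ hker

/-- An element of `G¹` commuting with `h(-1)` whose eighth power is trivial has square one. -/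
theorem ree_cent_sq (hK : Fintype.card K = 3 ^ (2 * m + 1)) (hσ : ReeSig m σ)
    (hX : XAdd chevG2 K) (hK8 : Fintype.card K % 8 = 3) {g : GL chevG2.Idx K}
    (hG : g ∈ twistedG2 K (3 ^ m)) (hc : Commute (reeInv K hX m) g) (h8 : g ^ 8 = 1) :
    g * g = 1 := by
  have h2 : ¬ IsSquare (2 : K) := by
    rw [FiniteField.isSquare_two_iff]
    intro h
    exact h.1 hK8
  obtain ⟨x, rfl⟩ := reePsi_surj hK hσ hX hG hc
  rw [← map_pow, reePsi_ker] at h8
  rw [← map_mul, reePsi_ker]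
  refine ⟨zmod2_sq x.1, ?_⟩
  have hc8 := h8.2
  rw [Matrix.SpecialLinearGroup.mem_center_iff] at hc8 ⊢
  obtain ⟨r, hr, hM⟩ := hc8
  rw [Fintype.card_fin, pow_two] at hr
  have hM' : (x.2 : Matrix (Fin 2) (Fin 2) K) ^ 8 = Matrix.scalar (Fin 2) r := by
    rw [← Matrix.SpecialLinearGroup.coe_pow]
    exact hM.symm
  have hr' : (r - 1) * (r + 1) = 0 := by linear_combination hr
  have h8' : (x.2 : Matrix (Fin 2) (Fin 2) K) ^ 8 = 1 ∨
      (x.2 : Matrix (Fin 2) (Fin 2) K) ^ 8 = -1 := by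
    rcases mul_eq_zero.mp hr' with h | h
    · left
      have : r = 1 := by linear_combination h
      rw [hM', this, map_one]
    · right
      have : r = -1 := by linear_combination h
      rw [hM', this, map_neg, map_one]
  rcases rs_pow_eight h2 _ x.2.2 h8' with h | h
  · refine ⟨1, by simp, ?_⟩
    show (Matrix.scalar (Fin 2)) (1 : K) = (x.2 : Matrix (Fin 2) (Fin 2) K) *
      (x.2 : Matrix (Fin 2) (Fin 2) K)
    rw [map_one, ← pow_two, h]
  · refine ⟨-1, by simp, ?_⟩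
    show (Matrix.scalar (Fin 2)) (-1 : K) = (x.2 : Matrix (Fin 2) (Fin 2) K) *
      (x.2 : Matrix (Fin 2) (Fin 2) K)
    rw [map_neg, map_one, ← pow_two, h]

theorem three_pow_mod_eight (m : ℕ) : 3 ^ (2 * m + 1) % 8 = 3 := by
  induction m with
  | zero => rfl
  | succ k ih =>
    have e : 3 ^ (2 * (k + 1) + 1) = 9 * 3 ^ (2 * k + 1) := by ring
    rw [e]; omega

/-- `|²G₂(q)| = 8k` with `k` odd. -/
theorem ree_card_two_part (hK : Fintype.card K = 3 ^ (2 * m + 1)) (hσ : ReeSig m σ) :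
    ∃ k, Odd k ∧ Nat.card ↥(twistedG2 K (3 ^ m)) = 8 * k := by
  have hq8 := three_pow_mod_eight m
  have hq3 : (3 ^ (2 * m + 1)) ^ 3 % 8 = 3 := by rw [Nat.pow_mod, hq8]
  rw [ree_card hK hσ]
  generalize 3 ^ (2 * m + 1) = q at hq8 hq3
  generalize hQ : q ^ 3 = Q at hq3
  refine ⟨Q * ((q - 1) / 2) * ((Q + 1) / 4), ?_, ?_⟩
  · refine Odd.mul (Odd.mul ?_ ?_) ?_ <;> rw [Nat.odd_iff] <;> omega
  · have e1 : q - 1 = 2 * ((q - 1) / 2) := by omega
    have e2 : Q + 1 = 4 * ((Q + 1) / 4) := by omega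
    calc Q * (q - 1) * (Q + 1) = Q * (2 * ((q - 1) / 2)) * (4 * ((Q + 1) / 4)) := by
          rw [← e1, ← e2]
      _ = 8 * (Q * ((q - 1) / 2) * ((Q + 1) / 4)) := by ring

/-- The Sylow 2-subgroups of `²G₂(q)` are elementary abelian of order 8. -/
theorem ree_sylow_two (hK : Fintype.card K = 3 ^ (2 * m + 1)) (hσ : ReeSig m σ)
    (S : Sylow 2 ↥(twistedG2 K (3 ^ m))) : Nat.card S = 8 ∧ ∀ x ∈ S, x * x = 1 := by
  have : Fact (Nat.Prime 2) := ⟨Nat.prime_two⟩
  have hX := xAdd_of_mem (F := K) g2_mem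
  obtain ⟨k, hk, hGk⟩ := ree_card_two_part hK hσ
  have hf : (Nat.card ↥(twistedG2 K (3 ^ m))).factorization 2 = 3 := by
    rw [hGk]; exact factorization_two_eight_mul hk
  have hS8 : Nat.card S = 8 := by
    rw [Sylow.card_eq_multiplicity, hf]; norm_num
  refine ⟨hS8, ?_⟩
  have hK8 : Fintype.card K % 8 = 3 := by rw [hK]; exact three_pow_mod_eight m
  have ha1 : (⟨reeInv K hX m, reeInv_mem_G1 hK hX⟩ : ↥(twistedG2 K (3 ^ m))) ≠ 1 :=
    fun h => reeInv_ne_one hX m (congrArg Subtype.val h)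
  have ha2 : (⟨reeInv K hX m, reeInv_mem_G1 hK hX⟩ : ↥(twistedG2 K (3 ^ m))) *
      ⟨reeInv K hX m, reeInv_mem_G1 hK hX⟩ = 1 := Subtype.ext (reeInv_sq hK hX)
  obtain ⟨e⟩ := ree_inv_centralizer hK hσ ⟨reeInv K hX m, reeInv_mem_G1 hK hX⟩
    (reeInv_mem_H hX m) ha1 ha2
  -- the order of the centraliser
  have h2K : (2 : K) ≠ 0 := by
    intro h
    have h3 := three_eq_zero' (K := K)
    exact one_ne_zero (by linear_combination h3 - h : (1 : K) = 0)
  have hC : Nat.card ↥(Subgroup.centralizer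
      ({(⟨reeInv K hX m, reeInv_mem_G1 hK hX⟩ : ↥(twistedG2 K (3 ^ m)))} :
        Set ↥(twistedG2 K (3 ^ m)))) = Fintype.card K * (Fintype.card K ^ 2 - 1) := by
    rw [Nat.card_congr e.toEquiv, Nat.card_prod, ← Cfsg.Agent.Helper5.card_PSL2_mul,
      Cfsg.Agent.Helper5.card_center_SL2 h2K, mul_comm]
    congr 1
    simp [Nat.card_eq_fintype_card]
  obtain ⟨k', hk', hCk⟩ : ∃ k', Odd k' ∧ Fintype.card K * (Fintype.card K ^ 2 - 1) = 8 * k' := by
    have h16 : Fintype.card K ^ 2 % 16 = 9 := by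
      have : Fintype.card K % 16 = 3 ∨ Fintype.card K % 16 = 11 := by omega
      rcases this with h | h <;> rw [Nat.pow_mod, h]
    generalize Fintype.card K = q at hK8 h16
    generalize q ^ 2 = Q at h16
    refine ⟨q * ((Q - 1) / 8), ?_, ?_⟩
    · refine Odd.mul ?_ ?_ <;> rw [Nat.odd_iff] <;> omega
    · have e1 : Q - 1 = 8 * ((Q - 1) / 8) := by omega
      calc q * (Q - 1) = q * (8 * ((Q - 1) / 8)) := by rw [← e1]
        _ = 8 * (q * ((Q - 1) / 8)) := by ring
  obtain ⟨T₀⟩ : Nonempty (Sylow 2 ↥(Subgroup.centralizer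
      ({(⟨reeInv K hX m, reeInv_mem_G1 hK hX⟩ : ↥(twistedG2 K (3 ^ m)))} :
        Set ↥(twistedG2 K (3 ^ m))))) := inferInstance
  have hT₀ : Nat.card T₀ = 8 := by
    rw [Sylow.card_eq_multiplicity, hC, hCk, factorization_two_eight_mul hk']; norm_num
  have hexp : ∀ y ∈ T₀, y * y = 1 := by
    intro y hy
    have hy8 : y ^ 8 = 1 := by
      have h1 : (⟨y, hy⟩ : T₀) ^ Nat.card T₀ = 1 := pow_card_eq_one'
      rw [hT₀] at h1
      exact congrArg Subtype.val h1
    have hc : Commute (reeInv K hX m) ((y : ↥(twistedG2 K (3 ^ m))) : GL chevG2.Idx K) := by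
      have h1 := Subgroup.mem_centralizer_iff.mp y.2 _ (Set.mem_singleton _)
      exact congrArg Subtype.val h1
    have h8 : (((y : ↥(twistedG2 K (3 ^ m))) : GL chevG2.Idx K)) ^ 8 = 1 := by
      have := congrArg (fun z : ↥(Subgroup.centralizer
        ({(⟨reeInv K hX m, reeInv_mem_G1 hK hX⟩ : ↥(twistedG2 K (3 ^ m)))} :
          Set ↥(twistedG2 K (3 ^ m)))) => ((z : ↥(twistedG2 K (3 ^ m))) : GL chevG2.Idx K)) hy8
      exact this
    have := ree_cent_sq hK hσ hX hK8 (y : ↥(twistedG2 K (3 ^ m))).2 hc h8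
    exact Subtype.ext (Subtype.ext this)
  have hT : Nat.card ((T₀ : Subgroup _).map (Subgroup.subtype (Subgroup.centralizer
      ({(⟨reeInv K hX m, reeInv_mem_G1 hK hX⟩ : ↥(twistedG2 K (3 ^ m)))} :
        Set ↥(twistedG2 K (3 ^ m)))))) = 2 ^ (Nat.card ↥(twistedG2 K (3 ^ m))).factorization 2 := by
    rw [Subgroup.card_map_of_injective (Subgroup.subtype_injective _), hf]
    exact hT₀
  refine sylow_forall_of_conj (Sylow.ofCard _ hT) S (fun x => x * x = 1) ?_ ?_
  · intro g x hx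
    have e : g * x * g⁻¹ * (g * x * g⁻¹) = g * (x * x) * g⁻¹ := by group
    rw [e, hx]; group
  · intro x hx
    obtain ⟨y, hy, rfl⟩ := hx
    have := hexp y hy
    exact congrArg Subtype.val this

end reeF

end Cfsg.Agent.Helper6
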