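import Mathlib
import Cfsg.Agent.Helper6.ReeGen

/-!
# Generic group-theoretic lemmas used for the tori of the small Ree groups
-/

set_option autoImplicit false

namespace Cfsg.Agent.Helper6

theorem factorization_two_four_mul {k : ℕ} (hk : Odd k) : (4 * k).factorization 2 = 2 := by
  have hk0 : k ≠ 0 := by
    rintro rfl
    exact absurd hk (by decide)
  rw [show (4 : ℕ) = 2 ^ 2 from rfl, Nat.factorization_mul (by norm_num) hk0,
    Nat.factorization_pow]
  simp [Nat.Prime.factorization_self Nat.prime_two,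
    Nat.factorization_eq_zero_of_not_dvd hk.not_two_dvd_nat]

theorem factorization_three_pow_mul {n r : ℕ} (hr : ¬ 3 ∣ r) :
    (3 ^ n * r).factorization 3 = n := by
  have hr0 : r ≠ 0 := by
    rintro rfl
    exact hr (dvd_zero 3)
  rw [Nat.factorization_mul (by positivity) hr0, Nat.factorization_pow]
  simp [Nat.Prime.factorization_self Nat.prime_three,
    Nat.factorization_eq_zero_of_not_dvd hr]

/-- In a subgroup of order `4k`, `k` odd, whose elements of order dividing 4 are involutions,
there is an involution different from a given element. -/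
theorem exists_second_invol {G : Type*} [Group G] [Finite G] (M : Subgroup G) {k : ℕ}
    (hk : Odd k) (hM : Nat.card M = 4 * k) (h2 : ∀ x ∈ M, x ^ 4 = 1 → x * x = 1) (a : G) :
    ∃ b ∈ M, b ≠ 1 ∧ b ≠ a ∧ b * b = 1 := by
  have : Fact (Nat.Prime 2) := ⟨Nat.prime_two⟩
  obtain ⟨T⟩ : Nonempty (Sylow 2 ↥M) := inferInstance
  have hT : Nat.card T = 4 := by
    rw [Sylow.card_eq_multiplicity, hM, factorization_two_four_mul hk]; norm_num
  by_contra hcon
  push Not at hcon
  have h : ∀ t ∈ (T : Subgroup ↥M), ((t : ↥M) : G) = 1 ∨ ((t : ↥M) : G) = a := by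
    intro t ht
    have ht4 : t ^ 4 = 1 := by
      have h1 : (⟨t, ht⟩ : T) ^ Nat.card T = 1 := pow_card_eq_one'
      rw [hT] at h1
      exact congrArg Subtype.val h1
    have ht2 : (t : G) * (t : G) = 1 := h2 _ t.2 (congrArg Subtype.val ht4)
    by_contra hne
    push Not at hne
    exact hcon (t : G) t.2 hne.1 hne.2 ht2
  have := card_le_two_of_forall (T : Subgroup ↥M) (fun t : ↥M => (t : G)) Subtype.val_injective
    1 a h
  omega

/-- Conjugation transports commutation. -/
theorem conj_comm_iff {G : Type*} [Group G] (g x y : G) :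
    (g * x * g⁻¹) * (g * y * g⁻¹) = (g * y * g⁻¹) * (g * x * g⁻¹) ↔ x * y = y * x := by
  constructor
  · intro h
    have e1 : x * y = g⁻¹ * ((g * x * g⁻¹) * (g * y * g⁻¹)) * g := by group
    have e2 : y * x = g⁻¹ * ((g * y * g⁻¹) * (g * x * g⁻¹)) * g := by group
    rw [e1, e2, h]
  · intro h
    have e1 : (g * x * g⁻¹) * (g * y * g⁻¹) = g * (x * y) * g⁻¹ := by group
    have e2 : (g * y * g⁻¹) * (g * x * g⁻¹) = g * (y * x) * g⁻¹ := by group
    rw [e1, e2, h]

end Cfsg.Agent.Helper6
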