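import Cfsg.Agent.Helper6.ReeF

/-!
# The small Ree groups are generated by two elements
-/

set_option autoImplicit false

namespace Cfsg.Agent.Helper6

open Cfsg Cfsg.Lie Cfsg.Agent.Helper36 Cfsg.Agent.Helper17 Matrix

section reeH

variable {K : Type*} [Field K] [CharP K 3] [Fintype K] {m : ℕ}
  {σ : ↥(chevG2.group K) →* ↥(chevG2.group K)}

omit [Fintype K] [CharP K 3] in
theorem reeX_congr (hX : XAdd chevG2 K) {t u v t' u' v' : K} (h1 : t = t') (h2 : u = u')
    (h3 : v = v') :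
    wordGL hX (reeWordU (3 ^ m) t u v) = wordGL hX (reeWordU (3 ^ m) t' u' v') := by
  rw [h1, h2, h3]

/-- The quotient of two elements of `U¹` with the same first coordinate. -/
theorem reeX_div (hK : Fintype.card K = 3 ^ (2 * m + 1)) (hσ : ReeSig m σ) (hX : XAdd chevG2 K)
    (t a c b c' : K) :
    wordGL hX (reeWordU (3 ^ m) t a c) * (wordGL hX (reeWordU (3 ^ m) t b c'))⁻¹ =
      wordGL hX (reeWordU (3 ^ m) 0 (a - b) (c - c' + t * (a - b))) := by
  have h3 := three_eq_zero' (K := K)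
  rw [reeX_inv hK hσ hX, reeX_mul hK hσ hX]
  refine reeX_congr hX (by ring) ?_ ?_
  · rw [map_neg]; ring
  · rw [map_neg]
    linear_combination (t ^ 2 * frL K m t) * h3

/-- `L(L(z)) = z³`. -/
theorem frL_frL (hK : Fintype.card K = 3 ^ (2 * m + 1)) (z : K) :
    frL K m (frL K m z) = z ^ 3 := by
  rw [← frT_pow3, frT_frL hK]

/-- The character `z ↦ z² / L(z)` of `K^×` is onto. -/
theorem ree_chi_surj (hK : Fintype.card K = 3 ^ (2 * m + 1)) (c : K) (hc : c ≠ 0) :
    ∃ z : K, z ≠ 0 ∧ (frL K m z)⁻¹ * z ^ 2 = c := by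
  let f : Kˣ →* Kˣ := (Units.map (frL K m : K →* K))⁻¹ * powMonoidHom 2
  have hf : Function.Injective f := by
    rw [injective_iff_map_eq_one]
    intro z hz
    have h1 : (frL K m (z : K))⁻¹ * (z : K) ^ 2 = 1 := by
      have := congrArg Units.val hz
      simpa [f] using this
    have hL0 : frL K m (z : K) ≠ 0 := (map_ne_zero _).mpr z.ne_zero
    have h2 : (z : K) ^ 2 = frL K m (z : K) := by
      field_simp at h1
      exact h1
    have h3 : (z : K) ^ 3 = (z : K) ^ 4 := by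
      rw [← frL_frL hK, ← h2, map_pow, ← h2]
      ring
    apply Units.ext
    have h4 : (z : K) ^ 3 * ((z : K) - 1) = 0 := by linear_combination -h3
    rcases mul_eq_zero.mp h4 with h | h
    · exact absurd (pow_eq_zero_iff (by norm_num) |>.mp h) z.ne_zero
    · show (z : K) = 1
      linear_combination h
  obtain ⟨z, hz⟩ := (Finite.injective_iff_surjective.mp hf) (Units.mk0 c hc)
  refine ⟨(z : K), z.ne_zero, ?_⟩
  have := congrArg Units.val hz
  simpa [f] using this

/-- A subgroup containing an element of `U¹` with non-zero first coordinate and stable under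
`H¹` contains `U¹`. -/
theorem ree_U_gen (hK : Fintype.card K = 3 ^ (2 * m + 1)) (hσ : ReeSig m σ) (hm : 1 ≤ m)
    (hX : XAdd chevG2 K) (W : Subgroup (GL chevG2.Idx K))
    (hH : ∀ z : K, z ≠ 0 → ∀ t u v : K, wordGL hX (reeWordU (3 ^ m) t u v) ∈ W →
      wordGL hX (reeWordU (3 ^ m) ((frL K m z)⁻¹ * z ^ 2 * t) (frL K m z * z⁻¹ * u) (z * v)) ∈ W)
    {t₀ u₀ v₀ : K} (ht₀ : t₀ ≠ 0) (h₀ : wordGL hX (reeWordU (3 ^ m) t₀ u₀ v₀) ∈ W) :
    ∀ t u v : K, wordGL hX (reeWordU (3 ^ m) t u v) ∈ W := by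
  have h3 := three_eq_zero' (K := K)
  have hone : wordGL hX (reeWordU (3 ^ m) (0 : K) 0 0) ∈ W := by
    rw [reeU_zero]; exact one_mem _
  -- Step 1: every first coordinate occurs
  have s1 : ∀ t : K, ∃ u v : K, wordGL hX (reeWordU (3 ^ m) t u v) ∈ W := by
    intro t
    by_cases ht : t = 0
    · exact ⟨0, 0, by rw [ht]; exact hone⟩
    · obtain ⟨z, hz, hzc⟩ := ree_chi_surj (m := m) hK (t * t₀⁻¹) (mul_ne_zero ht (inv_ne_zero ht₀))
      have := hH z hz t₀ u₀ v₀ h₀
      rw [hzc] at this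
      have e : t * t₀⁻¹ * t₀ = t := by field_simp
      rw [e] at this
      exact ⟨_, _, this⟩
  -- Step 2: every second coordinate occurs with first coordinate `0`
  have s2add : ∀ u u' v v' : K, wordGL hX (reeWordU (3 ^ m) 0 u v) ∈ W →
      wordGL hX (reeWordU (3 ^ m) 0 u' v') ∈ W →
      wordGL hX (reeWordU (3 ^ m) 0 (u + u') (v + v')) ∈ W := by
    intro u u' v v' h1 h2
    have := mul_mem h1 h2
    rw [reeX_mul hK hσ hX] at this
    have e : wordGL hX (reeWordU (3 ^ m) (0 + 0) (u + u' - 0 * frL K m 0)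
        (v + v' - 0 * u + 0 * 0 * frL K m 0 - 0 ^ 2 * frL K m 0)) =
        wordGL hX (reeWordU (3 ^ m) 0 (u + u') (v + v')) :=
      reeX_congr hX (by ring) (by ring) (by ring)
    rw [e] at this
    exact this
  have s2comm : ∀ t t' : K, ∃ v : K,
      wordGL hX (reeWordU (3 ^ m) 0 (t' * frL K m t - t * frL K m t') v) ∈ W := by
    intro t t'
    obtain ⟨u, v, hg⟩ := s1 t
    obtain ⟨u', v', hg'⟩ := s1 t'
    have h1 := mul_mem hg hg'
    have h2 := mul_mem hg' hg
    rw [reeX_mul hK hσ hX] at h1 h2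
    have e : t' + t = t + t' := add_comm _ _
    rw [e] at h2
    have h4 := mul_mem h1 (inv_mem h2)
    rw [reeX_div hK hσ hX] at h4
    have e2 : u + u' - t * frL K m t' - (u' + u - t' * frL K m t) =
        t' * frL K m t - t * frL K m t' := by ring
    rw [e2] at h4
    exact ⟨_, h4⟩
  have s2sq : ∀ w u v : K, wordGL hX (reeWordU (3 ^ m) 0 u v) ∈ W →
      ∃ v' : K, wordGL hX (reeWordU (3 ^ m) 0 (w ^ 2 * u) v') ∈ W := by
    intro w u v h
    by_cases hw : w = 0
    · refine ⟨0, ?_⟩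
      rw [hw]
      have e : (0 : K) ^ 2 * u = 0 := by ring
      rw [e]; exact hone
    · have hLw : frL K m w ≠ 0 := (map_ne_zero _).mpr hw
      have hz : w * frL K m w ≠ 0 := mul_ne_zero hw hLw
      have := hH (w * frL K m w) hz 0 u v h
      have e1 : (frL K m (w * frL K m w))⁻¹ * (w * frL K m w) ^ 2 * 0 = 0 := by ring
      have e2 : frL K m (w * frL K m w) * (w * frL K m w)⁻¹ * u = w ^ 2 * u := by
        rw [map_mul, frL_frL hK]
        field_simp
      rw [e1, e2] at this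
      exact ⟨_, this⟩
  have s2neg : ∀ u v : K, wordGL hX (reeWordU (3 ^ m) 0 u v) ∈ W →
      wordGL hX (reeWordU (3 ^ m) 0 (-u) (-v)) ∈ W := by
    intro u v h
    have := s2add u u v v h h
    have e : wordGL hX (reeWordU (3 ^ m) 0 (u + u) (v + v)) =
        wordGL hX (reeWordU (3 ^ m) 0 (-u) (-v)) :=
      reeX_congr hX rfl (by linear_combination u * h3) (by linear_combination v * h3)
    rw [e] at this
    exact this
  have s2mul : ∀ c u v : K, wordGL hX (reeWordU (3 ^ m) 0 u v) ∈ W →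
      ∃ v' : K, wordGL hX (reeWordU (3 ^ m) 0 (c * u) v') ∈ W := by
    intro c u v h
    obtain ⟨v1, h1⟩ := s2sq (c + 1) u v h
    obtain ⟨v2, h2⟩ := s2sq (c - 1) u v h
    have := s2add _ _ _ _ h1 (s2neg _ _ h2)
    have e : (c + 1) ^ 2 * u + -((c - 1) ^ 2 * u) = c * u := by
      linear_combination (c * u) * h3
    rw [e] at this
    exact ⟨_, this⟩
  have s2 : ∀ u : K, ∃ v : K, wordGL hX (reeWordU (3 ^ m) 0 u v) ∈ W := by
    -- an element `w` with `L(w) ≠ w`
    obtain ⟨w, hw0, hw1⟩ : ∃ w : K, w ≠ 0 ∧ w * w ≠ 1 := by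
      have hcard : 3 < Fintype.card K := by
        rw [hK]
        calc 3 < 3 ^ 3 := by norm_num
          _ ≤ 3 ^ (2 * m + 1) := Nat.pow_le_pow_right (by norm_num) (by omega)
      classical
      have hlt : ({0, 1, -1} : Finset K).card < (Finset.univ : Finset K).card := by
        rw [Finset.card_univ]
        exact lt_of_le_of_lt (Finset.card_le_three) hcard
      obtain ⟨w, -, hw⟩ := Finset.exists_mem_notMem_of_card_lt_card hlt
      simp only [Finset.mem_insert, Finset.mem_singleton, not_or] at hw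
      refine ⟨w, hw.1, fun h => ?_⟩
      have : (w - 1) * (w + 1) = 0 := by linear_combination h
      rcases mul_eq_zero.mp this with h' | h'
      · exact hw.2.1 (by linear_combination h')
      · exact hw.2.2 (by linear_combination h')
    have hLw : frL K m w ≠ w := fun h => hw1 (ree_field_sq hK hw0 h)
    obtain ⟨v₁, hv₁⟩ := s2comm 1 w
    have hu₁ : w * frL K m 1 - 1 * frL K m w ≠ 0 := by
      rw [map_one]
      intro h
      exact hLw (by linear_combination -h)
    intro u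
    obtain ⟨v', hv'⟩ := s2mul (u * (w * frL K m 1 - 1 * frL K m w)⁻¹) _ _ hv₁
    have e : u * (w * frL K m 1 - 1 * frL K m w)⁻¹ * (w * frL K m 1 - 1 * frL K m w) = u :=
      inv_mul_cancel_right₀ hu₁ u
    rw [e] at hv'
    exact ⟨v', hv'⟩
  -- Step 3: the centre
  have s3 : ∀ v : K, wordGL hX (reeWordU (3 ^ m) 0 0 v) ∈ W := by
    intro t
    obtain ⟨u, v, hg⟩ := s1 t
    obtain ⟨v', hg'⟩ := s2 1
    have h1 := mul_mem hg hg'
    have h2 := mul_mem hg' hg
    rw [reeX_mul hK hσ hX] at h1 h2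
    have e : (0 : K) + t = t + 0 := by ring
    rw [e] at h2
    have h4 := mul_mem h1 (inv_mem h2)
    rw [reeX_div hK hσ hX] at h4
    have e2 : wordGL hX (reeWordU (3 ^ m) 0 (u + 1 - t * frL K m 0 - (1 + u - 0 * frL K m t))
        (v + v' - 0 * u + t * 0 * frL K m 0 - t ^ 2 * frL K m 0 -
          (v' + v - t * 1 + 0 * t * frL K m t - 0 ^ 2 * frL K m t) +
          (t + 0) * (u + 1 - t * frL K m 0 - (1 + u - 0 * frL K m t)))) =
        wordGL hX (reeWordU (3 ^ m) 0 0 t) :=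
      reeX_congr hX rfl (by rw [map_zero]; ring) (by rw [map_zero]; ring)
    rw [e2] at h4
    exact h4
  -- Step 4
  intro t u v
  obtain ⟨u₁, v₁, hg₁⟩ := s1 t
  obtain ⟨v₂, hg₂⟩ := s2 (u - u₁)
  have h1 := mul_mem hg₂ hg₁
  rw [reeX_mul hK hσ hX] at h1
  have h2 := mul_mem (s3 (v - (v₂ + v₁ - t * (u - u₁) + 0 * t * frL K m t - 0 ^ 2 * frL K m t))) h1
  rw [reeX_mul hK hσ hX] at h2
  have e : wordGL hX (reeWordU (3 ^ m) (0 + (0 + t)) (0 + (u - u₁ + u₁ - 0 * frL K m t) -
      0 * frL K m (0 + t))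
      (v - (v₂ + v₁ - t * (u - u₁) + 0 * t * frL K m t - 0 ^ 2 * frL K m t) +
        (v₂ + v₁ - t * (u - u₁) + 0 * t * frL K m t - 0 ^ 2 * frL K m t) - (0 + t) * 0 +
        0 * (0 + t) * frL K m (0 + t) - 0 ^ 2 * frL K m (0 + t))) =
      wordGL hX (reeWordU (3 ^ m) t u v) :=
    reeX_congr hX (by ring) (by ring) (by ring)
  rw [e] at h2
  exact h2

end reeH

end Cfsg.Agent.Helper6
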