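import Cfsg.Agent.Helper6.ReeG

/-!
# The small Ree groups: the split torus is self-centralising; elements of 2-power order
-/

set_option autoImplicit false

namespace Cfsg.Agent.Helper6

open Cfsg Cfsg.Lie Cfsg.Agent.Helper36 Cfsg.Agent.Helper17 Matrix

section reeI

variable {K : Type*} [Field K] [CharP K 3] [Fintype K] {m : ℕ}
  {σ : ↥(chevG2.group K) →* ↥(chevG2.group K)}

omit [CharP K 3] [Fintype K] in
theorem rsD_rsW (c : Kˣ) : rsD c * (rsW : Matrix.SpecialLinearGroup (Fin 2) K) * rsD c = rsW := by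
  apply Subtype.ext
  simp only [Matrix.SpecialLinearGroup.coe_mul, rsD_val, rsW_val, sl2D]
  ext i j
  fin_cases i <;> fin_cases j <;> simp [Matrix.mul_apply, Fin.sum_univ_two]

/-- The elements of `H¹` commute. -/
theorem ree_H_comm (hK : Fintype.card K = 3 ^ (2 * m + 1)) (hσ : ReeSig m σ)
    {h h' : GL chevG2.Idx K} (hh : h ∈ chevG2.diagonalSubgroup K ⊓ twistedG2 K (3 ^ m))
    (hh' : h' ∈ chevG2.diagonalSubgroup K ⊓ twistedG2 K (3 ^ m)) : h * h' = h' * h := by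
  have hX := xAdd_of_mem (F := K) g2_mem
  obtain ⟨z, hz⟩ := (reeHHom_bij hK hσ hX).2 ⟨h, hh⟩
  obtain ⟨z', hz'⟩ := (reeHHom_bij hK hσ hX).2 ⟨h', hh'⟩
  have c : Commute (reeHHom (m := m) hK hX z) (reeHHom (m := m) hK hX z') :=
    (Commute.all _ _).map (reeHHom (m := m) hK hX)
  rw [hz, hz'] at c
  exact congrArg Subtype.val c.eq

/-- `n₀` inverts `H¹`. -/
theorem reeN0_conj_H (hK : Fintype.card K = 3 ^ (2 * m + 1)) (hσ : ReeSig m σ)
    (hX : XAdd chevG2 K) {h : GL chevG2.Idx K}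
    (hh : h ∈ chevG2.diagonalSubgroup K ⊓ twistedG2 K (3 ^ m)) :
    (reeN0 hX)⁻¹ * h * reeN0 hX = h⁻¹ := by
  obtain ⟨x, c, rfl⟩ := ree_H_form hK hσ hX hh.1 hh.2
  have cn : Commute (zmod2Hom (reeInv K hX m) (reeInv_sq hK hX) x) (reeN0 hX) := by
    rw [zmod2Hom_apply]
    exact (reeInv_comm_N0 hK hσ hX).pow_left _
  have cp : Commute (zmod2Hom (reeInv K hX m) (reeInv_sq hK hX) x) (reePhi K m (rsD c)) := by
    rw [zmod2Hom_apply]
    exact (reeInv_comm_Phi hK hσ hX _).pow_left _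
  have hz : (zmod2Hom (reeInv K hX m) (reeInv_sq hK hX) x)⁻¹ =
      zmod2Hom (reeInv K hX m) (reeInv_sq hK hX) x := by
    rw [inv_eq_iff_mul_eq_one, ← map_mul, zmod2_sq, map_one]
  have e1 : (reePhi K m rsW)⁻¹ * reePhi K m (rsD c) * reePhi K m rsW = (reePhi K m (rsD c))⁻¹ := by
    rw [← map_inv, ← map_mul, ← map_mul, ← map_inv]
    congr 1
    have := rsD_rsW c
    rw [eq_inv_iff_mul_eq_one]
    calc (rsW : Matrix.SpecialLinearGroup (Fin 2) K)⁻¹ * rsD c * rsW * rsD c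
        = rsW⁻¹ * (rsD c * rsW * rsD c) := by group
      _ = 1 := by rw [this]; group
  rw [← reePhi_W hX m]
  rw [← reePhi_W hX m] at cn
  calc (reePhi K m rsW)⁻¹ * (zmod2Hom (reeInv K hX m) (reeInv_sq hK hX) x * reePhi K m (rsD c)) *
        reePhi K m rsW
      = ((reePhi K m rsW)⁻¹ * zmod2Hom (reeInv K hX m) (reeInv_sq hK hX) x * reePhi K m rsW) *
        ((reePhi K m rsW)⁻¹ * reePhi K m (rsD c) * reePhi K m rsW) := by group
    _ = zmod2Hom (reeInv K hX m) (reeInv_sq hK hX) x * (reePhi K m (rsD c))⁻¹ := by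
        have e2 : (reePhi K m rsW)⁻¹ * zmod2Hom (reeInv K hX m) (reeInv_sq hK hX) x *
            reePhi K m rsW = zmod2Hom (reeInv K hX m) (reeInv_sq hK hX) x := by
          rw [mul_assoc, cn.eq, inv_mul_cancel_left]
        rw [e2, e1]
    _ = (zmod2Hom (reeInv K hX m) (reeInv_sq hK hX) x * reePhi K m (rsD c))⁻¹ := by
        rw [_root_.mul_inv_rev, hz, cp.inv_right.eq]

/-- An element of `H¹` of order greater than two is centralised in `G¹` only by `H¹`. -/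
theorem ree_H_selfcent (hK : Fintype.card K = 3 ^ (2 * m + 1)) (hσ : ReeSig m σ)
    {h c : GL chevG2.Idx K} (hh : h ∈ chevG2.diagonalSubgroup K ⊓ twistedG2 K (3 ^ m))
    (h2 : h * h ≠ 1) (hc : c ∈ twistedG2 K (3 ^ m)) (hcomm : c * h = h * c) :
    c ∈ chevG2.diagonalSubgroup K := by
  have hX := xAdd_of_mem (F := K) g2_mem
  have R := bRel_of_mem (F := K) g2_mem
  have hUh : ∀ w ∈ chevG2.posUnipotent K, h * w * h⁻¹ ∈ chevG2.posUnipotent K := fun w hw =>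
    (Subgroup.mem_normalizer_iff.mp (R.hU hh.1) w).mp hw
  by_cases hB : c ∈ chevG2.borelSubgroup K
  · obtain ⟨u, hu, h', hh', rfl⟩ := ree_B_decomp hK hσ hB hc
    have e1 : u * h = h * u := by
      have e : u * h * h' = h * u * h' := by
        rw [mul_assoc, ree_H_comm hK hσ hh hh', ← mul_assoc, hcomm, mul_assoc]
      exact mul_right_cancel e
    obtain ⟨t, s, v, rfl⟩ := (ree_U_iff hK hσ hX _).mp hu
    obtain ⟨z, hz, rfl⟩ := ree_H_fixed hK hσ hX hh.1 (twistedG2_le_sigFix hK hσ hh.2).2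
    by_cases hne : t = 0 ∧ s = 0 ∧ v = 0
    · rw [hne.1, hne.2.1, hne.2.2, reeU_zero, one_mul]
      exact hh'.1
    · exfalso
      obtain ⟨hzz, -⟩ := ree_H_centralizer hK hσ hX hz e1.symm hne
      apply h2
      have e2 : Units.mk0 z hz * Units.mk0 z hz = 1 := by
        apply Units.ext; simpa using hzz
      have e3 := congrArg Subtype.val (congrArg (reeHHom (m := m) hK hX) e2)
      rw [map_mul, map_one] at e3
      exact e3
  · exfalso
    obtain ⟨u, hu, b, hb, rfl⟩ := ree_not_B_form hK hσ hX hc hB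
    obtain ⟨u', hu', h', hh', rfl⟩ := ree_B_decomp hK hσ hb.1 hb.2
    set k := (reeN0 hX)⁻¹ * h * reeN0 hX * h⁻¹ with hk
    have hkH : k ∈ chevG2.diagonalSubgroup K :=
      mul_mem (R.N_conj_H' _ (reeN0_mem_N hX) _ hh.1) (inv_mem hh.1)
    have e0 : h * (u * reeN0 hX * (u' * h')) * h⁻¹ = u * reeN0 hX * (u' * h') := by
      rw [← hcomm]; group
    have e3 : h * h' * h⁻¹ = h' := by
      rw [ree_H_comm hK hσ hh hh']; group
    have e1 : (h * u * h⁻¹) * reeN0 hX * k * (h * u' * h⁻¹) = u * reeN0 hX * u' := by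
      have e0' : h * (u * reeN0 hX * (u' * h')) * h⁻¹ =
          (h * u * h⁻¹) * reeN0 hX * k * (h * u' * h⁻¹) * (h * h' * h⁻¹) := by
        rw [hk]; group
      rw [e0', e3] at e0
      have e4 : (h * u * h⁻¹) * reeN0 hX * k * (h * u' * h⁻¹) * h' = u * reeN0 hX * u' * h' := by
        rw [e0]; group
      exact mul_right_cancel e4
    have e4 : (reeN0 hX)⁻¹ * (u⁻¹ * (h * u * h⁻¹)) * reeN0 hX =
        u' * (h * u' * h⁻¹)⁻¹ * k⁻¹ := by
      have e5 : (reeN0 hX)⁻¹ * (u⁻¹ * (h * u * h⁻¹)) * reeN0 hX =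
          (reeN0 hX)⁻¹ * u⁻¹ * ((h * u * h⁻¹) * reeN0 hX * k * (h * u' * h⁻¹)) *
            (h * u' * h⁻¹)⁻¹ * k⁻¹ := by group
      rw [e5, e1]; group
    have hV : (reeN0 hX)⁻¹ * (u⁻¹ * (h * u * h⁻¹)) * reeN0 hX ∈ chevG2.negUnipotent K :=
      reeN0_inv_conj_U hK hσ hX (mul_mem (inv_mem hu.1) (hUh u hu.1))
    have hB' : u' * (h * u' * h⁻¹)⁻¹ * k⁻¹ ∈ chevG2.borelSubgroup K :=
      mul_mem (BRel.U_le_B _ _ (mul_mem hu'.1 (inv_mem (hUh u' hu'.1))))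
        (BRel.H_le_B _ _ (inv_mem hkH))
    have h5 : u' * (h * u' * h⁻¹)⁻¹ * k⁻¹ = 1 := g2_B_inf_V hB' (by rw [← e4]; exact hV)
    have h6 : u' * (h * u' * h⁻¹)⁻¹ * 1 = 1 * k := by
      rw [mul_one, one_mul]
      have : u' * (h * u' * h⁻¹)⁻¹ = (u' * (h * u' * h⁻¹)⁻¹ * k⁻¹) * k := by group
      rw [this, h5, one_mul]
    have h7 := (g2_UH_unique (mul_mem hu'.1 (inv_mem (hUh u' hu'.1))) (one_mem _) (one_mem _)
      hkH h6).2
    have h8 : (reeN0 hX)⁻¹ * h * reeN0 hX = h := by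
      have : (reeN0 hX)⁻¹ * h * reeN0 hX = k * h := by rw [hk]; group
      rw [this, ← h7, one_mul]
    rw [reeN0_conj_H hK hσ hX hh] at h8
    apply h2
    have : h * h = h * h⁻¹ := by rw [h8]
    rw [this, mul_inv_cancel]

/-- The torus `H¹` as a subgroup of `G¹`. -/
def reeD (K : Type*) [Field K] (m : ℕ) : Subgroup ↥(twistedG2 K (3 ^ m)) :=
  (chevG2.diagonalSubgroup K).subgroupOf (twistedG2 K (3 ^ m))

omit [CharP K 3] [Fintype K] in
theorem mem_reeD (x : ↥(twistedG2 K (3 ^ m))) :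
    x ∈ reeD K m ↔ (x : GL chevG2.Idx K) ∈ chevG2.diagonalSubgroup K :=
  Subgroup.mem_subgroupOf

theorem reeD_comm (hK : Fintype.card K = 3 ^ (2 * m + 1)) (hσ : ReeSig m σ) :
    ∀ x ∈ reeD K m, ∀ y ∈ reeD K m, x * y = y * x := by
  intro x hx y hy
  apply Subtype.ext
  exact ree_H_comm hK hσ ⟨(mem_reeD x).mp hx, x.2⟩ ⟨(mem_reeD y).mp hy, y.2⟩

/-- `reeD` is `H ∩ G¹`. -/
def reeDEquiv (K : Type*) [Field K] (m : ℕ) :
    ↥(reeD K m) ≃* ↥(chevG2.diagonalSubgroup K ⊓ twistedG2 K (3 ^ m)) where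
  toFun x := ⟨((x : ↥(twistedG2 K (3 ^ m))) : GL chevG2.Idx K),
    ⟨(mem_reeD x.1).mp x.2, x.1.2⟩⟩
  invFun y := ⟨⟨y.1, y.2.2⟩, (mem_reeD _).mpr y.2.1⟩
  left_inv _ := rfl
  right_inv _ := rfl
  map_mul' _ _ := rfl

theorem reeD_card (hK : Fintype.card K = 3 ^ (2 * m + 1)) (hσ : ReeSig m σ) :
    Nat.card ↥(reeD K m) = 3 ^ (2 * m + 1) - 1 := by
  rw [Nat.card_congr (reeDEquiv K m).toEquiv, ree_H_card hK hσ]

theorem reeD_cyclic (hK : Fintype.card K = 3 ^ (2 * m + 1)) (hσ : ReeSig m σ) :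
    IsCyclic ↥(reeD K m) := by
  have := ree_H_cyclic hK hσ
  exact isCyclic_of_surjective (reeDEquiv K m).symm (reeDEquiv K m).symm.surjective

theorem reeD_selfcent (hK : Fintype.card K = 3 ^ (2 * m + 1)) (hσ : ReeSig m σ) :
    ∀ h ∈ reeD K m, h * h ≠ 1 → ∀ c : ↥(twistedG2 K (3 ^ m)), c * h = h * c → c ∈ reeD K m := by
  intro h hh h2 c hc
  rw [mem_reeD] at hh ⊢
  exact ree_H_selfcent hK hσ ⟨hh, h.2⟩ (fun e => h2 (Subtype.ext e)) c.2 (congrArg Subtype.val hc)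

/-- The involution `h(-1)` as an element of `G¹`. -/
noncomputable def reeA (hK : Fintype.card K = 3 ^ (2 * m + 1)) : ↥(twistedG2 K (3 ^ m)) :=
  ⟨reeInv K (xAdd_of_mem (F := K) g2_mem) m, reeInv_mem_G1 hK _⟩

theorem reeA_ne_one (hK : Fintype.card K = 3 ^ (2 * m + 1)) : reeA hK ≠ 1 :=
  fun h => reeInv_ne_one (xAdd_of_mem (F := K) g2_mem) m (congrArg Subtype.val h)

theorem reeA_sq (hK : Fintype.card K = 3 ^ (2 * m + 1)) : reeA hK * reeA hK = 1 :=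
  Subtype.ext (reeInv_sq hK _)

theorem reeA_cent (hK : Fintype.card K = 3 ^ (2 * m + 1)) (hσ : ReeSig m σ) :
    Nonempty (↥(Subgroup.centralizer ({reeA hK} : Set ↥(twistedG2 K (3 ^ m)))) ≃*
      Multiplicative (ZMod 2) × Matrix.ProjectiveSpecialLinearGroup (Fin 2) K) :=
  ree_inv_centralizer hK hσ (reeA hK) (reeInv_mem_H _ m) (reeA_ne_one hK) (reeA_sq hK)

omit [Fintype K] in
theorem ree_two_ne_zero : (2 : K) ≠ 0 := by
  intro h
  have h3 := three_eq_zero' (K := K)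
  exact one_ne_zero (by linear_combination h3 - h : (1 : K) = 0)

theorem reeA_cent_card (hK : Fintype.card K = 3 ^ (2 * m + 1)) (hσ : ReeSig m σ) :
    Nat.card ↥(Subgroup.centralizer ({reeA hK} : Set ↥(twistedG2 K (3 ^ m)))) =
      Fintype.card K * (Fintype.card K ^ 2 - 1) := by
  obtain ⟨e⟩ := reeA_cent hK hσ
  rw [Nat.card_congr e.toEquiv, Nat.card_prod, ← Cfsg.Agent.Helper5.card_PSL2_mul,
    Cfsg.Agent.Helper5.card_center_SL2 ree_two_ne_zero, mul_comm]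
  congr 1
  simp [Nat.card_eq_fintype_card]

/-- Elements of 2-power order in `²G₂(q)` are involutions. -/
theorem ree_two_elem (hK : Fintype.card K = 3 ^ (2 * m + 1)) (hσ : ReeSig m σ)
    (g : ↥(twistedG2 K (3 ^ m))) (k : ℕ) (hg : g ^ 2 ^ k = 1) : g * g = 1 := by
  have : Fact (Nat.Prime 2) := ⟨Nat.prime_two⟩
  have hp : IsPGroup 2 (Subgroup.zpowers g) := by
    rintro ⟨x, hx⟩
    obtain ⟨i, rfl⟩ := Subgroup.mem_zpowers_iff.mp hx
    refine ⟨k, Subtype.ext ?_⟩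
    show (g ^ i) ^ 2 ^ k = 1
    rw [← zpow_natCast, ← _root_.zpow_mul, mul_comm, _root_.zpow_mul, zpow_natCast, hg, _root_.one_zpow]
  obtain ⟨S, hS⟩ := hp.exists_le_sylow
  exact (ree_sylow_two hK hσ S).2 g (hS (Subgroup.mem_zpowers g))

/-- The exponent of `B¹` divides `(q-1)q³`. -/
theorem ree_B_pow (hK : Fintype.card K = 3 ^ (2 * m + 1)) (hσ : ReeSig m σ)
    {y : GL chevG2.Idx K} (hyB : y ∈ chevG2.borelSubgroup K) (hyG : y ∈ twistedG2 K (3 ^ m)) :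
    y ^ ((3 ^ (2 * m + 1) - 1) * (3 ^ (2 * m + 1)) ^ 3) = 1 := by
  have R := bRel_of_mem (F := K) g2_mem
  obtain ⟨u, hu, h, hh, rfl⟩ := ree_B_decomp hK hσ hyB hyG
  have key : ∀ n : ℕ, ∃ w ∈ chevG2.posUnipotent K ⊓ twistedG2 K (3 ^ m),
      (u * h) ^ n = w * h ^ n := by
    intro n
    induction n with
    | zero => exact ⟨1, one_mem _, by simp⟩
    | succ n ih =>
      obtain ⟨w, hw, e⟩ := ih
      have hhn : h ^ n ∈ chevG2.diagonalSubgroup K ⊓ twistedG2 K (3 ^ m) := pow_mem hh n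
      refine ⟨w * (h ^ n * u * (h ^ n)⁻¹), mul_mem hw (Subgroup.mem_inf.mpr ⟨?_, ?_⟩), ?_⟩
      · exact (Subgroup.mem_normalizer_iff.mp (R.hU hhn.1) u).mp hu.1
      · exact mul_mem (mul_mem hhn.2 hu.2) (inv_mem hhn.2)
      · rw [pow_succ, e, pow_succ]; group
  obtain ⟨w, hw, e⟩ := key (3 ^ (2 * m + 1) - 1)
  have h1 : h ^ (3 ^ (2 * m + 1) - 1) = 1 := by
    have := pow_card_eq_one' (G := ↥(chevG2.diagonalSubgroup K ⊓ twistedG2 K (3 ^ m))) (x := ⟨h, hh⟩)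
    rw [ree_H_card hK hσ] at this
    exact congrArg Subtype.val this
  have h2 : w ^ ((3 ^ (2 * m + 1)) ^ 3) = 1 := by
    have := pow_card_eq_one' (G := ↥(chevG2.posUnipotent K ⊓ twistedG2 K (3 ^ m))) (x := ⟨w, hw⟩)
    rw [ree_U_card hK hσ] at this
    exact congrArg Subtype.val this
  rw [pow_mul, e, h1, mul_one, h2]

end reeI

end Cfsg.Agent.Helper6
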