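import Cfsg.Agent.Helper6.ReeI
import Cfsg.Agent.Helper6.ReeGen4
import Cfsg.Agent.Helper39.Ree2359A
import Cfsg.Agent.Helper39.Ree2359I
import Cfsg.Agent.Helper39.Ree2359N
import Cfsg.Agent.Helper39.Ree2359X
import Cfsg.Agent.Helper39.Ree2359Y
import Cfsg.Agent.Helper53.Ree2359P

/-!
# The small Ree groups: the centralisers of elements of odd prime order dividing `q + 1`
-/

set_option autoImplicit false

namespace Cfsg.Agent.Helper6

open Cfsg Cfsg.Lie Cfsg.Agent.Helper36 Cfsg.Agent.Helper17 Matrix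
open Cfsg.Agent.Helper39 Cfsg.Agent.Helper53

section reeJ

variable {K : Type*} [Field K] [CharP K 3] [Fintype K] {m : ℕ}
  {σ : ↥(chevG2.group K) →* ↥(chevG2.group K)}

/-- The 3-part of `|²G₂(q)|`. -/
theorem ree_card_three_part (hK : Fintype.card K = 3 ^ (2 * m + 1)) (hσ : ReeSig m σ) :
    (Nat.card ↥(twistedG2 K (3 ^ m))).factorization 3 = 3 * (2 * m + 1) := by
  rw [ree_card hK hσ]
  have e : (3 ^ (2 * m + 1)) ^ 3 * (3 ^ (2 * m + 1) - 1) * ((3 ^ (2 * m + 1)) ^ 3 + 1) =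
      3 ^ (3 * (2 * m + 1)) * ((3 ^ (2 * m + 1) - 1) * ((3 ^ (2 * m + 1)) ^ 3 + 1)) := by
    rw [← pow_mul, mul_comm (2 * m + 1) 3, mul_assoc]
  rw [e]
  apply factorization_three_pow_mul
  have h1 : 3 ∣ 3 ^ (2 * m + 1) := dvd_pow_self 3 (by omega)
  have h2 : 3 ∣ (3 ^ (2 * m + 1)) ^ 3 := dvd_pow h1 (by norm_num)
  have h0 : 1 ≤ 3 ^ (2 * m + 1) := Nat.one_le_pow _ _ (by norm_num)
  rw [Nat.Prime.dvd_mul Nat.prime_three]
  rintro (h | h)
  · omega
  · omega

/-- The Sylow 3-subgroup `U¹` as a subgroup of `G¹`. -/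
def reeUG (K : Type*) [Field K] (m : ℕ) : Subgroup ↥(twistedG2 K (3 ^ m)) :=
  (chevG2.posUnipotent K).subgroupOf (twistedG2 K (3 ^ m))

theorem reeUG_card (hK : Fintype.card K = 3 ^ (2 * m + 1)) (hσ : ReeSig m σ) :
    Nat.card ↥(reeUG K m) = (3 ^ (2 * m + 1)) ^ 3 := by
  rw [← ree_U_card hK hσ]
  exact Nat.card_congr
    { toFun := fun x => ⟨((x : ↥(twistedG2 K (3 ^ m))) : GL chevG2.Idx K),
        ⟨Subgroup.mem_subgroupOf.mp x.2, x.1.2⟩⟩
      invFun := fun y => ⟨⟨y.1, y.2.2⟩, Subgroup.mem_subgroupOf.mpr y.2.1⟩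
      left_inv := fun _ => rfl
      right_inv := fun _ => rfl }

/-- An element of order 3 does not commute with a non-trivial element of prime order `s` not
dividing `3(q-1)`. -/
theorem ree_three_TI (hK : Fintype.card K = 3 ^ (2 * m + 1)) (hσ : ReeSig m σ) {s : ℕ}
    (hs : s.Prime) (hs3 : s ≠ 3) (hsq : ¬ s ∣ 3 ^ (2 * m + 1) - 1)
    (x y : ↥(twistedG2 K (3 ^ m))) (hx1 : x ≠ 1) (hx3 : x ^ 3 = 1) (hxy : x * y = y * x)
    (hys : y ^ s = 1) : y = 1 := by
  have : Fact (Nat.Prime 3) := ⟨Nat.prime_three⟩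
  have hD : (Nat.card ↥(reeUG K m)).factorization 3 =
      (Nat.card ↥(twistedG2 K (3 ^ m))).factorization 3 := by
    rw [reeUG_card hK hσ, ree_card_three_part hK hσ, ← pow_mul, mul_comm (2 * m + 1) 3]
    simp [Nat.Prime.factorization_self Nat.prime_three]
  obtain ⟨g, hg⟩ := exists_conj_mem_of_factorization_eq (reeUG K m) hD x 1 (by simpa using hx3)
  have hgU : ((g * x * g⁻¹ : ↥(twistedG2 K (3 ^ m))) : GL chevG2.Idx K) ∈ chevG2.posUnipotent K :=
    Subgroup.mem_subgroupOf.mp hg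
  have hne : ((g * x * g⁻¹ : ↥(twistedG2 K (3 ^ m))) : GL chevG2.Idx K) ≠ 1 := by
    intro h
    apply hx1
    have h' : g * x * g⁻¹ = 1 := Subtype.ext h
    have : x = g⁻¹ * (g * x * g⁻¹) * g := by group
    rw [this, h']; group
  have hB : ((g * y * g⁻¹ : ↥(twistedG2 K (3 ^ m))) : GL chevG2.Idx K) ∈
      chevG2.borelSubgroup K := by
    by_contra hB
    apply hne
    refine ree_U_TI hK hσ (g * y * g⁻¹ : ↥(twistedG2 K (3 ^ m))).2 hB hgU ?_
    have e : (g * y * g⁻¹) * (g * x * g⁻¹) * (g * y * g⁻¹)⁻¹ = g * x * g⁻¹ := by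
      have : (g * y * g⁻¹) * (g * x * g⁻¹) * (g * y * g⁻¹)⁻¹ = g * (y * x) * y⁻¹ * g⁻¹ := by group
      rw [this, ← hxy]; group
    have e' := congrArg (Subtype.val : ↥(twistedG2 K (3 ^ m)) → GL chevG2.Idx K) e
    rw [Subgroup.coe_mul, Subgroup.coe_mul, Subgroup.coe_inv] at e'
    rw [e']
    exact hgU
  have h1 := ree_B_pow hK hσ hB (g * y * g⁻¹ : ↥(twistedG2 K (3 ^ m))).2
  have h1' : (g * y * g⁻¹) ^ ((3 ^ (2 * m + 1) - 1) * (3 ^ (2 * m + 1)) ^ 3) = 1 :=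
    Subtype.ext (by rw [Subgroup.coe_pow]; exact h1)
  have h2 : (g * y * g⁻¹) ^ s = 1 := by
    rw [conj_pow, hys]; group
  have hcop : Nat.Coprime s ((3 ^ (2 * m + 1) - 1) * (3 ^ (2 * m + 1)) ^ 3) := by
    apply Nat.Coprime.mul_right
    · exact (Nat.Prime.coprime_iff_not_dvd hs).mpr hsq
    · apply Nat.Coprime.pow_right
      apply Nat.Coprime.pow_right
      exact (Nat.coprime_primes hs Nat.prime_three).mpr hs3
  have h3 : g * y * g⁻¹ = 1 := (pow_eq_one_iff_of_coprime hcop).mp ⟨h2, h1'⟩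
  have : y = g⁻¹ * (g * y * g⁻¹) * g := by group
  rw [this, h3]; group

omit [CharP K 3] [Fintype K] in
/-- Every involution lies in a Sylow 2-subgroup. -/
theorem ree_mem_sylow (j : ↥(twistedG2 K (3 ^ m))) (hj2 : j * j = 1) :
    ∃ S : Sylow 2 ↥(twistedG2 K (3 ^ m)), j ∈ S := by
  have hp : IsPGroup 2 (Subgroup.zpowers j) := by
    rintro ⟨x, hx⟩
    obtain ⟨i, rfl⟩ := Subgroup.mem_zpowers_iff.mp hx
    refine ⟨1, Subtype.ext ?_⟩
    show (j ^ i) ^ 2 ^ 1 = 1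
    rw [pow_one, ← zpow_natCast, ← _root_.zpow_mul, mul_comm, _root_.zpow_mul, zpow_natCast,
      pow_two, hj2, _root_.one_zpow]
  obtain ⟨S, hS⟩ := hp.exists_le_sylow
  exact ⟨S, hS (Subgroup.mem_zpowers j)⟩

/-- All involutions of `²G₂(q)`, `q > 3`, are conjugate. -/
theorem ree_inv_conj (hK : Fintype.card K = 3 ^ (2 * m + 1)) (hσ : ReeSig m σ) (hm : 1 ≤ m)
    (j : ↥(twistedG2 K (3 ^ m))) (hj1 : j ≠ 1) (hj2 : j * j = 1) :
    ∃ g : ↥(twistedG2 K (3 ^ m)), g * j * g⁻¹ = reeA hK := by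
  have : Fact (Nat.Prime 2) := ⟨Nat.prime_two⟩
  obtain ⟨S₀, hS₀⟩ := ree_mem_sylow (reeA hK) (reeA_sq hK)
  obtain ⟨S, hS⟩ := ree_mem_sylow j hj2
  obtain ⟨g, rfl⟩ := MulAction.exists_smul_eq ↥(twistedG2 K (3 ^ m)) S S₀
  have h1 : g * j * g⁻¹ ∈ ((g • S : Sylow 2 ↥(twistedG2 K (3 ^ m))) :
      Subgroup ↥(twistedG2 K (3 ^ m))) := by
    rw [Sylow.coe_subgroup_smul, Subgroup.mem_pointwise_smul_iff_inv_smul_mem]
    simp only [MulAut.smul_def, MulAut.conj_inv_apply]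
    have : g⁻¹ * (g * j * g⁻¹) * g = j := by group
    rw [this]; exact hS
  have h8 := ree_sylow_two hK hσ (g • S)
  have hN := ree_sylow_two_normalizer hK hσ hm (g • S)
  have hne : g * j * g⁻¹ ≠ 1 := by
    intro h
    apply hj1
    have : j = g⁻¹ * (g * j * g⁻¹) * g := by group
    rw [this, h]; group
  obtain ⟨g', hg'⟩ := conj_of_card_normalizer_168
    ((g • S : Sylow 2 ↥(twistedG2 K (3 ^ m))) : Subgroup ↥(twistedG2 K (3 ^ m)))
    h8.1 h8.2 hN.1 hN.2 _ h1 _ hS₀ hne (reeA_ne_one hK)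
  exact ⟨g' * g, by rw [← hg']; group⟩

/-- For `y` of odd prime order dividing `q + 1` commuting with `h(-1)`: the common centraliser
of `y` and `h(-1)` is commutative of order `q + 1`. -/
theorem reeA_PB (hK : Fintype.card K = 3 ^ (2 * m + 1)) (hσ : ReeSig m σ) {s : ℕ}
    (hs : s.Prime) (hs2 : s ≠ 2) (hsq : s ∣ 3 ^ (2 * m + 1) + 1)
    (y : ↥(twistedG2 K (3 ^ m))) (hy1 : y ≠ 1) (hys : y ^ s = 1)
    (hya : y * reeA hK = reeA hK * y) :
    Nat.card ↥(Subgroup.centralizer ({reeA hK} : Set ↥(twistedG2 K (3 ^ m))) ⊓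
        Subgroup.centralizer ({y} : Set ↥(twistedG2 K (3 ^ m)))) = 3 ^ (2 * m + 1) + 1 ∧
      ∀ x z : ↥(twistedG2 K (3 ^ m)), x * reeA hK = reeA hK * x → x * y = y * x →
        z * reeA hK = reeA hK * z → z * y = y * z → x * z = z * x := by
  obtain ⟨e⟩ := reeA_cent hK hσ
  have memC : ∀ x : ↥(twistedG2 K (3 ^ m)), x * reeA hK = reeA hK * x →
      x ∈ Subgroup.centralizer ({reeA hK} : Set ↥(twistedG2 K (3 ^ m))) :=
    fun x hx => Subgroup.mem_centralizer_singleton_iff.mpr hx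
  set y₁ : ↥(Subgroup.centralizer ({reeA hK} : Set ↥(twistedG2 K (3 ^ m)))) :=
    ⟨y, memC y hya⟩ with hy₁
  have hy₁s : (e y₁) ^ s = 1 := by
    rw [← map_pow]
    have : y₁ ^ s = 1 := Subtype.ext hys
    rw [this, map_one]
  have hε : (e y₁).1 = 1 := by
    have h1 : (e y₁).1 ^ s = 1 := congrArg Prod.fst hy₁s
    have h2 : (e y₁).1 ^ 2 = 1 := by rw [pow_two]; exact zmod2_sq _
    have hcop : Nat.Coprime s 2 := (Nat.coprime_primes hs Nat.prime_two).mpr hs2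
    exact (pow_eq_one_iff_of_coprime hcop).mp ⟨h1, h2⟩
  have hyb1 : (e y₁).2 ≠ 1 := by
    intro h
    have h1 : e y₁ = 1 := Prod.ext hε h
    have h2 : y₁ = 1 := by
      apply e.injective
      rw [h1, map_one]
    exact hy1 (congrArg Subtype.val h2)
  have hybs : (e y₁).2 ^ s = 1 := congrArg Prod.snd hy₁s
  have hsK : s ∣ Fintype.card K + 1 := by rw [hK]; exact hsq
  obtain ⟨hP1, hP2⟩ := psl2_centralizer_of_prime ree_two_ne_zero hs hs2 hsK (e y₁).2 hyb1 hybs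
  have key : ∀ x : ↥(Subgroup.centralizer ({reeA hK} : Set ↥(twistedG2 K (3 ^ m)))),
      (x : ↥(twistedG2 K (3 ^ m))) * y = y * x → (e x).2 * (e y₁).2 = (e y₁).2 * (e x).2 := by
    intro x hx
    have h1 : x * y₁ = y₁ * x := Subtype.ext hx
    have h2 := congrArg e h1
    rw [map_mul, map_mul] at h2
    exact congrArg Prod.snd h2
  have key2 : ∀ (ε : Multiplicative (ZMod 2))
      (c : Matrix.ProjectiveSpecialLinearGroup (Fin 2) K), c * (e y₁).2 = (e y₁).2 * c →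
      ((e.symm (ε, c) : ↥(Subgroup.centralizer ({reeA hK} : Set ↥(twistedG2 K (3 ^ m))))) :
        ↥(twistedG2 K (3 ^ m))) * y = y * ((e.symm (ε, c) :
          ↥(Subgroup.centralizer ({reeA hK} : Set ↥(twistedG2 K (3 ^ m))))) :
            ↥(twistedG2 K (3 ^ m))) := by
    intro ε c hc
    have h1 : e.symm (ε, c) * y₁ = y₁ * e.symm (ε, c) := by
      apply e.injective
      rw [map_mul, map_mul, MulEquiv.apply_symm_apply]
      apply Prod.ext
      · exact mul_comm _ _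
      · exact hc
    exact congrArg Subtype.val h1
  constructor
  · have hcard : Nat.card ↥(Subgroup.centralizer ({reeA hK} : Set ↥(twistedG2 K (3 ^ m))) ⊓
        Subgroup.centralizer ({y} : Set ↥(twistedG2 K (3 ^ m)))) =
        Nat.card (Multiplicative (ZMod 2) × ↥(Subgroup.centralizer
          ({(e y₁).2} : Set (Matrix.ProjectiveSpecialLinearGroup (Fin 2) K)))) := by
      refine Nat.card_congr ⟨fun w => ((e ⟨w.1, w.2.1⟩).1, ⟨(e ⟨w.1, w.2.1⟩).2,
          Subgroup.mem_centralizer_singleton_iff.mpr (key ⟨w.1, w.2.1⟩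
            (Subgroup.mem_centralizer_singleton_iff.mp w.2.2))⟩),
        fun p => ⟨(e.symm (p.1, p.2.1) :
            ↥(Subgroup.centralizer ({reeA hK} : Set ↥(twistedG2 K (3 ^ m))))),
          Subgroup.mem_inf.mpr ⟨(e.symm (p.1, p.2.1)).2, Subgroup.mem_centralizer_singleton_iff.mpr
            (key2 p.1 p.2.1 (Subgroup.mem_centralizer_singleton_iff.mp p.2.2))⟩⟩, ?_, ?_⟩
      · intro w
        apply Subtype.ext
        simp
      · intro p
        simp
    rw [hcard, Nat.card_prod]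
    have h2 : Nat.card (Multiplicative (ZMod 2)) = 2 := by
      simp [Nat.card_eq_fintype_card]
    rw [h2, hP1, hK]
  · intro x z hxa hxy hza hzy
    have h1 := hP2 _ _ (key ⟨x, memC x hxa⟩ hxy) (key ⟨z, memC z hza⟩ hzy)
    have h2 : e ⟨x, memC x hxa⟩ * e ⟨z, memC z hza⟩ = e ⟨z, memC z hza⟩ * e ⟨x, memC x hxa⟩ := by
      apply Prod.ext
      · exact mul_comm _ _
      · exact h1
    rw [← map_mul, ← map_mul] at h2
    exact congrArg Subtype.val (e.injective h2)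

/-- The same commutativity for an arbitrary involution. -/
theorem ree_inv_PB (hK : Fintype.card K = 3 ^ (2 * m + 1)) (hσ : ReeSig m σ) (hm : 1 ≤ m)
    {s : ℕ} (hs : s.Prime) (hs2 : s ≠ 2) (hsq : s ∣ 3 ^ (2 * m + 1) + 1)
    (j y : ↥(twistedG2 K (3 ^ m))) (hj1 : j ≠ 1) (hj2 : j * j = 1) (hy1 : y ≠ 1)
    (hys : y ^ s = 1) (hyj : y * j = j * y) :
    ∀ x z : ↥(twistedG2 K (3 ^ m)), x * j = j * x → x * y = y * x →
      z * j = j * z → z * y = y * z → x * z = z * x := by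
  obtain ⟨g, hg⟩ := ree_inv_conj hK hσ hm j hj1 hj2
  intro x z hxj hxy hzj hzy
  have cj : ∀ w : ↥(twistedG2 K (3 ^ m)), w * j = j * w →
      (g * w * g⁻¹) * reeA hK = reeA hK * (g * w * g⁻¹) := by
    intro w hw
    rw [← hg]
    exact (conj_comm_iff g w j).mpr hw
  have cy : ∀ w : ↥(twistedG2 K (3 ^ m)), w * y = y * w →
      (g * w * g⁻¹) * (g * y * g⁻¹) = (g * y * g⁻¹) * (g * w * g⁻¹) :=
    fun w hw => (conj_comm_iff g w y).mpr hw
  have hy1' : g * y * g⁻¹ ≠ 1 := by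
    intro h
    apply hy1
    have : y = g⁻¹ * (g * y * g⁻¹) * g := by group
    rw [this, h]; group
  have hys' : (g * y * g⁻¹) ^ s = 1 := by
    rw [conj_pow, hys]; group
  have h := (reeA_PB hK hσ hs hs2 hsq (g * y * g⁻¹) hy1' hys' (cj y hyj)).2 (g * x * g⁻¹)
    (g * z * g⁻¹) (cj x hxj) (cy x hxy) (cj z hzj) (cy z hzy)
  exact (conj_comm_iff g x z).mp h

/-- For `y` of odd prime order dividing `q + 1` commuting with `h(-1)`: the centraliser of `y`
centralises `h(-1)`. -/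
theorem reeA_MC (hK : Fintype.card K = 3 ^ (2 * m + 1)) (hσ : ReeSig m σ) (hm : 1 ≤ m)
    {s : ℕ} (hs : s.Prime) (hs2 : s ≠ 2) (hsq : s ∣ 3 ^ (2 * m + 1) + 1)
    (y : ↥(twistedG2 K (3 ^ m))) (hy1 : y ≠ 1) (hys : y ^ s = 1)
    (hya : y * reeA hK = reeA hK * y) :
    ∀ x : ↥(twistedG2 K (3 ^ m)), x * y = y * x → x * reeA hK = reeA hK * x := by
  obtain ⟨hMcard, hMcomm⟩ := reeA_PB hK hσ hs hs2 hsq y hy1 hys hya
  have hq8 := three_pow_mod_eight m
  obtain ⟨k, hk, hqk⟩ : ∃ k, Odd k ∧ 3 ^ (2 * m + 1) + 1 = 4 * k :=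
    ⟨(3 ^ (2 * m + 1) + 1) / 4, by rw [Nat.odd_iff]; omega, by omega⟩
  obtain ⟨b, hbM, hb1, hba, hb2⟩ := exists_second_invol _ hk (hMcard.trans hqk)
    (fun x _ hx => ree_two_elem hK hσ x 2 (by simpa using hx)) (reeA hK)
  have hbA : b * reeA hK = reeA hK * b := Subgroup.mem_centralizer_singleton_iff.mp hbM.1
  have hby : b * y = y * b := Subgroup.mem_centralizer_singleton_iff.mp hbM.2
  have hs3 : s ≠ 3 := by
    rintro rfl
    have h1 : 3 ∣ 3 ^ (2 * m + 1) := dvd_pow_self 3 (by omega)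
    omega
  have hsq' : ¬ s ∣ 3 ^ (2 * m + 1) - 1 := by
    intro h
    have h0 : 1 ≤ 3 ^ (2 * m + 1) := Nat.one_le_pow _ _ (by norm_num)
    have h2 : s ∣ 2 := by
      have e : 3 ^ (2 * m + 1) + 1 = (3 ^ (2 * m + 1) - 1) + 2 := by omega
      rw [e] at hsq
      exact (Nat.dvd_add_right h).mp hsq
    exact hs2 ((Nat.prime_dvd_prime_iff_eq hs Nat.prime_two).mp h2)
  have hcop2 : Nat.Coprime s 2 := (Nat.coprime_primes hs Nat.prime_two).mpr hs2
  have h3 : ¬ 3 ∣ Nat.card ↥(Subgroup.centralizer ({y} : Set ↥(twistedG2 K (3 ^ m)))) := by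
    intro h
    have : Fact (Nat.Prime 3) := ⟨Nat.prime_three⟩
    obtain ⟨x, hx⟩ := exists_prime_orderOf_dvd_card' 3 h
    have hx1 : (x : ↥(twistedG2 K (3 ^ m))) ≠ 1 := by
      intro h1
      have : x = 1 := Subtype.ext h1
      rw [this, orderOf_one] at hx
      omega
    have hx3 : (x : ↥(twistedG2 K (3 ^ m))) ^ 3 = 1 := by
      have := pow_orderOf_eq_one x
      rw [hx] at this
      exact congrArg Subtype.val this
    exact hy1 (ree_three_TI hK hσ hs hs3 hsq' x y hx1 hx3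
      (Subgroup.mem_centralizer_singleton_iff.mp x.2) hys)
  have h8 : ¬ 8 ∣ Nat.card ↥(Subgroup.centralizer ({y} : Set ↥(twistedG2 K (3 ^ m)))) := by
    intro h
    have : Fact (Nat.Prime 2) := ⟨Nat.prime_two⟩
    obtain ⟨T, hT⟩ := Sylow.exists_subgroup_card_pow_prime 2 (n := 3) (by simpa using h)
    obtain ⟨k', hk', hGk⟩ := ree_card_two_part hK hσ
    have hf : (Nat.card ↥(twistedG2 K (3 ^ m))).factorization 2 = 3 := by
      rw [hGk]; exact factorization_two_eight_mul hk'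
    have hT' : Nat.card (T.map (Subgroup.subtype
        (Subgroup.centralizer ({y} : Set ↥(twistedG2 K (3 ^ m)))))) =
        2 ^ (Nat.card ↥(twistedG2 K (3 ^ m))).factorization 2 := by
      rw [Subgroup.card_map_of_injective (Subgroup.subtype_injective _), hf]; exact hT
    have hyS : y ∈ ((Sylow.ofCard _ hT' : Sylow 2 ↥(twistedG2 K (3 ^ m))) :
        Subgroup ↥(twistedG2 K (3 ^ m))) := by
      rw [← (ree_sylow_two_normalizer hK hσ hm (Sylow.ofCard _ hT')).1]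
      rw [Subgroup.mem_centralizer_iff]
      intro t ht
      have ht' : t ∈ T.map (Subgroup.subtype
        (Subgroup.centralizer ({y} : Set ↥(twistedG2 K (3 ^ m))))) := ht
      obtain ⟨t', -, rfl⟩ := ht'
      exact Subgroup.mem_centralizer_singleton_iff.mp t'.2
    have hy2 : y * y = 1 := (ree_sylow_two hK hσ (Sylow.ofCard _ hT')).2 y hyS
    exact hy1 ((pow_eq_one_iff_of_coprime hcop2).mp ⟨hys, by rw [pow_two]; exact hy2⟩)
  have hyC : ∀ x : ↥(twistedG2 K (3 ^ m)), x * y = y * x →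
      x ∈ Subgroup.centralizer ({y} : Set ↥(twistedG2 K (3 ^ m))) :=
    fun x hx => Subgroup.mem_centralizer_singleton_iff.mpr hx
  have hab1 : reeA hK * b ≠ 1 := by
    intro h
    apply hba
    have e1 : b = (reeA hK)⁻¹ := eq_inv_of_mul_eq_one_right h
    rw [e1]
    exact inv_eq_of_mul_eq_one_right (reeA_sq hK)
  have hab2 : (reeA hK * b) * (reeA hK * b) = 1 := by
    calc (reeA hK * b) * (reeA hK * b) = reeA hK * (b * reeA hK) * b := by group
      _ = reeA hK * (reeA hK * b) * b := by rw [hbA]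
      _ = (reeA hK * reeA hK) * (b * b) := by group
      _ = 1 := by rw [reeA_sq, hb2, mul_one]
  have hyab : y * (reeA hK * b) = (reeA hK * b) * y := by
    rw [← mul_assoc, hya, mul_assoc, ← hby, mul_assoc]
  have key := eq_centralizer_of_four_sylow h3 h8
    (⟨reeA hK, hyC _ hya.symm⟩ : ↥(Subgroup.centralizer ({y} : Set ↥(twistedG2 K (3 ^ m)))))
    (⟨b, hyC _ hby⟩ : ↥(Subgroup.centralizer ({y} : Set ↥(twistedG2 K (3 ^ m)))))
    (fun h => reeA_ne_one hK (congrArg Subtype.val h))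
    (fun h => hb1 (congrArg Subtype.val h))
    (fun h => hba (congrArg Subtype.val h).symm)
    (Subtype.ext (reeA_sq hK)) (Subtype.ext hb2) (Subtype.ext hbA.symm)
    (fun x z hxa hza => Subtype.ext (hMcomm x z (congrArg Subtype.val hxa)
      (Subgroup.mem_centralizer_singleton_iff.mp x.2) (congrArg Subtype.val hza)
      (Subgroup.mem_centralizer_singleton_iff.mp z.2)))
    (fun x z hxb hzb => Subtype.ext (ree_inv_PB hK hσ hm hs hs2 hsq b y hb1 hb2 hy1 hys hby.symm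
      x z (congrArg Subtype.val hxb) (Subgroup.mem_centralizer_singleton_iff.mp x.2)
      (congrArg Subtype.val hzb) (Subgroup.mem_centralizer_singleton_iff.mp z.2)))
    (fun x z hxb hzb => Subtype.ext (ree_inv_PB hK hσ hm hs hs2 hsq (reeA hK * b) y hab1 hab2
      hy1 hys hyab x z (congrArg Subtype.val hxb) (Subgroup.mem_centralizer_singleton_iff.mp x.2)
      (congrArg Subtype.val hzb) (Subgroup.mem_centralizer_singleton_iff.mp z.2)))
  intro x hx
  exact congrArg Subtype.val (key ⟨x, hyC x hx⟩)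

/-- For `y` of odd prime order dividing `q + 1` commuting with `h(-1)`: the centraliser of `y`
is commutative of order `q + 1` and centralises `h(-1)`. -/
theorem reeA_torus (hK : Fintype.card K = 3 ^ (2 * m + 1)) (hσ : ReeSig m σ) (hm : 1 ≤ m)
    {s : ℕ} (hs : s.Prime) (hs2 : s ≠ 2) (hsq : s ∣ 3 ^ (2 * m + 1) + 1)
    (y : ↥(twistedG2 K (3 ^ m))) (hy1 : y ≠ 1) (hys : y ^ s = 1)
    (hya : y * reeA hK = reeA hK * y) :
    Nat.card ↥(Subgroup.centralizer ({y} : Set ↥(twistedG2 K (3 ^ m)))) = 3 ^ (2 * m + 1) + 1 ∧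
      (∀ x z : ↥(twistedG2 K (3 ^ m)), x * y = y * x → z * y = y * z → x * z = z * x) ∧
      (∀ x : ↥(twistedG2 K (3 ^ m)), x * y = y * x → x * reeA hK = reeA hK * x) := by
  have hMC := reeA_MC hK hσ hm hs hs2 hsq y hy1 hys hya
  obtain ⟨hcard, hcomm⟩ := reeA_PB hK hσ hs hs2 hsq y hy1 hys hya
  have e : Subgroup.centralizer ({reeA hK} : Set ↥(twistedG2 K (3 ^ m))) ⊓
      Subgroup.centralizer ({y} : Set ↥(twistedG2 K (3 ^ m))) =
      Subgroup.centralizer ({y} : Set ↥(twistedG2 K (3 ^ m))) := by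
    apply inf_eq_right.mpr
    intro x hx
    exact Subgroup.mem_centralizer_singleton_iff.mpr
      (hMC x (Subgroup.mem_centralizer_singleton_iff.mp hx))
  rw [e] at hcard
  exact ⟨hcard, fun x z hx hz => hcomm x z (hMC x hx) hx (hMC z hz) hz, hMC⟩

theorem sq_sub_one_eq (q : ℕ) (hq : 1 ≤ q) : q ^ 2 - 1 = (q + 1) * (q - 1) := by
  obtain ⟨r, rfl⟩ := Nat.exists_eq_add_of_le' hq
  rw [Nat.add_sub_cancel]
  apply Nat.sub_eq_of_eq_add
  ring

/-- A self-centralising commutative subgroup of order `q + 1`. -/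
theorem ree_quarter_torus (hK : Fintype.card K = 3 ^ (2 * m + 1)) (hσ : ReeSig m σ)
    (hm : 1 ≤ m) : ∃ M : Subgroup ↥(twistedG2 K (3 ^ m)),
      (∀ x ∈ M, ∀ y ∈ M, x * y = y * x) ∧ Nat.card M = 3 ^ (2 * m + 1) + 1 ∧
      (∀ h ∈ M, h * h ≠ 1 → ∀ c : ↥(twistedG2 K (3 ^ m)), c * h = h * c → c ∈ M) := by
  have hq8 := three_pow_mod_eight m
  have hq27 : 27 ≤ 3 ^ (2 * m + 1) := by
    calc 27 = 3 ^ 3 := by norm_num
      _ ≤ 3 ^ (2 * m + 1) := Nat.pow_le_pow_right (by norm_num) (by omega)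
  have hr1 : (3 ^ (2 * m + 1) + 1) / 4 ≠ 1 := by omega
  have hs₀p : (Nat.minFac ((3 ^ (2 * m + 1) + 1) / 4)).Prime := Nat.minFac_prime hr1
  have hs₀d : Nat.minFac ((3 ^ (2 * m + 1) + 1) / 4) ∣ (3 ^ (2 * m + 1) + 1) / 4 :=
    Nat.minFac_dvd _
  have hs₀q : Nat.minFac ((3 ^ (2 * m + 1) + 1) / 4) ∣ 3 ^ (2 * m + 1) + 1 :=
    hs₀d.trans (Nat.div_dvd_of_dvd (by omega))
  have hs₀2 : Nat.minFac ((3 ^ (2 * m + 1) + 1) / 4) ≠ 2 := by
    intro h
    rw [h] at hs₀d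
    omega
  generalize Nat.minFac ((3 ^ (2 * m + 1) + 1) / 4) = s₀ at hs₀p hs₀d hs₀q hs₀2
  have : Fact s₀.Prime := ⟨hs₀p⟩
  have hCa : s₀ ∣ Nat.card ↥(Subgroup.centralizer ({reeA hK} : Set ↥(twistedG2 K (3 ^ m)))) := by
    rw [reeA_cent_card hK hσ, hK, sq_sub_one_eq _ (by omega)]
    exact Dvd.dvd.mul_left (Dvd.dvd.mul_right hs₀q _) _
  obtain ⟨y₁, hy₁⟩ := exists_prime_orderOf_dvd_card' s₀ hCa
  have hy₀1 : (y₁ : ↥(twistedG2 K (3 ^ m))) ≠ 1 := by
    intro h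
    have : y₁ = 1 := Subtype.ext h
    rw [this, orderOf_one] at hy₁
    exact hs₀p.one_lt.ne hy₁
  have hy₀s : (y₁ : ↥(twistedG2 K (3 ^ m))) ^ s₀ = 1 := by
    have := pow_orderOf_eq_one y₁
    rw [hy₁] at this
    exact congrArg Subtype.val this
  have hy₀a : (y₁ : ↥(twistedG2 K (3 ^ m))) * reeA hK = reeA hK * y₁ :=
    Subgroup.mem_centralizer_singleton_iff.mp y₁.2
  obtain ⟨hMcard, hMcomm, hMa⟩ := reeA_torus hK hσ hm hs₀p hs₀2 hs₀q _ hy₀1 hy₀s hy₀a
  refine ⟨Subgroup.centralizer ({(y₁ : ↥(twistedG2 K (3 ^ m)))} : Set ↥(twistedG2 K (3 ^ m))),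
    ?_, hMcard, ?_⟩
  · intro x hx z hz
    exact hMcomm x z (Subgroup.mem_centralizer_singleton_iff.mp hx)
      (Subgroup.mem_centralizer_singleton_iff.mp hz)
  · intro h hh h2 c hc
    have hhy : h * (y₁ : ↥(twistedG2 K (3 ^ m))) = y₁ * h :=
      Subgroup.mem_centralizer_singleton_iff.mp hh
    have hord : orderOf h ∣ 3 ^ (2 * m + 1) + 1 := by
      rw [← hMcard]
      have := orderOf_dvd_natCard (⟨h, hh⟩ : ↥(Subgroup.centralizer
        ({(y₁ : ↥(twistedG2 K (3 ^ m)))} : Set ↥(twistedG2 K (3 ^ m)))))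
      rwa [Subgroup.orderOf_mk] at this
    have hpos : orderOf h ≠ 0 := (orderOf_pos h).ne'
    rcases Nat.eq_two_pow_or_exists_odd_prime_and_dvd (orderOf h) with
      ⟨k, hk⟩ | ⟨s₁, hs₁p, hs₁d, hs₁o⟩
    · exfalso
      apply h2
      exact ree_two_elem hK hσ h k (by rw [← hk]; exact pow_orderOf_eq_one h)
    · have hs₁2 : s₁ ≠ 2 := by
        rintro rfl
        exact absurd hs₁o (by decide)
      have ho : orderOf (h ^ (orderOf h / s₁)) = s₁ := orderOf_pow_orderOf_div hpos hs₁d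
      have hy1 : h ^ (orderOf h / s₁) ≠ 1 := by
        intro e
        rw [e, orderOf_one] at ho
        exact hs₁p.one_lt.ne ho
      have hys : (h ^ (orderOf h / s₁)) ^ s₁ = 1 := by
        have := pow_orderOf_eq_one (h ^ (orderOf h / s₁))
        rwa [ho] at this
      have hyy : h ^ (orderOf h / s₁) * (y₁ : ↥(twistedG2 K (3 ^ m))) =
          y₁ * h ^ (orderOf h / s₁) := (Commute.pow_left hhy _).eq
      have hya : h ^ (orderOf h / s₁) * reeA hK = reeA hK * h ^ (orderOf h / s₁) := hMa _ hyy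
      obtain ⟨hM'card, hM'comm, -⟩ := reeA_torus hK hσ hm hs₁p hs₁2 (hs₁d.trans hord) _ hy1 hys hya
      have hle : Subgroup.centralizer ({(y₁ : ↥(twistedG2 K (3 ^ m)))} :
          Set ↥(twistedG2 K (3 ^ m))) ≤
          Subgroup.centralizer ({h ^ (orderOf h / s₁)} : Set ↥(twistedG2 K (3 ^ m))) := by
        intro x hx
        rw [Subgroup.mem_centralizer_singleton_iff] at hx ⊢
        exact hMcomm x _ hx hyy
      have heq := Subgroup.eq_of_le_of_card_ge hle (by rw [hMcard, hM'card])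
      rw [heq, Subgroup.mem_centralizer_singleton_iff]
      exact (Commute.pow_right hc _).eq

end reeJ

end Cfsg.Agent.Helper6
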