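import Cfsg.Agent.Helper6.ReeJ

/-!
# The small Ree groups: centralisers of the cyclic subgroups of orders `(q-1)/2` and `(q+1)/4`
-/

set_option autoImplicit false

namespace Cfsg.Agent.Helper6

open Cfsg Cfsg.Lie Cfsg.Agent.Helper36 Cfsg.Agent.Helper17 Matrix
open Cfsg.Agent.Helper39 Cfsg.Agent.Helper53

section reeK

variable {K : Type*} [Field K] [CharP K 3] [Fintype K] {m : ℕ}
  {σ : ↥(chevG2.group K) →* ↥(chevG2.group K)}

theorem cyclic_subgroup_comm {G : Type*} [Group G] (H : Subgroup G) (hH : IsCyclic H) :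
    ∀ x ∈ H, ∀ y ∈ H, x * y = y * x := by
  intro x hx y hy
  obtain ⟨g, hg⟩ := hH.exists_generator
  obtain ⟨i, hi⟩ := Subgroup.mem_zpowers_iff.mp (hg ⟨x, hx⟩)
  obtain ⟨j, hj⟩ := Subgroup.mem_zpowers_iff.mp (hg ⟨y, hy⟩)
  have : (⟨x, hx⟩ : H) * ⟨y, hy⟩ = ⟨y, hy⟩ * ⟨x, hx⟩ := by
    rw [← hi, ← hj]
    exact (Commute.zpow_zpow_self g i j).eq
  exact congrArg Subtype.val this

theorem ree_split_torus_cent (hK : Fintype.card K = 3 ^ (2 * m + 1)) (hσ : ReeSig m σ)
    (hm : 1 ≤ m) (H : Subgroup ↥(twistedG2 K (3 ^ m))) (hH : IsCyclic H)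
    (hcard : Nat.card H = (3 ^ (2 * m + 1) - 1) / 2) :
    IsCyclic ↥(Subgroup.centralizer (H : Set ↥(twistedG2 K (3 ^ m)))) ∧
      Nat.card ↥(Subgroup.centralizer (H : Set ↥(twistedG2 K (3 ^ m)))) = 3 ^ (2 * m + 1) - 1 ∧
      ∀ A : Subgroup ↥(twistedG2 K (3 ^ m)), A ≤ H → A ≠ ⊥ →
        Subgroup.centralizer (A : Set ↥(twistedG2 K (3 ^ m))) =
          Subgroup.centralizer (H : Set ↥(twistedG2 K (3 ^ m))) := by
  have hq8 := three_pow_mod_eight m
  have hq27 : 27 ≤ 3 ^ (2 * m + 1) := by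
    calc 27 = 3 ^ 3 := by norm_num
      _ ≤ 3 ^ (2 * m + 1) := Nat.pow_le_pow_right (by norm_num) (by omega)
  have hHcomm := cyclic_subgroup_comm H hH
  have hodd : Odd (Nat.card H) := by rw [hcard, Nat.odd_iff]; omega
  have h1 : 1 < Nat.card H := by rw [hcard]; omega
  have hSyl : ∀ p : ℕ, p.Prime → p ∣ Nat.card H →
      (Nat.card ↥(reeD K m)).factorization p =
        (Nat.card ↥(twistedG2 K (3 ^ m))).factorization p := by
    intro p hp hpd
    rw [reeD_card hK hσ, ree_card hK hσ]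
    rw [hcard] at hpd
    have hp2 : p ≠ 2 := by
      rintro rfl
      omega
    have hpq : p ∣ 3 ^ (2 * m + 1) - 1 := hpd.trans (Nat.div_dvd_of_dvd (by omega))
    exact ree_factorization_sub (by omega) hp hp2 hpq
  obtain ⟨g, hg⟩ := centralizer_eq_conj_of_selfcent (reeD K m) (reeD_comm hK hσ)
    (reeD_selfcent hK hσ) H hHcomm hodd h1 hSyl
  have hHbot : H ≠ ⊥ := by
    rintro rfl
    rw [Subgroup.card_bot] at h1
    omega
  have hCH := hg H le_rfl hHbot
  refine ⟨?_, ?_, ?_⟩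
  · rw [hCH]
    have := reeD_cyclic hK hσ
    exact isCyclic_of_surjective ((reeD K m).equivMapOfInjective _ (MulAut.conj g).injective)
      (MulEquiv.surjective _)
  · rw [hCH, Subgroup.card_map_of_injective (MulAut.conj g).injective, reeD_card hK hσ]
  · intro A hA hA0
    rw [hg A hA hA0, hCH]

theorem ree_quarter_torus_cent (hK : Fintype.card K = 3 ^ (2 * m + 1)) (hσ : ReeSig m σ)
    (hm : 1 ≤ m) (H : Subgroup ↥(twistedG2 K (3 ^ m))) (hH : IsCyclic H)
    (hcard : Nat.card H = (3 ^ (2 * m + 1) + 1) / 4) :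
    IsMulCommutative ↥(Subgroup.centralizer (H : Set ↥(twistedG2 K (3 ^ m)))) ∧
      Nat.card ↥(Subgroup.centralizer (H : Set ↥(twistedG2 K (3 ^ m)))) = 3 ^ (2 * m + 1) + 1 ∧
      (∀ x ∈ Subgroup.centralizer (H : Set ↥(twistedG2 K (3 ^ m))), orderOf x ≠ 4) ∧
      ∀ A : Subgroup ↥(twistedG2 K (3 ^ m)), A ≤ H → A ≠ ⊥ →
        Subgroup.centralizer (A : Set ↥(twistedG2 K (3 ^ m))) =
          Subgroup.centralizer (H : Set ↥(twistedG2 K (3 ^ m))) := by
  have hq8 := three_pow_mod_eight m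
  have hq27 : 27 ≤ 3 ^ (2 * m + 1) := by
    calc 27 = 3 ^ 3 := by norm_num
      _ ≤ 3 ^ (2 * m + 1) := Nat.pow_le_pow_right (by norm_num) (by omega)
  obtain ⟨M, hMcomm, hMcard, hMself⟩ := ree_quarter_torus hK hσ hm
  have hHcomm := cyclic_subgroup_comm H hH
  have hodd : Odd (Nat.card H) := by rw [hcard, Nat.odd_iff]; omega
  have h1 : 1 < Nat.card H := by rw [hcard]; omega
  have hSyl : ∀ p : ℕ, p.Prime → p ∣ Nat.card H →
      (Nat.card ↥M).factorization p = (Nat.card ↥(twistedG2 K (3 ^ m))).factorization p := by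
    intro p hp hpd
    rw [hMcard, ree_card hK hσ]
    rw [hcard] at hpd
    have hp2 : p ≠ 2 := by
      rintro rfl
      omega
    have hpq : p ∣ 3 ^ (2 * m + 1) + 1 := hpd.trans (Nat.div_dvd_of_dvd (by omega))
    exact ree_factorization_add (dvd_pow_self 3 (by omega)) (by omega) hp hp2 hpq
  obtain ⟨g, hg⟩ := centralizer_eq_conj_of_selfcent M hMcomm hMself H hHcomm hodd h1 hSyl
  have hHbot : H ≠ ⊥ := by
    rintro rfl
    rw [Subgroup.card_bot] at h1
    omega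
  have hCH := hg H le_rfl hHbot
  refine ⟨?_, ?_, ?_, ?_⟩
  · rw [hCH]
    refine ⟨⟨fun a b => ?_⟩⟩
    obtain ⟨a', ha', ha⟩ := a.2
    obtain ⟨b', hb', hb⟩ := b.2
    apply Subtype.ext
    show (a : ↥(twistedG2 K (3 ^ m))) * b = b * a
    rw [← ha, ← hb, ← map_mul, ← map_mul, hMcomm a' ha' b' hb']
  · rw [hCH, Subgroup.card_map_of_injective (MulAut.conj g).injective, hMcard]
  · intro x _ hx4
    have h4 : x ^ 4 = 1 := by rw [← hx4]; exact pow_orderOf_eq_one x
    have h2 := ree_two_elem hK hσ x 2 (by simpa using h4)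
    have : orderOf x ∣ 2 := orderOf_dvd_of_pow_eq_one (by rw [pow_two]; exact h2)
    rw [hx4] at this
    exact absurd this (by decide)
  · intro A hA hA0
    rw [hg A hA hA0, hCH]

end reeK

end Cfsg.Agent.Helper6
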