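import Cfsg.Agent.Helper6.ReeSymMat
import Cfsg.Agent.Helper6.ReeK
import Cfsg.Agent.Helper20.Ree2358BLK

/-!
# The small Ree groups: the 7-dimensional module in characteristic 3
-/

set_option autoImplicit false

namespace Cfsg.Agent.Helper6

open Cfsg Cfsg.Lie Cfsg.Agent.Helper36 Cfsg.Agent.Helper17 Matrix
open Cfsg.Agent.Helper6.RSym
open Cfsg.Agent.Helper20

/-- The codes of the coordinates spanning the 7-dimensional ideal: `h_{p₁}` and the short root vectors. -/
def ree7Codes : List ℕ := [0, 4, 5, 6, 9, 10, 11]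

theorem ree7_check : ((List.range 12).all fun r => ree7Codes.all fun k => (List.range 14).all fun a =>
    ree7Codes.contains a || isZeroR (coeff (symCol chevG2 r (varR 0) k) a)) = true := by
  decide +kernel

/-- The coordinates spanning the 7-dimensional ideal. -/
def ree7Idx : Fin 7 → chevG2.Idx :=
  ![Sum.inl ⟨0, by decide⟩, Sum.inr ⟨2, by decide⟩, Sum.inr ⟨3, by decide⟩, Sum.inr ⟨4, by decide⟩,
    Sum.inr ⟨7, by decide⟩, Sum.inr ⟨8, by decide⟩, Sum.inr ⟨9, by decide⟩]

theorem ree7Idx_injective : Function.Injective ree7Idx := by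
  intro i j h
  fin_cases i <;> fin_cases j <;> first | rfl | (exfalso; revert h; decide)

theorem ree7_code_mem (c : Fin 7) : code chevG2 (ree7Idx c) ∈ ree7Codes := by
  fin_cases c <;> decide

theorem ree7_code_not_mem (a : chevG2.Idx) (ha : a ∉ Set.range ree7Idx) :
    ree7Codes.contains (code chevG2 a) = false := by
  by_contra hc
  rw [Bool.not_eq_false, List.contains_iff_mem] at hc
  apply ha
  have key : ∀ k ∈ ree7Codes, ∃ c : Fin 7, code chevG2 (ree7Idx c) = k := by decide
  obtain ⟨c, hc'⟩ := key _ hc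
  exact ⟨c, code_injective chevG2 hc'⟩

section reeL

variable {K : Type*} [Field K] [CharP K 3]

/-- The matrices preserving the span of the coordinates `ree7Idx`. -/
def Ree7P (M : Matrix chevG2.Idx chevG2.Idx K) : Prop :=
  ∀ (c : Fin 7) (r : chevG2.Idx), r ∉ Set.range ree7Idx → M r (ree7Idx c) = 0

omit [CharP K 3] in
theorem ree7P_one : Ree7P (1 : Matrix chevG2.Idx chevG2.Idx K) := by
  intro c r hr
  rw [Matrix.one_apply, if_neg]
  rintro rfl
  exact hr ⟨c, rfl⟩

omit [CharP K 3] in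
theorem ree7P_mul {M N : Matrix chevG2.Idx chevG2.Idx K} (hM : Ree7P M) (hN : Ree7P N) :
    Ree7P (M * N) := by
  intro c r hr
  rw [Matrix.mul_apply]
  apply Finset.sum_eq_zero
  intro k _
  by_cases hk : k ∈ Set.range ree7Idx
  · obtain ⟨c', rfl⟩ := hk
    rw [hM c' r hr, zero_mul]
  · rw [hN c k hk, mul_zero]

theorem ree7P_x (r : ℕ) (t : K) : Ree7P (chevG2.x K r t) := by
  intro c a ha
  by_cases hr : r < 12
  · have hs := (soundCol_symCol chevG2 (fun _ => t) r (varR 0)).entry a (ree7Idx c)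
    rw [ev_varR] at hs
    rw [← hs]
    apply ev_eq_zero_of_isZeroR
    have h1 := List.all_eq_true.mp ree7_check r (List.mem_range.mpr hr)
    have h2 := List.all_eq_true.mp h1 _ (ree7_code_mem c)
    have h3 := List.all_eq_true.mp h2 (code chevG2 a) (List.mem_range.mpr (code_lt chevG2 a))
    rw [ree7_code_not_mem a ha, Bool.false_or] at h3
    exact h3
  · have : chevG2.x K r t = 1 := by
      unfold ChevalleyDatum.x
      exact dif_neg hr
    rw [this]
    exact ree7P_one c a ha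

/-- The subgroup of `GL` preserving the 7-dimensional subspace. -/
def ree7Sub (K : Type*) [Field K] : Subgroup (GL chevG2.Idx K) where
  carrier := {g | Ree7P (g : Matrix chevG2.Idx chevG2.Idx K) ∧
    Ree7P ((g⁻¹ : GL chevG2.Idx K) : Matrix chevG2.Idx chevG2.Idx K)}
  mul_mem' := by
    intro g h hg hh
    refine ⟨?_, ?_⟩
    · rw [Units.val_mul]; exact ree7P_mul hg.1 hh.1
    · rw [_root_.mul_inv_rev, Units.val_mul]; exact ree7P_mul hh.2 hg.2
  one_mem' := by
    refine ⟨?_, ?_⟩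
    · rw [Units.val_one]; exact ree7P_one
    · rw [inv_one, Units.val_one]; exact ree7P_one
  inv_mem' := by
    intro g hg
    refine ⟨hg.2, ?_⟩
    rw [inv_inv]; exact hg.1

theorem xGL_mem_ree7Sub (hX : XAdd chevG2 K) (r : ℕ) (t : K) : xGL hX r t ∈ ree7Sub K := by
  refine ⟨?_, ?_⟩
  · rw [xGL_val]; exact ree7P_x r t
  · rw [xGL_inv, xGL_val]; exact ree7P_x r (-t)

theorem twistedG2_le_ree7Sub (e : ℕ) : twistedG2 K e ≤ ree7Sub K := by
  have hX := xAdd_of_mem (F := K) g2_mem
  unfold twistedG2 ChevalleyDatum.genSubgroup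
  rw [Subgroup.closure_le]
  rintro g ⟨w, -, hw⟩
  have : g = wordGL hX w := Units.ext (by rw [hw, wordGL_val])
  rw [this]
  exact wordGL_mem hX (ree7Sub K) w (fun p _ => xGL_mem_ree7Sub hX p.1 p.2)

/-- The block of the 7-dimensional subspace, as a homomorphism. -/
noncomputable def ree7Hom (K : Type*) [Field K] : ↥(ree7Sub K) →* GL (Fin 7) K :=
  (exists_block_hom ree7Idx ree7Idx_injective (ree7Sub K) (fun _ hg c r hr => hg.1 c r hr)).choose

omit [CharP K 3] in
theorem ree7Hom_apply (g : ↥(ree7Sub K)) (i j : Fin 7) :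
    (ree7Hom K g : Matrix (Fin 7) (Fin 7) K) i j =
      ((g : GL chevG2.Idx K) : Matrix chevG2.Idx chevG2.Idx K) (ree7Idx i) (ree7Idx j) :=
  (exists_block_hom ree7Idx ree7Idx_injective (ree7Sub K)
    (fun _ hg c r hr => hg.1 c r hr)).choose_spec g i j

/-- The 7-dimensional representation of `²G₂(q)`. -/
noncomputable def ree7Rep (K : Type*) [Field K] [CharP K 3] (e : ℕ) :
    ↥(twistedG2 K e) →* GL (Fin 7) K :=
  (ree7Hom K).comp (Subgroup.inclusion (twistedG2_le_ree7Sub e))

theorem ree7Rep_apply (e : ℕ) (g : ↥(twistedG2 K e)) (i j : Fin 7) :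
    (ree7Rep K e g : Matrix (Fin 7) (Fin 7) K) i j =
      ((g : GL chevG2.Idx K) : Matrix chevG2.Idx chevG2.Idx K) (ree7Idx i) (ree7Idx j) :=
  ree7Hom_apply _ i j

variable [Fintype K] {m : ℕ} {σ : ↥(chevG2.group K) →* ↥(chevG2.group K)}

theorem ree7Rep_reeA_ne_one (hK : Fintype.card K = 3 ^ (2 * m + 1)) :
    ree7Rep K (3 ^ m) (reeA hK) ≠ 1 := by
  intro h
  have hX := xAdd_of_mem (F := K) g2_mem
  have h1 := congrArg (fun M : GL (Fin 7) K => (M : Matrix (Fin 7) (Fin 7) K) 4 4) h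
  simp only [ree7Rep_apply, Units.val_one, Matrix.one_apply_eq] at h1
  have h2 : ((reeA hK : ↥(twistedG2 K (3 ^ m))) : GL chevG2.Idx K) =
      hGL hX 7 (frT K m (-1)) * hGL hX 6 (-1) := rfl
  have hm1 : (-1 : K) ≠ 0 := neg_ne_zero.mpr one_ne_zero
  rw [h2, Units.val_mul, g2_hGL_diag hX (by norm_num) ((map_ne_zero _).mpr hm1),
    g2_hGL_diag hX (by norm_num) hm1, Matrix.diagonal_mul_diagonal] at h1
  have h3 : ree7Idx 4 = Sum.inr ⟨7, by decide⟩ := rfl
  rw [h3, Matrix.diagonal_apply_eq] at h1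
  simp only [Sum.elim_inr] at h1
  have e1 : chevG2.pairing 7 7 = 2 := by decide
  have e2 : chevG2.pairing 6 7 = -1 := by decide
  rw [e1, e2, map_neg, map_one] at h1
  have h4 : (-1 : K) ^ (2 : ℤ) * (-1 : K) ^ (-1 : ℤ) = -1 := by
    rw [_root_.zpow_neg_one, zpow_ofNat]
    norm_num
  rw [h4] at h1
  have h5 := three_eq_zero' (K := K)
  exact one_ne_zero (by linear_combination h5 + h1 : (1 : K) = 0)

/-- The 7-dimensional representation is faithful. -/
theorem ree7Rep_injective (hK : Fintype.card K = 3 ^ (2 * m + 1)) (hσ : ReeSig m σ)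
    (hm : 1 ≤ m) : Function.Injective (ree7Rep K (3 ^ m)) := by
  have hs := ree_simple hK hσ hm
  rw [← MonoidHom.ker_eq_bot_iff]
  rcases (MonoidHom.normal_ker (ree7Rep K (3 ^ m))).eq_bot_or_eq_top with h | h
  · exact h
  · exfalso
    have : reeA hK ∈ (ree7Rep K (3 ^ m)).ker := by rw [h]; trivial
    exact ree7Rep_reeA_ne_one hK (MonoidHom.mem_ker.mp this)

end reeL

end Cfsg.Agent.Helper6
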