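import Cfsg.Agent.Helper6.ReeL
import Cfsg.Agent.Helper20.Ree2358AR
import Cfsg.Agent.Helper39.Ree2358LA13

/-!
# The small Ree groups: centralisers of elements of prime order dividing `q² - q + 1`
-/

set_option autoImplicit false

namespace Cfsg.Agent.Helper6

open Cfsg Cfsg.Lie Cfsg.Agent.Helper36 Cfsg.Agent.Helper17 Matrix
open Cfsg.Agent.Helper39 Cfsg.Agent.Helper20

section reeM

variable {K : Type*} [Field K] [CharP K 3] [Fintype K] {m : ℕ}
  {σ : ↥(chevG2.group K) →* ↥(chevG2.group K)}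

theorem three_dvd_q (m : ℕ) : 3 ∣ 3 ^ (2 * m + 1) := dvd_pow_self 3 (by omega)

theorem one_lt_q (m : ℕ) : 1 < 3 ^ (2 * m + 1) := Nat.one_lt_pow (by omega) (by norm_num)

/-- `|G| = q³ (q-1) (q+1) (q² - q + 1)`. -/
theorem ree_card' (hK : Fintype.card K = 3 ^ (2 * m + 1)) (hσ : ReeSig m σ) :
    Nat.card ↥(twistedG2 K (3 ^ m)) =
      ((3 ^ (2 * m + 1)) ^ 3 * (3 ^ (2 * m + 1) - 1) * (3 ^ (2 * m + 1) + 1)) *
        ((3 ^ (2 * m + 1)) ^ 2 - 3 ^ (2 * m + 1) + 1) := by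
  rw [ree_card hK hσ]
  have h1 := one_lt_q m
  generalize 3 ^ (2 * m + 1) = q at h1
  have e : q ^ 3 + 1 = (q + 1) * (q ^ 2 - q + 1) := by
    obtain ⟨r, rfl⟩ : ∃ r, q = r + 1 := ⟨q - 1, by omega⟩
    have : (r + 1) ^ 2 - (r + 1) + 1 = r ^ 2 + r + 1 := by
      have : (r + 1) ^ 2 = r ^ 2 + r + (r + 1) := by ring
      omega
    rw [this]; ring
  rw [e]; ring

/-- An element of prime order `p ∣ q² - q + 1` commutes with no involution. -/
theorem ree_no_inv_comm (hK : Fintype.card K = 3 ^ (2 * m + 1)) (hσ : ReeSig m σ) (hm : 1 ≤ m)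
    {p : ℕ} (hp : p.Prime) (hpd : p ∣ (3 ^ (2 * m + 1)) ^ 2 - 3 ^ (2 * m + 1) + 1)
    (x : ↥(twistedG2 K (3 ^ m))) (hx1 : x ≠ 1) (hxp : x ^ p = 1)
    (j : ↥(twistedG2 K (3 ^ m))) (hj1 : j ≠ 1) (hj2 : j * j = 1) (hxj : x * j = j * x) : False := by
  have : Fact p.Prime := ⟨hp⟩
  obtain ⟨-, -, h1, h2, h3, -, -⟩ := ree_six_coprime (three_dvd_q m) (one_lt_q m) hp hpd
  obtain ⟨g, hg⟩ := ree_inv_conj hK hσ hm j hj1 hj2
  have hc : (g * x * g⁻¹) * reeA hK = reeA hK * (g * x * g⁻¹) := by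
    rw [← hg]; exact (conj_comm_iff g x j).mpr hxj
  have ho : orderOf (g * x * g⁻¹) = p := by
    apply orderOf_eq_prime
    · rw [conj_pow, hxp]; group
    · intro h
      apply hx1
      have : x = g⁻¹ * (g * x * g⁻¹) * g := by group
      rw [this, h]; group
  have hd : p ∣ Nat.card ↥(Subgroup.centralizer ({reeA hK} : Set ↥(twistedG2 K (3 ^ m)))) := by
    have := orderOf_dvd_natCard (⟨g * x * g⁻¹, Subgroup.mem_centralizer_singleton_iff.mpr hc⟩ :
      ↥(Subgroup.centralizer ({reeA hK} : Set ↥(twistedG2 K (3 ^ m)))))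
    rwa [Subgroup.orderOf_mk, ho] at this
  rw [reeA_cent_card hK hσ, hK, sq_sub_one_eq _ (one_lt_q m).le] at hd
  rcases (Nat.Prime.dvd_mul hp).mp hd with h | h
  · exact h1 h
  · rcases (Nat.Prime.dvd_mul hp).mp h with h | h
    · exact h3 h
    · exact h2 h

/-- An element of prime order `p ∣ q² - q + 1` commutes with no element of odd prime order
dividing `q - 1`. -/
theorem ree_no_qm1_comm (hK : Fintype.card K = 3 ^ (2 * m + 1)) (hσ : ReeSig m σ)
    {p : ℕ} (hp : p.Prime) (hpd : p ∣ (3 ^ (2 * m + 1)) ^ 2 - 3 ^ (2 * m + 1) + 1)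
    (x : ↥(twistedG2 K (3 ^ m))) (hx1 : x ≠ 1) (hxp : x ^ p = 1)
    {s : ℕ} (hs : s.Prime) (hs2 : s ≠ 2) (hsd : s ∣ 3 ^ (2 * m + 1) - 1)
    (y : ↥(twistedG2 K (3 ^ m))) (hy1 : y ≠ 1) (hys : y ^ s = 1) (hxy : x * y = y * x) : False := by
  have : Fact p.Prime := ⟨hp⟩
  have : Fact s.Prime := ⟨hs⟩
  obtain ⟨-, -, h1, h2, h3, -, -⟩ := ree_six_coprime (three_dvd_q m) (one_lt_q m) hp hpd
  have hD : (Nat.card ↥(reeD K m)).factorization s =
      (Nat.card ↥(twistedG2 K (3 ^ m))).factorization s := by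
    rw [reeD_card hK hσ, ree_card hK hσ]
    exact ree_factorization_sub (one_lt_q m) hs hs2 hsd
  obtain ⟨g, hg⟩ := exists_conj_mem_of_factorization_eq (reeD K m) hD y 1 (by simpa using hys)
  have hy1' : g * y * g⁻¹ ≠ 1 := by
    intro h
    apply hy1
    have : y = g⁻¹ * (g * y * g⁻¹) * g := by group
    rw [this, h]; group
  have hys' : (g * y * g⁻¹) ^ s = 1 := by rw [conj_pow, hys]; group
  have hy2 : (g * y * g⁻¹) * (g * y * g⁻¹) ≠ 1 := by
    intro h
    have hcop : Nat.Coprime s 2 := (Nat.coprime_primes hs Nat.prime_two).mpr hs2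
    exact hy1' ((pow_eq_one_iff_of_coprime hcop).mp ⟨hys', by rw [pow_two]; exact h⟩)
  have hc : (g * x * g⁻¹) * (g * y * g⁻¹) = (g * y * g⁻¹) * (g * x * g⁻¹) :=
    (conj_comm_iff g x y).mpr hxy
  have hxD := reeD_selfcent hK hσ _ hg hy2 _ hc
  have ho : orderOf (g * x * g⁻¹) = p := by
    apply orderOf_eq_prime
    · rw [conj_pow, hxp]; group
    · intro h
      apply hx1
      have : x = g⁻¹ * (g * x * g⁻¹) * g := by group
      rw [this, h]; group
  have hd : p ∣ Nat.card ↥(reeD K m) := by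
    have := orderOf_dvd_natCard (⟨g * x * g⁻¹, hxD⟩ : ↥(reeD K m))
    rwa [Subgroup.orderOf_mk, ho] at this
  rw [reeD_card hK hσ] at hd
  exact h2 hd

/-- An element of prime order `p ∣ q² - q + 1` commutes with no element of odd prime order
dividing `q + 1`. -/
theorem ree_no_qp1_comm (hK : Fintype.card K = 3 ^ (2 * m + 1)) (hσ : ReeSig m σ) (hm : 1 ≤ m)
    {p : ℕ} (hp : p.Prime) (hpd : p ∣ (3 ^ (2 * m + 1)) ^ 2 - 3 ^ (2 * m + 1) + 1)
    (x : ↥(twistedG2 K (3 ^ m))) (hx1 : x ≠ 1) (hxp : x ^ p = 1)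
    {s : ℕ} (hs : s.Prime) (hs2 : s ≠ 2) (hsd : s ∣ 3 ^ (2 * m + 1) + 1)
    (y : ↥(twistedG2 K (3 ^ m))) (hy1 : y ≠ 1) (hys : y ^ s = 1) (hxy : x * y = y * x) : False := by
  have : Fact p.Prime := ⟨hp⟩
  have : Fact s.Prime := ⟨hs⟩
  obtain ⟨-, -, h1, h2, h3, -, -⟩ := ree_six_coprime (three_dvd_q m) (one_lt_q m) hp hpd
  have hD : (Nat.card ↥(Subgroup.centralizer ({reeA hK} : Set ↥(twistedG2 K (3 ^ m))))).factorization s =
      (Nat.card ↥(twistedG2 K (3 ^ m))).factorization s := by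
    rw [reeA_cent_card hK hσ, hK, ree_card hK hσ]
    exact ree_factorization_cent (three_dvd_q m) (one_lt_q m) hs hs2 hsd
  obtain ⟨g, hg⟩ := exists_conj_mem_of_factorization_eq _ hD y 1 (by simpa using hys)
  have hy1' : g * y * g⁻¹ ≠ 1 := by
    intro h
    apply hy1
    have : y = g⁻¹ * (g * y * g⁻¹) * g := by group
    rw [this, h]; group
  have hys' : (g * y * g⁻¹) ^ s = 1 := by rw [conj_pow, hys]; group
  have hya := Subgroup.mem_centralizer_singleton_iff.mp hg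
  obtain ⟨hcard, -, -⟩ := reeA_torus hK hσ hm hs hs2 hsd _ hy1' hys' hya
  have hc : (g * x * g⁻¹) * (g * y * g⁻¹) = (g * y * g⁻¹) * (g * x * g⁻¹) :=
    (conj_comm_iff g x y).mpr hxy
  have ho : orderOf (g * x * g⁻¹) = p := by
    apply orderOf_eq_prime
    · rw [conj_pow, hxp]; group
    · intro h
      apply hx1
      have : x = g⁻¹ * (g * x * g⁻¹) * g := by group
      rw [this, h]; group
  have hd : p ∣ Nat.card ↥(Subgroup.centralizer ({g * y * g⁻¹} : Set ↥(twistedG2 K (3 ^ m)))) := by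
    have := orderOf_dvd_natCard (⟨g * x * g⁻¹, Subgroup.mem_centralizer_singleton_iff.mpr hc⟩ :
      ↥(Subgroup.centralizer ({g * y * g⁻¹} : Set ↥(twistedG2 K (3 ^ m)))))
    rwa [Subgroup.orderOf_mk, ho] at this
  rw [hcard] at hd
  exact h3 hd

/-- The primes dividing the order of the centraliser of an element of prime order
`p ∣ q² - q + 1` divide `q² - q + 1`. -/
theorem ree_exotic_cent_prime (hK : Fintype.card K = 3 ^ (2 * m + 1)) (hσ : ReeSig m σ)
    (hm : 1 ≤ m) {p : ℕ} (hp : p.Prime)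
    (hpd : p ∣ (3 ^ (2 * m + 1)) ^ 2 - 3 ^ (2 * m + 1) + 1)
    (x : ↥(twistedG2 K (3 ^ m))) (hx1 : x ≠ 1) (hxp : x ^ p = 1) {r : ℕ} (hr : r.Prime)
    (hrd : r ∣ Nat.card ↥(Subgroup.centralizer ({x} : Set ↥(twistedG2 K (3 ^ m))))) :
    r ∣ (3 ^ (2 * m + 1)) ^ 2 - 3 ^ (2 * m + 1) + 1 := by
  have : Fact r.Prime := ⟨hr⟩
  obtain ⟨-, hp3, h1, h2, h3, -, -⟩ := ree_six_coprime (three_dvd_q m) (one_lt_q m) hp hpd
  obtain ⟨y, hy⟩ := exists_prime_orderOf_dvd_card' r hrd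
  have hy1 : (y : ↥(twistedG2 K (3 ^ m))) ≠ 1 := by
    intro h
    have : y = 1 := Subtype.ext h
    rw [this, orderOf_one] at hy
    exact hr.one_lt.ne hy
  have hyr : (y : ↥(twistedG2 K (3 ^ m))) ^ r = 1 := by
    have := pow_orderOf_eq_one y
    rw [hy] at this
    exact congrArg Subtype.val this
  have hyx : (y : ↥(twistedG2 K (3 ^ m))) * x = x * y :=
    Subgroup.mem_centralizer_singleton_iff.mp y.2
  by_cases hr2 : r = 2
  · exfalso
    subst hr2
    exact ree_no_inv_comm hK hσ hm hp hpd x hx1 hxp y hy1 (by rw [← pow_two]; exact hyr) hyx.symm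
  by_cases hr3 : r = 3
  · exfalso
    subst hr3
    exact hx1 (ree_three_TI hK hσ hp hp3 h2 y x hy1 hyr hyx hxp)
  have hrG : r ∣ (3 ^ (2 * m + 1)) ^ 3 * (3 ^ (2 * m + 1) - 1) * ((3 ^ (2 * m + 1)) ^ 3 + 1) := by
    rw [← ree_card hK hσ]
    exact hrd.trans (Subgroup.card_subgroup_dvd_card _)
  have hrq : ¬ r ∣ 3 ^ (2 * m + 1) := by
    intro h
    exact hr3 ((Nat.prime_dvd_prime_iff_eq hr Nat.prime_three).mp (hr.dvd_of_dvd_pow h))
  rcases ree_prime_cases (one_lt_q m) hr hrq hrG with h | h | h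
  · exact (ree_no_qm1_comm hK hσ hp hpd x hx1 hxp hr hr2 h y hy1 hyr hyx.symm).elim
  · exact (ree_no_qp1_comm hK hσ hm hp hpd x hx1 hxp hr hr2 h y hy1 hyr hyx.symm).elim
  · exact h

/-- The order of the centraliser of an element of prime order `p ∣ q² - q + 1` divides
`q² - q + 1`. -/
theorem ree_exotic_cent_card (hK : Fintype.card K = 3 ^ (2 * m + 1)) (hσ : ReeSig m σ)
    (hm : 1 ≤ m) {p : ℕ} (hp : p.Prime)
    (hpd : p ∣ (3 ^ (2 * m + 1)) ^ 2 - 3 ^ (2 * m + 1) + 1)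
    (x : ↥(twistedG2 K (3 ^ m))) (hx1 : x ≠ 1) (hxp : x ^ p = 1) :
    Nat.card ↥(Subgroup.centralizer ({x} : Set ↥(twistedG2 K (3 ^ m)))) ∣
      (3 ^ (2 * m + 1)) ^ 2 - 3 ^ (2 * m + 1) + 1 := by
  have hd : Nat.card ↥(Subgroup.centralizer ({x} : Set ↥(twistedG2 K (3 ^ m)))) ∣
      ((3 ^ (2 * m + 1)) ^ 3 * (3 ^ (2 * m + 1) - 1) * (3 ^ (2 * m + 1) + 1)) *
        ((3 ^ (2 * m + 1)) ^ 2 - 3 ^ (2 * m + 1) + 1) := by
    rw [← ree_card' hK hσ]
    exact Subgroup.card_subgroup_dvd_card _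
  refine Nat.Coprime.dvd_of_dvd_mul_left ?_ hd
  apply Nat.Coprime.mul_right
  · apply Nat.Coprime.mul_right
    · apply Nat.Coprime.pow_right
      apply Nat.coprime_of_dvd
      intro r hr hr1 hr2
      have := ree_exotic_cent_prime hK hσ hm hp hpd x hx1 hxp hr hr1
      exact (ree_six_coprime (three_dvd_q m) (one_lt_q m) hr this).2.2.1 hr2
    · apply Nat.coprime_of_dvd
      intro r hr hr1 hr2
      have := ree_exotic_cent_prime hK hσ hm hp hpd x hx1 hxp hr hr1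
      exact (ree_six_coprime (three_dvd_q m) (one_lt_q m) hr this).2.2.2.1 hr2
  · apply Nat.coprime_of_dvd
    intro r hr hr1 hr2
    have := ree_exotic_cent_prime hK hσ hm hp hpd x hx1 hxp hr hr1
    exact (ree_six_coprime (three_dvd_q m) (one_lt_q m) hr this).2.2.2.2.1 hr2

/-- The centraliser of an element of prime order `p ∣ q² - q + 1` is cyclic. -/
theorem ree_exotic_cyclic (hK : Fintype.card K = 3 ^ (2 * m + 1)) (hσ : ReeSig m σ)
    (hm : 1 ≤ m) {p : ℕ} (hp : p.Prime)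
    (hpd : p ∣ (3 ^ (2 * m + 1)) ^ 2 - 3 ^ (2 * m + 1) + 1)
    (x : ↥(twistedG2 K (3 ^ m))) (hx1 : x ≠ 1) (hxp : x ^ p = 1) :
    IsCyclic ↥(Subgroup.centralizer ({x} : Set ↥(twistedG2 K (3 ^ m)))) := by
  obtain ⟨-, -, h1, h2, h3, h4, h5⟩ := ree_six_coprime (three_dvd_q m) (one_lt_q m) hp hpd
  have hinj := ree7Rep_injective hK hσ hm
  have hA : ((ree7Rep K (3 ^ m) x : GL (Fin 7) K) : Matrix (Fin 7) (Fin 7) K) ^ p = 1 := by
    rw [← Units.val_pow_eq_pow_val, ← map_pow, hxp, map_one, Units.val_one]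
  have hA1 : ((ree7Rep K (3 ^ m) x : GL (Fin 7) K) : Matrix (Fin 7) (Fin 7) K) ≠ 1 := by
    intro h
    apply hx1
    apply hinj
    rw [map_one]
    exact Units.ext h
  have hcop : Nat.Coprime (Nat.card ↥((Subgroup.centralizer
      ({x} : Set ↥(twistedG2 K (3 ^ m)))).map (ree7Rep K (3 ^ m)))) (Fintype.card K - 1) := by
    rw [Subgroup.card_map_of_injective hinj, hK]
    apply Nat.coprime_of_dvd
    intro r hr hr1 hr2
    have := ree_exotic_cent_prime hK hσ hm hp hpd x hx1 hxp hr hr1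
    exact (ree_six_coprime (three_dvd_q m) (one_lt_q m) hr this).2.2.2.1 hr2
  have hcyc := isCyclic_of_commute_order_six hp (by rw [hK]; exact h1) (by rw [hK]; exact h4)
    (by rw [hK]; exact h5) _ hA hA1
    ((Subgroup.centralizer ({x} : Set ↥(twistedG2 K (3 ^ m)))).map (ree7Rep K (3 ^ m)))
    (by
      rintro g ⟨t, ht, rfl⟩
      have h := Subgroup.mem_centralizer_singleton_iff.mp ht
      have h' := congrArg (fun y => ((ree7Rep K (3 ^ m) y : GL (Fin 7) K) :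
        Matrix (Fin 7) (Fin 7) K)) h
      simpa only [map_mul, Units.val_mul] using h') hcop
  exact isCyclic_of_surjective
    ((Subgroup.centralizer ({x} : Set ↥(twistedG2 K (3 ^ m)))).equivMapOfInjective _ hinj).symm
    (MulEquiv.surjective _)

/-- The centraliser `T` of an element of prime order `p ∣ q² - q + 1` is the centraliser of each
of its non-trivial elements. -/
theorem ree_exotic_TI (hK : Fintype.card K = 3 ^ (2 * m + 1)) (hσ : ReeSig m σ)
    (hm : 1 ≤ m) {p : ℕ} (hp : p.Prime)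
    (hpd : p ∣ (3 ^ (2 * m + 1)) ^ 2 - 3 ^ (2 * m + 1) + 1)
    (x : ↥(twistedG2 K (3 ^ m))) (hx1 : x ≠ 1) (hxp : x ^ p = 1) :
    ∀ y ∈ Subgroup.centralizer ({x} : Set ↥(twistedG2 K (3 ^ m))), y ≠ 1 →
      ∀ c : ↥(twistedG2 K (3 ^ m)), c * y = y * c →
        c ∈ Subgroup.centralizer ({x} : Set ↥(twistedG2 K (3 ^ m))) := by
  intro y hy hy1 c hc
  have hyx : y * x = x * y := Subgroup.mem_centralizer_singleton_iff.mp hy
  have hpos : orderOf y ≠ 0 := (orderOf_pos y).ne'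
  have hne1 : orderOf y ≠ 1 := fun h => hy1 (orderOf_eq_one_iff.mp h)
  obtain ⟨r, hr, hrd⟩ := Nat.exists_prime_and_dvd hne1
  have ho : orderOf (y ^ (orderOf y / r)) = r := orderOf_pow_orderOf_div hpos hrd
  have hz1 : y ^ (orderOf y / r) ≠ 1 := by
    intro e
    rw [e, orderOf_one] at ho
    exact hr.one_lt.ne ho
  have hzr : (y ^ (orderOf y / r)) ^ r = 1 := by
    have := pow_orderOf_eq_one (y ^ (orderOf y / r))
    rwa [ho] at this
  have hzx : y ^ (orderOf y / r) * x = x * y ^ (orderOf y / r) := (Commute.pow_left hyx _).eq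
  have hrT : r ∣ Nat.card ↥(Subgroup.centralizer ({x} : Set ↥(twistedG2 K (3 ^ m)))) := by
    have := orderOf_dvd_natCard (⟨y ^ (orderOf y / r),
      Subgroup.mem_centralizer_singleton_iff.mpr hzx⟩ :
      ↥(Subgroup.centralizer ({x} : Set ↥(twistedG2 K (3 ^ m)))))
    rwa [Subgroup.orderOf_mk, ho] at this
  have hrn := ree_exotic_cent_prime hK hσ hm hp hpd x hx1 hxp hr hrT
  have hcyc := ree_exotic_cyclic hK hσ hm hr hrn _ hz1 hzr
  have hcomm := cyclic_subgroup_comm _ hcyc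
  rw [Subgroup.mem_centralizer_singleton_iff]
  exact hcomm c (Subgroup.mem_centralizer_singleton_iff.mpr (Commute.pow_right hc _).eq)
    x (Subgroup.mem_centralizer_singleton_iff.mpr hzx.symm)

end reeM

end Cfsg.Agent.Helper6
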