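import Cfsg.Agent.Helper6.ReeM
import Cfsg.Agent.Helper53.Ree2358PC
import Cfsg.Agent.Helper66.Ree2358GA1
import Cfsg.Agent.Helper66.Ree2358GA2
import Cfsg.Agent.Helper42.Ree1158CYC
import Cfsg.Agent.Helper42.Ree1158GA3

/-!
# The small Ree groups: Sylow subgroups for primes `> 3`; conjugacy of cyclic subgroups of the tori
-/

set_option autoImplicit false

namespace Cfsg.Agent.Helper6

open Cfsg Cfsg.Lie Cfsg.Agent.Helper36 Cfsg.Agent.Helper17 Matrix
open Cfsg.Agent.Helper39 Cfsg.Agent.Helper20 Cfsg.Agent.Helper53 Cfsg.Agent.Helper66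
open Cfsg.Agent.Helper42

section reeN

variable {K : Type*} [Field K] [CharP K 3] [Fintype K] {m : ℕ}
  {σ : ↥(chevG2.group K) →* ↥(chevG2.group K)}

/-- The torus of order `q + 1` contains the centraliser of each of its elements of order `> 2`. -/
theorem reeA_torus_selfcent (hK : Fintype.card K = 3 ^ (2 * m + 1)) (hσ : ReeSig m σ)
    (hm : 1 ≤ m) {s : ℕ} (hs : s.Prime) (hs2 : s ≠ 2) (hsq : s ∣ 3 ^ (2 * m + 1) + 1)
    (y : ↥(twistedG2 K (3 ^ m))) (hy1 : y ≠ 1) (hys : y ^ s = 1)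
    (hya : y * reeA hK = reeA hK * y) :
    ∀ h ∈ Subgroup.centralizer ({y} : Set ↥(twistedG2 K (3 ^ m))), h * h ≠ 1 →
      ∀ c : ↥(twistedG2 K (3 ^ m)), c * h = h * c →
        c ∈ Subgroup.centralizer ({y} : Set ↥(twistedG2 K (3 ^ m))) := by
  obtain ⟨hMcard, hMcomm, hMa⟩ := reeA_torus hK hσ hm hs hs2 hsq y hy1 hys hya
  intro h hh h2 c hc
  have hhy : h * y = y * h := Subgroup.mem_centralizer_singleton_iff.mp hh
  have hord : orderOf h ∣ 3 ^ (2 * m + 1) + 1 := by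
    rw [← hMcard]
    have := orderOf_dvd_natCard (⟨h, hh⟩ : ↥(Subgroup.centralizer
      ({y} : Set ↥(twistedG2 K (3 ^ m)))))
    rwa [Subgroup.orderOf_mk] at this
  have hpos : orderOf h ≠ 0 := (orderOf_pos h).ne'
  rcases Nat.eq_two_pow_or_exists_odd_prime_and_dvd (orderOf h) with
    ⟨k, hk⟩ | ⟨s₁, hs₁p, hs₁d, hs₁o⟩
  · exfalso
    apply h2
    exact ree_two_elem hK hσ h k (by rw [← hk]; exact pow_orderOf_eq_one h)
  · have hs₁2 : s₁ ≠ 2 := by
      rintro rfl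
      exact absurd hs₁o (by decide)
    have ho : orderOf (h ^ (orderOf h / s₁)) = s₁ := orderOf_pow_orderOf_div hpos hs₁d
    have hz1 : h ^ (orderOf h / s₁) ≠ 1 := by
      intro e
      rw [e, orderOf_one] at ho
      exact hs₁p.one_lt.ne ho
    have hzs : (h ^ (orderOf h / s₁)) ^ s₁ = 1 := by
      have := pow_orderOf_eq_one (h ^ (orderOf h / s₁))
      rwa [ho] at this
    have hyy : h ^ (orderOf h / s₁) * y = y * h ^ (orderOf h / s₁) := (Commute.pow_left hhy _).eq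
    have hza : h ^ (orderOf h / s₁) * reeA hK = reeA hK * h ^ (orderOf h / s₁) := hMa _ hyy
    obtain ⟨hM'card, hM'comm, -⟩ := reeA_torus hK hσ hm hs₁p hs₁2 (hs₁d.trans hord) _ hz1 hzs hza
    have hle : Subgroup.centralizer ({y} : Set ↥(twistedG2 K (3 ^ m))) ≤
        Subgroup.centralizer ({h ^ (orderOf h / s₁)} : Set ↥(twistedG2 K (3 ^ m))) := by
      intro x hx
      rw [Subgroup.mem_centralizer_singleton_iff] at hx ⊢
      exact hMcomm x _ hx hyy
    have heq := Subgroup.eq_of_le_of_card_ge hle (by rw [hMcard, hM'card])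
    rw [heq, Subgroup.mem_centralizer_singleton_iff]
    exact (Commute.pow_right hc _).eq

/-- In the torus of order `q + 1`, at most `d` elements satisfy `x ^ d = 1`, for odd `d`. -/
theorem reeA_torus_count (hK : Fintype.card K = 3 ^ (2 * m + 1)) (hσ : ReeSig m σ)
    (hm : 1 ≤ m) {s : ℕ} (hs : s.Prime) (hs2 : s ≠ 2) (hsq : s ∣ 3 ^ (2 * m + 1) + 1)
    (y : ↥(twistedG2 K (3 ^ m))) (hy1 : y ≠ 1) (hys : y ^ s = 1)
    (hya : y * reeA hK = reeA hK * y) {d : ℕ} (hd : Odd d) :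
    Nat.card {x : ↥(twistedG2 K (3 ^ m)) //
      x ∈ Subgroup.centralizer ({y} : Set ↥(twistedG2 K (3 ^ m))) ∧ x ^ d = 1} ≤ d := by
  obtain ⟨-, -, hMa⟩ := reeA_torus hK hσ hm hs hs2 hsq y hy1 hys hya
  obtain ⟨e⟩ := reeA_cent hK hσ
  have memC : ∀ x : ↥(twistedG2 K (3 ^ m)), x * reeA hK = reeA hK * x →
      x ∈ Subgroup.centralizer ({reeA hK} : Set ↥(twistedG2 K (3 ^ m))) :=
    fun x hx => Subgroup.mem_centralizer_singleton_iff.mpr hx
  set y₁ : ↥(Subgroup.centralizer ({reeA hK} : Set ↥(twistedG2 K (3 ^ m)))) :=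
    ⟨y, memC y hya⟩ with hy₁
  have hy₁s : (e y₁) ^ s = 1 := by
    rw [← map_pow]
    have : y₁ ^ s = 1 := Subtype.ext hys
    rw [this, map_one]
  have hodd1 : ∀ (ε : Multiplicative (ZMod 2)) (n : ℕ), Odd n → ε ^ n = 1 → ε = 1 := by
    intro ε n hn h1
    have h2 : ε ^ 2 = 1 := by rw [pow_two]; exact zmod2_sq _
    have hcop : Nat.Coprime n 2 := Nat.Coprime.symm (Nat.coprime_two_left.mpr hn)
    exact (pow_eq_one_iff_of_coprime hcop).mp ⟨h1, h2⟩
  have hsodd : Odd s := hs.odd_of_ne_two hs2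
  have hε : (e y₁).1 = 1 := hodd1 _ s hsodd (congrArg Prod.fst hy₁s)
  have hyb1 : (e y₁).2 ≠ 1 := by
    intro h
    have h1 : e y₁ = 1 := Prod.ext hε h
    have h2 : y₁ = 1 := by
      apply e.injective
      rw [h1, map_one]
    exact hy1 (congrArg Subtype.val h2)
  have hybs : (e y₁).2 ^ s = 1 := congrArg Prod.snd hy₁s
  have hsK : s ∣ Fintype.card K + 1 := by rw [hK]; exact hsq
  have hcyc := psl2_centralizer_cyclic_of_prime ree_two_ne_zero hs hs2 hsK (e y₁).2 hyb1 hybs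
  have hdpos : 0 < d := hd.pos
  have hle := card_mem_pow_eq_one_le_of_isCyclic _ hcyc hdpos
  refine le_trans ?_ hle
  have hxC : ∀ x : {x : ↥(twistedG2 K (3 ^ m)) //
      x ∈ Subgroup.centralizer ({y} : Set ↥(twistedG2 K (3 ^ m))) ∧ x ^ d = 1},
      (x : ↥(twistedG2 K (3 ^ m))) ∈
        Subgroup.centralizer ({reeA hK} : Set ↥(twistedG2 K (3 ^ m))) :=
    fun x => memC _ (hMa _ (Subgroup.mem_centralizer_singleton_iff.mp x.2.1))
  apply Nat.card_le_card_of_injective (fun x => (⟨(e ⟨x.1, hxC x⟩).2, by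
    constructor
    · rw [Subgroup.mem_centralizer_singleton_iff]
      have h1 : (⟨x.1, hxC x⟩ : ↥(Subgroup.centralizer
          ({reeA hK} : Set ↥(twistedG2 K (3 ^ m))))) * y₁ = y₁ * ⟨x.1, hxC x⟩ :=
        Subtype.ext (Subgroup.mem_centralizer_singleton_iff.mp x.2.1)
      have h2 := congrArg e h1
      rw [map_mul, map_mul] at h2
      exact congrArg Prod.snd h2
    · have h1 : (⟨x.1, hxC x⟩ : ↥(Subgroup.centralizer
          ({reeA hK} : Set ↥(twistedG2 K (3 ^ m))))) ^ d = 1 := Subtype.ext x.2.2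
      have h2 := congrArg e h1
      rw [map_pow, map_one] at h2
      exact congrArg Prod.snd h2⟩ :
    {c : Matrix.ProjectiveSpecialLinearGroup (Fin 2) K //
      c ∈ Subgroup.centralizer ({(e y₁).2} : Set (Matrix.ProjectiveSpecialLinearGroup (Fin 2) K)) ∧
        c ^ d = 1}))
  intro x x' hxx
  have h2 : (e ⟨x.1, hxC x⟩).2 = (e ⟨x'.1, hxC x'⟩).2 := congrArg Subtype.val hxx
  have h1 : ∀ x : {x : ↥(twistedG2 K (3 ^ m)) //
      x ∈ Subgroup.centralizer ({y} : Set ↥(twistedG2 K (3 ^ m))) ∧ x ^ d = 1},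
      (e ⟨x.1, hxC x⟩).1 = 1 := by
    intro x
    apply hodd1 _ d hd
    have h1 : (⟨x.1, hxC x⟩ : ↥(Subgroup.centralizer
        ({reeA hK} : Set ↥(twistedG2 K (3 ^ m))))) ^ d = 1 := Subtype.ext x.2.2
    have h2 := congrArg e h1
    rw [map_pow, map_one] at h2
    exact congrArg Prod.fst h2
  have h3 : e ⟨x.1, hxC x⟩ = e ⟨x'.1, hxC x'⟩ := Prod.ext (by rw [h1 x, h1 x']) h2
  have h4 := e.injective h3
  exact Subtype.ext (congrArg (fun z : ↥(Subgroup.centralizer ({reeA hK} : Set ↥(twistedG2 K (3 ^ m)))) => (z : ↥(twistedG2 K (3 ^ m)))) h4)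

end reeN

end Cfsg.Agent.Helper6
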