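import Cfsg.Agent.Helper6.ReeN

/-!
# The small Ree groups: cyclic Sylow subgroups for primes `> 3`; conjugacy of cyclic subgroups
of toral order
-/

set_option autoImplicit false

namespace Cfsg.Agent.Helper6

open Cfsg Cfsg.Lie Cfsg.Agent.Helper36 Cfsg.Agent.Helper17 Matrix
open Cfsg.Agent.Helper39 Cfsg.Agent.Helper20 Cfsg.Agent.Helper53 Cfsg.Agent.Helper66
open Cfsg.Agent.Helper42

section reeO

variable {K : Type*} [Field K] [CharP K 3] [Fintype K] {m : ℕ}
  {σ : ↥(chevG2.group K) →* ↥(chevG2.group K)}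

/-- An element of odd prime order `s ∣ q + 1` commuting with the involution `reeA`. -/
theorem ree_exists_qp1_elem (hK : Fintype.card K = 3 ^ (2 * m + 1)) (hσ : ReeSig m σ)
    {s : ℕ} (hs : s.Prime) (hsq : s ∣ 3 ^ (2 * m + 1) + 1) :
    ∃ y : ↥(twistedG2 K (3 ^ m)), y ≠ 1 ∧ y ^ s = 1 ∧ y * reeA hK = reeA hK * y := by
  have : Fact s.Prime := ⟨hs⟩
  have hdvd : s ∣ Nat.card ↥(Subgroup.centralizer ({reeA hK} : Set ↥(twistedG2 K (3 ^ m)))) := by
    rw [reeA_cent_card hK hσ, hK, sq_sub_one_eq _ (one_lt_q m).le]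
    exact Dvd.dvd.mul_left (Dvd.dvd.mul_right hsq _) _
  obtain ⟨y, hy⟩ := exists_prime_orderOf_dvd_card' s hdvd
  refine ⟨y, ?_, ?_, ?_⟩
  · intro h
    have : y = 1 := Subtype.ext h
    rw [this, orderOf_one] at hy
    exact hs.one_lt.ne hy
  · have := pow_orderOf_eq_one y
    rw [hy] at this
    exact congrArg Subtype.val this
  · exact Subgroup.mem_centralizer_singleton_iff.mp y.2

/-- An element of prime order `p ∣ |G|`. -/
theorem ree_exists_prime_elem (hK : Fintype.card K = 3 ^ (2 * m + 1)) (hσ : ReeSig m σ)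
    {p : ℕ} (hp : p.Prime) (hpd : p ∣ (3 ^ (2 * m + 1)) ^ 2 - 3 ^ (2 * m + 1) + 1) :
    ∃ x : ↥(twistedG2 K (3 ^ m)), x ≠ 1 ∧ x ^ p = 1 := by
  have : Fact p.Prime := ⟨hp⟩
  have hdvd : p ∣ Nat.card ↥(twistedG2 K (3 ^ m)) := by
    rw [ree_card' hK hσ]
    exact Dvd.dvd.mul_left hpd _
  obtain ⟨x, hx⟩ := exists_prime_orderOf_dvd_card' p hdvd
  refine ⟨x, ?_, ?_⟩
  · intro h
    rw [h, orderOf_one] at hx
    exact hp.one_lt.ne hx
  · have := pow_orderOf_eq_one x
    rwa [hx] at this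

/-- `p` divides the order of the centraliser of an element of order `p`. -/
theorem prime_dvd_card_centralizer {G : Type*} [Group G] [Finite G] {p : ℕ} (hp : p.Prime)
    (x : G) (hx1 : x ≠ 1) (hxp : x ^ p = 1) :
    p ∣ Nat.card ↥(Subgroup.centralizer ({x} : Set G)) := by
  have : Fact p.Prime := ⟨hp⟩
  have ho : orderOf x = p := orderOf_eq_prime hxp hx1
  have hx : x ∈ Subgroup.centralizer ({x} : Set G) := Subgroup.mem_centralizer_singleton_iff.mpr rfl
  have := orderOf_dvd_natCard (⟨x, hx⟩ : ↥(Subgroup.centralizer ({x} : Set G)))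
  rwa [Subgroup.orderOf_mk, ho] at this

/-- **Sylow `p`-subgroups of the small Ree groups are cyclic for `p > 3`.** -/
theorem ree_sylow_cyclic (hK : Fintype.card K = 3 ^ (2 * m + 1)) (hσ : ReeSig m σ)
    (hm : 1 ≤ m) {p : ℕ} [Fact p.Prime] (hp : 3 < p) (P : Sylow p ↥(twistedG2 K (3 ^ m))) :
    IsCyclic (P : Subgroup ↥(twistedG2 K (3 ^ m))) := by
  have hpp : p.Prime := Fact.out
  have hp2 : p ≠ 2 := by omega
  have hpq : ¬ p ∣ 3 ^ (2 * m + 1) := by
    intro h
    have := (Nat.prime_dvd_prime_iff_eq hpp Nat.prime_three).mp (hpp.dvd_of_dvd_pow h)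
    omega
  by_cases hpG : p ∣ Nat.card ↥(twistedG2 K (3 ^ m))
  · have hpG' := hpG
    rw [ree_card hK hσ] at hpG'
    rcases ree_prime_cases (one_lt_q m) hpp hpq hpG' with h | h | h
    · refine sylow_isCyclic_of_card_pow_le (reeD K m) ?_ ?_ P
      · rw [reeD_card hK hσ, ree_card hK hσ]
        exact ree_factorization_sub (one_lt_q m) hpp hp2 h
      · intro k
        exact card_mem_pow_eq_one_le_of_isCyclic _ (reeD_cyclic hK hσ) (pow_pos hpp.pos k)
    · obtain ⟨y, hy1, hys, hya⟩ := ree_exists_qp1_elem hK hσ hpp h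
      refine sylow_isCyclic_of_card_pow_le
        (Subgroup.centralizer ({y} : Set ↥(twistedG2 K (3 ^ m)))) ?_ ?_ P
      · rw [(reeA_torus hK hσ hm hpp hp2 h y hy1 hys hya).1, ree_card hK hσ]
        exact ree_factorization_add (three_dvd_q m) (one_lt_q m) hpp hp2 h
      · intro k
        exact reeA_torus_count hK hσ hm hpp hp2 h y hy1 hys hya
          (Odd.pow (hpp.odd_of_ne_two hp2))
    · obtain ⟨x, hx1, hxp⟩ := ree_exists_prime_elem hK hσ hpp h
      refine sylow_isCyclic_of_card_pow_le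
        (Subgroup.centralizer ({x} : Set ↥(twistedG2 K (3 ^ m)))) ?_ ?_ P
      · exact factorization_eq_of_TI _ (ree_exotic_TI hK hσ hm hpp h x hx1 hxp) hpp
          (prime_dvd_card_centralizer hpp x hx1 hxp)
      · intro k
        exact card_mem_pow_eq_one_le_of_isCyclic _ (ree_exotic_cyclic hK hσ hm hpp h x hx1 hxp)
          (pow_pos hpp.pos k)
  · have hcard : Nat.card (P : Subgroup ↥(twistedG2 K (3 ^ m))) = 1 := by
      rw [Sylow.card_eq_multiplicity P, Nat.factorization_eq_zero_of_not_dvd hpG, pow_zero]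
    have : Subsingleton ↥(P : Subgroup ↥(twistedG2 K (3 ^ m))) :=
      (Nat.card_eq_one_iff_unique.mp hcard).1
    infer_instance

theorem eq_one_of_sq_of_odd_pow {G : Type*} [Group G] (y : G) {d : ℕ} (hd : Odd d)
    (h2 : y * y = 1) (hyd : y ^ d = 1) : y = 1 := by
  have h2' : y ^ 2 = 1 := by rw [pow_two]; exact h2
  have hcop : Nat.Coprime d 2 := Nat.Coprime.symm (Nat.coprime_two_left.mpr hd)
  exact (pow_eq_one_iff_of_coprime hcop).mp ⟨hyd, h2'⟩

/-- The exotic case of the conjugacy of cyclic subgroups. -/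
theorem ree_cyclic_conj_exotic (hK : Fintype.card K = 3 ^ (2 * m + 1)) (hσ : ReeSig m σ)
    (hm : 1 ≤ m) (d : ℕ) (hd0 : 0 < d) {p : ℕ} (hpp : p.Prime) (hpd : p ∣ d)
    (hpq : p ∣ (3 ^ (2 * m + 1)) ^ 2 - 3 ^ (2 * m + 1) + 1)
    (A B : Subgroup ↥(twistedG2 K (3 ^ m)))
    (hAc : ∀ x ∈ A, ∀ y ∈ A, x * y = y * x) (hBc : ∀ x ∈ B, ∀ y ∈ B, x * y = y * x)
    (hAd : Nat.card A = d) (hBd : Nat.card B = d) :
    ∃ g : ↥(twistedG2 K (3 ^ m)), B = A.map (MulAut.conj g).toMonoidHom := by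
  have : Fact p.Prime := ⟨hpp⟩
  obtain ⟨x, hx1, hxp⟩ := ree_exists_prime_elem hK hσ hpp hpq
  refine conj_of_card_eq_of_selfcent
    (Subgroup.centralizer ({x} : Set ↥(twistedG2 K (3 ^ m)))) hpd ?_ ?_ ?_ A B hAc hBc hAd hBd
  · exact factorization_eq_of_TI _ (ree_exotic_TI hK hσ hm hpp hpq x hx1 hxp) hpp
      (prime_dvd_card_centralizer hpp x hx1 hxp)
  · intro z hz hz1 _ c hc
    exact ree_exotic_TI hK hσ hm hpp hpq x hx1 hxp z hz hz1 c hc
  · exact card_mem_pow_eq_one_le_of_isCyclic _ (ree_exotic_cyclic hK hσ hm hpp hpq x hx1 hxp) hd0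

/-- **Cyclic subgroups of the same toral order are conjugate.** -/
theorem ree_cyclic_conj (hK : Fintype.card K = 3 ^ (2 * m + 1)) (hσ : ReeSig m σ)
    (hm : 1 ≤ m) (d : ℕ)
    (hd : d ∣ (3 ^ (2 * m + 1) - 1) / 2 ∨ d ∣ (3 ^ (2 * m + 1) + 1) / 4 ∨
      d ∣ 3 ^ (2 * m + 1) - 3 ^ (m + 1) + 1 ∨ d ∣ 3 ^ (2 * m + 1) + 3 ^ (m + 1) + 1)
    (A B : Subgroup ↥(twistedG2 K (3 ^ m))) (hA : IsCyclic A) (hB : IsCyclic B)
    (hAd : Nat.card A = d) (hBd : Nat.card B = d) :
    ∃ g : ↥(twistedG2 K (3 ^ m)), B = A.map (MulAut.conj g).toMonoidHom := by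
  by_cases hd1 : d = 1
  · subst hd1
    have hA1 : A = ⊥ := Subgroup.card_eq_one.mp hAd
    have hB1 : B = ⊥ := Subgroup.card_eq_one.mp hBd
    refine ⟨1, ?_⟩
    rw [hA1, hB1, Subgroup.map_bot]
  · have hpp : (d.minFac).Prime := Nat.minFac_prime hd1
    have hpd : d.minFac ∣ d := Nat.minFac_dvd d
    have : Fact (d.minFac).Prime := ⟨hpp⟩
    have hAc := cyclic_subgroup_comm A hA
    have hBc := cyclic_subgroup_comm B hB
    have hq8 := three_pow_mod_eight m
    have hle : 3 ^ (m + 1) ≤ 3 ^ (2 * m + 1) := Nat.pow_le_pow_right (by norm_num) (by omega)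
    have hodd3 : 3 ^ (m + 1) % 2 = 1 := by
      have : Odd (3 ^ (m + 1)) := Odd.pow (by decide)
      exact Nat.odd_iff.mp this
    have hd0 : 0 < d := by
      rw [← hAd]; exact Nat.card_pos
    have hdodd : Odd d := by
      rcases hd with h | h | h | h
      · exact Odd.of_dvd_nat (Nat.odd_iff.mpr (by omega)) h
      · exact Odd.of_dvd_nat (Nat.odd_iff.mpr (by omega)) h
      · exact Odd.of_dvd_nat (Nat.odd_iff.mpr (by omega)) h
      · exact Odd.of_dvd_nat (Nat.odd_iff.mpr (by omega)) h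
    have hp2 : d.minFac ≠ 2 := by
      intro h2
      rw [h2] at hpd
      have := Nat.odd_iff.mp hdodd
      omega
    rcases hd with h | h | h | h
    · have hpq : d.minFac ∣ 3 ^ (2 * m + 1) - 1 :=
        hpd.trans (h.trans (Nat.div_dvd_of_dvd (by omega)))
      refine conj_of_card_eq_of_selfcent (reeD K m) hpd ?_ ?_ ?_ A B hAc hBc hAd hBd
      · rw [reeD_card hK hσ, ree_card hK hσ]
        exact ree_factorization_sub (one_lt_q m) hpp hp2 hpq
      · intro y hy hy1 hyd c hc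
        exact reeD_selfcent hK hσ y hy
          (fun hyy => hy1 (eq_one_of_sq_of_odd_pow y hdodd hyy hyd)) c hc
      · exact card_mem_pow_eq_one_le_of_isCyclic _ (reeD_cyclic hK hσ) hd0
    · have hpq : d.minFac ∣ 3 ^ (2 * m + 1) + 1 :=
        hpd.trans (h.trans (Nat.div_dvd_of_dvd (by omega)))
      obtain ⟨y, hy1, hys, hya⟩ := ree_exists_qp1_elem hK hσ hpp hpq
      refine conj_of_card_eq_of_selfcent
        (Subgroup.centralizer ({y} : Set ↥(twistedG2 K (3 ^ m)))) hpd ?_ ?_ ?_ A B hAc hBc hAd hBd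
      · rw [(reeA_torus hK hσ hm hpp hp2 hpq y hy1 hys hya).1, ree_card hK hσ]
        exact ree_factorization_add (three_dvd_q m) (one_lt_q m) hpp hp2 hpq
      · intro z hz hz1 hzd c hc
        exact reeA_torus_selfcent hK hσ hm hpp hp2 hpq y hy1 hys hya z hz
          (fun hzz => hz1 (eq_one_of_sq_of_odd_pow z hdodd hzz hzd)) c hc
      · exact reeA_torus_count hK hσ hm hpp hp2 hpq y hy1 hys hya hdodd
    · have hpq : d.minFac ∣ (3 ^ (2 * m + 1)) ^ 2 - 3 ^ (2 * m + 1) + 1 := by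
        rw [← ree_torus_prod m]
        exact (hpd.trans h).mul_right _
      exact ree_cyclic_conj_exotic hK hσ hm d hd0 hpp hpd hpq A B hAc hBc hAd hBd
    · have hpq : d.minFac ∣ (3 ^ (2 * m + 1)) ^ 2 - 3 ^ (2 * m + 1) + 1 := by
        rw [← ree_torus_prod m]
        exact (hpd.trans h).mul_left _
      exact ree_cyclic_conj_exotic hK hσ hm d hd0 hpp hpd hpq A B hAc hBc hAd hBd

end reeO

end Cfsg.Agent.Helper6
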