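import Cfsg.Agent.Helper6.ReeO
import Cfsg.Agent.Helper6.ReeH

/-!
# The small Ree groups: the action on the cosets of `B¹`, inside `G¹`
-/

set_option autoImplicit false

namespace Cfsg.Agent.Helper6

open Cfsg Cfsg.Lie Cfsg.Agent.Helper36 Cfsg.Agent.Helper17 Matrix
open Cfsg.Agent.Helper39 Cfsg.Agent.Helper20 Cfsg.Agent.Helper53 Cfsg.Agent.Helper66
open Cfsg.Agent.Helper42

section reeP

variable {K : Type*} [Field K] [CharP K 3] [Fintype K] {m : ℕ}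
  {σ : ↥(chevG2.group K) →* ↥(chevG2.group K)}

/-- `B¹` as a subgroup of `G¹`. -/
abbrev reeBG (K : Type*) [Field K] (m : ℕ) : Subgroup ↥(twistedG2 K (3 ^ m)) :=
  (chevG2.borelSubgroup K ⊓ twistedG2 K (3 ^ m)).subgroupOf (twistedG2 K (3 ^ m))

omit [CharP K 3] [Fintype K] in
theorem mem_reeBG (x : ↥(twistedG2 K (3 ^ m))) :
    x ∈ reeBG K m ↔ (x : GL chevG2.Idx K) ∈ chevG2.borelSubgroup K := by
  rw [Subgroup.mem_subgroupOf, Subgroup.mem_inf]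
  exact ⟨fun h => h.1, fun h => ⟨h, x.2⟩⟩

omit [CharP K 3] [Fintype K] in
theorem mem_reeUG (x : ↥(twistedG2 K (3 ^ m))) :
    x ∈ reeUG K m ↔ (x : GL chevG2.Idx K) ∈ chevG2.posUnipotent K :=
  Subgroup.mem_subgroupOf

/-- `n₀` as an element of `G¹`. -/
noncomputable def reeNG (K : Type*) [Field K] [CharP K 3] [Fintype K] (m : ℕ) : ↥(twistedG2 K (3 ^ m)) :=
  ⟨reeN0 (xAdd_of_mem (F := K) g2_mem), reeN0_mem_G1 _ m⟩

omit [CharP K 3] [Fintype K] in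
theorem reeUG_le_reeBG : reeUG K m ≤ reeBG K m := fun x hx =>
  (mem_reeBG x).mpr (BRel.U_le_B _ _ ((mem_reeUG x).mp hx))

omit [CharP K 3] [Fintype K] in
theorem reeD_le_reeBG : reeD K m ≤ reeBG K m := fun x hx =>
  (mem_reeBG x).mpr (BRel.H_le_B _ _ ((mem_reeD x).mp hx))

theorem reeBG_bruhat (hK : Fintype.card K = 3 ^ (2 * m + 1)) (hσ : ReeSig m σ)
    (g : ↥(twistedG2 K (3 ^ m))) (hg : g ∉ reeBG K m) :
    ∃ u ∈ reeUG K m, ∃ b ∈ reeBG K m, g = u * reeNG K m * b := by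
  have hgB : (g : GL chevG2.Idx K) ∉ chevG2.borelSubgroup K := fun h => hg ((mem_reeBG g).mpr h)
  obtain ⟨u, hu, b, hb, e⟩ := ree_not_B_form hK hσ (xAdd_of_mem (F := K) g2_mem) g.2 hgB
  exact ⟨⟨u, hu.2⟩, (mem_reeUG _).mpr hu.1, ⟨b, hb.2⟩, (mem_reeBG _).mpr hb.1, Subtype.ext e⟩

theorem reeBG_bruhat' (hK : Fintype.card K = 3 ^ (2 * m + 1)) (hσ : ReeSig m σ)
    (g : ↥(twistedG2 K (3 ^ m))) (hg : g ∉ reeBG K m) :
    ∃ u ∈ reeBG K m, ∃ b ∈ reeBG K m, g = u * reeNG K m * b := by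
  obtain ⟨u, hu, b, hb, e⟩ := reeBG_bruhat hK hσ g hg
  exact ⟨u, reeUG_le_reeBG hu, b, hb, e⟩

theorem reeNG_not_mem : reeNG K m ∉ reeBG K m := fun h =>
  reeN0_not_mem_B (xAdd_of_mem (F := K) g2_mem) ((mem_reeBG _).mp h)

theorem reeNG_conj_D (t : ↥(twistedG2 K (3 ^ m))) (ht : t ∈ reeD K m) :
    (reeNG K m)⁻¹ * t * reeNG K m ∈ reeD K m := by
  have R := bRel_of_mem (F := K) g2_mem
  rw [mem_reeD] at ht ⊢
  exact R.N_conj_H' _ (reeN0_mem_N (xAdd_of_mem (F := K) g2_mem)) _ ht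

theorem reeBG_two_point (hK : Fintype.card K = 3 ^ (2 * m + 1)) (hσ : ReeSig m σ)
    (t : ↥(twistedG2 K (3 ^ m))) (ht : t ∈ reeBG K m)
    (h : (reeNG K m)⁻¹ * t * reeNG K m ∈ reeBG K m) : t ∈ reeD K m := by
  rw [mem_reeD]
  rw [mem_reeBG] at ht h
  exact ree_two_point hK hσ (xAdd_of_mem (F := K) g2_mem) ht t.2 h

theorem reeUG_conj_N (hK : Fintype.card K = 3 ^ (2 * m + 1)) (hσ : ReeSig m σ)
    (u : ↥(twistedG2 K (3 ^ m))) (hu : u ∈ reeUG K m)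
    (h : (reeNG K m)⁻¹ * u * reeNG K m ∈ reeBG K m) : u = 1 := by
  rw [mem_reeUG] at hu
  rw [mem_reeBG] at h
  have h1 := g2_B_inf_V h (reeN0_inv_conj_U hK hσ (xAdd_of_mem (F := K) g2_mem) hu)
  have h2 : (reeNG K m)⁻¹ * u * reeNG K m = 1 := Subtype.ext h1
  have e : u = reeNG K m * ((reeNG K m)⁻¹ * u * reeNG K m) * (reeNG K m)⁻¹ := by group
  rw [e, h2]; group

theorem reeA_mem_D (hK : Fintype.card K = 3 ^ (2 * m + 1)) : reeA hK ∈ reeD K m :=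
  (mem_reeD _).mpr (reeInv_mem_H _ m)

theorem reeA_unique (hK : Fintype.card K = 3 ^ (2 * m + 1)) (hσ : ReeSig m σ)
    (t : ↥(twistedG2 K (3 ^ m))) (ht : t ∈ reeD K m) (ht1 : t ≠ 1) (ht2 : t * t = 1) :
    t = reeA hK := by
  apply Subtype.ext
  exact ree_H_inv_unique hK hσ (xAdd_of_mem (F := K) g2_mem) ((mem_reeD t).mp ht) t.2
    (fun h => ht1 (Subtype.ext h)) (congrArg Subtype.val ht2)

theorem reeA_conj_U (hK : Fintype.card K = 3 ^ (2 * m + 1))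
    (u : ↥(twistedG2 K (3 ^ m))) (hu : u ∈ reeUG K m) :
    (reeA hK)⁻¹ * u * reeA hK ∈ reeUG K m := by
  rw [mem_reeUG] at hu ⊢
  have hB : ((reeA hK : ↥(twistedG2 K (3 ^ m))) : GL chevG2.Idx K) ∈ chevG2.borelSubgroup K :=
    BRel.H_le_B _ _ (reeInv_mem_H _ m)
  exact (g2_B_conj_U' hB).mpr hu

/-- The centraliser of `h(-1)` in `U¹` has `q` elements. -/
theorem reeA_cent_U_card (hK : Fintype.card K = 3 ^ (2 * m + 1)) (hσ : ReeSig m σ) :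
    Nat.card {u : ↥(twistedG2 K (3 ^ m)) // u ∈ reeUG K m ∧ u * reeA hK = reeA hK * u} =
      3 ^ (2 * m + 1) := by
  have hX := xAdd_of_mem (F := K) g2_mem
  rw [← hK, ← Nat.card_eq_fintype_card]
  symm
  apply Nat.card_congr
  refine Equiv.ofBijective (fun s : K => ⟨⟨wordGL (xAdd_of_mem (F := K) g2_mem)
    (reeWordU (3 ^ m) 0 s 0), reeU_mem_G1 _ _ _ _⟩, ?_, ?_⟩) ⟨?_, ?_⟩
  · exact (mem_reeUG _).mpr (reeU_mem_U _ _ _ _)
  · apply Subtype.ext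
    exact (reeInv_comm hK hσ (xAdd_of_mem (F := K) g2_mem) s).symm
  · intro s s' h
    have h1 : wordGL (xAdd_of_mem (F := K) g2_mem) (reeWordU (3 ^ m) 0 s 0) =
        wordGL (xAdd_of_mem (F := K) g2_mem) (reeWordU (3 ^ m) 0 s' 0) :=
      congrArg (fun z : {u : ↥(twistedG2 K (3 ^ m)) //
        u ∈ reeUG K m ∧ u * reeA hK = reeA hK * u} =>
          ((z : ↥(twistedG2 K (3 ^ m))) : GL chevG2.Idx K)) h
    have h2 := reeX_div hK hσ (xAdd_of_mem (F := K) g2_mem) 0 s 0 s' 0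
    rw [h1, mul_inv_cancel] at h2
    have h3 := (reeX_eq_one (xAdd_of_mem (F := K) g2_mem) h2.symm).2.1
    exact sub_eq_zero.mp h3
  · rintro ⟨u, hu, hc⟩
    have hc' : Commute (reeInv K (xAdd_of_mem (F := K) g2_mem) m) (u : GL chevG2.Idx K) :=
      (congrArg Subtype.val hc).symm
    obtain ⟨s, hs⟩ := ree_U_cent hK hσ (xAdd_of_mem (F := K) g2_mem)
      (Subgroup.mem_inf.mpr ⟨(mem_reeUG u).mp hu, u.2⟩) hc'
    exact ⟨s, Subtype.ext (Subtype.ext hs.symm)⟩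

/-- `|B¹| = q³(q-1)`. -/
theorem reeBG_card (hK : Fintype.card K = 3 ^ (2 * m + 1)) (hσ : ReeSig m σ) :
    Nat.card ↥(reeBG K m) = (3 ^ (2 * m + 1)) ^ 3 * (3 ^ (2 * m + 1) - 1) := by
  rw [← reeUG_card hK hσ, ← reeD_card hK hσ, ← Nat.card_prod]
  symm
  apply Nat.card_congr
  refine Equiv.ofBijective (fun p : ↥(reeUG K m) × ↥(reeD K m) =>
    (⟨(p.1 : ↥(twistedG2 K (3 ^ m))) * (p.2 : ↥(twistedG2 K (3 ^ m))),
      mul_mem (reeUG_le_reeBG p.1.2) (reeD_le_reeBG p.2.2)⟩ : ↥(reeBG K m))) ⟨?_, ?_⟩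
  · rintro ⟨u, h⟩ ⟨u', h'⟩ e
    have e1 : ((u : ↥(twistedG2 K (3 ^ m))) : GL chevG2.Idx K) *
        ((h : ↥(twistedG2 K (3 ^ m))) : GL chevG2.Idx K) =
        ((u' : ↥(twistedG2 K (3 ^ m))) : GL chevG2.Idx K) *
        ((h' : ↥(twistedG2 K (3 ^ m))) : GL chevG2.Idx K) :=
      congrArg (fun z : ↥(reeBG K m) => ((z : ↥(twistedG2 K (3 ^ m))) : GL chevG2.Idx K)) e
    obtain ⟨e2, e3⟩ := g2_UH_unique ((mem_reeUG _).mp u.2) ((mem_reeUG _).mp u'.2)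
      ((mem_reeD _).mp h.2) ((mem_reeD _).mp h'.2) e1
    exact Prod.ext (Subtype.ext (Subtype.ext e2)) (Subtype.ext (Subtype.ext e3))
  · rintro ⟨b, hb⟩
    obtain ⟨u, hu, h, hh, e⟩ := ree_B_decomp hK hσ ((mem_reeBG b).mp hb) b.2
    exact ⟨(⟨⟨u, hu.2⟩, (mem_reeUG _).mpr hu.1⟩, ⟨⟨h, hh.2⟩, (mem_reeD _).mpr hh.1⟩),
      Subtype.ext (Subtype.ext e.symm)⟩

/-- `|G¹ : B¹| = q³ + 1`. -/
theorem reeBG_index (hK : Fintype.card K = 3 ^ (2 * m + 1)) (hσ : ReeSig m σ) :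
    (reeBG K m).index = (3 ^ (2 * m + 1)) ^ 3 + 1 := by
  have h1 := Subgroup.card_mul_index (reeBG K m)
  rw [reeBG_card hK hσ, ree_card hK hσ] at h1
  have hpos : 0 < (3 ^ (2 * m + 1)) ^ 3 * (3 ^ (2 * m + 1) - 1) := by
    have := one_lt_q m
    have h2 : 0 < 3 ^ (2 * m + 1) - 1 := by omega
    positivity
  exact Nat.eq_of_mul_eq_mul_left hpos h1

/-- An element of `G¹` fixing a coset of `B¹` has order dividing `(q-1)q³`. -/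
theorem reeBG_fixed_pow (hK : Fintype.card K = 3 ^ (2 * m + 1)) (hσ : ReeSig m σ)
    (g : ↥(twistedG2 K (3 ^ m)))
    (h : ∃ ω : ↥(twistedG2 K (3 ^ m)) ⧸ reeBG K m, g • ω = ω) :
    g ^ ((3 ^ (2 * m + 1) - 1) * (3 ^ (2 * m + 1)) ^ 3) = 1 := by
  obtain ⟨ω, hω⟩ := h
  obtain ⟨x, rfl⟩ := QuotientGroup.mk_surjective ω
  have h1 : g ∈ MulAction.stabilizer ↥(twistedG2 K (3 ^ m))
      ((x : ↥(twistedG2 K (3 ^ m))) : ↥(twistedG2 K (3 ^ m)) ⧸ reeBG K m) := hω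
  rw [mem_stab_coset_iff, mem_reeBG] at h1
  have h2 := ree_B_pow hK hσ h1 (x⁻¹ * g * x).2
  have h3 : (x⁻¹ * g * x) ^ ((3 ^ (2 * m + 1) - 1) * (3 ^ (2 * m + 1)) ^ 3) = 1 :=
    Subtype.ext h2
  have e : g = x * (x⁻¹ * g * x) * x⁻¹ := by group
  rw [e, conj_pow, h3]; group

omit [CharP K 3] [Fintype K] in
/-- An element of `B¹` fixes a coset. -/
theorem reeBG_conj_fixed (g y : ↥(twistedG2 K (3 ^ m))) (h : y * g * y⁻¹ ∈ reeBG K m) :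
    ∃ ω : ↥(twistedG2 K (3 ^ m)) ⧸ reeBG K m, g • ω = ω := by
  refine ⟨((y⁻¹ : ↥(twistedG2 K (3 ^ m))) : ↥(twistedG2 K (3 ^ m)) ⧸ reeBG K m), ?_⟩
  have : g ∈ MulAction.stabilizer ↥(twistedG2 K (3 ^ m))
      ((y⁻¹ : ↥(twistedG2 K (3 ^ m))) : ↥(twistedG2 K (3 ^ m)) ⧸ reeBG K m) := by
    rw [mem_stab_coset_iff, inv_inv]
    exact h
  exact this

end reeP

end Cfsg.Agent.Helper6
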