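import Cfsg.Agent.Helper6.ReeP

/-!
# The small Ree groups: which elements fix a coset of `B¹`
-/

set_option autoImplicit false

namespace Cfsg.Agent.Helper6

open Cfsg Cfsg.Lie Cfsg.Agent.Helper36 Cfsg.Agent.Helper17 Matrix
open Cfsg.Agent.Helper39 Cfsg.Agent.Helper20 Cfsg.Agent.Helper53 Cfsg.Agent.Helper66
open Cfsg.Agent.Helper42

theorem exists_prime_order_pow {G : Type*} [Group G] [Finite G] (g : G) {p : ℕ} (hp : p.Prime)
    (hpd : p ∣ orderOf g) : ∃ k : ℕ, g ^ k ≠ 1 ∧ (g ^ k) ^ p = 1 := by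
  have hpos : orderOf g ≠ 0 := (orderOf_pos g).ne'
  have ho : orderOf (g ^ (orderOf g / p)) = p := orderOf_pow_orderOf_div hpos hpd
  refine ⟨orderOf g / p, ?_, ?_⟩
  · intro h
    rw [h, orderOf_one] at ho
    exact hp.one_lt.ne ho
  · have := pow_orderOf_eq_one (g ^ (orderOf g / p))
    rwa [ho] at this

theorem conj_pow_comm {G : Type*} [Group G] (c g : G) (k : ℕ) :
    (c * g * c⁻¹) * (c * g ^ k * c⁻¹) = (c * g ^ k * c⁻¹) * (c * g * c⁻¹) := by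
  have h : g * g ^ k = g ^ k * g := (Commute.pow_right (Commute.refl g) k).eq
  calc (c * g * c⁻¹) * (c * g ^ k * c⁻¹) = c * (g * g ^ k) * c⁻¹ := by group
    _ = c * (g ^ k * g) * c⁻¹ := by rw [h]
    _ = (c * g ^ k * c⁻¹) * (c * g * c⁻¹) := by group

section reeQ

variable {K : Type*} [Field K] [CharP K 3] [Fintype K] {m : ℕ}
  {σ : ↥(chevG2.group K) →* ↥(chevG2.group K)}

/-- An element commuting with a non-trivial element of `U¹` lies in `B¹`. -/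
theorem ree_comm_U_mem_B (hK : Fintype.card K = 3 ^ (2 * m + 1)) (hσ : ReeSig m σ)
    (g s : ↥(twistedG2 K (3 ^ m))) (hs : s ∈ reeUG K m) (hs1 : s ≠ 1) (hc : g * s = s * g) :
    g ∈ reeBG K m := by
  by_contra hg
  apply hs1
  have hgB : (g : GL chevG2.Idx K) ∉ chevG2.borelSubgroup K := fun h => hg ((mem_reeBG g).mpr h)
  have hsU := (mem_reeUG s).mp hs
  have e : (g : GL chevG2.Idx K) * (s : GL chevG2.Idx K) * (g : GL chevG2.Idx K)⁻¹ =
      (s : GL chevG2.Idx K) := by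
    have := congrArg Subtype.val hc
    simp only [Subgroup.coe_mul] at this
    rw [this]; group
  have h1 := ree_U_TI hK hσ g.2 hgB hsU (by rw [e]; exact hsU)
  exact Subtype.ext h1

/-- `3`-elements are conjugate into `U¹`. -/
theorem ree_three_conj_U (hK : Fintype.card K = 3 ^ (2 * m + 1)) (hσ : ReeSig m σ)
    (g : ↥(twistedG2 K (3 ^ m))) (k : ℕ) (hg : g ^ 3 ^ k = 1) :
    ∃ c : ↥(twistedG2 K (3 ^ m)), c * g * c⁻¹ ∈ reeUG K m := by
  have : Fact (Nat.Prime 3) := ⟨Nat.prime_three⟩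
  refine exists_conj_mem_of_factorization_eq (reeUG K m) ?_ g k hg
  rw [reeUG_card hK hσ, ree_card_three_part hK hσ, ← pow_mul,
    Nat.Prime.factorization_pow Nat.prime_three]
  simp [mul_comm]

/-- Elements of order divisible by `3` are conjugate into `B¹`. -/
theorem ree_three_dvd_conj_B (hK : Fintype.card K = 3 ^ (2 * m + 1)) (hσ : ReeSig m σ)
    (g : ↥(twistedG2 K (3 ^ m))) (h3 : 3 ∣ orderOf g) :
    ∃ c : ↥(twistedG2 K (3 ^ m)), c * g * c⁻¹ ∈ reeBG K m := by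
  obtain ⟨k, hk1, hk3⟩ := exists_prime_order_pow g Nat.prime_three h3
  obtain ⟨c, hc⟩ := ree_three_conj_U hK hσ (g ^ k) 1 (by simpa using hk3)
  refine ⟨c, ree_comm_U_mem_B hK hσ _ _ hc ?_ (conj_pow_comm c g k)⟩
  intro h
  apply hk1
  have e : g ^ k = c⁻¹ * (c * g ^ k * c⁻¹) * c := by group
  rw [e, h]; group

/-- Elements of order divisible by an odd prime `s ∣ q - 1` are conjugate into `H¹`. -/
theorem ree_qm1_conj_D (hK : Fintype.card K = 3 ^ (2 * m + 1)) (hσ : ReeSig m σ)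
    (g : ↥(twistedG2 K (3 ^ m))) {s : ℕ} (hs : s.Prime) (hs2 : s ≠ 2)
    (hsd : s ∣ 3 ^ (2 * m + 1) - 1) (hsg : s ∣ orderOf g) :
    ∃ c : ↥(twistedG2 K (3 ^ m)), c * g * c⁻¹ ∈ reeD K m := by
  have : Fact s.Prime := ⟨hs⟩
  obtain ⟨k, hk1, hks⟩ := exists_prime_order_pow g hs hsg
  have hD : (Nat.card ↥(reeD K m)).factorization s =
      (Nat.card ↥(twistedG2 K (3 ^ m))).factorization s := by
    rw [reeD_card hK hσ, ree_card hK hσ]
    exact ree_factorization_sub (one_lt_q m) hs hs2 hsd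
  obtain ⟨c, hc⟩ := exists_conj_mem_of_factorization_eq (reeD K m) hD (g ^ k) 1 (by simpa using hks)
  refine ⟨c, reeD_selfcent hK hσ _ hc ?_ _ (conj_pow_comm c g k)⟩
  intro h2
  apply hk1
  have h1 : (c * g ^ k * c⁻¹) ^ s = 1 := by rw [conj_pow, hks]; group
  have h3 := eq_one_of_sq_of_odd_pow _ (hs.odd_of_ne_two hs2) h2 h1
  have e : g ^ k = c⁻¹ * (c * g ^ k * c⁻¹) * c := by group
  rw [e, h3]; group

/-- Involutions and the identity are conjugate into `H¹`. -/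
theorem ree_sq_conj_D (hK : Fintype.card K = 3 ^ (2 * m + 1)) (hσ : ReeSig m σ) (hm : 1 ≤ m)
    (g : ↥(twistedG2 K (3 ^ m))) (hg : g * g = 1) :
    ∃ c : ↥(twistedG2 K (3 ^ m)), c * g * c⁻¹ ∈ reeD K m := by
  by_cases h1 : g = 1
  · refine ⟨1, ?_⟩
    rw [h1]
    simp
  · obtain ⟨c, hc⟩ := ree_inv_conj hK hσ hm g h1 hg
    exact ⟨c, by rw [hc]; exact reeA_mem_D hK⟩

/-- The torus of order `q + 1`: elements of order divisible by an odd prime `s ∣ q + 1` are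
conjugate into it. -/
theorem ree_qp1_conj_M (hK : Fintype.card K = 3 ^ (2 * m + 1)) (hσ : ReeSig m σ) (hm : 1 ≤ m)
    {s₀ : ℕ} (hs₀ : s₀.Prime) (hs₀2 : s₀ ≠ 2) (hs₀q : s₀ ∣ 3 ^ (2 * m + 1) + 1)
    (y₀ : ↥(twistedG2 K (3 ^ m))) (hy₀1 : y₀ ≠ 1) (hy₀s : y₀ ^ s₀ = 1)
    (hy₀a : y₀ * reeA hK = reeA hK * y₀)
    (g : ↥(twistedG2 K (3 ^ m))) {s : ℕ} (hs : s.Prime) (hs2 : s ≠ 2)
    (hsd : s ∣ 3 ^ (2 * m + 1) + 1) (hsg : s ∣ orderOf g) :
    ∃ c : ↥(twistedG2 K (3 ^ m)),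
      c * g * c⁻¹ ∈ Subgroup.centralizer ({y₀} : Set ↥(twistedG2 K (3 ^ m))) := by
  have : Fact s.Prime := ⟨hs⟩
  obtain ⟨hMcard, hMcomm, hMa⟩ := reeA_torus hK hσ hm hs₀ hs₀2 hs₀q y₀ hy₀1 hy₀s hy₀a
  obtain ⟨k, hk1, hks⟩ := exists_prime_order_pow g hs hsg
  have hD : (Nat.card ↥(Subgroup.centralizer ({y₀} : Set ↥(twistedG2 K (3 ^ m))))).factorization s =
      (Nat.card ↥(twistedG2 K (3 ^ m))).factorization s := by
    rw [hMcard, ree_card hK hσ]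
    exact ree_factorization_add (three_dvd_q m) (one_lt_q m) hs hs2 hsd
  obtain ⟨c, hc⟩ := exists_conj_mem_of_factorization_eq _ hD (g ^ k) 1 (by simpa using hks)
  have hz1 : c * g ^ k * c⁻¹ ≠ 1 := by
    intro h
    apply hk1
    have e : g ^ k = c⁻¹ * (c * g ^ k * c⁻¹) * c := by group
    rw [e, h]; group
  have hzs : (c * g ^ k * c⁻¹) ^ s = 1 := by rw [conj_pow, hks]; group
  have hzy : (c * g ^ k * c⁻¹) * y₀ = y₀ * (c * g ^ k * c⁻¹) :=
    Subgroup.mem_centralizer_singleton_iff.mp hc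
  have hza : (c * g ^ k * c⁻¹) * reeA hK = reeA hK * (c * g ^ k * c⁻¹) := hMa _ hzy
  obtain ⟨hM'card, -, -⟩ := reeA_torus hK hσ hm hs hs2 hsd _ hz1 hzs hza
  have hle : Subgroup.centralizer ({y₀} : Set ↥(twistedG2 K (3 ^ m))) ≤
      Subgroup.centralizer ({c * g ^ k * c⁻¹} : Set ↥(twistedG2 K (3 ^ m))) := by
    intro x hx
    rw [Subgroup.mem_centralizer_singleton_iff] at hx ⊢
    exact hMcomm x _ hx hzy
  have heq := Subgroup.eq_of_le_of_card_ge hle (by rw [hMcard, hM'card])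
  refine ⟨c, ?_⟩
  rw [heq, Subgroup.mem_centralizer_singleton_iff]
  exact conj_pow_comm c g k

/-- Elements of order divisible by a prime `p ∣ q² - q + 1` lie in a cyclic self-centralising
subgroup of order dividing `q² - q + 1`. -/
theorem ree_exotic_mem (hK : Fintype.card K = 3 ^ (2 * m + 1)) (hσ : ReeSig m σ) (hm : 1 ≤ m)
    (g : ↥(twistedG2 K (3 ^ m))) {p : ℕ} (hp : p.Prime)
    (hpd : p ∣ (3 ^ (2 * m + 1)) ^ 2 - 3 ^ (2 * m + 1) + 1) (hpg : p ∣ orderOf g) :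
    ∃ T : Subgroup ↥(twistedG2 K (3 ^ m)), IsCyclic T ∧
      (∀ y ∈ T, y ≠ 1 → ∀ c : ↥(twistedG2 K (3 ^ m)), c * y = y * c → c ∈ T) ∧
      Nat.card T ∣ (3 ^ (2 * m + 1)) ^ 2 - 3 ^ (2 * m + 1) + 1 ∧ g ∈ T := by
  obtain ⟨k, hk1, hkp⟩ := exists_prime_order_pow g hp hpg
  refine ⟨Subgroup.centralizer ({g ^ k} : Set ↥(twistedG2 K (3 ^ m))),
    ree_exotic_cyclic hK hσ hm hp hpd _ hk1 hkp, ree_exotic_TI hK hσ hm hp hpd _ hk1 hkp,
    ree_exotic_cent_card hK hσ hm hp hpd _ hk1 hkp, ?_⟩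
  rw [Subgroup.mem_centralizer_singleton_iff]
  exact (Commute.pow_right (Commute.refl g) k).eq

end reeQ

end Cfsg.Agent.Helper6
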