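import Cfsg.Agent.Helper6.ReeQ
import Cfsg.Agent.Helper28.Ree1159ARI
import Cfsg.Agent.Helper28.Ree1159CNT4
import Cfsg.Agent.Helper28.Ree1159P3
import Cfsg.Agent.Helper33.Ree1159FIX
import Cfsg.Agent.Helper42.Ree1158PI
import Cfsg.Agent.Helper46.Ree1158DIO
import Cfsg.Agent.Helper83.Ree1158UNI
import Cfsg.Agent.Helper83.Ree1158NE
import Cfsg.Agent.Helper67.Ree1158BURN
import Cfsg.Agent.Helper31.Ree1158
import Cfsg.Agent.Helper3.Ree1158NW
import Cfsg.Agent.Helper80.Ree1158LA2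
import Cfsg.Agent.Helper14.Ree1159CE
import Cfsg.Agent.Helper31.Ree1159NM
import Cfsg.Agent.Helper31.Ree1159HO2
import Cfsg.Agent.Helper33.Ree1159TP
import Cfsg.Agent.Helper28.Ree1159FCL
import Cfsg.Agent.Helper34.Ree1159ND
import Cfsg.Agent.Helper53.Ree1159ORDS

/-!
# The small Ree groups: the torus of order `q + 1` and its normaliser
-/

set_option autoImplicit false

namespace Cfsg.Agent.Helper6

open Cfsg Cfsg.Lie Cfsg.Agent.Helper36 Cfsg.Agent.Helper17 Matrix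
open Cfsg.Agent.Helper39 Cfsg.Agent.Helper20 Cfsg.Agent.Helper53 Cfsg.Agent.Helper66
open Cfsg.Agent.Helper42 Cfsg.Agent.Helper28 Cfsg.Agent.Helper33 Cfsg.Agent.Helper83
open Cfsg.Agent.Helper14 Cfsg.Agent.Helper31 Cfsg.Agent.Helper34

/-- The elements of square one of a commutative subgroup. -/
def sqOneSubgroup {G : Type*} [Group G] (M : Subgroup G)
    (hc : ∀ x ∈ M, ∀ y ∈ M, x * y = y * x) : Subgroup G where
  carrier := {g | g ∈ M ∧ g * g = 1}
  mul_mem' := by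
    rintro a b ⟨ha, ha2⟩ ⟨hb, hb2⟩
    refine ⟨mul_mem ha hb, ?_⟩
    have h := hc a ha b hb
    calc a * b * (a * b) = a * (b * a) * b := by group
      _ = a * (a * b) * b := by rw [← h]
      _ = (a * a) * (b * b) := by group
      _ = 1 := by rw [ha2, hb2, one_mul]
  one_mem' := ⟨M.one_mem, one_mul 1⟩
  inv_mem' := by
    rintro a ⟨ha, ha2⟩
    refine ⟨inv_mem ha, ?_⟩
    rw [← _root_.mul_inv_rev, ha2, inv_one]

theorem mem_sqOneSubgroup {G : Type*} [Group G] (M : Subgroup G)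
    (hc : ∀ x ∈ M, ∀ y ∈ M, x * y = y * x) (g : G) :
    g ∈ sqOneSubgroup M hc ↔ g ∈ M ∧ g * g = 1 := Iff.rfl

theorem ree_quarter (m : ℕ) (hm : 1 ≤ m) :
    ∃ n : ℕ, Odd n ∧ 7 ≤ n ∧ 3 ^ (2 * m + 1) + 1 = 4 * n := by
  have h8 := three_pow_mod_eight m
  have hq27 : 27 ≤ 3 ^ (2 * m + 1) := by
    calc 27 = 3 ^ 3 := by norm_num
      _ ≤ 3 ^ (2 * m + 1) := Nat.pow_le_pow_right (by norm_num) (by omega)
  refine ⟨(3 ^ (2 * m + 1) + 1) / 4, Nat.odd_iff.mpr (by omega), by omega, by omega⟩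

section reeR

variable {K : Type*} [Field K] [CharP K 3] [Fintype K] {m : ℕ}
  {σ : ↥(chevG2.group K) →* ↥(chevG2.group K)}

/-- The properties of the torus of order `q + 1`. -/
structure ReeTorus (hK : Fintype.card K = 3 ^ (2 * m + 1))
    (M : Subgroup ↥(twistedG2 K (3 ^ m))) : Prop where
  card : Nat.card M = 3 ^ (2 * m + 1) + 1
  comm : ∀ x ∈ M, ∀ y ∈ M, x * y = y * x
  selfcent : ∀ h ∈ M, h * h ≠ 1 → ∀ c : ↥(twistedG2 K (3 ^ m)), c * h = h * c → c ∈ M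
  count : ∀ d : ℕ, Odd d → Nat.card {x : ↥(twistedG2 K (3 ^ m)) // x ∈ M ∧ x ^ d = 1} ≤ d
  reeA_mem : reeA hK ∈ M
  conj : ∀ (g : ↥(twistedG2 K (3 ^ m))) (s : ℕ), s.Prime → s ≠ 2 → s ∣ 3 ^ (2 * m + 1) + 1 →
    s ∣ orderOf g → ∃ c : ↥(twistedG2 K (3 ^ m)), c * g * c⁻¹ ∈ M

theorem ree_torus_exists (hK : Fintype.card K = 3 ^ (2 * m + 1)) (hσ : ReeSig m σ)
    (hm : 1 ≤ m) : ∃ M : Subgroup ↥(twistedG2 K (3 ^ m)), ReeTorus hK M := by
  obtain ⟨n, hn, hn7, hq⟩ := ree_quarter m hm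
  have hn1 : n ≠ 1 := by omega
  have hs : (n.minFac).Prime := Nat.minFac_prime hn1
  have hsn : n.minFac ∣ n := Nat.minFac_dvd n
  have hs2 : n.minFac ≠ 2 := by
    intro h
    rw [h] at hsn
    have := Nat.odd_iff.mp hn
    omega
  have hsq : n.minFac ∣ 3 ^ (2 * m + 1) + 1 := by
    rw [hq]; exact Dvd.dvd.mul_left hsn 4
  obtain ⟨y, hy1, hys, hya⟩ := ree_exists_qp1_elem hK hσ hs hsq
  obtain ⟨hc, hcomm, hMa⟩ := reeA_torus hK hσ hm hs hs2 hsq y hy1 hys hya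
  refine ⟨Subgroup.centralizer ({y} : Set ↥(twistedG2 K (3 ^ m))), hc, ?_,
    reeA_torus_selfcent hK hσ hm hs hs2 hsq y hy1 hys hya,
    fun d hd => reeA_torus_count hK hσ hm hs hs2 hsq y hy1 hys hya hd, ?_,
    fun g s hsp hs2' hsd hsg => ree_qp1_conj_M hK hσ hm hs hs2 hsq y hy1 hys hya g hsp hs2' hsd hsg⟩
  · intro x hx z hz
    exact hcomm x z (Subgroup.mem_centralizer_singleton_iff.mp hx)
      (Subgroup.mem_centralizer_singleton_iff.mp hz)
  · rw [Subgroup.mem_centralizer_singleton_iff]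
    exact hya.symm

variable {hK : Fintype.card K = 3 ^ (2 * m + 1)} {M : Subgroup ↥(twistedG2 K (3 ^ m))}

theorem ReeTorus.sq_card (hM : ReeTorus hK M) (hσ : ReeSig m σ) (hm : 1 ≤ m) :
    Nat.card ↥(sqOneSubgroup M hM.comm) = 4 := by
  obtain ⟨n, hn, hn7, hq⟩ := ree_quarter m hm
  have h := (card_sq_eq_one_of_four_mul M hM.comm hn (by rw [hM.card, hq])
    (ree_two_elem hK hσ)).1
  rw [← h]
  exact Nat.card_congr (Equiv.subtypeEquivRight (fun g => Iff.rfl))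

theorem ReeTorus.cent_card (hM : ReeTorus hK M) (hσ : ReeSig m σ) (hm : 1 ≤ m) :
    Nat.card ↥(Subgroup.centralizer
      ((sqOneSubgroup M hM.comm : Subgroup ↥(twistedG2 K (3 ^ m))) :
        Set ↥(twistedG2 K (3 ^ m)))) = 2 * (3 ^ (2 * m + 1) + 1) := by
  obtain ⟨e⟩ := reeA_cent hK hσ
  have h8 := three_pow_mod_eight m
  have hq27 : 27 ≤ 3 ^ (2 * m + 1) := by
    calc 27 = 3 ^ 3 := by norm_num
      _ ≤ 3 ^ (2 * m + 1) := Nat.pow_le_pow_right (by norm_num) (by omega)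
  have h := card_centralizer_four_of_psl2 (F := K) ree_two_ne_zero (by rw [hK]; omega)
    (by rw [hK]; omega) (reeA hK) (reeA_ne_one hK) (reeA_sq hK) e (sqOneSubgroup M hM.comm)
    (hM.sq_card hσ hm) ⟨hM.reeA_mem, reeA_sq hK⟩
    (fun x hx y hy => hM.comm x hx.1 y hy.1) (fun x hx => hx.2)
  rw [h, hK]

theorem ReeTorus.tor (hM : ReeTorus hK M) (hσ : ReeSig m σ) (hm : 1 ≤ m)
    (g : ↥(twistedG2 K (3 ^ m)))
    (hg : g ∈ Subgroup.centralizer
      ((sqOneSubgroup M hM.comm : Subgroup ↥(twistedG2 K (3 ^ m))) :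
        Set ↥(twistedG2 K (3 ^ m)))) (hg2 : g * g ≠ 1) :
    ∃ M' : Subgroup ↥(twistedG2 K (3 ^ m)), (∀ x ∈ M', ∀ y ∈ M', x * y = y * x) ∧
      Nat.card M' = 3 ^ (2 * m + 1) + 1 ∧ g ∈ M' ∧ sqOneSubgroup M hM.comm ≤ M' := by
  -- an odd prime dividing the order of `g`
  have hord : orderOf g ∣ 2 * (3 ^ (2 * m + 1) + 1) := by
    rw [← hM.cent_card hσ hm]
    have := orderOf_dvd_natCard (⟨g, hg⟩ : ↥(Subgroup.centralizer
      ((sqOneSubgroup M hM.comm : Subgroup ↥(twistedG2 K (3 ^ m))) :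
        Set ↥(twistedG2 K (3 ^ m)))))
    rwa [Subgroup.orderOf_mk] at this
  rcases Nat.eq_two_pow_or_exists_odd_prime_and_dvd (orderOf g) with
    ⟨k, hk⟩ | ⟨s, hsp, hsd, hso⟩
  · exfalso
    apply hg2
    exact ree_two_elem hK hσ g k (by rw [← hk]; exact pow_orderOf_eq_one g)
  · have hs2 : s ≠ 2 := by
      rintro rfl
      exact absurd hso (by decide)
    have hsq : s ∣ 3 ^ (2 * m + 1) + 1 := by
      have h1 : s ∣ 2 * (3 ^ (2 * m + 1) + 1) := hsd.trans hord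
      rcases (Nat.Prime.dvd_mul hsp).mp h1 with h | h
      · exact absurd ((Nat.prime_dvd_prime_iff_eq hsp Nat.prime_two).mp h) hs2
      · exact h
    obtain ⟨k, hk1, hks⟩ := exists_prime_order_pow g hsp hsd
    have hgE : ∀ x ∈ sqOneSubgroup M hM.comm, x * g = g * x := fun x hx =>
      Subgroup.mem_centralizer_iff.mp hg x hx
    have hga : g ^ k * reeA hK = reeA hK * g ^ k := by
      have := hgE (reeA hK) ⟨hM.reeA_mem, reeA_sq hK⟩
      exact (Commute.pow_left (show Commute g (reeA hK) from this.symm) k).eq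
    obtain ⟨hc, hcomm, -⟩ := reeA_torus hK hσ hm hsp hs2 hsq (g ^ k) hk1 hks hga
    refine ⟨Subgroup.centralizer ({g ^ k} : Set ↥(twistedG2 K (3 ^ m))), ?_, hc, ?_, ?_⟩
    · intro x hx z hz
      exact hcomm x z (Subgroup.mem_centralizer_singleton_iff.mp hx)
        (Subgroup.mem_centralizer_singleton_iff.mp hz)
    · rw [Subgroup.mem_centralizer_singleton_iff]
      exact (Commute.pow_right (Commute.refl g) k).eq
    · intro x hx
      rw [Subgroup.mem_centralizer_singleton_iff]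
      exact (Commute.pow_right (show Commute x g from hgE x hx) k).eq

theorem ReeTorus.normalizer (hM : ReeTorus hK M) (hσ : ReeSig m σ) (hm : 1 ≤ m) :
    Subgroup.normalizer ((sqOneSubgroup M hM.comm : Subgroup ↥(twistedG2 K (3 ^ m))) :
        Set ↥(twistedG2 K (3 ^ m))) = Subgroup.normalizer (M : Set ↥(twistedG2 K (3 ^ m))) ∧
      ∀ g ∈ M, g * g ≠ 1 → ∀ y : ↥(twistedG2 K (3 ^ m)), y * g * y⁻¹ ∈ M →
        y ∈ Subgroup.normalizer (M : Set ↥(twistedG2 K (3 ^ m))) := by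
  obtain ⟨n, hn, hn7, hq⟩ := ree_quarter m hm
  refine normalizer_eq_of_torus M (sqOneSubgroup M hM.comm) hM.comm hn (by omega)
    (by rw [hM.card, hq]) (ree_two_elem hK hσ) hM.selfcent (fun g => Iff.rfl)
    (by rw [hM.cent_card hσ hm, hq]; ring) ?_
  intro g hg hg2
  obtain ⟨M', h1, h2, h3, h4⟩ := hM.tor hσ hm g hg hg2
  exact ⟨M', h1, by rw [h2, hq], h3, h4⟩

theorem ReeTorus.normalizer_card (hM : ReeTorus hK M) (hσ : ReeSig m σ) (hm : 1 ≤ m) :
    Nat.card ↥(Subgroup.normalizer (M : Set ↥(twistedG2 K (3 ^ m)))) =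
      6 * (3 ^ (2 * m + 1) + 1) := by
  have : Fact (Nat.Prime 2) := ⟨Nat.prime_two⟩
  rw [← (hM.normalizer hσ hm).1]
  have hp : IsPGroup 2 ↥(sqOneSubgroup M hM.comm) :=
    IsPGroup.of_card (n := 2) (by rw [hM.sq_card hσ hm]; norm_num)
  obtain ⟨S, hS⟩ := hp.exists_le_sylow
  obtain ⟨hS8, -⟩ := ree_sylow_two hK hσ S
  obtain ⟨hC, hN⟩ := ree_sylow_two_normalizer hK hσ hm S
  have h := card_normalizer_four (sqOneSubgroup M hM.comm) (S : Subgroup ↥(twistedG2 K (3 ^ m)))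
    (hM.sq_card hσ hm) hS hS8 (ree_two_elem hK hσ) hC hN
  rw [h, hM.cent_card hσ hm]
  ring

/-- The number of elements `g` with `g² ≠ 1` conjugate into the torus. -/
theorem ReeTorus.conj_count (hM : ReeTorus hK M) (hσ : ReeSig m σ) (hm : 1 ≤ m) :
    Nat.card {g : ↥(twistedG2 K (3 ^ m)) // g * g ≠ 1 ∧
        ∃ y : ↥(twistedG2 K (3 ^ m)), y * g * y⁻¹ ∈ M} * (6 * (3 ^ (2 * m + 1) + 1)) =
      ((3 ^ (2 * m + 1)) ^ 3 * (3 ^ (2 * m + 1) - 1) * ((3 ^ (2 * m + 1)) ^ 3 + 1)) *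
        (3 ^ (2 * m + 1) + 1 - 4) := by
  obtain ⟨n, hn, hn7, hq⟩ := ree_quarter m hm
  have h := card_conj_union M (fun g => g * g ≠ 1) ?_ (hM.normalizer hσ hm).2
  · rw [hM.normalizer_card hσ hm, ree_card hK hσ,
      (card_sq_eq_one_of_four_mul M hM.comm hn (by rw [hM.card, hq])
        (ree_two_elem hK hσ)).2.1] at h
    rw [h, hq]
  · intro g y hg h
    apply hg
    have e : g * g = y⁻¹ * (y * g * y⁻¹ * (y * g * y⁻¹)) * y := by group
    rw [e, h]; group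

end reeR

end Cfsg.Agent.Helper6
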