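import Cfsg.Agent.Helper6.ReeR

/-!
# The small Ree groups: counting the elements of the exotic tori; the Hall subgroups of orders
`q ± 3^(m+1) + 1`
-/

set_option autoImplicit false

namespace Cfsg.Agent.Helper6

open Cfsg Cfsg.Lie Cfsg.Agent.Helper36 Cfsg.Agent.Helper17 Matrix
open Cfsg.Agent.Helper39 Cfsg.Agent.Helper20 Cfsg.Agent.Helper53 Cfsg.Agent.Helper66
open Cfsg.Agent.Helper42 Cfsg.Agent.Helper28 Cfsg.Agent.Helper33 Cfsg.Agent.Helper83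
open Cfsg.Agent.Helper31 Cfsg.Agent.Helper67 Cfsg.Agent.Helper46 Cfsg.Agent.Helper3
open Cfsg.Agent.Helper80
open Cfsg.Agent.Helper14 Cfsg.Agent.Helper34

section reeS

variable {K : Type*} [Field K] [CharP K 3] [Fintype K] {m : ℕ}
  {σ : ↥(chevG2.group K) →* ↥(chevG2.group K)}

theorem q_ge_27 (m : ℕ) (hm : 1 ≤ m) : 27 ≤ 3 ^ (2 * m + 1) := by
  calc 27 = 3 ^ 3 := by norm_num
    _ ≤ 3 ^ (2 * m + 1) := Nat.pow_le_pow_right (by norm_num) (by omega)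

/-- The number of involutions of `²G₂(q)`. -/
theorem ree_inv_count (hK : Fintype.card K = 3 ^ (2 * m + 1)) (hσ : ReeSig m σ) (hm : 1 ≤ m) :
    Nat.card {g : ↥(twistedG2 K (3 ^ m)) // g ≠ 1 ∧ g * g = 1} =
      (3 ^ (2 * m + 1)) ^ 2 * ((3 ^ (2 * m + 1)) ^ 2 - 3 ^ (2 * m + 1) + 1) := by
  have h := card_conj_class_mul (reeA hK)
    (fun g : ↥(twistedG2 K (3 ^ m)) => g ≠ 1 ∧ g * g = 1) ?_
  · rw [reeA_cent_card hK hσ, hK, ree_card hK hσ] at h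
    exact ree_involution_count _ _ (q_ge_27 m hm) h
  · intro g
    constructor
    · rintro ⟨h1, h2⟩
      obtain ⟨c, hc⟩ := ree_inv_conj hK hσ hm g h1 h2
      refine ⟨c⁻¹, ?_⟩
      rw [← hc]; group
    · rintro ⟨y, rfl⟩
      refine ⟨?_, ?_⟩
      · intro h
        apply reeA_ne_one hK
        have e : reeA hK = y⁻¹ * (y * reeA hK * y⁻¹) * y := by group
        rw [e, h]; group
      · have e : y * reeA hK * y⁻¹ * (y * reeA hK * y⁻¹) = y * (reeA hK * reeA hK) * y⁻¹ := by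
          group
        rw [e, reeA_sq hK]; group

/-- The number of fixed-point-free elements on the cosets of `B¹`. -/
theorem ree_fpf_count (hK : Fintype.card K = 3 ^ (2 * m + 1)) (hσ : ReeSig m σ) (hm : 1 ≤ m) :
    2 * Nat.card {g : ↥(twistedG2 K (3 ^ m)) //
        ∀ ω : ↥(twistedG2 K (3 ^ m)) ⧸ reeBG K m, g • ω ≠ ω} + 2 =
      ((3 ^ (2 * m + 1)) ^ 3 + 1) * ((3 ^ (2 * m + 1)) ^ 3 + 1 - 1) * (3 ^ (2 * m + 1) - 1 - 2) +
        2 * (3 ^ (2 * m + 1) + 1 - 1) *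
          ((3 ^ (2 * m + 1)) ^ 2 * ((3 ^ (2 * m + 1)) ^ 2 - 3 ^ (2 * m + 1) + 1)) +
        2 * ((3 ^ (2 * m + 1)) ^ 3 + 1) := by
  obtain ⟨t1, t2, t3⟩ := two_point_stabilizer_facts (reeBG K m) (reeD K m) (reeNG K m) (reeA hK)
    (reeBG_bruhat' hK hσ) reeD_le_reeBG (fun t ht => reeD_le_reeBG (reeNG_conj_D t ht))
    (reeBG_two_point hK hσ) (reeA_mem_D hK) (reeA_ne_one hK) (reeA_sq hK) (reeA_unique hK hσ)
  have hfix := card_fixed_involution (reeBG K m) (reeUG K m) (reeNG K m) (reeA hK)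
    (3 ^ (2 * m + 1)) reeUG_le_reeBG reeNG_not_mem (reeBG_bruhat hK hσ) (reeUG_conj_N hK hσ)
    (reeD_le_reeBG (reeA_mem_D hK)) (reeD_le_reeBG (reeNG_conj_D _ (reeA_mem_D hK)))
    (reeA_conj_U hK) (reeA_cent_U_card hK hσ) (ree_inv_conj hK hσ hm)
  have hq := q_ge_27 m hm
  have h := card_fixedPointFree (reeBG K m) (3 ^ (2 * m + 1) - 1) (3 ^ (2 * m + 1) + 1)
    ((3 ^ (2 * m + 1)) ^ 2 * ((3 ^ (2 * m + 1)) ^ 2 - 3 ^ (2 * m + 1) + 1)) (by omega)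
    (ree_three_point_stab hK hσ).1
    (fun x y hxy => by rw [t1 x y hxy, reeD_card hK hσ]) t2 t3 (ree_inv_count hK hσ hm) hfix
  rw [reeBG_index hK hσ] at h
  exact h

/-- The split of the fixed-point-free elements. -/
theorem ree_fpf_split (hK : Fintype.card K = 3 ^ (2 * m + 1)) (hσ : ReeSig m σ) (hm : 1 ≤ m)
    {M : Subgroup ↥(twistedG2 K (3 ^ m))} (hM : ReeTorus hK M) :
    Nat.card {g : ↥(twistedG2 K (3 ^ m)) //
        ∀ ω : ↥(twistedG2 K (3 ^ m)) ⧸ reeBG K m, g • ω ≠ ω} =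
      Nat.card {g : ↥(twistedG2 K (3 ^ m)) // g ≠ 1 ∧
        ∃ T : Subgroup ↥(twistedG2 K (3 ^ m)), IsCyclic T ∧
        (∀ y ∈ T, y ≠ 1 → ∀ c : ↥(twistedG2 K (3 ^ m)), c * y = y * c → c ∈ T) ∧
        Nat.card T ∣ (3 ^ (2 * m + 1)) ^ 2 - 3 ^ (2 * m + 1) + 1 ∧ g ∈ T} +
      Nat.card {g : ↥(twistedG2 K (3 ^ m)) // g * g ≠ 1 ∧
        ∃ y : ↥(twistedG2 K (3 ^ m)), y * g * y⁻¹ ∈ M} := by
  refine card_fixedPointFree_split (reeBG K m) M (ree_card hK hσ) hM.card (ree_two_elem hK hσ)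
    (reeBG_fixed_pow hK hσ) ?_ ?_ ?_ hM.conj ?_
  · intro g h3
    obtain ⟨c, hc⟩ := ree_three_dvd_conj_B hK hσ g h3
    exact reeBG_conj_fixed g c hc
  · intro g s hs hs2 hsd hsg
    obtain ⟨c, hc⟩ := ree_qm1_conj_D hK hσ g hs hs2 hsd hsg
    exact reeBG_conj_fixed g c (reeD_le_reeBG hc)
  · intro g hg
    obtain ⟨c, hc⟩ := ree_sq_conj_D hK hσ hm g hg
    exact reeBG_conj_fixed g c (reeD_le_reeBG hc)
  · intro g p hp hpd hpg
    exact ree_exotic_mem hK hσ hm g hp hpd hpg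

/-- **The number of non-trivial elements of the exotic tori.** -/
theorem ree_exotic_count (hK : Fintype.card K = 3 ^ (2 * m + 1)) (hσ : ReeSig m σ)
    (hm : 1 ≤ m) :
    3 * Nat.card {g : ↥(twistedG2 K (3 ^ m)) // g ≠ 1 ∧
        ∃ T : Subgroup ↥(twistedG2 K (3 ^ m)), IsCyclic T ∧
        (∀ y ∈ T, y ≠ 1 → ∀ c : ↥(twistedG2 K (3 ^ m)), c * y = y * c → c ∈ T) ∧
        Nat.card T ∣ (3 ^ (2 * m + 1)) ^ 2 - 3 ^ (2 * m + 1) + 1 ∧ g ∈ T} =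
      (3 ^ (2 * m + 1)) ^ 4 * ((3 ^ (2 * m + 1)) ^ 2 - 1) * (3 ^ (2 * m + 1) - 2) := by
  obtain ⟨M, hM⟩ := ree_torus_exists hK hσ hm
  have h1 := ree_fpf_count hK hσ hm
  rw [ree_fpf_split hK hσ hm hM] at h1
  exact ree_count_arith _ _ _ (q_ge_27 m hm) h1 (hM.conj_count hσ hm)

/-- The normaliser of an exotic torus has order dividing `6 |T|`. -/
theorem ree_exotic_normalizer_dvd (hK : Fintype.card K = 3 ^ (2 * m + 1)) (hσ : ReeSig m σ)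
    (hm : 1 ≤ m) (T : Subgroup ↥(twistedG2 K (3 ^ m))) (hT : IsCyclic T) (hT1 : T ≠ ⊥)
    (hTI : ∀ y ∈ T, y ≠ 1 → ∀ c : ↥(twistedG2 K (3 ^ m)), c * y = y * c → c ∈ T)
    (hTd : Nat.card T ∣ (3 ^ (2 * m + 1)) ^ 2 - 3 ^ (2 * m + 1) + 1) :
    Nat.card (Subgroup.normalizer (T : Set ↥(twistedG2 K (3 ^ m)))) ∣ 6 * Nat.card T := by
  have hc1 : Nat.card T ≠ 1 := fun h => hT1 (Subgroup.card_eq_one.mp h)
  have hp : (Nat.card T).minFac.Prime := Nat.minFac_prime hc1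
  have hpT : (Nat.card T).minFac ∣ Nat.card T := Nat.minFac_dvd _
  have hpd := hpT.trans hTd
  have : Fact (Nat.card T).minFac.Prime := ⟨hp⟩
  obtain ⟨-, -, h1, h2, h3, h4, h5⟩ := ree_six_coprime (three_dvd_q m) (one_lt_q m) hp hpd
  obtain ⟨x, hx⟩ := exists_prime_orderOf_dvd_card' (Nat.card T).minFac hpT
  have hx1 : (x : ↥(twistedG2 K (3 ^ m))) ≠ 1 := by
    intro h
    have : x = 1 := Subtype.ext h
    rw [this, orderOf_one] at hx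
    exact hp.one_lt.ne hx
  have hxp : (x : ↥(twistedG2 K (3 ^ m))) ^ (Nat.card T).minFac = 1 := by
    have := pow_orderOf_eq_one x
    rw [hx] at this
    exact congrArg Subtype.val this
  have hinj := ree7Rep_injective hK hσ hm
  have hA : (ree7Rep K (3 ^ m) (x : ↥(twistedG2 K (3 ^ m)))) ^ (Nat.card T).minFac = 1 := by
    rw [← map_pow, hxp, map_one]
  have hA1 : ree7Rep K (3 ^ m) (x : ↥(twistedG2 K (3 ^ m))) ≠ 1 := by
    intro h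
    apply hx1
    apply hinj
    rw [map_one]
    exact h
  refine card_normalizer_dvd_six T hT hTI hp (x : ↥(twistedG2 K (3 ^ m))) x.2 hx1 hxp
    (q := Fintype.card K) ?_ ?_
  · obtain ⟨c, hc⟩ := h5
    have hpos : 1 ≤ (3 ^ (2 * m + 1)) ^ 6 := Nat.one_le_pow _ _ (by positivity)
    have e : Fintype.card K ^ 6 = (Nat.card T).minFac * c + 1 := by
      rw [hK]; omega
    rw [e, pow_succ, pow_mul, hxp, one_pow, one_mul]
  · intro n k hn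
    have hN : ree7Rep K (3 ^ m) n * ree7Rep K (3 ^ m) (x : ↥(twistedG2 K (3 ^ m))) *
        (ree7Rep K (3 ^ m) n)⁻¹ = ree7Rep K (3 ^ m) (x : ↥(twistedG2 K (3 ^ m))) ^ k := by
      rw [← map_inv, ← map_mul, ← map_mul, hn, map_pow]
    obtain ⟨i, hi, hi2⟩ := conj_pow_of_order_six hp (by rw [hK]; exact h1) (by rw [hK]; exact h4)
      (by rw [hK]; exact h5) _ hA hA1 _ k hN
    refine ⟨i, hi, hinj ?_⟩
    rw [map_pow, map_pow]
    exact hi2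

/-- **The cyclic Hall subgroups of orders `q ± 3^(m+1) + 1`.** -/
theorem ree_exotic_tori (hK : Fintype.card K = 3 ^ (2 * m + 1)) (hσ : ReeSig m σ)
    (hm : 1 ≤ m) :
    (∃ T : Subgroup ↥(twistedG2 K (3 ^ m)), IsCyclic T ∧
        (∀ y ∈ T, y ≠ 1 → ∀ c : ↥(twistedG2 K (3 ^ m)), c * y = y * c → c ∈ T) ∧
        Nat.card T = 3 ^ (2 * m + 1) + 3 ^ (m + 1) + 1 ∧
        Nat.card (Subgroup.normalizer (T : Set ↥(twistedG2 K (3 ^ m)))) =
          6 * (3 ^ (2 * m + 1) + 3 ^ (m + 1) + 1)) ∧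
    (∃ T : Subgroup ↥(twistedG2 K (3 ^ m)), IsCyclic T ∧
        (∀ y ∈ T, y ≠ 1 → ∀ c : ↥(twistedG2 K (3 ^ m)), c * y = y * c → c ∈ T) ∧
        Nat.card T = 3 ^ (2 * m + 1) - 3 ^ (m + 1) + 1 ∧
        Nat.card (Subgroup.normalizer (T : Set ↥(twistedG2 K (3 ^ m)))) =
          6 * (3 ^ (2 * m + 1) - 3 ^ (m + 1) + 1)) ∧
    (∀ T : Subgroup ↥(twistedG2 K (3 ^ m)), IsCyclic T → T ≠ ⊥ →
      (∀ y ∈ T, y ≠ 1 → ∀ c : ↥(twistedG2 K (3 ^ m)), c * y = y * c → c ∈ T) →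
      Nat.card T ∣ (3 ^ (2 * m + 1)) ^ 2 - 3 ^ (2 * m + 1) + 1 →
      Nat.card T = 3 ^ (2 * m + 1) + 3 ^ (m + 1) + 1 ∨
        Nat.card T = 3 ^ (2 * m + 1) - 3 ^ (m + 1) + 1) := by
  refine exists_exotic_tori hm (ree_card hK hσ) (ree_exotic_normalizer_dvd hK hσ hm) ?_
    (ree_exotic_count hK hσ hm)
  intro p hp hpd
  obtain ⟨x, hx1, hxp⟩ := ree_exists_prime_elem hK hσ hp hpd
  exact ⟨Subgroup.centralizer ({x} : Set ↥(twistedG2 K (3 ^ m))),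
    ree_exotic_cyclic hK hσ hm hp hpd x hx1 hxp, ree_exotic_TI hK hσ hm hp hpd x hx1 hxp,
    ree_exotic_cent_card hK hσ hm hp hpd x hx1 hxp, prime_dvd_card_centralizer hp x hx1 hxp⟩

end reeS

end Cfsg.Agent.Helper6
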