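import Cfsg.Prelude.Def_ChevStructure

/-!
# A reflective checker for matrix identities between words in root elements, in characteristic 3,
with any number of variables (helper6; adapted from helper18's `Sym.lean`, which works over `ℤ` with three
variables).

Symbolic polynomials with integer coefficients (read modulo 3) in variables `x 0, x 1, …`, sparse symbolic
column vectors, and the soundness theorems for the evaluation in a field of characteristic 3.
-/

set_option autoImplicit false

namespace Cfsg.Agent.Helper6.RSym

open Cfsg.Lie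

/-- A monomial `c * x 0 ^ e₀ * x 1 ^ e₁ * ⋯`. -/
abbrev Mono := ℤ × List ℕ

/-- A symbolic polynomial: a list of monomials (their sum). -/
abbrev Raw := List Mono

/-- A sparse symbolic vector: list of (coordinate code, coefficient). -/
abbrev SVec := List (ℕ × Raw)

/-- A symbolic word in root elements: list of (root index, parameter). -/
abbrev SWord := List (ℕ × Raw)

/-! ### Symbolic operations (no field needed) -/

/-- Addition of exponent vectors. -/
def addE : List ℕ → List ℕ → List ℕ
  | [], b => b
  | a :: as, [] => a :: as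
  | a :: as, b :: bs => (a + b) :: addE as bs

def mulT (a b : Mono) : Mono := (a.1 * b.1, addE a.2 b.2)

def mulR (p q : Raw) : Raw := p.flatMap fun a => q.map (mulT a)

def oneR : Raw := [(1, [])]

def constR (c : ℤ) : Raw := [(c, [])]

/-- The variable `x i`. -/
def varR (i : ℕ) : Raw := [(1, List.replicate i 0 ++ [1])]

def powR (p : Raw) : ℕ → Raw
  | 0 => oneR
  | n + 1 => mulR p (powR p n)

def smulR (c : ℤ) (p : Raw) : Raw := p.map fun m => (c * m.1, m.2)

def negR (p : Raw) : Raw := smulR (-1) p

def insR (a : Mono) : Raw → Raw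
  | [] => [a]
  | b :: l => if a.2 = b.2 then ((a.1 + b.1) % 3, b.2) :: l else b :: insR a l

def normR (p : Raw) : Raw := (p.foldr insR []).filter fun m => decide (m.1 % 3 ≠ 0)

def isZeroR (p : Raw) : Bool := (normR p).isEmpty

def coeff (w : SVec) (k : ℕ) : Raw := w.flatMap fun e => if e.1 = k then e.2 else []

def insV (e : ℕ × Raw) : SVec → SVec
  | [] => [(e.1, normR e.2)]
  | f :: l => if e.1 = f.1 then (f.1, normR (e.2 ++ f.2)) :: l else f :: insV e l

def normV (w : SVec) : SVec := (w.foldr insV []).filter fun e => !e.2.isEmpty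

def eqV (w1 w2 : SVec) : Bool :=
  (w1.map Prod.fst ++ w2.map Prod.fst).all fun k => isZeroR (coeff w1 k ++ negR (coeff w2 k))

def applyC (c : ℕ → SVec) (w : SVec) : SVec :=
  normV (w.flatMap fun e => (c e.1).map fun f => (f.1, mulR f.2 e.2))

/-! ### Evaluation -/

section Eval

variable {F : Type*} [Field F] (x : ℕ → F)

/-- The value of the monomial with exponent vector `es` in the variables `x i, x (i+1), …`. -/
def evE : List ℕ → ℕ → F
  | [], _ => 1
  | e :: es, i => x i ^ e * evE es (i + 1)

theorem evE_addE (a b : List ℕ) (i : ℕ) : evE x (addE a b) i = evE x a i * evE x b i := by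
  induction a generalizing b i with
  | nil => simp [addE, evE]
  | cons a as ih =>
    cases b with
    | nil => simp [addE, evE]
    | cons b bs =>
      simp only [addE, evE, ih, pow_add]
      ring

def evT (m : Mono) : F := (m.1 : F) * evE x m.2 0

def ev (p : Raw) : F := (p.map (evT x)).sum

@[simp] theorem ev_nil : ev x [] = 0 := rfl

@[simp] theorem ev_cons (m : Mono) (p : Raw) : ev x (m :: p) = evT x m + ev x p := by
  simp [ev]

@[simp] theorem ev_append (p q : Raw) : ev x (p ++ q) = ev x p + ev x q := by
  simp [ev]

theorem evT_mulT (a b : Mono) : evT x (mulT a b) = evT x a * evT x b := by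
  simp only [evT, mulT, Int.cast_mul, evE_addE]
  ring

theorem ev_map_mulT (a : Mono) (q : Raw) : ev x (q.map (mulT a)) = evT x a * ev x q := by
  induction q with
  | nil => simp
  | cons b q ih => simp [evT_mulT, ih, mul_add]

@[simp] theorem ev_mulR (p q : Raw) : ev x (mulR p q) = ev x p * ev x q := by
  induction p with
  | nil => simp [mulR]
  | cons a p ih =>
    have : mulR (a :: p) q = q.map (mulT a) ++ mulR p q := by simp [mulR]
    rw [this, ev_append, ih, ev_map_mulT, ev_cons, add_mul]

@[simp] theorem ev_oneR : ev x oneR = 1 := by simp [oneR, evT, evE]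

@[simp] theorem ev_constR (c : ℤ) : ev x (constR c) = (c : F) := by simp [constR, evT, evE]

theorem evE_replicate (n i : ℕ) (l : List ℕ) :
    evE x (List.replicate n 0 ++ l) i = evE x l (i + n) := by
  induction n generalizing i with
  | zero => simp
  | succ n ih =>
    rw [List.replicate_succ, List.cons_append, evE, ih, pow_zero, one_mul]
    congr 1
    omega

@[simp] theorem ev_varR (i : ℕ) : ev x (varR i) = x i := by
  simp [varR, evT, evE_replicate, evE]

@[simp] theorem ev_powR (p : Raw) (n : ℕ) : ev x (powR p n) = ev x p ^ n := by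
  induction n with
  | zero => simp [powR]
  | succ n ih => simp [powR, ih, pow_succ, mul_comm]

@[simp] theorem ev_smulR (c : ℤ) (p : Raw) : ev x (smulR c p) = (c : F) * ev x p := by
  induction p with
  | nil => simp [smulR]
  | cons a p ih =>
    have : smulR c (a :: p) = (c * a.1, a.2) :: smulR c p := by simp [smulR]
    rw [this, ev_cons, ih, ev_cons, mul_add]
    congr 1
    simp only [evT, Int.cast_mul]
    ring

@[simp] theorem ev_negR (p : Raw) : ev x (negR p) = - ev x p := by
  simp [negR]

theorem insR_cons (a b : Mono) (l : Raw) :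
    insR a (b :: l) = if a.2 = b.2 then ((a.1 + b.1) % 3, b.2) :: l else b :: insR a l := rfl

variable [CharP F 3]

theorem cast_mod_three (z : ℤ) : (((z % 3 : ℤ)) : F) = (z : F) := by
  have h3 : ((3 : ℤ) : F) = 0 := by
    have : ((3 : ℕ) : F) = 0 := CharP.cast_eq_zero F 3
    exact_mod_cast this
  conv_rhs => rw [← Int.emod_add_mul_ediv z 3]
  rw [Int.cast_add, Int.cast_mul, h3, zero_mul, add_zero]

theorem cast_eq_zero_of_mod {z : ℤ} (h : z % 3 = 0) : (z : F) = 0 := by
  rw [← cast_mod_three (F := F), h, Int.cast_zero]

theorem ev_insR (a : Mono) (l : Raw) : ev x (insR a l) = evT x a + ev x l := by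
  induction l with
  | nil => simp [insR]
  | cons b l ih =>
    rw [insR_cons]
    by_cases h : a.2 = b.2
    · rw [if_pos h, ev_cons, ev_cons, ← add_assoc]
      congr 1
      simp only [evT, h, cast_mod_three, Int.cast_add]
      ring
    · rw [if_neg h, ev_cons, ih, ev_cons]
      ring

theorem ev_foldr_insR (p : Raw) : ev x (p.foldr insR []) = ev x p := by
  induction p with
  | nil => rfl
  | cons a p ih => rw [List.foldr_cons, ev_insR, ih, ev_cons]

theorem ev_filter_ne_zero (p : Raw) :
    ev x (p.filter fun m => decide (m.1 % 3 ≠ 0)) = ev x p := by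
  induction p with
  | nil => rfl
  | cons a p ih =>
    by_cases h : a.1 % 3 = 0
    · rw [List.filter_cons_of_neg (by simpa using h), ih, ev_cons]
      simp [evT, cast_eq_zero_of_mod (F := F) h]
    · rw [List.filter_cons_of_pos (by simpa using h), ev_cons, ih, ev_cons]

@[simp] theorem ev_normR (p : Raw) : ev x (normR p) = ev x p := by
  rw [normR, ev_filter_ne_zero, ev_foldr_insR]

theorem ev_eq_zero_of_isZeroR {p : Raw} (h : isZeroR p = true) : ev x p = 0 := by
  rw [← ev_normR]
  have : normR p = [] := by simpa [isZeroR] using h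
  rw [this, ev_nil]

/-! ### Sparse vectors -/

def evV (w : SVec) (k : ℕ) : F := ev x (coeff w k)

omit [CharP F 3] in
@[simp] theorem evV_nil (k : ℕ) : evV x [] k = 0 := rfl

omit [CharP F 3] in
theorem evV_cons (e : ℕ × Raw) (w : SVec) (k : ℕ) :
    evV x (e :: w) k = (if e.1 = k then ev x e.2 else 0) + evV x w k := by
  unfold evV coeff
  rw [List.flatMap_cons, ev_append]
  split_ifs <;> simp

omit [CharP F 3] in
theorem evV_append (w1 w2 : SVec) (k : ℕ) :
    evV x (w1 ++ w2) k = evV x w1 k + evV x w2 k := by
  unfold evV coeff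
  rw [List.flatMap_append, ev_append]

omit [CharP F 3] in
theorem coeff_eq_nil_of_not_mem {w : SVec} {k : ℕ} (h : k ∉ w.map Prod.fst) : coeff w k = [] := by
  induction w with
  | nil => rfl
  | cons e w ih =>
    simp only [List.map_cons, List.mem_cons, not_or] at h
    unfold coeff
    rw [List.flatMap_cons, if_neg (fun h' => h.1 h'.symm)]
    exact ih h.2

omit [CharP F 3] in
theorem insV_cons (e f : ℕ × Raw) (l : SVec) :
    insV e (f :: l) = if e.1 = f.1 then (f.1, normR (e.2 ++ f.2)) :: l else f :: insV e l := rfl

theorem evV_insV (e : ℕ × Raw) (w : SVec) (k : ℕ) :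
    evV x (insV e w) k = (if e.1 = k then ev x e.2 else 0) + evV x w k := by
  induction w with
  | nil => simp [insV, evV_cons]
  | cons f w ih =>
    rw [insV_cons]
    by_cases h : e.1 = f.1
    · rw [if_pos h, evV_cons, evV_cons, h]
      by_cases h2 : f.1 = k
      · simp [h2, add_assoc]
      · simp [h2]
    · rw [if_neg h, evV_cons, ih, evV_cons]
      ring

theorem evV_foldr_insV (w : SVec) (k : ℕ) : evV x (w.foldr insV []) k = evV x w k := by
  induction w with
  | nil => rfl
  | cons e w ih => rw [List.foldr_cons, evV_insV, ih, evV_cons]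

omit [CharP F 3] in
theorem evV_filter_nonempty (w : SVec) (k : ℕ) :
    evV x (w.filter fun e => !e.2.isEmpty) k = evV x w k := by
  induction w with
  | nil => rfl
  | cons e w ih =>
    by_cases h : e.2 = []
    · rw [List.filter_cons_of_neg (by simp [h]), ih, evV_cons]
      simp [h]
    · rw [List.filter_cons_of_pos (by simpa using h), evV_cons, ih, evV_cons]

@[simp] theorem evV_normV (w : SVec) (k : ℕ) : evV x (normV w) k = evV x w k := by
  rw [normV, evV_filter_nonempty, evV_foldr_insV]

theorem evV_eq_of_eqV {w1 w2 : SVec} (h : eqV w1 w2 = true) (k : ℕ) :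
    evV x w1 k = evV x w2 k := by
  by_cases hk : k ∈ w1.map Prod.fst ++ w2.map Prod.fst
  · have h1 := (List.all_eq_true.mp h) k hk
    have h2 := ev_eq_zero_of_isZeroR x h1
    rw [ev_append, ev_negR] at h2
    unfold evV
    linear_combination h2
  · rw [List.mem_append, not_or] at hk
    unfold evV
    rw [coeff_eq_nil_of_not_mem hk.1, coeff_eq_nil_of_not_mem hk.2]

omit [CharP F 3] in
theorem evV_map_mulR (c : SVec) (q : Raw) (k : ℕ) :
    evV x (c.map fun f => (f.1, mulR f.2 q)) k = evV x c k * ev x q := by
  induction c with
  | nil => simp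
  | cons f c ih =>
    rw [List.map_cons, evV_cons, ih, evV_cons, add_mul]
    split_ifs <;> simp

omit [CharP F 3] in
theorem evV_single (j : ℕ) (p : Raw) (k : ℕ) :
    evV x [(j, p)] k = if j = k then ev x p else 0 := by
  rw [evV_cons]; simp

omit [CharP F 3] in
theorem evV_range_map (n : ℕ) (f : ℕ → Raw) (k : ℕ) :
    evV x ((List.range n).map fun i => (i, f i)) k = if k < n then ev x (f k) else 0 := by
  induction n with
  | zero => simp
  | succ n ih =>
    rw [List.range_succ, List.map_append, evV_append, ih, List.map_singleton, evV_single]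
    by_cases h1 : k < n
    · have : n ≠ k := by omega
      simp [h1, this, Nat.lt_succ_of_lt h1]
    · by_cases h2 : n = k
      · subst h2; simp
      · have : ¬ k < n + 1 := by omega
        simp [h1, h2, this]

end Eval

end Cfsg.Agent.Helper6.RSym
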