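import Cfsg.Agent.Helper6.ReeSym

/-!
# Symbolic columns of root elements in characteristic 3 and soundness against `D.x`, `D.wordMat`
(helper6; adapted from helper18's `SymMat.lean`, `SymSound.lean`, `SymWord.lean`).
-/

set_option autoImplicit false
set_option linter.unusedSectionVars false

namespace Cfsg.Agent.Helper6.RSym

open Cfsg.Lie

variable (D : ChevalleyDatum)

/-- The code of a coordinate: `h_i ↦ i`, `e_s ↦ rank + s`. -/
def code : D.Idx → ℕ
  | Sum.inl i => i.val
  | Sum.inr s => D.rank + s.val

@[simp] theorem code_inl (i : Fin D.rank) : code D (Sum.inl i) = i.val := rfl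
@[simp] theorem code_inr (s : Fin D.nroots) : code D (Sum.inr s) = D.rank + s.val := rfl

theorem code_injective : Function.Injective (code D) := by
  intro a b h
  rcases a with i | s <;> rcases b with j | s'
  · simp only [code_inl] at h; exact congrArg _ (Fin.ext h)
  · simp only [code_inl, code_inr] at h; have := i.isLt; omega
  · simp only [code_inl, code_inr] at h; have := j.isLt; omega
  · simp only [code_inr] at h; exact congrArg _ (Fin.ext (by omega))

theorem code_lt (a : D.Idx) : code D a < D.rank + D.nroots := by
  rcases a with i | s
  · have := i.isLt; simp only [code_inl]; omega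
  · have := s.isLt; simp only [code_inr]; omega

theorem exists_code_eq {k : ℕ} (h : k < D.rank + D.nroots) : ∃ a, code D a = k := by
  by_cases hk : k < D.rank
  · exact ⟨Sum.inl ⟨k, hk⟩, rfl⟩
  · exact ⟨Sum.inr ⟨k - D.rank, by omega⟩, by simp only [code_inr]; omega⟩

/-- The symbolic column `k` of the root element `x_r(p)`. -/
def symCol (r : ℕ) (p : Raw) (k : ℕ) : SVec :=
  if k < D.rank + D.nroots then
    if r < D.nroots then
      if k < D.rank then
        [(k, oneR), (D.rank + r, smulR (-((D.cartanSR.getD k #[]).getD r 0)) p)]
      else if k - D.rank = r then [(k, oneR)]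
      else if k - D.rank = D.negIdx.getD r 0 then
        (k, oneR) :: (D.rank + r, negR (powR p 2)) ::
          (List.range D.rank).map fun i => (i, smulR ((D.coroot.getD r #[]).getD i 0) p)
      else
        (k, oneR) :: ((D.chain.getD r #[]).toList.filter (fun e => e.1 = k - D.rank)).flatMap fun e =>
          e.2.toList.zipIdx.map fun q => (D.rank + q.1.1, smulR q.1.2 (powR p (q.2 + 1)))
    else [(k, oneR)]
  else []

/-- Apply the word `w` (product of root elements, in order) to a symbolic vector. -/
def applyW (w : SWord) (x : SVec) : SVec :=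
  w.foldr (fun g x => applyC (symCol D g.1 g.2) x) x

/-- Check that two words have equal matrices (in characteristic 3). -/
def checkEqW (w1 w2 : SWord) : Bool :=
  (List.range (D.rank + D.nroots)).all fun k =>
    eqV (applyW D w1 [(k, oneR)]) (applyW D w2 [(k, oneR)])

/-- Check that the columns of the matrix of the word are the given symbolic vectors. -/
def checkCols (w : SWord) (E : ℕ → SVec) : Bool :=
  (List.range (D.rank + D.nroots)).all fun k => eqV (applyW D w [(k, oneR)]) (E k)

theorem symCol_oor (r : ℕ) (p : Raw) (k : ℕ) (h : D.rank + D.nroots ≤ k) : symCol D r p k = [] := by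
  unfold symCol
  rw [if_neg (by omega)]

section Eval

variable {F : Type*} [Field F] [CharP F 3] (x : ℕ → F)

/-- The vector denoted by a sparse symbolic vector. -/
def den (w : SVec) : D.Idx → F := fun a => evV x w (code D a)

/-- A symbolic column function is sound for a matrix. -/
structure SoundCol (c : ℕ → SVec) (M : Matrix D.Idx D.Idx F) : Prop where
  entry : ∀ a b, evV x (c (code D b)) (code D a) = M a b
  oor : ∀ k, D.rank + D.nroots ≤ k → c k = []

theorem den_applyC {c : ℕ → SVec} {M : Matrix D.Idx D.Idx F} (h : SoundCol D x c M) (w : SVec) :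
    den D x (applyC c w) = M.mulVec (den D x w) := by
  funext a
  unfold den applyC
  rw [evV_normV]
  induction w with
  | nil => simp [Matrix.mulVec, dotProduct]
  | cons e w ih =>
    rw [List.flatMap_cons, evV_append, ih, evV_map_mulR]
    simp only [Matrix.mulVec, dotProduct]
    simp only [evV_cons, mul_add, Finset.sum_add_distrib]
    congr 1
    by_cases hk : e.1 < D.rank + D.nroots
    · obtain ⟨b, hb⟩ := exists_code_eq D hk
      rw [Finset.sum_eq_single b]
      · rw [if_pos hb.symm, ← hb, h.entry]
      · intro b' _ hne
        rw [if_neg, mul_zero]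
        intro h'
        exact hne (code_injective D (h'.symm.trans hb.symm))
      · intro hb'; exact absurd (Finset.mem_univ b) hb'
    · rw [h.oor e.1 (not_lt.mp hk)]
      rw [evV_nil, zero_mul]
      symm
      apply Finset.sum_eq_zero
      intro b _
      rw [if_neg, mul_zero]
      intro h'
      exact hk (h' ▸ code_lt D b)

theorem den_single (b : D.Idx) : den D x [(code D b, oneR)] = Pi.single b 1 := by
  funext a
  unfold den
  rw [evV_single, ev_oneR]
  by_cases h : b = a
  · subst h; simp
  · rw [if_neg (fun h' => h (code_injective D h')), Pi.single_apply, if_neg (fun h' => h h'.symm)]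

theorem chain_inner (p : Raw) (uu : ℕ) (Z : List ((ℕ × ℤ) × ℕ)) :
    evV x (Z.map fun q => (D.rank + q.1.1, smulR q.1.2 (powR p (q.2 + 1)))) (D.rank + uu) =
      (((Z.filter (fun q => q.1.1 = uu)).map fun q => (q.2 + 1, q.1.2)).map
        fun km : ℕ × ℤ => ((km.2 : ℤ) : F) * (ev x p) ^ km.1).sum := by
  induction Z with
  | nil => simp
  | cons q Z ih =>
    rw [List.map_cons, evV_cons, ih]
    by_cases h : q.1.1 = uu
    · rw [List.filter_cons_of_pos (by simpa using h)]
      simp [h]
    · rw [List.filter_cons_of_neg (by simpa using h)]
      simp [h]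

theorem chain_outer (p : Raw) (uu : ℕ) (L : List (ℕ × Array (ℕ × ℤ))) :
    evV x (L.flatMap fun e => e.2.toList.zipIdx.map
        fun q => (D.rank + q.1.1, smulR q.1.2 (powR p (q.2 + 1)))) (D.rank + uu) =
      ((L.flatMap fun e => ((e.2.toList.zipIdx).filter (fun q => q.1.1 = uu)).map
        fun q => (q.2 + 1, q.1.2)).map
        fun km : ℕ × ℤ => ((km.2 : ℤ) : F) * (ev x p) ^ km.1).sum := by
  induction L with
  | nil => simp
  | cons e L ih =>
    rw [List.flatMap_cons, evV_append, ih, chain_inner, List.flatMap_cons, List.map_append,
      List.sum_append]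

theorem chain_low (p : Raw) (j : ℕ) (hj : j < D.rank) (L : List (ℕ × Array (ℕ × ℤ))) :
    evV x (L.flatMap fun e => e.2.toList.zipIdx.map
        fun q => (D.rank + q.1.1, smulR q.1.2 (powR p (q.2 + 1)))) j = 0 := by
  unfold evV
  rw [coeff_eq_nil_of_not_mem, ev_nil]
  intro hmem
  simp only [List.mem_map, List.mem_flatMap] at hmem
  obtain ⟨y, ⟨e, _, q, _, rfl⟩, hy⟩ := hmem
  simp only at hy
  omega

theorem soundCol_symCol (r : ℕ) (p : Raw) :
    SoundCol D x (symCol D r p) (D.x F r (ev x p)) := by
  refine ⟨?_, fun k hk => symCol_oor D r p k hk⟩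
  intro a b
  have hb := code_lt D b
  unfold symCol
  rw [if_pos hb]
  unfold ChevalleyDatum.x
  by_cases hr : r < D.nroots
  · rw [if_pos hr, dif_pos hr]
    rcases b with i | s
    · -- column of h_i
      rw [code_inl, if_pos i.isLt]
      rcases a with i' | u'
      · have h1 : ¬ (D.rank + r = i'.val) := by have := i'.isLt; omega
        simp only [code_inl, evV_cons, evV_nil, ev_oneR, if_neg h1, ChevalleyDatum.xMat,
          Matrix.of_apply, add_zero]
        by_cases h : i' = i
        · subst h; simp
        · have : ¬ (i.val = i'.val) := fun h' => h (Fin.ext h'.symm)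
          simp [h, this]
      · have h1 : ¬ (i.val = D.rank + u'.val) := by have := i.isLt; omega
        simp only [code_inr, evV_cons, evV_nil, if_neg h1, ChevalleyDatum.xMat,
          Matrix.of_apply, add_zero, zero_add, ev_smulR]
        by_cases h : u'.val = r
        · have h2 : u' = ⟨r, hr⟩ := Fin.ext h
          simp [h2]
        · have h2 : ¬ (u' = ⟨r, hr⟩) := fun h' => h (congrArg Fin.val h')
          have h3 : ¬ (r = u'.val) := by omega
          simp [h2, h3]
    · rw [code_inr]
      have h1 : ¬ (D.rank + s.val < D.rank) := by omega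
      have h2 : D.rank + s.val - D.rank = s.val := by omega
      rw [if_neg h1, h2]
      by_cases hs : s.val = r
      · rw [if_pos hs]
        have hs' : s = ⟨r, hr⟩ := Fin.ext hs
        rcases a with i' | u'
        · have h3 : ¬ (D.rank + r = i'.val) := by have := i'.isLt; omega
          simp [evV_cons, h3, ChevalleyDatum.xMat, hs']
        · simp only [code_inr, evV_cons, evV_nil, ev_oneR, ChevalleyDatum.xMat, Matrix.of_apply,
            add_zero, if_pos hs']
          by_cases h : u'.val = r
          · have h4 : u' = ⟨r, hr⟩ := Fin.ext h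
            simp [h4, hs]
          · have h4 : ¬ (u' = ⟨r, hr⟩) := fun h' => h (congrArg Fin.val h')
            have h5 : ¬ (s.val = u'.val) := by omega
            simp [h4, h5]
      · rw [if_neg hs]
        have hs' : ¬ (s = ⟨r, hr⟩) := fun h' => hs (congrArg Fin.val h')
        by_cases hn : s.val = D.negIdx.getD r 0
        · rw [if_pos hn]
          rcases a with i' | u'
          · have h3 : ¬ (D.rank + s.val = i'.val) := by have := i'.isLt; omega
            have h4 : ¬ (D.rank + r = i'.val) := by have := i'.isLt; omega
            simp only [code_inl, evV_cons, if_neg h3, if_neg h4, zero_add, evV_range_map,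
              if_pos i'.isLt, ev_smulR, ChevalleyDatum.xMat, Matrix.of_apply, if_neg hs', if_pos hn]
          · have h3 : ¬ (D.rank + s.val = D.rank + u'.val) ↔ ¬ (u' = s) := by
              constructor
              · intro h h'; exact h (by rw [h'])
              · intro h h'; exact h (Fin.ext (by omega))
            have h5 : ¬ (D.rank + u'.val < D.rank) := by omega
            simp only [code_inr, evV_cons, evV_range_map, if_neg h5, add_zero, ev_oneR, ev_negR,
              ev_powR, ChevalleyDatum.xMat, Matrix.of_apply, if_neg hs', if_pos hn]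
            by_cases h : u' = s
            · subst h
              have : ¬ (r = u'.val) := by omega
              simp [this]
            · have h6 : ¬ (s.val = u'.val) := by
                intro h'; exact h (Fin.ext h'.symm)
              by_cases h7 : u'.val = r
              · have h8 : u' = ⟨r, hr⟩ := Fin.ext h7
                have h10 : ¬ ((⟨r, hr⟩ : Fin D.nroots) = s) := fun h' => hs' h'.symm
                simp [h8, hs, h10]
              · have h8 : ¬ (u' = ⟨r, hr⟩) := fun h' => h7 (congrArg Fin.val h')
                have h9 : ¬ (r = u'.val) := by omega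
                simp [h6, h, h8, h9]
        · rw [if_neg hn]
          rcases a with i' | u'
          · have h3 : ¬ (D.rank + s.val = i'.val) := by have := i'.isLt; omega
            rw [code_inl, evV_cons, if_neg h3, zero_add, chain_low D x p i'.val i'.isLt]
            simp only [ChevalleyDatum.xMat, Matrix.of_apply, if_neg hs', if_neg hn]
          · rw [code_inr, evV_cons, chain_outer]
            simp only [ChevalleyDatum.xMat, Matrix.of_apply, if_neg hs', if_neg hn, ev_oneR,
              ChevalleyDatum.chainCoeff]
            congr 1
            by_cases h : u' = s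
            · subst h; simp
            · have : ¬ (s.val = u'.val) := fun h' => h (Fin.ext (by omega))
              simp [h, this]
  · rw [if_neg hr, dif_neg hr, evV_single, ev_oneR, Matrix.one_apply]
    by_cases h : a = b
    · subst h; simp
    · rw [if_neg h, if_neg (fun h' => h (code_injective D h').symm)]

/-- The word over `F` denoted by a symbolic word. -/
def evW (w : SWord) : List (ℕ × F) := w.map fun g => (g.1, ev x g.2)

omit [CharP F 3] in
@[simp] theorem evW_nil : evW x ([] : SWord) = [] := rfl

omit [CharP F 3] in
@[simp] theorem evW_cons (g : ℕ × Raw) (w : SWord) :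
    evW x (g :: w) = (g.1, ev x g.2) :: evW x w := rfl

omit [CharP F 3] in
@[simp] theorem evW_append (w1 w2 : SWord) :
    evW x (w1 ++ w2) = evW x w1 ++ evW x w2 := by
  simp [evW]

omit [CharP F 3] in
theorem wordMat_nil : D.wordMat F [] = 1 := rfl

omit [CharP F 3] in
theorem wordMat_cons (g : ℕ × F) (w : List (ℕ × F)) :
    D.wordMat F (g :: w) = D.x F g.1 g.2 * D.wordMat F w := by
  simp [ChevalleyDatum.wordMat]

omit [CharP F 3] in
theorem wordMat_append (w1 w2 : List (ℕ × F)) :
    D.wordMat F (w1 ++ w2) = D.wordMat F w1 * D.wordMat F w2 := by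
  simp [ChevalleyDatum.wordMat]

omit [CharP F 3] in
theorem wordMat_singleton (g : ℕ × F) : D.wordMat F [g] = D.x F g.1 g.2 := by
  simp [ChevalleyDatum.wordMat]

theorem den_applyW (w : SWord) (y : SVec) :
    den D x (applyW D w y) = (D.wordMat F (evW x w)).mulVec (den D x y) := by
  induction w with
  | nil => simp [applyW, wordMat_nil]
  | cons g w ih =>
    have h : applyW D (g :: w) y = applyC (symCol D g.1 g.2) (applyW D w y) := rfl
    rw [h, den_applyC D x (soundCol_symCol D x g.1 g.2), ih, evW_cons, wordMat_cons,
      Matrix.mulVec_mulVec]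

theorem wordMat_apply (w : SWord) (a b : D.Idx) :
    D.wordMat F (evW x w) a b = evV x (applyW D w [(code D b, oneR)]) (code D a) := by
  have h := congrFun (den_applyW D x w [(code D b, oneR)]) a
  rw [den_single, Matrix.mulVec_single_one] at h
  exact h.symm

/-- Soundness of the word checker in characteristic 3. -/
theorem wordMat_eq_of_checkEqW {w1 w2 : SWord} (h : checkEqW D w1 w2 = true) :
    D.wordMat F (evW x w1) = D.wordMat F (evW x w2) := by
  ext a b
  rw [wordMat_apply, wordMat_apply]
  apply evV_eq_of_eqV
  exact (List.all_eq_true.mp h) (code D b) (List.mem_range.mpr (code_lt D b))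

theorem wordMat_apply_of_checkCols {w : SWord} {E : ℕ → SVec} (h : checkCols D w E = true)
    (a b : D.Idx) :
    D.wordMat F (evW x w) a b = evV x (E (code D b)) (code D a) := by
  rw [wordMat_apply]
  apply evV_eq_of_eqV
  exact (List.all_eq_true.mp h) (code D b) (List.mem_range.mpr (code_lt D b))

end Eval

end Cfsg.Agent.Helper6.RSym
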