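import Cfsg.Agent.Helper6.ReeS

/-!
# The small Ree groups: normalisers of the cyclic Hall subgroups (S1158)
-/

set_option autoImplicit false

namespace Cfsg.Agent.Helper6

open Cfsg Cfsg.Lie Cfsg.Agent.Helper36 Cfsg.Agent.Helper17 Matrix
open Cfsg.Agent.Helper39 Cfsg.Agent.Helper20 Cfsg.Agent.Helper53 Cfsg.Agent.Helper66
open Cfsg.Agent.Helper42 Cfsg.Agent.Helper28 Cfsg.Agent.Helper33 Cfsg.Agent.Helper83
open Cfsg.Agent.Helper31 Cfsg.Agent.Helper67 Cfsg.Agent.Helper46 Cfsg.Agent.Helper3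
open Cfsg.Agent.Helper80 Cfsg.Agent.Helper14 Cfsg.Agent.Helper34

/-- In a cyclic subgroup there is an element of each order dividing its order. -/
theorem exists_orderOf_eq_of_dvd_cyclic {G : Type*} [Group G] [Finite G] (D : Subgroup G)
    (hD : IsCyclic D) {d : ℕ} (hd : d ∣ Nat.card D) : ∃ x ∈ D, orderOf x = d := by
  obtain ⟨g, hg⟩ := IsCyclic.exists_generator (α := ↥D)
  have ho : orderOf g = Nat.card D := orderOf_eq_card_of_forall_mem_zpowers hg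
  have hpos : orderOf g ≠ 0 := (orderOf_pos g).ne'
  have h := orderOf_pow_orderOf_div hpos (ho ▸ hd)
  refine ⟨((g ^ (orderOf g / d) : ↥D) : G), (g ^ (orderOf g / d)).2, ?_⟩
  rw [Subgroup.orderOf_coe]
  exact h

/-- Normalisers of the odd-order subgroups of a self-centralising commutative subgroup. -/
theorem normalizer_family {G : Type*} [Group G] [Finite G] (D A : Subgroup G)
    (hDcomm : ∀ x ∈ D, ∀ y ∈ D, x * y = y * x)
    (hD : ∀ h ∈ D, h * h ≠ 1 → ∀ c : G, c * h = h * c → c ∈ D)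
    (hA : A ≤ D) (hA1 : A ≠ ⊥) (hAodd : Odd (Nat.card A))
    (hcnt : ∀ d : ℕ, Odd d → Nat.card {x : G // x ∈ D ∧ x ^ d = 1} ≤ d) :
    Subgroup.normalizer (A : Set G) = Subgroup.normalizer (D : Set G) ∧
      ∀ A₀ : Subgroup G, A₀ ≤ A → A₀ ≠ ⊥ →
        Subgroup.normalizer (A₀ : Set G) = Subgroup.normalizer (A : Set G) := by
  have h1 := normalizer_eq_of_selfcent D hDcomm hD A hA hA1 hAodd (hcnt _ hAodd)
  refine ⟨h1, ?_⟩
  intro A₀ hA₀ hA₀1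
  have hodd : Odd (Nat.card A₀) := Odd.of_dvd_nat hAodd (Subgroup.card_dvd_of_le hA₀)
  rw [h1]
  exact normalizer_eq_of_selfcent D hDcomm hD A₀ (hA₀.trans hA) hA₀1 hodd (hcnt _ hodd)

theorem subgroup_ne_bot_of_card {G : Type*} [Group G] (A : Subgroup G) (h : 1 < Nat.card A) :
    A ≠ ⊥ := by
  intro hA
  rw [hA, Subgroup.card_bot] at h
  exact lt_irrefl _ h

section reeT

variable {K : Type*} [Field K] [CharP K 3] [Fintype K] {m : ℕ}
  {σ : ↥(chevG2.group K) →* ↥(chevG2.group K)}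

/-- `|N(H¹)| = 2(q - 1)`. -/
theorem reeD_normalizer_card (hK : Fintype.card K = 3 ^ (2 * m + 1)) (hσ : ReeSig m σ)
    (hm : 1 ≤ m) :
    Nat.card (Subgroup.normalizer ((reeD K m : Subgroup ↥(twistedG2 K (3 ^ m))) :
      Set ↥(twistedG2 K (3 ^ m)))) = 2 * (3 ^ (2 * m + 1) - 1) := by
  have hq := q_ge_27 m hm
  have h := card_normalizer_two_point (reeBG K m) (reeD K m) (reeNG K m)
    (reeBG_bruhat' hK hσ) reeD_le_reeBG reeNG_conj_D (reeBG_two_point hK hσ) reeNG_not_mem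
    (ree_three_point_stab hK hσ).1 (by rw [reeD_card hK hσ]; omega)
  rw [h, reeD_card hK hσ]

/-- The case `(q - 1)/2` of S1158. -/
theorem ree_hall_split (hK : Fintype.card K = 3 ^ (2 * m + 1)) (hσ : ReeSig m σ) (hm : 1 ≤ m) :
    ∃ A : Subgroup ↥(twistedG2 K (3 ^ m)), IsCyclic A ∧
      Nat.card A = (3 ^ (2 * m + 1) - 1) / 2 ∧
      Nat.card (Subgroup.normalizer (A : Set ↥(twistedG2 K (3 ^ m)))) =
        2 * (3 ^ (2 * m + 1) - 1) ∧
      ∀ A₀ : Subgroup ↥(twistedG2 K (3 ^ m)), A₀ ≤ A → A₀ ≠ ⊥ →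
        Subgroup.normalizer (A₀ : Set ↥(twistedG2 K (3 ^ m))) =
          Subgroup.normalizer (A : Set ↥(twistedG2 K (3 ^ m))) := by
  have hq := q_ge_27 m hm
  have h8 := three_pow_mod_eight m
  have hdvd : (3 ^ (2 * m + 1) - 1) / 2 ∣ Nat.card ↥(reeD K m) := by
    rw [reeD_card hK hσ]
    exact Nat.div_dvd_of_dvd (by omega)
  obtain ⟨x, hxD, hx⟩ := exists_orderOf_eq_of_dvd_cyclic (reeD K m) (reeD_cyclic hK hσ) hdvd
  have hcard : Nat.card ↥(Subgroup.zpowers x) = (3 ^ (2 * m + 1) - 1) / 2 := by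
    rw [Nat.card_zpowers, hx]
  have hle : Subgroup.zpowers x ≤ reeD K m := (Subgroup.zpowers_le).mpr hxD
  obtain ⟨h1, h2⟩ := normalizer_family (reeD K m) (Subgroup.zpowers x) (reeD_comm hK hσ)
    (reeD_selfcent hK hσ) hle (subgroup_ne_bot_of_card _ (by rw [hcard]; omega))
    (by rw [hcard]; exact Nat.odd_iff.mpr (by omega))
    (fun d hd => card_mem_pow_eq_one_le_of_isCyclic _ (reeD_cyclic hK hσ) hd.pos)
  refine ⟨Subgroup.zpowers x, inferInstance, hcard, ?_, h2⟩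
  rw [h1]
  exact reeD_normalizer_card hK hσ hm

/-- The case `(q + 1)/4` of S1158. -/
theorem ree_hall_quarter (hK : Fintype.card K = 3 ^ (2 * m + 1)) (hσ : ReeSig m σ)
    (hm : 1 ≤ m) :
    ∃ A : Subgroup ↥(twistedG2 K (3 ^ m)), IsCyclic A ∧
      Nat.card A = (3 ^ (2 * m + 1) + 1) / 4 ∧
      Nat.card (Subgroup.normalizer (A : Set ↥(twistedG2 K (3 ^ m)))) =
        6 * (3 ^ (2 * m + 1) + 1) ∧
      ∀ A₀ : Subgroup ↥(twistedG2 K (3 ^ m)), A₀ ≤ A → A₀ ≠ ⊥ →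
        Subgroup.normalizer (A₀ : Set ↥(twistedG2 K (3 ^ m))) =
          Subgroup.normalizer (A : Set ↥(twistedG2 K (3 ^ m))) := by
  obtain ⟨M, hM⟩ := ree_torus_exists hK hσ hm
  obtain ⟨n, hn, hn7, hq⟩ := ree_quarter m hm
  obtain ⟨O, hOM, hOc, hOn⟩ := exists_cyclic_odd_part M hM.comm hn (by rw [hM.card, hq]) hM.count
  have hn' : (3 ^ (2 * m + 1) + 1) / 4 = n := by omega
  obtain ⟨h1, h2⟩ := normalizer_family M O hM.comm hM.selfcent hOM
    (subgroup_ne_bot_of_card _ (by rw [hOn]; omega)) (by rw [hOn]; exact hn) hM.count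
  refine ⟨O, hOc, by rw [hOn, hn'], ?_, h2⟩
  rw [h1]
  exact hM.normalizer_card hσ hm

omit [CharP K 3] in
/-- The exotic cases of S1158. -/
theorem ree_hall_exotic (T : Subgroup ↥(twistedG2 K (3 ^ m))) (hT : IsCyclic T)
    (hTI : ∀ y ∈ T, y ≠ 1 → ∀ c : ↥(twistedG2 K (3 ^ m)), c * y = y * c → c ∈ T)
    (hodd : Odd (Nat.card T)) (h1 : 1 < Nat.card T) :
    ∀ A₀ : Subgroup ↥(twistedG2 K (3 ^ m)), A₀ ≤ T → A₀ ≠ ⊥ →
      Subgroup.normalizer (A₀ : Set ↥(twistedG2 K (3 ^ m))) =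
        Subgroup.normalizer (T : Set ↥(twistedG2 K (3 ^ m))) := by
  refine (normalizer_family T T (cyclic_subgroup_comm T hT) ?_ le_rfl
    (subgroup_ne_bot_of_card _ h1) hodd
    (fun d hd => card_mem_pow_eq_one_le_of_isCyclic _ hT hd.pos)).2
  intro h hh h2 c hc
  refine hTI h hh ?_ c hc
  rintro rfl
  exact h2 (one_mul 1)

/-- **S1158.** -/
theorem ree_hall_normalizers (hK : Fintype.card K = 3 ^ (2 * m + 1)) (hσ : ReeSig m σ)
    (hm : 1 ≤ m) :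
    ∀ kn ∈ ({((3 ^ (2 * m + 1) - 1) / 2, 2 * (3 ^ (2 * m + 1) - 1)),
        ((3 ^ (2 * m + 1) + 1) / 4, 6 * (3 ^ (2 * m + 1) + 1)),
        (3 ^ (2 * m + 1) - 3 ^ (m + 1) + 1, 6 * (3 ^ (2 * m + 1) - 3 ^ (m + 1) + 1)),
        (3 ^ (2 * m + 1) + 3 ^ (m + 1) + 1, 6 * (3 ^ (2 * m + 1) + 3 ^ (m + 1) + 1))} :
          Set (ℕ × ℕ)),
      ∃ A : Subgroup ↥(twistedG2 K (3 ^ m)), IsCyclic A ∧ Nat.card A = kn.1 ∧
        Nat.card (Subgroup.normalizer (A : Set ↥(twistedG2 K (3 ^ m)))) = kn.2 ∧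
        ∀ A₀ : Subgroup ↥(twistedG2 K (3 ^ m)), A₀ ≤ A → A₀ ≠ ⊥ →
          Subgroup.normalizer (A₀ : Set ↥(twistedG2 K (3 ^ m))) =
            Subgroup.normalizer (A : Set ↥(twistedG2 K (3 ^ m))) := by
  have hq := q_ge_27 m hm
  have hle : 3 ^ (m + 1) < 3 ^ (2 * m + 1) := Nat.pow_lt_pow_right (by norm_num) (by omega)
  have hodd3 : 3 ^ (m + 1) % 2 = 1 := Nat.odd_iff.mp (Odd.pow (by decide))
  have hoddq : 3 ^ (2 * m + 1) % 2 = 1 := Nat.odd_iff.mp (Odd.pow (by decide))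
  have hr3 : 3 ≤ 3 ^ (m + 1) := by
    calc 3 = 3 ^ 1 := by norm_num
      _ ≤ 3 ^ (m + 1) := Nat.pow_le_pow_right (by norm_num) (by omega)
  obtain ⟨⟨Tp, hTpc, hTpI, hTpn, hTpN⟩, ⟨Tm, hTmc, hTmI, hTmn, hTmN⟩, -⟩ :=
    ree_exotic_tori hK hσ hm
  intro kn hkn
  simp only [Set.mem_insert_iff, Set.mem_singleton_iff] at hkn
  rcases hkn with rfl | rfl | rfl | rfl
  · exact ree_hall_split hK hσ hm
  · exact ree_hall_quarter hK hσ hm
  · refine ⟨Tm, hTmc, hTmn, hTmN, ree_hall_exotic Tm hTmc hTmI ?_ ?_⟩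
    · rw [hTmn]; exact Nat.odd_iff.mpr (by omega)
    · rw [hTmn]; omega
  · refine ⟨Tp, hTpc, hTpn, hTpN, ree_hall_exotic Tp hTpc hTpI ?_ ?_⟩
    · rw [hTpn]; exact Nat.odd_iff.mpr (by omega)
    · rw [hTpn]; omega

end reeT

end Cfsg.Agent.Helper6
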