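import Cfsg.Agent.Helper6.ReeT

/-!
# The small Ree groups: the orders of the elements (S1159)
-/

set_option autoImplicit false

namespace Cfsg.Agent.Helper6

open Cfsg Cfsg.Lie Cfsg.Agent.Helper36 Cfsg.Agent.Helper17 Matrix
open Cfsg.Agent.Helper39 Cfsg.Agent.Helper20 Cfsg.Agent.Helper53 Cfsg.Agent.Helper66
open Cfsg.Agent.Helper42 Cfsg.Agent.Helper28 Cfsg.Agent.Helper33 Cfsg.Agent.Helper83
open Cfsg.Agent.Helper31 Cfsg.Agent.Helper67 Cfsg.Agent.Helper46 Cfsg.Agent.Helper3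
open Cfsg.Agent.Helper80 Cfsg.Agent.Helper14 Cfsg.Agent.Helper34

theorem pow_card_eq_one_of_conj_mem {G : Type*} [Group G] [Finite G] (D : Subgroup G) (c g : G)
    (h : c * g * c⁻¹ ∈ D) : g ^ Nat.card D = 1 := by
  have h1 : (⟨c * g * c⁻¹, h⟩ : ↥D) ^ Nat.card D = 1 := pow_card_eq_one'
  have h2 : (c * g * c⁻¹) ^ Nat.card D = 1 := congrArg Subtype.val h1
  rw [conj_pow] at h2
  have e : g ^ Nat.card D = c⁻¹ * (c * g ^ Nat.card D * c⁻¹) * c := by group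
  rw [e, h2]; group

theorem exists_orderOf_of_dvd {G : Type*} [Group G] [Finite G] (g : G) {d : ℕ}
    (hd : d ∣ orderOf g) : ∃ g' : G, orderOf g' = d :=
  ⟨g ^ (orderOf g / d), orderOf_pow_orderOf_div (orderOf_pos g).ne' hd⟩

section reeU

variable {K : Type*} [Field K] [CharP K 3] [Fintype K] {m : ℕ}
  {σ : ↥(chevG2.group K) →* ↥(chevG2.group K)}

theorem reeX_zero (hK : Fintype.card K = 3 ^ (2 * m + 1)) (hσ : ReeSig m σ)
    (hX : XAdd chevG2 K) : wordGL hX (reeWordU (3 ^ m) (0 : K) 0 0) = 1 := by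
  have h := reeX_mul hK hσ hX (0 : K) 0 0 0 0 0
  have e : wordGL hX (reeWordU (3 ^ m) ((0 : K) + 0) (0 + 0 - 0 * frL K m 0)
      (0 + 0 - 0 * 0 + 0 * 0 * frL K m 0 - 0 ^ 2 * frL K m 0)) =
      wordGL hX (reeWordU (3 ^ m) (0 : K) 0 0) := reeX_congr hX (by simp) (by simp) (by simp)
  rw [e] at h
  exact mul_eq_left.mp h

/-- `U¹` has exponent dividing `9`. -/
theorem reeUG_pow_nine (hK : Fintype.card K = 3 ^ (2 * m + 1)) (hσ : ReeSig m σ)
    (u : ↥(twistedG2 K (3 ^ m))) (hu : u ∈ reeUG K m) : u ^ 9 = 1 := by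
  have hX := xAdd_of_mem (F := K) g2_mem
  obtain ⟨t, a, v, e⟩ := (ree_U_iff hK hσ hX (u : GL chevG2.Idx K)).mp
    (Subgroup.mem_inf.mpr ⟨(mem_reeUG u).mp hu, u.2⟩)
  apply Subtype.ext
  rw [Subgroup.coe_pow, e, show (9 : ℕ) = 3 * 3 from rfl, pow_mul, reeX_cube hK hσ hX,
    reeX_cube hK hσ hX]
  rw [Subgroup.coe_one, ← reeX_zero hK hσ hX]
  exact reeX_congr hX rfl rfl (by simp)

/-- `3`-elements of the centraliser of `h(-1)` have order at most `3`. -/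
theorem ree_three_elem_cent_cube (hK : Fintype.card K = 3 ^ (2 * m + 1)) (hσ : ReeSig m σ)
    (v : ↥(twistedG2 K (3 ^ m))) (hva : v * reeA hK = reeA hK * v) (k : ℕ)
    (hv : v ^ 3 ^ k = 1) : v ^ 3 = 1 := by
  obtain ⟨e⟩ := reeA_cent hK hσ
  have hvC : v ∈ Subgroup.centralizer ({reeA hK} : Set ↥(twistedG2 K (3 ^ m))) :=
    Subgroup.mem_centralizer_singleton_iff.mpr hva
  have h1 : (e ⟨v, hvC⟩) ^ 3 ^ k = 1 := by
    rw [← map_pow]
    have : (⟨v, hvC⟩ : ↥(Subgroup.centralizer ({reeA hK} : Set ↥(twistedG2 K (3 ^ m))))) ^ 3 ^ k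
        = 1 := Subtype.ext hv
    rw [this, map_one]
  have h2 : (e ⟨v, hvC⟩).1 = 1 := by
    have ha : (e ⟨v, hvC⟩).1 ^ 3 ^ k = 1 := congrArg Prod.fst h1
    have hb : (e ⟨v, hvC⟩).1 ^ 2 = 1 := by rw [pow_two]; exact zmod2_sq _
    have hcop : Nat.Coprime (3 ^ k) 2 := Nat.Coprime.pow_left k (by decide)
    exact (pow_eq_one_iff_of_coprime hcop).mp ⟨ha, hb⟩
  have h3 : (e ⟨v, hvC⟩).2 ^ 3 = 1 :=
    psl2_three_elem_cube _ k (congrArg Prod.snd h1)
  have h4 : (e ⟨v, hvC⟩) ^ 3 = 1 := Prod.ext (by rw [Prod.pow_fst, h2, one_pow]; rfl) h3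
  have h5 : (⟨v, hvC⟩ : ↥(Subgroup.centralizer ({reeA hK} : Set ↥(twistedG2 K (3 ^ m))))) ^ 3
      = 1 := by
    apply e.injective
    rw [map_pow, h4, map_one]
  exact congrArg (fun z : ↥(Subgroup.centralizer ({reeA hK} : Set ↥(twistedG2 K (3 ^ m)))) =>
    (z : ↥(twistedG2 K (3 ^ m)))) h5

/-- The prime divisors of the order of an element of order divisible by `3` are `2` and `3`. -/
theorem ree_three_dvd_primes (hK : Fintype.card K = 3 ^ (2 * m + 1)) (hσ : ReeSig m σ)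
    (hm : 1 ≤ m) (g : ↥(twistedG2 K (3 ^ m))) (h3 : 3 ∣ orderOf g) {s : ℕ} (hs : s.Prime)
    (hsg : s ∣ orderOf g) : s = 2 ∨ s = 3 := by
  by_contra hcon
  rw [not_or] at hcon
  obtain ⟨hs2, hs3⟩ := hcon
  have hq3 := three_dvd_q m
  have hq1 := one_lt_q m
  have hsG : s ∣ (3 ^ (2 * m + 1)) ^ 3 * (3 ^ (2 * m + 1) - 1) * ((3 ^ (2 * m + 1)) ^ 3 + 1) := by
    rw [← ree_card hK hσ]
    exact hsg.trans (orderOf_dvd_natCard g)
  have hsq : ¬ s ∣ 3 ^ (2 * m + 1) := by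
    intro h
    exact hs3 ((Nat.prime_dvd_prime_iff_eq hs Nat.prime_three).mp (hs.dvd_of_dvd_pow h))
  rcases ree_prime_cases hq1 hs hsq hsG with h | h | h
  · obtain ⟨c, hc⟩ := ree_qm1_conj_D hK hσ g hs hs2 h hsg
    have h1 := pow_card_eq_one_of_conj_mem _ c g hc
    rw [reeD_card hK hσ] at h1
    have h2 := h3.trans (orderOf_dvd_of_pow_eq_one h1)
    omega
  · obtain ⟨M, hM⟩ := ree_torus_exists hK hσ hm
    obtain ⟨c, hc⟩ := hM.conj g s hs hs2 h hsg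
    have h1 := pow_card_eq_one_of_conj_mem _ c g hc
    rw [hM.card] at h1
    have h2 := h3.trans (orderOf_dvd_of_pow_eq_one h1)
    omega
  · obtain ⟨T, -, -, hTd, hgT⟩ := ree_exotic_mem hK hσ hm g hs h hsg
    have h1 : g ^ Nat.card T = 1 := pow_card_eq_one_of_conj_mem T 1 g (by simpa using hgT)
    have h2 := (h3.trans (orderOf_dvd_of_pow_eq_one h1)).trans hTd
    exact (ree_six_coprime hq3 hq1 Nat.prime_three h2).2.1 rfl

/-- Elements of order divisible by `3` have order dividing `6` or `9`. -/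
theorem ree_three_dvd_order (hK : Fintype.card K = 3 ^ (2 * m + 1)) (hσ : ReeSig m σ)
    (hm : 1 ≤ m) (g : ↥(twistedG2 K (3 ^ m))) (h3 : 3 ∣ orderOf g) :
    orderOf g ∣ 6 ∨ orderOf g ∣ 9 := by
  have hn0 : orderOf g ≠ 0 := (orderOf_pos g).ne'
  have hPC := Nat.ordProj_mul_ordCompl_eq_self (orderOf g) 3
  have hC3 : ¬ 3 ∣ orderOf g / 3 ^ (orderOf g).factorization 3 :=
    Nat.not_dvd_ordCompl Nat.prime_three hn0
  -- the `3'`-part is a power of `2`
  obtain ⟨k, hk⟩ : ∃ k, orderOf g / 3 ^ (orderOf g).factorization 3 = 2 ^ k := by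
    rcases Nat.eq_two_pow_or_exists_odd_prime_and_dvd
      (orderOf g / 3 ^ (orderOf g).factorization 3) with ⟨k, hk⟩ | ⟨s, hsp, hsd, hso⟩
    · exact ⟨k, hk⟩
    · exfalso
      have hsn : s ∣ orderOf g := hsd.trans (Dvd.intro_left _ hPC)
      rcases ree_three_dvd_primes hK hσ hm g h3 hsp hsn with rfl | rfl
      · exact absurd hso (by decide)
      · exact hC3 hsd
  rw [hk] at hPC
  have ht2 : g ^ 3 ^ (orderOf g).factorization 3 * g ^ 3 ^ (orderOf g).factorization 3 = 1 := by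
    apply ree_two_elem hK hσ _ k
    rw [← pow_mul, hPC, pow_orderOf_eq_one]
  by_cases ht1 : g ^ 3 ^ (orderOf g).factorization 3 = 1
  · right
    obtain ⟨c, hc⟩ := ree_three_conj_U hK hσ g _ ht1
    have h9 := reeUG_pow_nine hK hσ _ hc
    rw [conj_pow] at h9
    apply orderOf_dvd_of_pow_eq_one
    have e : g ^ 9 = c⁻¹ * (c * g ^ 9 * c⁻¹) * c := by group
    rw [e, h9]; group
  · left
    obtain ⟨c, hc⟩ := ree_inv_conj hK hσ hm _ ht1 ht2
    rw [← conj_pow] at hc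
    have hva : (c * g * c⁻¹) * reeA hK = reeA hK * (c * g * c⁻¹) := by
      rw [← hc]
      exact (Commute.pow_right (Commute.refl (c * g * c⁻¹)) _).eq
    have hwa : (c * g * c⁻¹) ^ 2 * reeA hK = reeA hK * (c * g * c⁻¹) ^ 2 :=
      (Commute.pow_left (show Commute (c * g * c⁻¹) (reeA hK) from hva) 2).eq
    have hw : ((c * g * c⁻¹) ^ 2) ^ 3 ^ (orderOf g).factorization 3 = 1 := by
      rw [← pow_mul, mul_comm, pow_mul, hc, pow_two, reeA_sq hK]
    have h6 := ree_three_elem_cent_cube hK hσ _ hwa _ hw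
    rw [← pow_mul, conj_pow] at h6
    apply orderOf_dvd_of_pow_eq_one
    have e : g ^ 6 = c⁻¹ * (c * g ^ (2 * 3) * c⁻¹) * c := by group
    rw [e, h6]; group

/-- An element of order `6`. -/
theorem ree_exists_order_six (hK : Fintype.card K = 3 ^ (2 * m + 1)) (hσ : ReeSig m σ) :
    ∃ g : ↥(twistedG2 K (3 ^ m)), orderOf g = 6 := by
  have h2 : orderOf (reeA hK) = 2 := by
    have : Fact (Nat.Prime 2) := ⟨Nat.prime_two⟩
    exact orderOf_eq_prime (by rw [pow_two]; exact reeA_sq hK) (reeA_ne_one hK)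
  have h3 : orderOf (⟨wordGL (xAdd_of_mem (F := K) g2_mem) (reeWordU (3 ^ m) (0 : K) 1 0),
      reeU_mem_G1 _ _ _ _⟩ : ↥(twistedG2 K (3 ^ m))) = 3 := by
    rw [← Subgroup.orderOf_coe]
    exact (reeX_order_three hK hσ _ 0 1 0).mpr ⟨rfl, fun h => one_ne_zero h.1⟩
  have hc : Commute (reeA hK) (⟨wordGL (xAdd_of_mem (F := K) g2_mem)
      (reeWordU (3 ^ m) (0 : K) 1 0), reeU_mem_G1 _ _ _ _⟩ : ↥(twistedG2 K (3 ^ m))) :=
    Subtype.ext (reeInv_comm hK hσ (xAdd_of_mem (F := K) g2_mem) 1)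
  refine ⟨_, (hc.orderOf_mul_eq_mul_orderOf_of_coprime ?_).trans ?_⟩
  · rw [h2, h3]; decide
  · rw [h2, h3]

/-- An element of order `9`. -/
theorem ree_exists_order_nine (hK : Fintype.card K = 3 ^ (2 * m + 1)) (hσ : ReeSig m σ) :
    ∃ g : ↥(twistedG2 K (3 ^ m)), orderOf g = 9 := by
  have : Fact (Nat.Prime 3) := ⟨Nat.prime_three⟩
  have hX := xAdd_of_mem (F := K) g2_mem
  refine ⟨⟨wordGL hX (reeWordU (3 ^ m) (1 : K) 0 0), reeU_mem_G1 _ _ _ _⟩, ?_⟩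
  refine orderOf_eq_prime_pow (p := 3) (n := 1) ?_ ?_
  · intro h
    have h1 := congrArg Subtype.val h
    rw [pow_one, Subgroup.coe_pow, Subgroup.coe_one] at h1
    simp only at h1
    rw [reeX_cube hK hσ hX] at h1
    have h2 := (reeX_eq_one hX h1).2.2
    rw [map_one, one_pow, one_mul] at h2
    exact one_ne_zero (neg_eq_zero.mp h2)
  · exact reeUG_pow_nine hK hσ _ ((mem_reeUG _).mpr (reeU_mem_U _ _ _ _))

/-- **S1159: the orders of the elements of `²G₂(q)`.** -/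
theorem ree_element_orders (hK : Fintype.card K = 3 ^ (2 * m + 1)) (hσ : ReeSig m σ)
    (hm : 1 ≤ m) (d : ℕ) :
    (∃ g : ↥(twistedG2 K (3 ^ m)), orderOf g = d) ↔
      (d ∣ 6 ∨ d ∣ 9 ∨ d ∣ 3 ^ (2 * m + 1) - 1 ∨ d ∣ (3 ^ (2 * m + 1) + 1) / 2 ∨
        d ∣ 3 ^ (2 * m + 1) - 3 ^ (m + 1) + 1 ∨ d ∣ 3 ^ (2 * m + 1) + 3 ^ (m + 1) + 1) := by
  obtain ⟨M, hM⟩ := ree_torus_exists hK hσ hm
  obtain ⟨n, hn, hn7, hq⟩ := ree_quarter m hm
  obtain ⟨⟨Tp, hTpc, hTpI, hTpn, hTpN⟩, ⟨Tm, hTmc, hTmI, hTmn, hTmN⟩, hTall⟩ :=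
    ree_exotic_tori hK hσ hm
  have hhalf : (3 ^ (2 * m + 1) + 1) / 2 = 2 * n := by omega
  constructor
  · rintro ⟨g, rfl⟩
    refine orderOf_dvd_cases (ree_card hK hσ) (ree_two_elem hK hσ)
      (fun g h3 => ree_three_dvd_order hK hσ hm g h3) ?_ ?_ ?_ g
    · intro g s hs hs2 hsd hsg
      obtain ⟨c, hc⟩ := ree_qm1_conj_D hK hσ g hs hs2 hsd hsg
      have h1 := pow_card_eq_one_of_conj_mem _ c g hc
      rw [reeD_card hK hσ] at h1
      exact orderOf_dvd_of_pow_eq_one h1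
    · intro g s hs hs2 hsd hsg
      obtain ⟨c, hc⟩ := hM.conj g s hs hs2 hsd hsg
      have h1 := (card_sq_eq_one_of_four_mul M hM.comm hn (by rw [hM.card, hq])
        (ree_two_elem hK hσ)).2.2 _ hc
      rw [conj_pow] at h1
      rw [hhalf]
      apply orderOf_dvd_of_pow_eq_one
      have e : g ^ (2 * n) = c⁻¹ * (c * g ^ (2 * n) * c⁻¹) * c := by group
      rw [e, h1]; group
    · intro g p hp hpd hpg
      obtain ⟨T, hTc, hTI, hTd, hgT⟩ := ree_exotic_mem hK hσ hm g hp hpd hpg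
      have hT1 : T ≠ ⊥ := by
        intro h
        rw [h, Subgroup.mem_bot] at hgT
        rw [hgT, orderOf_one] at hpg
        exact hp.one_lt.ne' (Nat.dvd_one.mp hpg)
      have h1 : g ^ Nat.card T = 1 := pow_card_eq_one_of_conj_mem T 1 g (by simpa using hgT)
      rcases hTall T hTc hT1 hTI hTd with h | h
      · right
        rw [← h]
        exact orderOf_dvd_of_pow_eq_one h1
      · left
        rw [← h]
        exact orderOf_dvd_of_pow_eq_one h1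
  · rintro (h | h | h | h | h | h)
    · obtain ⟨g, hg⟩ := ree_exists_order_six hK hσ
      exact exists_orderOf_of_dvd g (hg ▸ h)
    · obtain ⟨g, hg⟩ := ree_exists_order_nine hK hσ
      exact exists_orderOf_of_dvd g (hg ▸ h)
    · obtain ⟨x, -, hx⟩ := exists_orderOf_eq_of_dvd_cyclic (reeD K m) (reeD_cyclic hK hσ)
        (d := d) (by rw [reeD_card hK hσ]; exact h)
      exact ⟨x, hx⟩
    · obtain ⟨g, -, hg⟩ := exists_orderOf_two_mul M hM.comm hn (by rw [hM.card, hq]) hM.count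
      rw [hhalf] at h
      exact exists_orderOf_of_dvd g (hg ▸ h)
    · obtain ⟨x, -, hx⟩ := exists_orderOf_eq_of_dvd_cyclic Tm hTmc (d := d) (by rw [hTmn]; exact h)
      exact ⟨x, hx⟩
    · obtain ⟨x, -, hx⟩ := exists_orderOf_eq_of_dvd_cyclic Tp hTpc (d := d) (by rw [hTpn]; exact h)
      exact ⟨x, hx⟩

end reeU

end Cfsg.Agent.Helper6
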