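import Mathlib

set_option autoImplicit false

/-!
# Sub-CALL S88OE (helper43), piece PSDIM (double by helper6): `oe_prod_sub_dim`
-/

namespace Cfsg.Agent.Helper6.S88OE

open Module

section lin

variable {F : Type*} [Field F] {Va Vb : Type*} [AddCommGroup Va] [Module F Va] [AddCommGroup Vb]
  [Module F Vb]

/-- the product subspace as a product of subspaces -/
def psdimEquiv6 (Ua : Submodule F Va) (Ub : Submodule F Vb) :
    ↥(Ua.prod Ub) ≃ₗ[F] ↥Ua × ↥Ub where
  toFun x := (⟨x.1.1, x.2.1⟩, ⟨x.1.2, x.2.2⟩)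
  invFun y := ⟨(y.1.1, y.2.1), ⟨y.1.2, y.2.2⟩⟩
  map_add' _ _ := rfl
  map_smul' _ _ := rfl
  left_inv _ := rfl
  right_inv _ := rfl

/-- PSDIM [S, generic]: dimension of a product subspace.  (A linear equivalence
`↥(Ua.prod Ub) ≃ₗ ↥Ua × ↥Ub`; `Module.finrank_prod`.) -/
theorem oe_prod_sub_dim [FiniteDimensional F Va] [FiniteDimensional F Vb] (Ua : Submodule F Va)
    (Ub : Submodule F Vb) : finrank F ↥(Ua.prod Ub) = finrank F Ua + finrank F Ub := by
  rw [LinearEquiv.finrank_eq (psdimEquiv6 Ua Ub), Module.finrank_prod]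

end lin

end Cfsg.Agent.Helper6.S88OE
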