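import Mathlib
import Cfsg.Prelude.Def_Characters
import Cfsg.Prelude.Def_OddOrderLocal
import Cfsg.Agent.Helper3.TIConj
import Cfsg.Agent.Helper15.CharInner

/-!
# Class functions built from a family of TI-subgroups

`chDelta`, `tiInd` and their values and inner products.
-/

set_option autoImplicit false

namespace Cfsg.Agent.Helper6

open scoped ComplexConjugate
open Classical

section SzCh1

variable {G : Type*} [Group G] [Fintype G]

/-- the indicator function of the identity -/
noncomputable def chDelta (G : Type*) [Group G] : G → ℂ := fun g => if g = 1 then 1 else 0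

omit [Fintype G] in
theorem chDelta_one : chDelta G 1 = 1 := by
  unfold chDelta
  simp

omit [Fintype G] in
theorem chDelta_of_ne {g : G} (hg : g ≠ 1) : chDelta G g = 0 := by
  unfold chDelta
  simp [hg]

omit [Fintype G] in
theorem chDelta_isClassFunction : Cfsg.IsClassFunction G (chDelta G) := by
  intro g h
  unfold chDelta
  have : h * g * h⁻¹ = 1 ↔ g = 1 := conj_eq_one_iff
  simp [this]

theorem classInner_chDelta (F : G → ℂ) :
    Cfsg.classInner (chDelta G) F = (Nat.card G : ℂ)⁻¹ * conj (F 1) := by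
  unfold Cfsg.classInner chDelta
  congr 1
  rw [Finset.sum_eq_single 1]
  · simp
  · intro g _ hg; simp [hg]
  · intro h; exact absurd (Finset.mem_univ _) h

/-- normalised induction from a TI-subgroup -/
noncomputable def tiInd (H : Subgroup G) (f : H → ℂ) : G → ℂ :=
  ((Nat.card H : ℂ) / (Nat.card (Subgroup.normalizer (H : Set G)) : ℂ)) • Cfsg.indFun H f

theorem tiInd_isClassFunction (H : Subgroup G) (f : H → ℂ) :
    Cfsg.IsClassFunction G (tiInd H f) := by
  intro g h
  unfold tiInd
  simp only [Pi.smul_apply]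
  rw [Helper3.indFun_isClassFunction H f g h]

theorem tiInd_apply_one (H : Subgroup G) (f : H → ℂ) (h1 : f 1 = 0) : tiInd H f 1 = 0 := by
  unfold tiInd
  simp [Helper3.indFun_apply_one_of_zero H f h1]

theorem tiInd_apply_of_not_conj (H : Subgroup G) (f : H → ℂ) (g : G)
    (hg : ∀ y : G, y * g * y⁻¹ ∉ H) : tiInd H f g = 0 := by
  unfold tiInd
  simp [Helper3.indFun_eq_zero_of_not_conj H f g hg]

theorem tiInd_apply_mem (H : Subgroup G) (hTI : Cfsg.IsTISubset (H : Set G)) (f : H → ℂ)
    (hinv : ∀ (x : Subgroup.normalizer (H : Set G)) (h : H), f (Helper3.tiConj H x h) = f h)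
    (h : H) (hh : h ≠ 1) : tiInd H f (h : G) = f h := by
  unfold tiInd
  simp only [Pi.smul_apply, smul_eq_mul]
  rw [Helper3.indFun_TI_sub H hTI f h hh]
  simp only [hinv]
  rw [Finset.sum_const, Finset.card_univ, nsmul_eq_mul, ← Nat.card_eq_fintype_card]
  have h1 : (Nat.card H : ℂ) ≠ 0 := by exact_mod_cast Nat.card_pos.ne'
  have h2 : (Nat.card (Subgroup.normalizer (H : Set G)) : ℂ) ≠ 0 := by
    exact_mod_cast Nat.card_pos.ne'
  field_simp

theorem classInner_tiInd (H : Subgroup G) (f : H → ℂ) (F : G → ℂ)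
    (hF : Cfsg.IsClassFunction G F) :
    Cfsg.classInner (tiInd H f) F =
      (Nat.card (Subgroup.normalizer (H : Set G)) : ℂ)⁻¹ * ∑ h : H, f h * conj (F h) := by
  have h0 : Cfsg.classInner (tiInd H f) F =
      ((Nat.card H : ℂ) / (Nat.card (Subgroup.normalizer (H : Set G)) : ℂ)) *
        Cfsg.classInner (Cfsg.indFun H f) F := by
    unfold tiInd
    rw [Helper15.classInner_smul_left]
  rw [h0, Helper3.frobenius_reciprocity H f F hF]
  unfold Cfsg.classInner
  have h1 : (Nat.card H : ℂ) ≠ 0 := by exact_mod_cast Nat.card_pos.ne'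
  have h2 : (Nat.card (Subgroup.normalizer (H : Set G)) : ℂ) ≠ 0 := by
    exact_mod_cast Nat.card_pos.ne'
  field_simp

omit [Fintype G] in
/-- an element of a subgroup is not conjugate into a subgroup of coprime order -/
theorem h6_not_conj_of_coprime [Finite G] {H K : Subgroup G}
    (hc : Nat.Coprime (Nat.card H) (Nat.card K)) {g : G} (hg : g ∈ H) (hg1 : g ≠ 1) (y : G) :
    y * g * y⁻¹ ∉ K := by
  intro hk
  have h1 : orderOf g ∣ Nat.card H := Subgroup.orderOf_dvd_natCard H hg
  have h2 : orderOf (y * g * y⁻¹) ∣ Nat.card K := Subgroup.orderOf_dvd_natCard K hk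
  have h4 : orderOf (y * g * y⁻¹) = orderOf g := (MulAut.conj y).orderOf_eq g
  rw [h4] at h2
  have h3 : orderOf g ∣ 1 := by
    have := Nat.dvd_gcd h1 h2
    rwa [hc] at this
  exact hg1 (orderOf_eq_one_iff.1 (Nat.dvd_one.1 h3))

end SzCh1

end Cfsg.Agent.Helper6
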