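import Mathlib
import Cfsg.Agent.Helper6.SzCh1
import Cfsg.Agent.Helper73.GenSpan
import Cfsg.Agent.Helper80.CharOrtho
import Cfsg.Agent.Helper80.LinChar
import Cfsg.Agent.Helper79.Basic

/-!
# Generalized characters of a given shape; orbit sums of linear characters of a TI-subgroup
-/

set_option autoImplicit false

namespace Cfsg.Agent.Helper6

open scoped ComplexConjugate
open Classical

section SzCh2a

variable {H : Type*} [Group H]

theorem h6_comp_mem_genSpanZ {K : Type*} [Group K] (φ : K →* H) {θ : H → ℂ}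
    (hθ : θ ∈ Helper73.genSpanZ H) : (fun k : K => θ (φ k)) ∈ Helper73.genSpanZ K := by
  unfold Helper73.genSpanZ at hθ
  induction hθ using Submodule.span_induction with
  | mem x hx => exact Helper73.isCharacter_mem_genSpanZ (Helper79.isCharacter_comp hx φ)
  | zero => exact Submodule.zero_mem _
  | add x y hx hy h1 h2 => exact add_mem h1 h2
  | smul n x hx h => exact Submodule.smul_mem _ n h

theorem h6_one_mem_genSpanZ : (fun _ : H => (1 : ℂ)) ∈ Helper73.genSpanZ H :=
  Helper73.isCharacter_mem_genSpanZ Helper79.isCharacter_one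

theorem h6_regular_mem_genSpanZ [Fintype H] [DecidableEq H] :
    (fun h : H => if h = 1 then (Nat.card H : ℂ) else 0) ∈ Helper73.genSpanZ H := by
  have : Fintype (Cfsg.IrrCharacter H) := Fintype.ofFinite _
  have h1 : (fun h : H => if h = 1 then (Nat.card H : ℂ) else 0) =
      ∑ χ : Cfsg.IrrCharacter H, (Cfsg.charDegree (χ : H → ℂ) : ℤ) • (χ : H → ℂ) := by
    funext h
    rw [Finset.sum_apply]
    have h2 := Helper80.irr_sum_degree_mul h
    rw [← Nat.card_eq_fintype_card] at h2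
    have h3 : (if h = 1 then (Nat.card H : ℂ) else 0) =
        ∑ χ : Cfsg.IrrCharacter H, (χ : H → ℂ) 1 * (χ : H → ℂ) h := by
      rw [h2]
      by_cases hh : h = 1 <;> simp [hh]
    rw [h3]
    refine Finset.sum_congr rfl fun χ _ => ?_
    rw [Helper79.isCharacter_one_eq_charDegree (Helper79.irr_isCharacter χ)]
    simp
  rw [h1]
  refine Submodule.sum_mem _ fun χ _ => ?_
  exact Submodule.smul_mem _ _ (Helper73.isCharacter_mem_genSpanZ (Helper79.irr_isCharacter χ))

/-- a function constant off the identity, with the right congruence, is a generalized character -/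
theorem h6_const_mem_genSpanZ [Fintype H] [DecidableEq H] (c v : ℂ) (v' k : ℤ) (hv : v = v')
    (hc : c = v' + k * (Nat.card H : ℂ)) :
    (fun h : H => if h = 1 then c else v) ∈ Helper73.genSpanZ H := by
  have h1 : (fun h : H => if h = 1 then c else v) =
      v' • (fun _ : H => (1 : ℂ)) + k • (fun h : H => if h = 1 then (Nat.card H : ℂ) else 0) := by
    funext h
    by_cases hh : h = 1
    · simp [hh, hc]
    · simp [hh, hv]
  rw [h1]
  exact add_mem (Submodule.smul_mem _ _ h6_one_mem_genSpanZ)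
    (Submodule.smul_mem _ _ h6_regular_mem_genSpanZ)

/-- column orthogonality for linear characters -/
theorem h6_hom_sum_eq_zero [Finite H] [Fintype (H →* ℂˣ)] {k : H} (hk : k ∉ commutator H) :
    ∑ α : H →* ℂˣ, ((α k : ℂˣ) : ℂ) = 0 := by
  obtain ⟨β, hβ⟩ := Helper79.exists_hom_apply_ne_one hk
  have h1 : ∑ α : H →* ℂˣ, ((α k : ℂˣ) : ℂ) = ∑ α : H →* ℂˣ, (((β * α) k : ℂˣ) : ℂ) :=
    (Fintype.sum_bijective (fun α : H →* ℂˣ => β * α) (Group.mulLeft_bijective β) _ _
      (fun _ => rfl)).symm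
  have h2 : ∑ α : H →* ℂˣ, (((β * α) k : ℂˣ) : ℂ) =
      ((β k : ℂˣ) : ℂ) * ∑ α : H →* ℂˣ, ((α k : ℂˣ) : ℂ) := by
    rw [Finset.mul_sum]
    refine Finset.sum_congr rfl fun α _ => ?_
    simp
  rw [h2] at h1
  have h3 : (1 - ((β k : ℂˣ) : ℂ)) * ∑ α : H →* ℂˣ, ((α k : ℂˣ) : ℂ) = 0 := by
    linear_combination h1
  rcases mul_eq_zero.1 h3 with h | h
  · exfalso
    apply hβ
    have : ((β k : ℂˣ) : ℂ) = 1 := by linear_combination -h
    exact Units.ext this
  · exact h

end SzCh2a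

section SzCh2b

variable {G : Type*} [Group G] [Fintype G]

/-- the orbit sum of a linear character of `H` under the normaliser of `H` -/
noncomputable def tiXi (H : Subgroup G) (α : H →* ℂˣ) : H → ℂ :=
  fun h => (Nat.card H : ℂ)⁻¹ *
    ∑ x : Subgroup.normalizer (H : Set G), ((α (Helper3.tiConj H x h) : ℂˣ) : ℂ)

theorem tiXi_one (H : Subgroup G) (α : H →* ℂˣ) :
    tiXi H α 1 = (Nat.card (Subgroup.normalizer (H : Set G)) : ℂ) / (Nat.card H : ℂ) := by
  unfold tiXi
  simp only [map_one, Units.val_one, Finset.sum_const, Finset.card_univ, nsmul_eq_mul, mul_one]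
  rw [← Nat.card_eq_fintype_card]
  ring

theorem tiXi_conj (H : Subgroup G) (α : H →* ℂˣ) (y : Subgroup.normalizer (H : Set G)) (h : H) :
    tiXi H α (Helper3.tiConj H y h) = tiXi H α h := by
  unfold tiXi
  congr 1
  refine Fintype.sum_bijective (fun x : Subgroup.normalizer (H : Set G) => y * x)
    (Group.mulLeft_bijective y) _ _ (fun x => ?_)
  rw [Helper3.tiConj_mul]
  rfl

theorem tiXi_eq_indFun (H : Subgroup G) (hTI : Cfsg.IsTISubset (H : Set G)) (α : H →* ℂˣ)
    (h : H) (hh : h ≠ 1) :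
    Cfsg.indFun H (fun h => ((α h : ℂˣ) : ℂ)) (h : G) = tiXi H α h := by
  rw [Helper3.indFun_TI_sub H hTI _ h hh]
  rfl

theorem h6_hom_sum_of_ne_one {K : Type*} [Group K] [Fintype K] (β : K →* ℂˣ) (hβ : β ≠ 1) :
    ∑ k : K, ((β k : ℂˣ) : ℂ) = 0 := by
  have h := Helper80.hom_orthogonality β 1
  rw [if_neg hβ] at h
  rw [← h]
  refine Finset.sum_congr rfl fun k _ => ?_
  simp

theorem tiXi_sum (H : Subgroup G) (α : H →* ℂˣ) (hα : α ≠ 1) : ∑ h : H, tiXi H α h = 0 := by
  unfold tiXi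
  rw [← Finset.mul_sum, Finset.sum_comm]
  have h1 : ∀ x : Subgroup.normalizer (H : Set G),
      ∑ h : H, ((α (Helper3.tiConj H x h) : ℂˣ) : ℂ) = 0 := by
    intro x
    exact h6_hom_sum_of_ne_one (α.comp (Helper3.tiConj H x)) (Helper3.tiConj_comp_ne_one H x α hα)
  simp [h1]

theorem tiXi_comp_eq_iff (H : Subgroup G)
    (hfrob : ∀ h ∈ H, h ≠ 1 →
      Subgroup.normalizer (H : Set G) ⊓ Subgroup.centralizer ({h} : Set G) ≤ H)
    (α : H →* ℂˣ) (hα : α ≠ 1) (x y : Subgroup.normalizer (H : Set G)) :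
    α.comp (Helper3.tiConj H x) = α.comp (Helper3.tiConj H y) ↔ ((x⁻¹ * y : _) : G) ∈ H := by
  have key : α.comp (Helper3.tiConj H (x⁻¹ * y)) =
      (α.comp (Helper3.tiConj H y)).comp (Helper3.tiConj H x⁻¹) := by
    rw [Helper3.tiConj_mul, MonoidHom.comp_assoc]
  have key2 : (α.comp (Helper3.tiConj H x)).comp (Helper3.tiConj H x⁻¹) = α := by
    rw [MonoidHom.comp_assoc, ← Helper3.tiConj_mul, inv_mul_cancel, Helper3.tiConj_one]
    rfl
  constructor
  · intro h
    apply Helper3.tiConj_stab H hfrob (x⁻¹ * y) α hα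
    rw [key, ← h, key2]
  · intro h
    have h1 := Helper3.tiConj_comp_of_mem H (x⁻¹ * y) h α
    rw [key] at h1
    have h2 : ((α.comp (Helper3.tiConj H y)).comp (Helper3.tiConj H x⁻¹)).comp
        (Helper3.tiConj H x) = α.comp (Helper3.tiConj H x) := by rw [h1]
    rw [MonoidHom.comp_assoc, ← Helper3.tiConj_mul, mul_inv_cancel, Helper3.tiConj_one] at h2
    exact h2.symm

theorem tiXi_sum_sq (H : Subgroup G)
    (hfrob : ∀ h ∈ H, h ≠ 1 →
      Subgroup.normalizer (H : Set G) ⊓ Subgroup.centralizer ({h} : Set G) ≤ H)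
    (α : H →* ℂˣ) (hα : α ≠ 1) :
    ∑ h : H, tiXi H α h * conj (tiXi H α h) =
      (Nat.card (Subgroup.normalizer (H : Set G)) : ℂ) := by
  have hH : (Nat.card H : ℂ) ≠ 0 := by exact_mod_cast Nat.card_pos.ne'
  have h1 : ∀ h : H, tiXi H α h * conj (tiXi H α h) =
      (Nat.card H : ℂ)⁻¹ * (Nat.card H : ℂ)⁻¹ *
        ∑ x : Subgroup.normalizer (H : Set G), ∑ y : Subgroup.normalizer (H : Set G),
          (((α.comp (Helper3.tiConj H x)) h : ℂˣ) : ℂ) *
            conj ((((α.comp (Helper3.tiConj H y)) h : ℂˣ) : ℂ)) := by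
    intro h
    unfold tiXi
    rw [map_mul, map_inv₀, Complex.conj_natCast, map_sum]
    rw [mul_mul_mul_comm, Finset.sum_mul_sum]
    rfl
  simp only [h1]
  rw [← Finset.mul_sum, Finset.sum_comm]
  have h2 : ∀ x : Subgroup.normalizer (H : Set G),
      ∑ h : H, ∑ y : Subgroup.normalizer (H : Set G),
          (((α.comp (Helper3.tiConj H x)) h : ℂˣ) : ℂ) *
            conj ((((α.comp (Helper3.tiConj H y)) h : ℂˣ) : ℂ)) =
        (Nat.card H : ℂ) * (Nat.card H : ℂ) := by
    intro x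
    rw [Finset.sum_comm]
    have h3 : ∀ y : Subgroup.normalizer (H : Set G),
        ∑ h : H, (((α.comp (Helper3.tiConj H x)) h : ℂˣ) : ℂ) *
            conj ((((α.comp (Helper3.tiConj H y)) h : ℂˣ) : ℂ)) =
          (Nat.card H : ℂ) * (if ((x⁻¹ * y : _) : G) ∈ H then (1 : ℂ) else 0) := by
      intro y
      rw [Helper80.hom_orthogonality, ← Nat.card_eq_fintype_card]
      by_cases hxy : ((x⁻¹ * y : _) : G) ∈ H
      · rw [if_pos ((tiXi_comp_eq_iff H hfrob α hα x y).2 hxy), if_pos hxy, mul_one]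
      · rw [if_neg (fun h => hxy ((tiXi_comp_eq_iff H hfrob α hα x y).1 h)), if_neg hxy, mul_zero]
    simp only [h3]
    rw [← Finset.mul_sum]
    congr 1
    have h4 : ∑ y : Subgroup.normalizer (H : Set G),
        (if ((x⁻¹ * y : _) : G) ∈ H then (1 : ℂ) else 0) =
        ∑ z : Subgroup.normalizer (H : Set G), (if (z : G) ∈ H then (1 : ℂ) else 0) :=
      Fintype.sum_bijective (fun y : Subgroup.normalizer (H : Set G) => x⁻¹ * y)
        (Group.mulLeft_bijective x⁻¹) _ _ (fun _ => rfl)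
    rw [h4]
    rw [Finset.sum_boole, ← Fintype.card_subtype]
    congr 1
    rw [← Nat.card_eq_fintype_card]
    exact Nat.card_congr (Subgroup.subgroupOfEquivOfLe
      (Subgroup.le_normalizer (H := H))).toEquiv
  simp only [h2]
  rw [Finset.sum_const, Finset.card_univ, nsmul_eq_mul, ← Nat.card_eq_fintype_card]
  field_simp

theorem tiXi_hom_sum (H : Subgroup G) (hcomm : ∀ a b : H, a * b = b * a)
    [Fintype (H →* ℂˣ)] (h : H) (hh : h ≠ 1) : ∑ α : H →* ℂˣ, tiXi H α h = 0 := by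
  unfold tiXi
  rw [← Finset.mul_sum, Finset.sum_comm]
  have hbot : commutator H = ⊥ := by
    rw [commutator_eq_bot_iff_center_eq_top]
    ext a
    simp only [Subgroup.mem_top, iff_true]
    rw [Subgroup.mem_center_iff]
    intro b
    exact hcomm b a
  have h1 : ∀ x : Subgroup.normalizer (H : Set G),
      ∑ α : H →* ℂˣ, ((α (Helper3.tiConj H x h) : ℂˣ) : ℂ) = 0 := by
    intro x
    apply h6_hom_sum_eq_zero
    rw [hbot, Subgroup.mem_bot]
    intro h2
    apply hh
    apply Subtype.ext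
    have h3 : ((Helper3.tiConj H x h : H) : G) = 1 := by rw [h2]; rfl
    rw [Helper3.tiConj_coe] at h3
    have h4 : (h : G) = (x : G) * ((x : G)⁻¹ * h * x) * (x : G)⁻¹ := by group
    rw [h4, h3]
    simp
  simp [h1]

theorem tiXi_mem_genSpanZ (H : Subgroup G) (hTI : Cfsg.IsTISubset (H : Set G)) (α : H →* ℂˣ)
    (c : ℂ) (e k : ℤ)
    (hc : c = e * ((Nat.card G : ℂ) / (Nat.card H : ℂ)) + k * (Nat.card H : ℂ)) :
    (fun h : H => if h = 1 then c else (e : ℂ) * tiXi H α h) ∈ Helper73.genSpanZ H := by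
  have hH : (Nat.card H : ℂ) ≠ 0 := by exact_mod_cast Nat.card_pos.ne'
  have hind : Cfsg.indFun H (fun h => ((α h : ℂˣ) : ℂ)) ∈ Helper73.genSpanZ G :=
    Helper73.isCharacter_mem_genSpanZ (Helper3.isCharacter_indFun H _
      (Helper79.isCharacter_of_irr (Helper79.isIrrCharacter_of_hom α)))
  have hres := Helper73.restrict_mem_genSpanZ hind H
  have hone : Cfsg.indFun H (fun h => ((α h : ℂˣ) : ℂ)) 1 =
      (Nat.card G : ℂ) / (Nat.card H : ℂ) := by
    unfold Cfsg.indFun
    have h2 : ∀ x : G, Cfsg.extendByZero H (fun h => ((α h : ℂˣ) : ℂ)) (x⁻¹ * 1 * x) = 1 := by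
      intro x
      have e1 : x⁻¹ * 1 * x = ((1 : H) : G) := by simp
      rw [e1, Helper3.extendByZero_coe]
      simp
    simp only [h2]
    rw [Finset.sum_const, Finset.card_univ, nsmul_eq_mul, mul_one, ← Nat.card_eq_fintype_card]
    ring
  have h1 : (fun h : H => if h = 1 then c else (e : ℂ) * tiXi H α h) =
      e • (fun h : H => Cfsg.indFun H (fun h => ((α h : ℂˣ) : ℂ)) (h : G)) +
        k • (fun h : H => if h = 1 then (Nat.card H : ℂ) else 0) := by
    funext h
    by_cases hh : h = 1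
    · subst hh
      simp [hone, hc]
    · simp [hh, tiXi_eq_indFun H hTI α h hh]
  rw [h1]
  exact add_mem (Submodule.smul_mem _ _ hres) (Submodule.smul_mem _ _ h6_regular_mem_genSpanZ)

end SzCh2b

end Cfsg.Agent.Helper6
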