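import Mathlib
import Cfsg.Agent.Helper6.SzCh2
import Cfsg.Agent.Helper73.BrauerChar

/-!
# Class functions of a group with a Suzuki-type partition

`SzChData G s` packages a finite group `G` with four TI-subgroups `U, D, A, B` of orders
`4 s^4`, `2 s^2 - 1`, `2 s^2 + 2 s + 1`, `2 s^2 - 2 s + 1` whose conjugates cover `G`.
`SzChData.cf` builds a class function from a value at `1` and functions on the four subgroups.
-/

set_option autoImplicit false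

namespace Cfsg.Agent.Helper6

open scoped ComplexConjugate
open Classical

section SzCh3num

theorem szc_sub1 {s : ℕ} (hs : 2 ≤ s) : ((2 * s ^ 2 - 1 : ℕ) : ℤ) = 2 * (s : ℤ) ^ 2 - 1 := by
  have h : 1 ≤ 2 * s ^ 2 := by nlinarith
  push_cast [Nat.cast_sub h]
  ring

theorem szc_sub2 {s : ℕ} (hs : 2 ≤ s) :
    ((2 * s ^ 2 - 2 * s + 1 : ℕ) : ℤ) = 2 * (s : ℤ) ^ 2 - 2 * s + 1 := by
  have h : 2 * s ≤ 2 * s ^ 2 := by nlinarith
  push_cast [Nat.cast_sub h]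
  ring

theorem szc_cop1 {s : ℕ} (hs : 2 ≤ s) : Nat.Coprime (4 * s ^ 4) (2 * s ^ 2 - 1) := by
  apply Nat.isCoprime_iff_coprime.1
  refine ⟨1, -(2 * (s : ℤ) ^ 2 + 1), ?_⟩
  rw [szc_sub1 hs]
  push_cast
  ring

theorem szc_cop2 {s : ℕ} : Nat.Coprime (4 * s ^ 4) (2 * s ^ 2 + 2 * s + 1) := by
  apply Nat.isCoprime_iff_coprime.1
  refine ⟨-1, 2 * (s : ℤ) ^ 2 - 2 * s + 1, ?_⟩
  push_cast
  ring

theorem szc_cop3 {s : ℕ} (hs : 2 ≤ s) : Nat.Coprime (4 * s ^ 4) (2 * s ^ 2 - 2 * s + 1) := by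
  apply Nat.isCoprime_iff_coprime.1
  refine ⟨-1, 2 * (s : ℤ) ^ 2 + 2 * s + 1, ?_⟩
  rw [szc_sub2 hs]
  push_cast
  ring

theorem szc_cop4 {s : ℕ} (hs : 2 ≤ s) : Nat.Coprime (2 * s ^ 2 - 1) (2 * s ^ 2 + 2 * s + 1) := by
  apply Nat.isCoprime_iff_coprime.1
  refine ⟨(s : ℤ), -((s : ℤ) - 1), ?_⟩
  rw [szc_sub1 hs]
  push_cast
  ring

theorem szc_cop5 {s : ℕ} (hs : 2 ≤ s) : Nat.Coprime (2 * s ^ 2 - 1) (2 * s ^ 2 - 2 * s + 1) := by
  apply Nat.isCoprime_iff_coprime.1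
  refine ⟨-(s : ℤ), (s : ℤ) + 1, ?_⟩
  rw [szc_sub1 hs, szc_sub2 hs]
  ring

theorem szc_cop6 {s : ℕ} (hs : 2 ≤ s) :
    Nat.Coprime (2 * s ^ 2 + 2 * s + 1) (2 * s ^ 2 - 2 * s + 1) := by
  apply Nat.isCoprime_iff_coprime.1
  refine ⟨(2 * (s : ℤ) ^ 2 + 2 * s + 1) - 4 * (((s : ℤ) ^ 2 + s) * (1 + (s : ℤ) ^ 2 + s)) +
      (2 * (s : ℤ) + 2) * (((s : ℤ) ^ 2 + s) * (1 + (s : ℤ) ^ 2 + s)),
    -((2 * (s : ℤ) + 2) * (((s : ℤ) ^ 2 + s) * (1 + (s : ℤ) ^ 2 + s))), ?_⟩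
  rw [szc_sub2 hs]
  push_cast
  ring

end SzCh3num

section SzCh3

variable {G : Type*} [Group G] [Fintype G]

/-- a finite group with a Suzuki-type partition by TI-subgroups -/
structure SzChData (G : Type*) [Group G] [Fintype G] (s : ℕ) where
  U : Subgroup G
  Z : Subgroup G
  D : Subgroup G
  A : Subgroup G
  B : Subgroup G
  hs : 2 ≤ s
  cardG : Nat.card G = 4 * s ^ 4 * (2 * s ^ 2 - 1) * (4 * s ^ 4 + 1)
  cardU : Nat.card U = 4 * s ^ 4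
  cardZ : Nat.card Z = 2 * s ^ 2
  cardD : Nat.card D = 2 * s ^ 2 - 1
  cardA : Nat.card A = 2 * s ^ 2 + 2 * s + 1
  cardB : Nat.card B = 2 * s ^ 2 - 2 * s + 1
  cardNU : Nat.card (Subgroup.normalizer (U : Set G)) = 4 * s ^ 4 * (2 * s ^ 2 - 1)
  cardND : Nat.card (Subgroup.normalizer (D : Set G)) = 2 * (2 * s ^ 2 - 1)
  cardNA : Nat.card (Subgroup.normalizer (A : Set G)) = 4 * (2 * s ^ 2 + 2 * s + 1)
  cardNB : Nat.card (Subgroup.normalizer (B : Set G)) = 4 * (2 * s ^ 2 - 2 * s + 1)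
  tiU : Cfsg.IsTISubset (U : Set G)
  tiD : Cfsg.IsTISubset (D : Set G)
  tiA : Cfsg.IsTISubset (A : Set G)
  tiB : Cfsg.IsTISubset (B : Set G)
  ZU : Z ≤ U
  Znorm : ∀ x ∈ Subgroup.normalizer (U : Set G), ∀ z ∈ Z, x⁻¹ * z * x ∈ Z
  centU : ∀ z ∈ U, z ≠ 1 → Subgroup.centralizer ({z} : Set G) ≤ U
  centD : ∀ z ∈ D, z ≠ 1 → Subgroup.centralizer ({z} : Set G) ≤ D
  centA : ∀ z ∈ A, z ≠ 1 → Subgroup.centralizer ({z} : Set G) ≤ A
  centB : ∀ z ∈ B, z ≠ 1 → Subgroup.centralizer ({z} : Set G) ≤ B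
  commD : ∀ a b : D, a * b = b * a
  commA : ∀ a b : A, a * b = b * a
  commB : ∀ a b : B, a * b = b * a
  cover : ∀ g : G, g ≠ 1 → ∃ x : G, x * g * x⁻¹ ∈ U ∨ x * g * x⁻¹ ∈ D ∨ x * g * x⁻¹ ∈ A ∨
    x * g * x⁻¹ ∈ B
  genZ : ∃ θ : U → ℂ, θ ∈ Helper73.genSpanZ U ∧ (∀ u : U, (u : G) ∈ Z → θ u = 2 * (s : ℂ) ^ 2) ∧
    (∀ u : U, (u : G) ∉ Z → θ u = 0)
  genT : ∃ θ : U → ℂ, θ ∈ Helper73.genSpanZ U ∧ θ 1 = 2 * (s : ℂ) * (2 * (s : ℂ) ^ 2 - 1) ∧
    (∀ u : U, u ≠ 1 → (u : G) ∈ Z → θ u = -(2 * (s : ℂ))) ∧ (∀ u : U, (u : G) ∉ Z → θ u = 0)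

/-- admissible functions on a TI-subgroup: vanishing at `1`, invariant under the normaliser -/
def TiAdm (H : Subgroup G) (f : H → ℂ) : Prop :=
  f 1 = 0 ∧ ∀ (x : Subgroup.normalizer (H : Set G)) (h : H), f (Helper3.tiConj H x h) = f h

variable {s : ℕ}

/-- the class function with value `c` at `1` and the given values on the four subgroups -/
noncomputable def SzChData.cf (S : SzChData G s) (c : ℂ) (fU : S.U → ℂ) (fD : S.D → ℂ)
    (fA : S.A → ℂ) (fB : S.B → ℂ) : G → ℂ :=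
  c • chDelta G + tiInd S.U fU + tiInd S.D fD + tiInd S.A fA + tiInd S.B fB

theorem SzChData.cf_isClassFunction (S : SzChData G s) (c : ℂ) (fU : S.U → ℂ) (fD : S.D → ℂ)
    (fA : S.A → ℂ) (fB : S.B → ℂ) : Cfsg.IsClassFunction G (S.cf c fU fD fA fB) := by
  intro g h
  unfold SzChData.cf
  simp only [Pi.add_apply, Pi.smul_apply]
  rw [chDelta_isClassFunction g h, tiInd_isClassFunction S.U fU g h,
    tiInd_isClassFunction S.D fD g h, tiInd_isClassFunction S.A fA g h,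
    tiInd_isClassFunction S.B fB g h]

theorem SzChData.cf_one (S : SzChData G s) (c : ℂ) {fU : S.U → ℂ} {fD : S.D → ℂ}
    {fA : S.A → ℂ} {fB : S.B → ℂ} (hU : TiAdm S.U fU) (hD : TiAdm S.D fD) (hA : TiAdm S.A fA)
    (hB : TiAdm S.B fB) : S.cf c fU fD fA fB 1 = c := by
  unfold SzChData.cf
  simp only [Pi.add_apply, Pi.smul_apply]
  rw [chDelta_one, tiInd_apply_one _ _ hU.1, tiInd_apply_one _ _ hD.1, tiInd_apply_one _ _ hA.1,
    tiInd_apply_one _ _ hB.1]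
  simp

theorem SzChData.cf_U (S : SzChData G s) (c : ℂ) {fU : S.U → ℂ} (fD : S.D → ℂ)
    (fA : S.A → ℂ) (fB : S.B → ℂ) (hU : TiAdm S.U fU) (u : S.U) (hu : u ≠ 1) :
    S.cf c fU fD fA fB (u : G) = fU u := by
  have hu1 : (u : G) ≠ 1 := fun h => hu (Subtype.ext h)
  unfold SzChData.cf
  simp only [Pi.add_apply, Pi.smul_apply]
  rw [chDelta_of_ne hu1, tiInd_apply_mem S.U S.tiU fU hU.2 u hu,
    tiInd_apply_of_not_conj S.D fD _ (h6_not_conj_of_coprime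
      (by rw [S.cardU, S.cardD]; exact szc_cop1 S.hs) u.2 hu1),
    tiInd_apply_of_not_conj S.A fA _ (h6_not_conj_of_coprime
      (by rw [S.cardU, S.cardA]; exact szc_cop2) u.2 hu1),
    tiInd_apply_of_not_conj S.B fB _ (h6_not_conj_of_coprime
      (by rw [S.cardU, S.cardB]; exact szc_cop3 S.hs) u.2 hu1)]
  simp

theorem SzChData.cf_D (S : SzChData G s) (c : ℂ) (fU : S.U → ℂ) {fD : S.D → ℂ}
    (fA : S.A → ℂ) (fB : S.B → ℂ) (hD : TiAdm S.D fD) (u : S.D) (hu : u ≠ 1) :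
    S.cf c fU fD fA fB (u : G) = fD u := by
  have hu1 : (u : G) ≠ 1 := fun h => hu (Subtype.ext h)
  unfold SzChData.cf
  simp only [Pi.add_apply, Pi.smul_apply]
  rw [chDelta_of_ne hu1, tiInd_apply_mem S.D S.tiD fD hD.2 u hu,
    tiInd_apply_of_not_conj S.U fU _ (h6_not_conj_of_coprime
      (by rw [S.cardU, S.cardD]; exact (szc_cop1 S.hs).symm) u.2 hu1),
    tiInd_apply_of_not_conj S.A fA _ (h6_not_conj_of_coprime
      (by rw [S.cardD, S.cardA]; exact szc_cop4 S.hs) u.2 hu1),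
    tiInd_apply_of_not_conj S.B fB _ (h6_not_conj_of_coprime
      (by rw [S.cardD, S.cardB]; exact szc_cop5 S.hs) u.2 hu1)]
  simp

theorem SzChData.cf_A (S : SzChData G s) (c : ℂ) (fU : S.U → ℂ) (fD : S.D → ℂ)
    {fA : S.A → ℂ} (fB : S.B → ℂ) (hA : TiAdm S.A fA) (u : S.A) (hu : u ≠ 1) :
    S.cf c fU fD fA fB (u : G) = fA u := by
  have hu1 : (u : G) ≠ 1 := fun h => hu (Subtype.ext h)
  unfold SzChData.cf
  simp only [Pi.add_apply, Pi.smul_apply]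
  rw [chDelta_of_ne hu1, tiInd_apply_mem S.A S.tiA fA hA.2 u hu,
    tiInd_apply_of_not_conj S.U fU _ (h6_not_conj_of_coprime
      (by rw [S.cardU, S.cardA]; exact szc_cop2.symm) u.2 hu1),
    tiInd_apply_of_not_conj S.D fD _ (h6_not_conj_of_coprime
      (by rw [S.cardD, S.cardA]; exact (szc_cop4 S.hs).symm) u.2 hu1),
    tiInd_apply_of_not_conj S.B fB _ (h6_not_conj_of_coprime
      (by rw [S.cardA, S.cardB]; exact szc_cop6 S.hs) u.2 hu1)]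
  simp

theorem SzChData.cf_B (S : SzChData G s) (c : ℂ) (fU : S.U → ℂ) (fD : S.D → ℂ)
    (fA : S.A → ℂ) {fB : S.B → ℂ} (hB : TiAdm S.B fB) (u : S.B) (hu : u ≠ 1) :
    S.cf c fU fD fA fB (u : G) = fB u := by
  have hu1 : (u : G) ≠ 1 := fun h => hu (Subtype.ext h)
  unfold SzChData.cf
  simp only [Pi.add_apply, Pi.smul_apply]
  rw [chDelta_of_ne hu1, tiInd_apply_mem S.B S.tiB fB hB.2 u hu,
    tiInd_apply_of_not_conj S.U fU _ (h6_not_conj_of_coprime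
      (by rw [S.cardU, S.cardB]; exact (szc_cop3 S.hs).symm) u.2 hu1),
    tiInd_apply_of_not_conj S.D fD _ (h6_not_conj_of_coprime
      (by rw [S.cardD, S.cardB]; exact (szc_cop5 S.hs).symm) u.2 hu1),
    tiInd_apply_of_not_conj S.A fA _ (h6_not_conj_of_coprime
      (by rw [S.cardA, S.cardB]; exact (szc_cop6 S.hs).symm) u.2 hu1)]
  simp

theorem SzChData.classInner_cf (S : SzChData G s) (c : ℂ) (fU : S.U → ℂ) (fD : S.D → ℂ)
    (fA : S.A → ℂ) (fB : S.B → ℂ) (F : G → ℂ) (hF : Cfsg.IsClassFunction G F) :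
    Cfsg.classInner (S.cf c fU fD fA fB) F =
      c * ((Nat.card G : ℂ)⁻¹ * conj (F 1)) +
      (Nat.card (Subgroup.normalizer (S.U : Set G)) : ℂ)⁻¹ * ∑ u : S.U, fU u * conj (F u) +
      (Nat.card (Subgroup.normalizer (S.D : Set G)) : ℂ)⁻¹ * ∑ u : S.D, fD u * conj (F u) +
      (Nat.card (Subgroup.normalizer (S.A : Set G)) : ℂ)⁻¹ * ∑ u : S.A, fA u * conj (F u) +
      (Nat.card (Subgroup.normalizer (S.B : Set G)) : ℂ)⁻¹ * ∑ u : S.B, fB u * conj (F u) := by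
  unfold SzChData.cf
  rw [Helper15.classInner_add_left, Helper15.classInner_add_left, Helper15.classInner_add_left,
    Helper15.classInner_add_left, Helper15.classInner_smul_left, classInner_chDelta,
    classInner_tiInd _ _ _ hF, classInner_tiInd _ _ _ hF, classInner_tiInd _ _ _ hF,
    classInner_tiInd _ _ _ hF]

theorem SzChData.classInner_cf_cf (S : SzChData G s) (c : ℂ) {fU : S.U → ℂ} {fD : S.D → ℂ}
    {fA : S.A → ℂ} {fB : S.B → ℂ} (c' : ℂ) {fU' : S.U → ℂ} {fD' : S.D → ℂ}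
    {fA' : S.A → ℂ} {fB' : S.B → ℂ} (hU : fU 1 = 0) (hD : fD 1 = 0) (hA : fA 1 = 0)
    (hB : fB 1 = 0) (hU' : TiAdm S.U fU') (hD' : TiAdm S.D fD') (hA' : TiAdm S.A fA')
    (hB' : TiAdm S.B fB') :
    Cfsg.classInner (S.cf c fU fD fA fB) (S.cf c' fU' fD' fA' fB') =
      c * ((Nat.card G : ℂ)⁻¹ * conj c') +
      (Nat.card (Subgroup.normalizer (S.U : Set G)) : ℂ)⁻¹ * ∑ u : S.U, fU u * conj (fU' u) +
      (Nat.card (Subgroup.normalizer (S.D : Set G)) : ℂ)⁻¹ * ∑ u : S.D, fD u * conj (fD' u) +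
      (Nat.card (Subgroup.normalizer (S.A : Set G)) : ℂ)⁻¹ * ∑ u : S.A, fA u * conj (fA' u) +
      (Nat.card (Subgroup.normalizer (S.B : Set G)) : ℂ)⁻¹ * ∑ u : S.B, fB u * conj (fB' u) := by
  rw [S.classInner_cf c fU fD fA fB _ (S.cf_isClassFunction c' fU' fD' fA' fB'),
    S.cf_one c' hU' hD' hA' hB']
  congr 1
  · congr 1
    · congr 1
      · congr 2
        refine Finset.sum_congr rfl fun u _ => ?_
        by_cases hu : u = 1
        · rw [hu, hU]; simp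
        · rw [S.cf_U c' fD' fA' fB' hU' u hu]
      · congr 1
        refine Finset.sum_congr rfl fun u _ => ?_
        by_cases hu : u = 1
        · rw [hu, hD]; simp
        · rw [S.cf_D c' fU' fA' fB' hD' u hu]
    · congr 1
      refine Finset.sum_congr rfl fun u _ => ?_
      by_cases hu : u = 1
      · rw [hu, hA]; simp
      · rw [S.cf_A c' fU' fD' fB' hA' u hu]
  · congr 1
    refine Finset.sum_congr rfl fun u _ => ?_
    by_cases hu : u = 1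
    · rw [hu, hB]; simp
    · rw [S.cf_B c' fU' fD' fA' hB' u hu]

end SzCh3

end Cfsg.Agent.Helper6
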