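import Mathlib
import Cfsg.Agent.Helper6.SzCh3

/-!
# Brauer's characterisation of characters for the class functions `SzChData.cf`
-/

set_option autoImplicit false

namespace Cfsg.Agent.Helper6

open scoped ComplexConjugate
open Classical

section SzCh4

variable {G : Type*} [Group G] [Fintype G] {s : ℕ}

omit [Fintype G] in
/-- a non-trivial elementary group has a non-trivial central element -/
theorem h6_elementary_center [Finite G] (E : Subgroup G) (p : ℕ) (hp : p.Prime)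
    (hE : Cfsg.IsElementary p E) (hne : E ≠ ⊥) :
    ∃ z : G, z ∈ E ∧ z ≠ 1 ∧ ∀ e ∈ E, e * z = z * e := by
  obtain ⟨x, hxc, -, k, hk⟩ := hE
  by_cases hx1 : x = 1
  · subst hx1
    have hbot : Subgroup.zpowers (1 : E) = ⊥ := by simp
    rw [hbot, Subgroup.index_bot] at hk
    haveI : Fact p.Prime := ⟨hp⟩
    have hpg : IsPGroup p E := IsPGroup.of_card hk
    haveI : Nontrivial E := (Subgroup.nontrivial_iff_ne_bot E).2 hne
    haveI := hpg.center_nontrivial
    obtain ⟨z, hz⟩ := exists_ne (1 : Subgroup.center E)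
    refine ⟨((z : E) : G), (z : E).2, ?_, ?_⟩
    · intro h
      apply hz
      apply Subtype.ext
      apply Subtype.ext
      exact h
    · intro e he
      have h1 := Subgroup.mem_center_iff.1 z.2 ⟨e, he⟩
      exact congrArg (Subtype.val : E → G) h1
  · refine ⟨(x : G), x.2, fun h => hx1 (Subtype.ext h), ?_⟩
    intro e he
    have h1 := Subgroup.mem_center_iff.1 hxc ⟨e, he⟩
    exact congrArg (Subtype.val : E → G) h1

omit [Fintype G] in
theorem h6_conj_mem_of_cent {H E : Subgroup G}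
    (hcent : ∀ z ∈ H, z ≠ 1 → Subgroup.centralizer ({z} : Set G) ≤ H) {z y : G}
    (hz1 : z ≠ 1) (hzH : y * z * y⁻¹ ∈ H) (hc : ∀ e ∈ E, e * z = z * e) :
    ∀ e ∈ E, y * e * y⁻¹ ∈ H := by
  intro e he
  apply hcent _ hzH (fun h => hz1 (conj_eq_one_iff.1 h))
  rw [Subgroup.mem_centralizer_singleton_iff]
  have h1 := hc e he
  calc y * e * y⁻¹ * (y * z * y⁻¹) = y * (e * z) * y⁻¹ := by group
    _ = y * (z * e) * y⁻¹ := by rw [h1]
    _ = y * z * y⁻¹ * (y * e * y⁻¹) := by group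

theorem SzChData.elem_conj (S : SzChData G s) (E : Subgroup G) (p : ℕ) (hp : p.Prime)
    (hE : Cfsg.IsElementary p E) :
    ∃ y : G, (∀ e ∈ E, y * e * y⁻¹ ∈ S.U) ∨ (∀ e ∈ E, y * e * y⁻¹ ∈ S.D) ∨
      (∀ e ∈ E, y * e * y⁻¹ ∈ S.A) ∨ (∀ e ∈ E, y * e * y⁻¹ ∈ S.B) := by
  by_cases hne : E = ⊥
  · refine ⟨1, Or.inl ?_⟩
    intro e he
    rw [hne, Subgroup.mem_bot] at he
    rw [he]
    simp
  · obtain ⟨z, hzE, hz1, hc⟩ := h6_elementary_center E p hp hE hne
    obtain ⟨y, hy⟩ := S.cover z hz1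
    refine ⟨y, ?_⟩
    rcases hy with h | h | h | h
    · exact Or.inl (h6_conj_mem_of_cent S.centU hz1 h hc)
    · exact Or.inr (Or.inl (h6_conj_mem_of_cent S.centD hz1 h hc))
    · exact Or.inr (Or.inr (Or.inl (h6_conj_mem_of_cent S.centA hz1 h hc)))
    · exact Or.inr (Or.inr (Or.inr (h6_conj_mem_of_cent S.centB hz1 h hc)))

omit [Fintype G] in
/-- restriction of a class function to a subgroup conjugate into `H` -/
theorem h6_restrict_conj_mem {θ : G → ℂ} (hθ : Cfsg.IsClassFunction G θ) {H E : Subgroup G}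
    {y : G} (hy : ∀ e ∈ E, y * e * y⁻¹ ∈ H) {R : H → ℂ} (hR : R ∈ Helper73.genSpanZ H)
    (hval : ∀ h : H, θ (h : G) = R h) : (fun e : E => θ e) ∈ Helper73.genSpanZ E := by
  let φ : E →* H :=
    { toFun := fun e => ⟨y * e * y⁻¹, hy e e.2⟩
      map_one' := by
        apply Subtype.ext
        simp
      map_mul' := by
        intro a b
        apply Subtype.ext
        simp only [Subgroup.coe_mul]
        group }
  have h1 : (fun e : E => θ e) = fun e : E => R (φ e) := by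
    funext e
    rw [← hval (φ e)]
    exact (hθ (e : G) y).symm
  rw [h1]
  exact h6_comp_mem_genSpanZ φ hR

theorem SzChData.cf_mem_genSpanZ (S : SzChData G s) (c : ℂ) {fU : S.U → ℂ} {fD : S.D → ℂ}
    {fA : S.A → ℂ} {fB : S.B → ℂ} (hU : TiAdm S.U fU) (hD : TiAdm S.D fD) (hA : TiAdm S.A fA)
    (hB : TiAdm S.B fB)
    (gU : ∃ R ∈ Helper73.genSpanZ S.U, R 1 = c ∧ ∀ u : S.U, u ≠ 1 → R u = fU u)
    (gD : ∃ R ∈ Helper73.genSpanZ S.D, R 1 = c ∧ ∀ u : S.D, u ≠ 1 → R u = fD u)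
    (gA : ∃ R ∈ Helper73.genSpanZ S.A, R 1 = c ∧ ∀ u : S.A, u ≠ 1 → R u = fA u)
    (gB : ∃ R ∈ Helper73.genSpanZ S.B, R 1 = c ∧ ∀ u : S.B, u ≠ 1 → R u = fB u) :
    S.cf c fU fD fA fB ∈ Helper73.genSpanZ G := by
  have hcl := S.cf_isClassFunction c fU fD fA fB
  apply Helper73.brauer_characterization_Z hcl
  intro E p hp hE
  obtain ⟨y, hy⟩ := S.elem_conj E p hp hE
  rcases hy with h | h | h | h
  · obtain ⟨R, hR, hR1, hRu⟩ := gU
    refine h6_restrict_conj_mem hcl h hR ?_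
    intro u
    by_cases hu : u = 1
    · rw [hu, hR1]; exact S.cf_one c hU hD hA hB
    · rw [hRu u hu]; exact S.cf_U c fD fA fB hU u hu
  · obtain ⟨R, hR, hR1, hRu⟩ := gD
    refine h6_restrict_conj_mem hcl h hR ?_
    intro u
    by_cases hu : u = 1
    · rw [hu, hR1]; exact S.cf_one c hU hD hA hB
    · rw [hRu u hu]; exact S.cf_D c fU fA fB hD u hu
  · obtain ⟨R, hR, hR1, hRu⟩ := gA
    refine h6_restrict_conj_mem hcl h hR ?_
    intro u
    by_cases hu : u = 1
    · rw [hu, hR1]; exact S.cf_one c hU hD hA hB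
    · rw [hRu u hu]; exact S.cf_A c fU fD fB hA u hu
  · obtain ⟨R, hR, hR1, hRu⟩ := gB
    refine h6_restrict_conj_mem hcl h hR ?_
    intro u
    by_cases hu : u = 1
    · rw [hu, hR1]; exact S.cf_one c hU hD hA hB
    · rw [hRu u hu]; exact S.cf_B c fU fD fA hB u hu

end SzCh4

end Cfsg.Agent.Helper6
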