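import Mathlib
import Cfsg.Agent.Helper6.SzCh4

/-!
# The building blocks of the class functions: functions on the four subgroups and their sums
-/

set_option autoImplicit false

namespace Cfsg.Agent.Helper6

open scoped ComplexConjugate
open Classical

section SzCh5

variable {G : Type*} [Group G] [Fintype G] {s : ℕ}

omit [Fintype G] in
theorem h6_tiConj_eq_one_iff (H : Subgroup G) (x : Subgroup.normalizer (H : Set G)) (h : H) :
    Helper3.tiConj H x h = 1 ↔ h = 1 := by
  constructor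
  · intro h2
    apply Subtype.ext
    have h3 : ((Helper3.tiConj H x h : H) : G) = 1 := by rw [h2]; rfl
    rw [Helper3.tiConj_coe] at h3
    have h4 : (h : G) = (x : G) * ((x : G)⁻¹ * h * x) * (x : G)⁻¹ := by group
    rw [h4, h3]
    simp
  · intro h2
    rw [h2, map_one]

/-- constant off the identity -/
noncomputable def tiC (H : Subgroup G) (v : ℂ) : H → ℂ := fun h => if h = 1 then 0 else v

/-- a multiple of an orbit sum off the identity -/
noncomputable def tiX (H : Subgroup G) (e : ℂ) (α : H →* ℂˣ) : H → ℂ :=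
  fun h => if h = 1 then 0 else e * tiXi H α h

omit [Fintype G] in
theorem tiC_one (H : Subgroup G) (v : ℂ) : tiC H v 1 = 0 := by
  unfold tiC
  simp

omit [Fintype G] in
theorem tiC_of_ne (H : Subgroup G) (v : ℂ) {h : H} (hh : h ≠ 1) : tiC H v h = v := by
  unfold tiC
  simp [hh]

theorem tiX_one (H : Subgroup G) (e : ℂ) (α : H →* ℂˣ) : tiX H e α 1 = 0 := by
  unfold tiX
  simp

theorem tiX_of_ne (H : Subgroup G) (e : ℂ) (α : H →* ℂˣ) {h : H} (hh : h ≠ 1) :
    tiX H e α h = e * tiXi H α h := by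
  unfold tiX
  simp [hh]

omit [Fintype G] in
theorem tiC_adm (H : Subgroup G) (v : ℂ) : TiAdm H (tiC H v) := by
  refine ⟨tiC_one H v, fun x h => ?_⟩
  by_cases hh : h = 1
  · rw [hh, map_one]
  · rw [tiC_of_ne H v hh, tiC_of_ne H v (fun h2 => hh ((h6_tiConj_eq_one_iff H x h).1 h2))]

theorem tiX_adm (H : Subgroup G) (e : ℂ) (α : H →* ℂˣ) : TiAdm H (tiX H e α) := by
  refine ⟨tiX_one H e α, fun x h => ?_⟩
  by_cases hh : h = 1
  · rw [hh, map_one]
  · rw [tiX_of_ne H e α hh, tiX_of_ne H e α (fun h2 => hh ((h6_tiConj_eq_one_iff H x h).1 h2)),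
      tiXi_conj]

theorem h6_sum_ne_one {K : Type*} [Group K] [Fintype K] [DecidableEq K] (f : K → ℂ) :
    ∑ k : K, (if k = 1 then 0 else f k) = ∑ k : K, f k - f 1 := by
  rw [← Finset.sum_erase_eq_sub (Finset.mem_univ (1 : K))]
  rw [← Finset.sum_erase (a := (1 : K)) Finset.univ (by simp)]
  refine Finset.sum_congr rfl fun k hk => ?_
  rw [if_neg (Finset.ne_of_mem_erase hk)]

theorem tiC_sum_CC (H : Subgroup G) (v v' : ℂ) :
    ∑ h : H, tiC H v h * conj (tiC H v' h) = ((Nat.card H : ℂ) - 1) * (v * conj v') := by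
  have h1 : ∀ h : H, tiC H v h * conj (tiC H v' h) = if h = 1 then 0 else v * conj v' := by
    intro h
    by_cases hh : h = 1
    · simp [hh, tiC_one]
    · simp [hh, tiC_of_ne]
  simp only [h1]
  rw [h6_sum_ne_one (fun _ => v * conj v'), Finset.sum_const, Finset.card_univ, nsmul_eq_mul,
    ← Nat.card_eq_fintype_card]
  ring

theorem tiC_sum_C (H : Subgroup G) (v : ℂ) :
    ∑ h : H, tiC H v h = ((Nat.card H : ℂ) - 1) * v := by
  have h1 : ∀ h : H, tiC H v h = if h = 1 then 0 else v := fun h => rfl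
  simp only [h1]
  rw [h6_sum_ne_one (fun _ => v), Finset.sum_const, Finset.card_univ, nsmul_eq_mul,
    ← Nat.card_eq_fintype_card]
  ring

theorem tiX_sum_X (H : Subgroup G) (e : ℂ) (α : H →* ℂˣ) (hα : α ≠ 1) :
    ∑ h : H, tiX H e α h =
      -(e * ((Nat.card (Subgroup.normalizer (H : Set G)) : ℂ) / (Nat.card H : ℂ))) := by
  have h1 : ∀ h : H, tiX H e α h = if h = 1 then 0 else e * tiXi H α h := fun h => rfl
  simp only [h1]
  rw [h6_sum_ne_one (fun h => e * tiXi H α h), ← Finset.mul_sum, tiXi_sum H α hα, tiXi_one]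
  ring

theorem tiX_sum_XC (H : Subgroup G) (e v : ℂ) (α : H →* ℂˣ) (hα : α ≠ 1) :
    ∑ h : H, tiX H e α h * conj (tiC H v h) =
      -(e * conj v * ((Nat.card (Subgroup.normalizer (H : Set G)) : ℂ) / (Nat.card H : ℂ))) := by
  have h1 : ∀ h : H, tiX H e α h * conj (tiC H v h) =
      if h = 1 then 0 else (e * conj v) * tiXi H α h := by
    intro h
    by_cases hh : h = 1
    · simp [hh, tiX_one]
    · simp [hh, tiX_of_ne, tiC_of_ne]
      ring
  simp only [h1]
  rw [h6_sum_ne_one (fun h => (e * conj v) * tiXi H α h), ← Finset.mul_sum, tiXi_sum H α hα,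
    tiXi_one]
  ring

theorem tiC_sum_CX (H : Subgroup G) (e v : ℂ) (α : H →* ℂˣ) (hα : α ≠ 1) :
    ∑ h : H, tiC H v h * conj (tiX H e α h) =
      -(v * conj e * ((Nat.card (Subgroup.normalizer (H : Set G)) : ℂ) / (Nat.card H : ℂ))) := by
  have h0 : ∀ h : H, tiC H v h * conj (tiX H e α h) =
      conj (tiX H e α h * conj (tiC H v h)) := by
    intro h
    rw [map_mul, Complex.conj_conj, mul_comm]
  simp only [h0]
  rw [← map_sum, tiX_sum_XC H e v α hα]
  simp only [map_neg, map_mul, map_div₀, Complex.conj_conj, Complex.conj_natCast]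
  ring

theorem tiX_sum_XX (H : Subgroup G)
    (hfrob : ∀ h ∈ H, h ≠ 1 →
      Subgroup.normalizer (H : Set G) ⊓ Subgroup.centralizer ({h} : Set G) ≤ H)
    (e e' : ℂ) (α : H →* ℂˣ) (hα : α ≠ 1) :
    ∑ h : H, tiX H e α h * conj (tiX H e' α h) =
      e * conj e' * ((Nat.card (Subgroup.normalizer (H : Set G)) : ℂ) -
        ((Nat.card (Subgroup.normalizer (H : Set G)) : ℂ) / (Nat.card H : ℂ)) ^ 2) := by
  have h1 : ∀ h : H, tiX H e α h * conj (tiX H e' α h) =
      if h = 1 then 0 else (e * conj e') * (tiXi H α h * conj (tiXi H α h)) := by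
    intro h
    by_cases hh : h = 1
    · simp [hh, tiX_one]
    · simp [hh, tiX_of_ne]
      ring
  simp only [h1]
  rw [h6_sum_ne_one (fun h => (e * conj e') * (tiXi H α h * conj (tiXi H α h))),
    ← Finset.mul_sum, tiXi_sum_sq H hfrob α hα, tiXi_one]
  simp only [map_div₀, Complex.conj_natCast]
  ring

theorem tiC_gen (H : Subgroup G) (c v : ℂ) (v' k : ℤ) (hv : v = v')
    (hc : c = v' + k * (Nat.card H : ℂ)) :
    ∃ R ∈ Helper73.genSpanZ H, R 1 = c ∧ ∀ h : H, h ≠ 1 → R h = tiC H v h := by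
  refine ⟨_, h6_const_mem_genSpanZ c v v' k hv hc, ?_, ?_⟩
  · simp
  · intro h hh
    simp [hh, tiC_of_ne]

theorem tiX_gen (H : Subgroup G) (hTI : Cfsg.IsTISubset (H : Set G)) (α : H →* ℂˣ)
    (c e : ℂ) (e' k : ℤ) (he : e = e')
    (hc : c = e' * ((Nat.card G : ℂ) / (Nat.card H : ℂ)) + k * (Nat.card H : ℂ)) :
    ∃ R ∈ Helper73.genSpanZ H, R 1 = c ∧ ∀ h : H, h ≠ 1 → R h = tiX H e α h := by
  refine ⟨_, tiXi_mem_genSpanZ H hTI α c e' k hc, ?_, ?_⟩
  · simp
  · intro h hh
    simp [hh, tiX_of_ne, he]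

end SzCh5

end Cfsg.Agent.Helper6
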