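import Mathlib
import Cfsg.Agent.Helper6.SzCh5

/-!
# Functions on the Sylow subgroup `U` and the numerical data of `SzChData`
-/

set_option autoImplicit false

namespace Cfsg.Agent.Helper6

open scoped ComplexConjugate
open Classical

section SzCh6

variable {G : Type*} [Group G] [Fintype G] {s : ℕ}

theorem szc_subC1 {s : ℕ} (hs : 2 ≤ s) : ((2 * s ^ 2 - 1 : ℕ) : ℂ) = 2 * (s : ℂ) ^ 2 - 1 := by
  have h := congrArg (Int.cast : ℤ → ℂ) (szc_sub1 hs)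
  push_cast at h
  exact h

theorem szc_subC2 {s : ℕ} (hs : 2 ≤ s) :
    ((2 * s ^ 2 - 2 * s + 1 : ℕ) : ℂ) = 2 * (s : ℂ) ^ 2 - 2 * s + 1 := by
  have h : 2 * s ≤ 2 * s ^ 2 := by nlinarith
  push_cast [Nat.cast_sub h]
  ring

theorem SzChData.cG (S : SzChData G s) :
    (Nat.card G : ℂ) = 4 * (s : ℂ) ^ 4 * (2 * (s : ℂ) ^ 2 - 1) * (4 * (s : ℂ) ^ 4 + 1) := by
  rw [S.cardG]
  push_cast
  rw [szc_subC1 S.hs]

theorem SzChData.cU (S : SzChData G s) : (Nat.card S.U : ℂ) = 4 * (s : ℂ) ^ 4 := by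
  rw [S.cardU]
  push_cast
  rfl

theorem SzChData.cZ (S : SzChData G s) : (Nat.card S.Z : ℂ) = 2 * (s : ℂ) ^ 2 := by
  rw [S.cardZ]
  push_cast
  rfl

theorem SzChData.cD (S : SzChData G s) : (Nat.card S.D : ℂ) = 2 * (s : ℂ) ^ 2 - 1 := by
  rw [S.cardD, szc_subC1 S.hs]

theorem SzChData.cA (S : SzChData G s) : (Nat.card S.A : ℂ) = 2 * (s : ℂ) ^ 2 + 2 * s + 1 := by
  rw [S.cardA]
  push_cast
  rfl

theorem SzChData.cB (S : SzChData G s) : (Nat.card S.B : ℂ) = 2 * (s : ℂ) ^ 2 - 2 * s + 1 := by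
  rw [S.cardB, szc_subC2 S.hs]

theorem SzChData.cNU (S : SzChData G s) :
    (Nat.card (Subgroup.normalizer (S.U : Set G)) : ℂ) =
      4 * (s : ℂ) ^ 4 * (2 * (s : ℂ) ^ 2 - 1) := by
  rw [S.cardNU]
  push_cast
  rw [szc_subC1 S.hs]

theorem SzChData.cND (S : SzChData G s) :
    (Nat.card (Subgroup.normalizer (S.D : Set G)) : ℂ) = 2 * (2 * (s : ℂ) ^ 2 - 1) := by
  rw [S.cardND]
  push_cast
  rw [szc_subC1 S.hs]

theorem SzChData.cNA (S : SzChData G s) :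
    (Nat.card (Subgroup.normalizer (S.A : Set G)) : ℂ) = 4 * (2 * (s : ℂ) ^ 2 + 2 * s + 1) := by
  rw [S.cardNA]
  push_cast
  rfl

theorem SzChData.cNB (S : SzChData G s) :
    (Nat.card (Subgroup.normalizer (S.B : Set G)) : ℂ) = 4 * (2 * (s : ℂ) ^ 2 - 2 * s + 1) := by
  rw [S.cardNB]
  simp only [Nat.cast_mul, Nat.cast_ofNat, szc_subC2 S.hs]

theorem SzChData.s_ne (S : SzChData G s) : (s : ℂ) ≠ 0 := by
  have := S.hs
  exact_mod_cast (by omega : s ≠ 0)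

theorem SzChData.d_ne (S : SzChData G s) : 2 * (s : ℂ) ^ 2 - 1 ≠ 0 := by
  rw [← S.cD]
  exact_mod_cast Nat.card_pos.ne'

theorem SzChData.a_ne (S : SzChData G s) : 2 * (s : ℂ) ^ 2 + 2 * s + 1 ≠ 0 := by
  rw [← S.cA]
  exact_mod_cast Nat.card_pos.ne'

theorem SzChData.b_ne (S : SzChData G s) : 2 * (s : ℂ) ^ 2 - 2 * s + 1 ≠ 0 := by
  rw [← S.cB]
  exact_mod_cast Nat.card_pos.ne'

theorem SzChData.g_ne (S : SzChData G s) : 4 * (s : ℂ) ^ 4 + 1 ≠ 0 := by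
  have h : (2 * (s : ℂ) ^ 2 + 2 * s + 1) * (2 * (s : ℂ) ^ 2 - 2 * s + 1) = 4 * (s : ℂ) ^ 4 + 1 := by
    ring
  rw [← h]
  exact mul_ne_zero S.a_ne S.b_ne

theorem SzChData.frobD (S : SzChData G s) : ∀ h ∈ S.D, h ≠ 1 →
    Subgroup.normalizer (S.D : Set G) ⊓ Subgroup.centralizer ({h} : Set G) ≤ S.D :=
  fun h hh h1 => inf_le_right.trans (S.centD h hh h1)

theorem SzChData.frobA (S : SzChData G s) : ∀ h ∈ S.A, h ≠ 1 →
    Subgroup.normalizer (S.A : Set G) ⊓ Subgroup.centralizer ({h} : Set G) ≤ S.A :=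
  fun h hh h1 => inf_le_right.trans (S.centA h hh h1)

theorem SzChData.frobB (S : SzChData G s) : ∀ h ∈ S.B, h ≠ 1 →
    Subgroup.normalizer (S.B : Set G) ⊓ Subgroup.centralizer ({h} : Set G) ≤ S.B :=
  fun h hh h1 => inf_le_right.trans (S.centB h hh h1)

/-- functions on `U` constant on `Z \ 1` and on `U \ Z` -/
noncomputable def SzChData.uf (S : SzChData G s) (a b : ℂ) : S.U → ℂ :=
  fun u => if u = 1 then 0 else if (u : G) ∈ S.Z then a else b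

theorem SzChData.uf_one (S : SzChData G s) (a b : ℂ) : S.uf a b 1 = 0 := by
  unfold SzChData.uf
  simp

theorem SzChData.uf_Z (S : SzChData G s) (a b : ℂ) {u : S.U} (hu : u ≠ 1) (hz : (u : G) ∈ S.Z) :
    S.uf a b u = a := by
  unfold SzChData.uf
  simp [hu, hz]

theorem SzChData.uf_nZ (S : SzChData G s) (a b : ℂ) {u : S.U} (hz : (u : G) ∉ S.Z) :
    S.uf a b u = b := by
  have hu : u ≠ 1 := by
    intro h
    apply hz
    rw [h]
    exact S.Z.one_mem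
  unfold SzChData.uf
  simp [hu, hz]

theorem SzChData.uf_adm (S : SzChData G s) (a b : ℂ) : TiAdm S.U (S.uf a b) := by
  refine ⟨S.uf_one a b, fun x u => ?_⟩
  by_cases hu : u = 1
  · rw [hu, map_one]
  · have hu' : Helper3.tiConj S.U x u ≠ 1 := fun h2 => hu ((h6_tiConj_eq_one_iff S.U x u).1 h2)
    by_cases hz : (u : G) ∈ S.Z
    · have hz' : ((Helper3.tiConj S.U x u : S.U) : G) ∈ S.Z := by
        rw [Helper3.tiConj_coe]
        exact S.Znorm x x.2 u hz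
      rw [S.uf_Z a b hu hz, S.uf_Z a b hu' hz']
    · have hz' : ((Helper3.tiConj S.U x u : S.U) : G) ∉ S.Z := by
        intro h
        apply hz
        rw [Helper3.tiConj_coe] at h
        have h2 := S.Znorm (x : G)⁻¹ (Subgroup.inv_mem _ x.2) _ h
        have h3 : ((x : G)⁻¹)⁻¹ * ((x : G)⁻¹ * u * x) * (x : G)⁻¹ = u := by group
        rwa [h3] at h2
      rw [S.uf_nZ a b hz, S.uf_nZ a b hz']

theorem SzChData.sum_mem_Z (S : SzChData G s) :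
    ∑ u : S.U, (if (u : G) ∈ S.Z then (1 : ℂ) else 0) = (Nat.card S.Z : ℂ) := by
  rw [Finset.sum_boole, ← Fintype.card_subtype]
  congr 1
  rw [← Nat.card_eq_fintype_card]
  exact Nat.card_congr (Subgroup.subgroupOfEquivOfLe S.ZU).toEquiv

theorem SzChData.uf_sum (S : SzChData G s) (a b a' b' : ℂ) :
    ∑ u : S.U, S.uf a b u * conj (S.uf a' b' u) =
      (2 * (s : ℂ) ^ 2 - 1) * (a * conj a') +
        (4 * (s : ℂ) ^ 4 - 2 * (s : ℂ) ^ 2) * (b * conj b') := by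
  have h1 : ∀ u : S.U, S.uf a b u * conj (S.uf a' b' u) =
      (if u = 1 then 0 else
        (b * conj b' + (a * conj a' - b * conj b') * (if (u : G) ∈ S.Z then (1 : ℂ) else 0))) := by
    intro u
    by_cases hu : u = 1
    · simp [hu, S.uf_one]
    · by_cases hz : (u : G) ∈ S.Z
      · simp [hu, hz, S.uf_Z _ _ hu hz]
      · simp [hu, hz, S.uf_nZ _ _ hz]
  simp only [h1]
  rw [h6_sum_ne_one (fun u : S.U =>
    (b * conj b' + (a * conj a' - b * conj b') * (if (u : G) ∈ S.Z then (1 : ℂ) else 0)))]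
  rw [Finset.sum_add_distrib, Finset.sum_const, Finset.card_univ, nsmul_eq_mul,
    ← Finset.mul_sum, S.sum_mem_Z, ← Nat.card_eq_fintype_card, S.cU, S.cZ]
  have h2 : (((1 : S.U) : G) ∈ S.Z) := S.Z.one_mem
  simp only [h2, if_true]
  ring

theorem SzChData.uf_gen (S : SzChData G s) (c a b : ℂ) (x₁ x₂ x₃ x₄ : ℤ) (hb : b = x₁)
    (ha : a = x₁ + x₂ * (2 * (s : ℂ) ^ 2) - x₃ * (2 * (s : ℂ)))
    (hc : c = x₁ + x₂ * (2 * (s : ℂ) ^ 2) + x₃ * (2 * (s : ℂ) * (2 * (s : ℂ) ^ 2 - 1)) +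
      x₄ * (4 * (s : ℂ) ^ 4)) :
    ∃ R ∈ Helper73.genSpanZ S.U, R 1 = c ∧ ∀ u : S.U, u ≠ 1 → R u = S.uf a b u := by
  obtain ⟨θZ, hZ, hZ1, hZ2⟩ := S.genZ
  obtain ⟨θT, hT, hT1, hT2, hT3⟩ := S.genT
  refine ⟨x₁ • (fun _ : S.U => (1 : ℂ)) + x₂ • θZ + x₃ • θT +
    x₄ • (fun u : S.U => if u = 1 then (Nat.card S.U : ℂ) else 0), ?_, ?_, ?_⟩
  · exact add_mem (add_mem (add_mem (Submodule.smul_mem _ _ h6_one_mem_genSpanZ)
      (Submodule.smul_mem _ _ hZ)) (Submodule.smul_mem _ _ hT))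
      (Submodule.smul_mem _ _ h6_regular_mem_genSpanZ)
  · have h1 : (((1 : S.U) : G) ∈ S.Z) := S.Z.one_mem
    simp only [Pi.add_apply, Pi.smul_apply]
    simp only [zsmul_eq_mul, if_true, hZ1 1 h1, hT1, S.cU, hc]
    ring
  · intro u hu
    by_cases hz : (u : G) ∈ S.Z
    · simp only [Pi.add_apply, Pi.smul_apply]
      simp only [zsmul_eq_mul, if_neg hu, hZ1 u hz, hT2 u hu hz, S.uf_Z _ _ hu hz, ha]
      ring
    · simp only [Pi.add_apply, Pi.smul_apply]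
      simp only [zsmul_eq_mul, if_neg hu, hZ2 u hz, hT3 u hz, S.uf_nZ _ _ hz, hb]
      ring

end SzCh6

end Cfsg.Agent.Helper6
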