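import Mathlib
import Cfsg.Agent.Helper6.SzCh6

/-!
# The class functions `St`, `X`, `Y`, `Z`, `W` and their inner products
-/

set_option autoImplicit false

namespace Cfsg.Agent.Helper6

open scoped ComplexConjugate
open Classical

section SzCh7

theorem szc_ip {s c c' x1 x2 x3 x4 v : ℂ} (hs : s ≠ 0) (hd : 2 * s ^ 2 - 1 ≠ 0)
    (ha : 2 * s ^ 2 + 2 * s + 1 ≠ 0) (hb : 2 * s ^ 2 - 2 * s + 1 ≠ 0)
    (h : c * c' + (4 * s ^ 4 + 1) * x1 + 2 * s ^ 4 * (4 * s ^ 4 + 1) * x2 +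
      s ^ 4 * (2 * s ^ 2 - 1) * (2 * s ^ 2 - 2 * s + 1) * x3 +
      s ^ 4 * (2 * s ^ 2 - 1) * (2 * s ^ 2 + 2 * s + 1) * x4 =
        v * (4 * s ^ 4 * (2 * s ^ 2 - 1) * (4 * s ^ 4 + 1))) :
    c * ((4 * s ^ 4 * (2 * s ^ 2 - 1) * (4 * s ^ 4 + 1))⁻¹ * c') +
      (4 * s ^ 4 * (2 * s ^ 2 - 1))⁻¹ * x1 + (2 * (2 * s ^ 2 - 1))⁻¹ * x2 +
      (4 * (2 * s ^ 2 + 2 * s + 1))⁻¹ * x3 + (4 * (2 * s ^ 2 - 2 * s + 1))⁻¹ * x4 = v := by
  have hg : 4 * s ^ 4 + 1 = (2 * s ^ 2 + 2 * s + 1) * (2 * s ^ 2 - 2 * s + 1) := by ring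
  rw [hg] at h ⊢
  generalize hD : 2 * s ^ 2 - 1 = D at *
  generalize hA : 2 * s ^ 2 + 2 * s + 1 = A at *
  generalize hB : 2 * s ^ 2 - 2 * s + 1 = B at *
  field_simp
  linear_combination 2 * h

variable {G : Type*} [Group G] [Fintype G] {s : ℕ}

theorem SzChData.qD (S : SzChData G s) :
    2 * (2 * (s : ℂ) ^ 2 - 1) / (2 * (s : ℂ) ^ 2 - 1) = 2 := by
  rw [mul_div_assoc, div_self S.d_ne, mul_one]

theorem SzChData.qA (S : SzChData G s) :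
    4 * (2 * (s : ℂ) ^ 2 + 2 * s + 1) / (2 * (s : ℂ) ^ 2 + 2 * s + 1) = 4 := by
  rw [mul_div_assoc, div_self S.a_ne, mul_one]

theorem SzChData.qB (S : SzChData G s) :
    4 * (2 * (s : ℂ) ^ 2 - 2 * s + 1) / (2 * (s : ℂ) ^ 2 - 2 * s + 1) = 4 := by
  rw [mul_div_assoc, div_self S.b_ne, mul_one]

/-- the Steinberg character -/
noncomputable def SzChData.chSt (S : SzChData G s) : G → ℂ :=
  S.cf (4 * (s : ℂ) ^ 4) (S.uf 0 0) (tiC S.D 1) (tiC S.A (-1)) (tiC S.B (-1))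

/-- the principal series characters -/
noncomputable def SzChData.chX (S : SzChData G s) (l : S.D →* ℂˣ) : G → ℂ :=
  S.cf (4 * (s : ℂ) ^ 4 + 1) (S.uf 1 1) (tiX S.D 1 l) (tiC S.A 0) (tiC S.B 0)

/-- the characters attached to the torus `A` -/
noncomputable def SzChData.chY (S : SzChData G s) (α : S.A →* ℂˣ) : G → ℂ :=
  S.cf ((2 * (s : ℂ) ^ 2 - 1) * (2 * (s : ℂ) ^ 2 - 2 * s + 1)) (S.uf (2 * (s : ℂ) - 1) (-1))
    (tiC S.D 0) (tiX S.A (-1) α) (tiC S.B 0)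

/-- the characters attached to the torus `B` -/
noncomputable def SzChData.chZ (S : SzChData G s) (β : S.B →* ℂˣ) : G → ℂ :=
  S.cf ((2 * (s : ℂ) ^ 2 - 1) * (2 * (s : ℂ) ^ 2 + 2 * s + 1)) (S.uf (-(2 * (s : ℂ)) - 1) (-1))
    (tiC S.D 0) (tiC S.A 0) (tiX S.B (-1) β)

/-- the sum of the two characters of degree `s (2 s^2 - 1)` -/
noncomputable def SzChData.chW (S : SzChData G s) : G → ℂ :=
  S.cf (2 * (s : ℂ) * (2 * (s : ℂ) ^ 2 - 1)) (S.uf (-(2 * (s : ℂ))) 0)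
    (tiC S.D 0) (tiC S.A 2) (tiC S.B (-2))

/-- the trivial character -/
noncomputable def SzChData.chOne (S : SzChData G s) : G → ℂ :=
  S.cf 1 (S.uf 1 1) (tiC S.D 1) (tiC S.A 1) (tiC S.B 1)

theorem SzChData.chSt_norm (S : SzChData G s) : Cfsg.classInner S.chSt S.chSt = 1 := by
  unfold SzChData.chSt
  rw [S.classInner_cf_cf _ _ (S.uf_one 0 0) (tiC_one _ _) (tiC_one _ _) (tiC_one _ _)
    (S.uf_adm 0 0) (tiC_adm _ _) (tiC_adm _ _) (tiC_adm _ _)]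
  rw [S.uf_sum, tiC_sum_CC, tiC_sum_CC, tiC_sum_CC, S.cG, S.cNU, S.cND, S.cNA, S.cNB, S.cD,
    S.cA, S.cB]
  simp only [map_mul, map_pow, map_neg, map_one, map_zero, map_sub, map_add,
    Complex.conj_natCast, Complex.conj_ofNat]
  apply szc_ip S.s_ne S.d_ne S.a_ne S.b_ne
  ring

theorem SzChData.chX_norm (S : SzChData G s) (l : S.D →* ℂˣ) (hl : l ≠ 1) :
    Cfsg.classInner (S.chX l) (S.chX l) = 1 := by
  unfold SzChData.chX
  rw [S.classInner_cf_cf _ _ (S.uf_one 1 1) (tiX_one _ _ _) (tiC_one _ _) (tiC_one _ _)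
    (S.uf_adm 1 1) (tiX_adm _ _ _) (tiC_adm _ _) (tiC_adm _ _)]
  rw [S.uf_sum, tiX_sum_XX S.D S.frobD _ _ l hl, tiC_sum_CC, tiC_sum_CC, S.cG, S.cNU, S.cND,
    S.cNA, S.cNB, S.cD, S.cA, S.cB]
  simp only [map_mul, map_pow, map_neg, map_one, map_zero, map_sub, map_add,
    Complex.conj_natCast, Complex.conj_ofNat]
  rw [S.qD]
  apply szc_ip S.s_ne S.d_ne S.a_ne S.b_ne
  ring

theorem SzChData.chY_norm (S : SzChData G s) (α : S.A →* ℂˣ) (hα : α ≠ 1) :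
    Cfsg.classInner (S.chY α) (S.chY α) = 1 := by
  unfold SzChData.chY
  rw [S.classInner_cf_cf _ _ (S.uf_one _ _) (tiC_one _ _) (tiX_one _ _ _) (tiC_one _ _)
    (S.uf_adm _ _) (tiC_adm _ _) (tiX_adm _ _ _) (tiC_adm _ _)]
  rw [S.uf_sum, tiC_sum_CC, tiX_sum_XX S.A S.frobA _ _ α hα, tiC_sum_CC, S.cG, S.cNU, S.cND,
    S.cNA, S.cNB, S.cD, S.cA, S.cB]
  simp only [map_mul, map_pow, map_neg, map_one, map_zero, map_sub, map_add,
    Complex.conj_natCast, Complex.conj_ofNat]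
  rw [S.qA]
  apply szc_ip S.s_ne S.d_ne S.a_ne S.b_ne
  ring

theorem SzChData.chZ_norm (S : SzChData G s) (β : S.B →* ℂˣ) (hβ : β ≠ 1) :
    Cfsg.classInner (S.chZ β) (S.chZ β) = 1 := by
  unfold SzChData.chZ
  rw [S.classInner_cf_cf _ _ (S.uf_one _ _) (tiC_one _ _) (tiC_one _ _) (tiX_one _ _ _)
    (S.uf_adm _ _) (tiC_adm _ _) (tiC_adm _ _) (tiX_adm _ _ _)]
  rw [S.uf_sum, tiC_sum_CC, tiC_sum_CC, tiX_sum_XX S.B S.frobB _ _ β hβ, S.cG, S.cNU, S.cND,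
    S.cNA, S.cNB, S.cD, S.cA, S.cB]
  simp only [map_mul, map_pow, map_neg, map_one, map_zero, map_sub, map_add,
    Complex.conj_natCast, Complex.conj_ofNat]
  rw [S.qB]
  apply szc_ip S.s_ne S.d_ne S.a_ne S.b_ne
  ring

theorem SzChData.chW_norm (S : SzChData G s) : Cfsg.classInner S.chW S.chW = 2 := by
  unfold SzChData.chW
  rw [S.classInner_cf_cf _ _ (S.uf_one _ _) (tiC_one _ _) (tiC_one _ _) (tiC_one _ _)
    (S.uf_adm _ _) (tiC_adm _ _) (tiC_adm _ _) (tiC_adm _ _)]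
  rw [S.uf_sum, tiC_sum_CC, tiC_sum_CC, tiC_sum_CC, S.cG, S.cNU, S.cND, S.cNA, S.cNB, S.cD,
    S.cA, S.cB]
  simp only [map_mul, map_pow, map_neg, map_one, map_zero, map_sub, map_add,
    Complex.conj_natCast, Complex.conj_ofNat]
  apply szc_ip S.s_ne S.d_ne S.a_ne S.b_ne
  ring

theorem SzChData.chW_chOne (S : SzChData G s) : Cfsg.classInner S.chW S.chOne = 0 := by
  unfold SzChData.chW SzChData.chOne
  rw [S.classInner_cf_cf _ _ (S.uf_one _ _) (tiC_one _ _) (tiC_one _ _) (tiC_one _ _)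
    (S.uf_adm _ _) (tiC_adm _ _) (tiC_adm _ _) (tiC_adm _ _)]
  rw [S.uf_sum, tiC_sum_CC, tiC_sum_CC, tiC_sum_CC, S.cG, S.cNU, S.cND, S.cNA, S.cNB, S.cD,
    S.cA, S.cB]
  simp only [map_mul, map_pow, map_neg, map_one, map_zero, map_sub, map_add,
    Complex.conj_natCast, Complex.conj_ofNat]
  apply szc_ip S.s_ne S.d_ne S.a_ne S.b_ne
  ring

theorem SzChData.chW_chSt (S : SzChData G s) : Cfsg.classInner S.chW S.chSt = 0 := by
  unfold SzChData.chW SzChData.chSt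
  rw [S.classInner_cf_cf _ _ (S.uf_one _ _) (tiC_one _ _) (tiC_one _ _) (tiC_one _ _)
    (S.uf_adm _ _) (tiC_adm _ _) (tiC_adm _ _) (tiC_adm _ _)]
  rw [S.uf_sum, tiC_sum_CC, tiC_sum_CC, tiC_sum_CC, S.cG, S.cNU, S.cND, S.cNA, S.cNB, S.cD,
    S.cA, S.cB]
  simp only [map_mul, map_pow, map_neg, map_one, map_zero, map_sub, map_add,
    Complex.conj_natCast, Complex.conj_ofNat]
  apply szc_ip S.s_ne S.d_ne S.a_ne S.b_ne
  ring

theorem SzChData.chW_chX (S : SzChData G s) (l : S.D →* ℂˣ) (hl : l ≠ 1) :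
    Cfsg.classInner S.chW (S.chX l) = 0 := by
  unfold SzChData.chW SzChData.chX
  rw [S.classInner_cf_cf _ _ (S.uf_one _ _) (tiC_one _ _) (tiC_one _ _) (tiC_one _ _)
    (S.uf_adm _ _) (tiX_adm _ _ _) (tiC_adm _ _) (tiC_adm _ _)]
  rw [S.uf_sum, tiC_sum_CX S.D _ _ l hl, tiC_sum_CC, tiC_sum_CC, S.cG, S.cNU, S.cND, S.cNA,
    S.cNB, S.cD, S.cA, S.cB]
  simp only [map_mul, map_pow, map_neg, map_one, map_zero, map_sub, map_add,
    Complex.conj_natCast, Complex.conj_ofNat]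
  apply szc_ip S.s_ne S.d_ne S.a_ne S.b_ne
  ring

theorem SzChData.chW_chY (S : SzChData G s) (α : S.A →* ℂˣ) (hα : α ≠ 1) :
    Cfsg.classInner S.chW (S.chY α) = 0 := by
  unfold SzChData.chW SzChData.chY
  rw [S.classInner_cf_cf _ _ (S.uf_one _ _) (tiC_one _ _) (tiC_one _ _) (tiC_one _ _)
    (S.uf_adm _ _) (tiC_adm _ _) (tiX_adm _ _ _) (tiC_adm _ _)]
  rw [S.uf_sum, tiC_sum_CC, tiC_sum_CX S.A _ _ α hα, tiC_sum_CC, S.cG, S.cNU, S.cND, S.cNA,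
    S.cNB, S.cD, S.cA, S.cB]
  simp only [map_mul, map_pow, map_neg, map_one, map_zero, map_sub, map_add,
    Complex.conj_natCast, Complex.conj_ofNat]
  rw [S.qA]
  apply szc_ip S.s_ne S.d_ne S.a_ne S.b_ne
  ring

theorem SzChData.chW_chZ (S : SzChData G s) (β : S.B →* ℂˣ) (hβ : β ≠ 1) :
    Cfsg.classInner S.chW (S.chZ β) = 0 := by
  unfold SzChData.chW SzChData.chZ
  rw [S.classInner_cf_cf _ _ (S.uf_one _ _) (tiC_one _ _) (tiC_one _ _) (tiC_one _ _)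
    (S.uf_adm _ _) (tiC_adm _ _) (tiC_adm _ _) (tiX_adm _ _ _)]
  rw [S.uf_sum, tiC_sum_CC, tiC_sum_CC, tiC_sum_CX S.B _ _ β hβ, S.cG, S.cNU, S.cND, S.cNA,
    S.cNB, S.cD, S.cA, S.cB]
  simp only [map_mul, map_pow, map_neg, map_one, map_zero, map_sub, map_add,
    Complex.conj_natCast, Complex.conj_ofNat]
  rw [S.qB]
  apply szc_ip S.s_ne S.d_ne S.a_ne S.b_ne
  ring

end SzCh7

end Cfsg.Agent.Helper6
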