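import Mathlib
import Cfsg.Agent.Helper6.SzCh7
import Cfsg.Agent.Helper15.BrauerSuzuki

/-!
# Irreducibility of the class functions `St`, `X`, `Y`, `Z`
-/

set_option autoImplicit false

namespace Cfsg.Agent.Helper6

open scoped ComplexConjugate
open Classical

section SzCh8

variable {G : Type*} [Group G] [Fintype G] {s : ℕ}

theorem SzChData.qGD (S : SzChData G s) :
    (Nat.card G : ℂ) / (Nat.card S.D : ℂ) = 4 * (s : ℂ) ^ 4 * (4 * (s : ℂ) ^ 4 + 1) := by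
  rw [S.cG, S.cD, div_eq_iff S.d_ne]
  ring

theorem SzChData.qGA (S : SzChData G s) :
    (Nat.card G : ℂ) / (Nat.card S.A : ℂ) =
      4 * (s : ℂ) ^ 4 * (2 * (s : ℂ) ^ 2 - 1) * (2 * (s : ℂ) ^ 2 - 2 * s + 1) := by
  rw [S.cG, S.cA, div_eq_iff S.a_ne]
  ring

theorem SzChData.qGB (S : SzChData G s) :
    (Nat.card G : ℂ) / (Nat.card S.B : ℂ) =
      4 * (s : ℂ) ^ 4 * (2 * (s : ℂ) ^ 2 - 1) * (2 * (s : ℂ) ^ 2 + 2 * s + 1) := by
  rw [S.cG, S.cB, div_eq_iff S.b_ne]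
  ring

theorem SzChData.chSt_gen (S : SzChData G s) : S.chSt ∈ Helper73.genSpanZ G := by
  unfold SzChData.chSt
  refine S.cf_mem_genSpanZ _ (S.uf_adm 0 0) (tiC_adm _ _) (tiC_adm _ _) (tiC_adm _ _) ?_ ?_ ?_ ?_
  · exact S.uf_gen _ 0 0 0 0 0 1 (by simp) (by simp) (by simp)
  · refine tiC_gen S.D _ 1 1 (2 * (s : ℤ) ^ 2 + 1) (by simp) ?_
    rw [S.cD]
    push_cast
    ring
  · refine tiC_gen S.A _ (-1) (-1) (2 * (s : ℤ) ^ 2 - 2 * s + 1) (by simp) ?_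
    rw [S.cA]
    push_cast
    ring
  · refine tiC_gen S.B _ (-1) (-1) (2 * (s : ℤ) ^ 2 + 2 * s + 1) (by simp) ?_
    rw [S.cB]
    push_cast
    ring

theorem SzChData.chX_gen (S : SzChData G s) (l : S.D →* ℂˣ) : S.chX l ∈ Helper73.genSpanZ G := by
  unfold SzChData.chX
  refine S.cf_mem_genSpanZ _ (S.uf_adm 1 1) (tiX_adm _ _ _) (tiC_adm _ _) (tiC_adm _ _) ?_ ?_ ?_ ?_
  · exact S.uf_gen _ 1 1 1 0 0 1 (by simp) (by simp) (by simp; ring)
  · refine tiX_gen S.D S.tiD l _ 1 1 (-((4 * (s : ℤ) ^ 4 + 1) * (2 * (s : ℤ) ^ 2 + 1))) (by simp) ?_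
    rw [S.qGD, S.cD]
    push_cast
    ring
  · refine tiC_gen S.A _ 0 0 (2 * (s : ℤ) ^ 2 - 2 * s + 1) (by simp) ?_
    rw [S.cA]
    push_cast
    ring
  · refine tiC_gen S.B _ 0 0 (2 * (s : ℤ) ^ 2 + 2 * s + 1) (by simp) ?_
    rw [S.cB]
    push_cast
    ring

theorem SzChData.chY_gen (S : SzChData G s) (α : S.A →* ℂˣ) : S.chY α ∈ Helper73.genSpanZ G := by
  unfold SzChData.chY
  refine S.cf_mem_genSpanZ _ (S.uf_adm _ _) (tiC_adm _ _) (tiX_adm _ _ _) (tiC_adm _ _) ?_ ?_ ?_ ?_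
  · exact S.uf_gen _ _ _ (-1) 1 ((s : ℤ) - 1) 0 (by simp) (by push_cast; ring) (by push_cast; ring)
  · refine tiC_gen S.D _ 0 0 (2 * (s : ℤ) ^ 2 - 2 * s + 1) (by simp) ?_
    rw [S.cD]
    push_cast
    ring
  · refine tiX_gen S.A S.tiA α _ (-1) (-1)
      ((2 * (s : ℤ) ^ 2 - 1) * (2 * (s : ℤ) ^ 2 - 2 * s + 1) ^ 2) (by simp) ?_
    rw [S.qGA, S.cA]
    push_cast
    ring
  · refine tiC_gen S.B _ 0 0 (2 * (s : ℤ) ^ 2 - 1) (by simp) ?_
    rw [S.cB]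
    push_cast
    ring

theorem SzChData.chZ_gen (S : SzChData G s) (β : S.B →* ℂˣ) : S.chZ β ∈ Helper73.genSpanZ G := by
  unfold SzChData.chZ
  refine S.cf_mem_genSpanZ _ (S.uf_adm _ _) (tiC_adm _ _) (tiC_adm _ _) (tiX_adm _ _ _) ?_ ?_ ?_ ?_
  · exact S.uf_gen _ _ _ (-1) 1 ((s : ℤ) + 1) 0 (by simp) (by push_cast; ring) (by push_cast; ring)
  · refine tiC_gen S.D _ 0 0 (2 * (s : ℤ) ^ 2 + 2 * s + 1) (by simp) ?_
    rw [S.cD]
    push_cast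
    ring
  · refine tiC_gen S.A _ 0 0 (2 * (s : ℤ) ^ 2 - 1) (by simp) ?_
    rw [S.cA]
    push_cast
    ring
  · refine tiX_gen S.B S.tiB β _ (-1) (-1)
      ((2 * (s : ℤ) ^ 2 - 1) * (2 * (s : ℤ) ^ 2 + 2 * s + 1) ^ 2) (by simp) ?_
    rw [S.qGB, S.cB]
    push_cast
    ring

theorem SzChData.chW_gen (S : SzChData G s) : S.chW ∈ Helper73.genSpanZ G := by
  unfold SzChData.chW
  refine S.cf_mem_genSpanZ _ (S.uf_adm _ _) (tiC_adm _ _) (tiC_adm _ _) (tiC_adm _ _) ?_ ?_ ?_ ?_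
  · exact S.uf_gen _ _ _ 0 0 1 0 (by simp) (by push_cast; ring) (by push_cast; ring)
  · refine tiC_gen S.D _ 0 0 (2 * (s : ℤ)) (by simp) ?_
    rw [S.cD]
    push_cast
    ring
  · refine tiC_gen S.A _ 2 2 (2 * (s : ℤ) - 2) (by simp) ?_
    rw [S.cA]
    push_cast
    ring
  · refine tiC_gen S.B _ (-2) (-2) (2 * (s : ℤ) + 2) (by simp) ?_
    rw [S.cB]
    push_cast
    ring

theorem SzChData.chSt_one (S : SzChData G s) : S.chSt 1 = ((4 * s ^ 4 : ℕ) : ℂ) := by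
  unfold SzChData.chSt
  rw [S.cf_one _ (S.uf_adm 0 0) (tiC_adm _ _) (tiC_adm _ _) (tiC_adm _ _)]
  push_cast
  ring

theorem SzChData.chX_one (S : SzChData G s) (l : S.D →* ℂˣ) :
    S.chX l 1 = ((4 * s ^ 4 + 1 : ℕ) : ℂ) := by
  unfold SzChData.chX
  rw [S.cf_one _ (S.uf_adm 1 1) (tiX_adm _ _ _) (tiC_adm _ _) (tiC_adm _ _)]
  push_cast
  ring

theorem SzChData.chY_one (S : SzChData G s) (α : S.A →* ℂˣ) :
    S.chY α 1 = (((2 * s ^ 2 - 1) * (2 * s ^ 2 - 2 * s + 1) : ℕ) : ℂ) := by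
  unfold SzChData.chY
  rw [S.cf_one _ (S.uf_adm _ _) (tiC_adm _ _) (tiX_adm _ _ _) (tiC_adm _ _)]
  rw [Nat.cast_mul, szc_subC1 S.hs, szc_subC2 S.hs]

theorem SzChData.chZ_one (S : SzChData G s) (β : S.B →* ℂˣ) :
    S.chZ β 1 = (((2 * s ^ 2 - 1) * (2 * s ^ 2 + 2 * s + 1) : ℕ) : ℂ) := by
  unfold SzChData.chZ
  rw [S.cf_one _ (S.uf_adm _ _) (tiC_adm _ _) (tiC_adm _ _) (tiX_adm _ _ _)]
  rw [Nat.cast_mul, szc_subC1 S.hs]
  push_cast
  ring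

theorem SzChData.chW_one (S : SzChData G s) :
    S.chW 1 = ((2 * s * (2 * s ^ 2 - 1) : ℕ) : ℂ) := by
  unfold SzChData.chW
  rw [S.cf_one _ (S.uf_adm _ _) (tiC_adm _ _) (tiC_adm _ _) (tiC_adm _ _)]
  rw [Nat.cast_mul, szc_subC1 S.hs]
  push_cast
  ring

theorem SzChData.chOne_one (S : SzChData G s) : S.chOne 1 = 1 := by
  unfold SzChData.chOne
  rw [S.cf_one _ (S.uf_adm _ _) (tiC_adm _ _) (tiC_adm _ _) (tiC_adm _ _)]

theorem SzChData.d_pos (S : SzChData G s) : 0 < 2 * s ^ 2 - 1 := by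
  have := S.hs
  have h : 4 ≤ s ^ 2 := by nlinarith
  omega

theorem SzChData.chSt_irr (S : SzChData G s) : Cfsg.IsIrrCharacter G S.chSt := by
  apply Helper15.isIrr_of_genSpanZ_inner_one S.chSt_gen S.chSt_norm
  rw [S.chSt_one, Complex.natCast_re]
  have := S.hs
  have h : 0 < 4 * s ^ 4 := by positivity
  exact_mod_cast h

theorem SzChData.chX_irr (S : SzChData G s) (l : S.D →* ℂˣ) (hl : l ≠ 1) :
    Cfsg.IsIrrCharacter G (S.chX l) := by
  apply Helper15.isIrr_of_genSpanZ_inner_one (S.chX_gen l) (S.chX_norm l hl)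
  rw [S.chX_one, Complex.natCast_re]
  have h : 0 < 4 * s ^ 4 + 1 := by positivity
  exact_mod_cast h

theorem SzChData.chY_irr (S : SzChData G s) (α : S.A →* ℂˣ) (hα : α ≠ 1) :
    Cfsg.IsIrrCharacter G (S.chY α) := by
  apply Helper15.isIrr_of_genSpanZ_inner_one (S.chY_gen α) (S.chY_norm α hα)
  rw [S.chY_one, Complex.natCast_re]
  have h : 0 < (2 * s ^ 2 - 1) * (2 * s ^ 2 - 2 * s + 1) := Nat.mul_pos S.d_pos (by positivity)
  exact_mod_cast h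

theorem SzChData.chZ_irr (S : SzChData G s) (β : S.B →* ℂˣ) (hβ : β ≠ 1) :
    Cfsg.IsIrrCharacter G (S.chZ β) := by
  apply Helper15.isIrr_of_genSpanZ_inner_one (S.chZ_gen β) (S.chZ_norm β hβ)
  rw [S.chZ_one, Complex.natCast_re]
  have h : 0 < (2 * s ^ 2 - 1) * (2 * s ^ 2 + 2 * s + 1) := Nat.mul_pos S.d_pos (by positivity)
  exact_mod_cast h

/-- two class functions agreeing at `1` and on the four subgroups are equal -/
theorem SzChData.cf_ext (S : SzChData G s) {F F' : G → ℂ} (hF : Cfsg.IsClassFunction G F)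
    (hF' : Cfsg.IsClassFunction G F') (h1 : F 1 = F' 1)
    (hU : ∀ u : S.U, u ≠ 1 → F u = F' u) (hD : ∀ u : S.D, u ≠ 1 → F u = F' u)
    (hA : ∀ u : S.A, u ≠ 1 → F u = F' u) (hB : ∀ u : S.B, u ≠ 1 → F u = F' u) : F = F' := by
  funext g
  by_cases hg : g = 1
  · rw [hg, h1]
  · obtain ⟨x, hx⟩ := S.cover g hg
    have hx1 : x * g * x⁻¹ ≠ 1 := fun h => hg (conj_eq_one_iff.1 h)
    rw [← hF g x, ← hF' g x]
    rcases hx with h | h | h | h
    · exact hU ⟨_, h⟩ (fun h2 => hx1 (congrArg Subtype.val h2))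
    · exact hD ⟨_, h⟩ (fun h2 => hx1 (congrArg Subtype.val h2))
    · exact hA ⟨_, h⟩ (fun h2 => hx1 (congrArg Subtype.val h2))
    · exact hB ⟨_, h⟩ (fun h2 => hx1 (congrArg Subtype.val h2))

omit [Fintype G] in
theorem h6_cf_const (c : ℂ) : Cfsg.IsClassFunction G (fun _ => c) := fun _ _ => rfl

omit [Fintype G] in
theorem h6_cf_add {F F' : G → ℂ} (h : Cfsg.IsClassFunction G F)
    (h' : Cfsg.IsClassFunction G F') : Cfsg.IsClassFunction G (F + F') := by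
  intro g x
  simp only [Pi.add_apply]
  rw [h g x, h' g x]

omit [Fintype G] in
theorem h6_cf_smul (c : ℂ) {F : G → ℂ} (h : Cfsg.IsClassFunction G F) :
    Cfsg.IsClassFunction G (c • F) := by
  intro g x
  simp only [Pi.smul_apply]
  rw [h g x]

omit [Fintype G] in
theorem h6_cf_sum {ι : Type*} (t : Finset ι) (f : ι → G → ℂ)
    (h : ∀ i ∈ t, Cfsg.IsClassFunction G (f i)) : Cfsg.IsClassFunction G (∑ i ∈ t, f i) := by
  intro g x
  simp only [Finset.sum_apply]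
  exact Finset.sum_congr rfl (fun i hi => h i hi g x)

theorem SzChData.chOne_eq (S : SzChData G s) : S.chOne = fun _ => (1 : ℂ) := by
  have hcl : Cfsg.IsClassFunction G S.chOne := by
    unfold SzChData.chOne
    exact S.cf_isClassFunction _ _ _ _ _
  refine S.cf_ext hcl (h6_cf_const 1) S.chOne_one ?_ ?_ ?_ ?_
  · intro u hu
    unfold SzChData.chOne
    rw [S.cf_U 1 _ _ _ (S.uf_adm 1 1) u hu]
    by_cases hz : (u : G) ∈ S.Z
    · exact S.uf_Z 1 1 hu hz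
    · exact S.uf_nZ 1 1 hz
  · intro u hu
    unfold SzChData.chOne
    rw [S.cf_D 1 _ _ _ (tiC_adm _ _) u hu]
    exact tiC_of_ne _ _ hu
  · intro u hu
    unfold SzChData.chOne
    rw [S.cf_A 1 _ _ _ (tiC_adm _ _) u hu]
    exact tiC_of_ne _ _ hu
  · intro u hu
    unfold SzChData.chOne
    rw [S.cf_B 1 _ _ _ (tiC_adm _ _) u hu]
    exact tiC_of_ne _ _ hu

end SzCh8

end Cfsg.Agent.Helper6
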