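import Mathlib
import Cfsg.Agent.Helper6.SzCh8

/-!
# The decomposition of the regular character of a group with a Suzuki-type partition
-/

set_option autoImplicit false

namespace Cfsg.Agent.Helper6

open scoped ComplexConjugate
open Classical

section SzCh9

variable {G : Type*} [Group G] [Fintype G] {s : ℕ}

theorem h6_card_hom_comm {K : Type*} [Group K] [Finite K] (hcomm : ∀ a b : K, a * b = b * a)
    [Fintype (K →* ℂˣ)] : Fintype.card (K →* ℂˣ) = Nat.card K := by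
  have hbot : commutator K = ⊥ := by
    rw [commutator_eq_bot_iff_center_eq_top]
    ext a
    simp only [Subgroup.mem_center_iff, Subgroup.mem_top, iff_true]
    intro b
    exact hcomm b a
  rw [← Nat.card_eq_fintype_card, Helper80.card_hom, hbot, Subgroup.index_bot]

theorem h6_sum_erase_const {K : Type*} [Group K] [Finite K] (hcomm : ∀ a b : K, a * b = b * a)
    [Fintype (K →* ℂˣ)] [DecidableEq (K →* ℂˣ)] (c : ℂ) :
    ∑ _α ∈ Finset.univ.erase (1 : K →* ℂˣ), c = ((Nat.card K : ℂ) - 1) * c := by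
  rw [Finset.sum_const, Finset.card_erase_of_mem (Finset.mem_univ _), Finset.card_univ,
    h6_card_hom_comm hcomm, nsmul_eq_mul, Nat.cast_pred Nat.card_pos]

theorem tiXi_triv (H : Subgroup G) (h : H) :
    tiXi H 1 h = (Nat.card (Subgroup.normalizer (H : Set G)) : ℂ) / (Nat.card H : ℂ) := by
  unfold tiXi
  simp only [MonoidHom.one_apply, Units.val_one, Finset.sum_const, Finset.card_univ,
    nsmul_eq_mul, mul_one]
  rw [← Nat.card_eq_fintype_card]
  ring

theorem tiXi_hom_sum_erase (H : Subgroup G) (hcomm : ∀ a b : H, a * b = b * a)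
    [Fintype (H →* ℂˣ)] [DecidableEq (H →* ℂˣ)] (h : H) (hh : h ≠ 1) :
    ∑ α ∈ Finset.univ.erase (1 : H →* ℂˣ), tiXi H α h =
      -((Nat.card (Subgroup.normalizer (H : Set G)) : ℂ) / (Nat.card H : ℂ)) := by
  rw [Finset.sum_erase_eq_sub (Finset.mem_univ _), tiXi_hom_sum H hcomm h hh, tiXi_triv]
  ring

/-- the candidate decomposition of the regular character -/
noncomputable def SzChData.chReg (S : SzChData G s) [Fintype (S.D →* ℂˣ)] [Fintype (S.A →* ℂˣ)]
    [Fintype (S.B →* ℂˣ)] : G → ℂ :=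
  S.chOne + (4 * (s : ℂ) ^ 4) • S.chSt +
    ((4 * (s : ℂ) ^ 4 + 1) / 2) • ∑ l ∈ Finset.univ.erase (1 : S.D →* ℂˣ), S.chX l +
    ((2 * (s : ℂ) ^ 2 - 1) * (2 * (s : ℂ) ^ 2 - 2 * s + 1) / 4) •
      ∑ α ∈ Finset.univ.erase (1 : S.A →* ℂˣ), S.chY α +
    ((2 * (s : ℂ) ^ 2 - 1) * (2 * (s : ℂ) ^ 2 + 2 * s + 1) / 4) •
      ∑ β ∈ Finset.univ.erase (1 : S.B →* ℂˣ), S.chZ β +
    ((s : ℂ) * (2 * (s : ℂ) ^ 2 - 1)) • S.chW

theorem SzChData.chSt_cl (S : SzChData G s) : Cfsg.IsClassFunction G S.chSt := by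
  unfold SzChData.chSt
  exact S.cf_isClassFunction _ _ _ _ _

theorem SzChData.chX_cl (S : SzChData G s) (l : S.D →* ℂˣ) :
    Cfsg.IsClassFunction G (S.chX l) := by
  unfold SzChData.chX
  exact S.cf_isClassFunction _ _ _ _ _

theorem SzChData.chY_cl (S : SzChData G s) (α : S.A →* ℂˣ) :
    Cfsg.IsClassFunction G (S.chY α) := by
  unfold SzChData.chY
  exact S.cf_isClassFunction _ _ _ _ _

theorem SzChData.chZ_cl (S : SzChData G s) (β : S.B →* ℂˣ) :
    Cfsg.IsClassFunction G (S.chZ β) := by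
  unfold SzChData.chZ
  exact S.cf_isClassFunction _ _ _ _ _

theorem SzChData.chW_cl (S : SzChData G s) : Cfsg.IsClassFunction G S.chW := by
  unfold SzChData.chW
  exact S.cf_isClassFunction _ _ _ _ _

theorem SzChData.chOne_cl (S : SzChData G s) : Cfsg.IsClassFunction G S.chOne := by
  unfold SzChData.chOne
  exact S.cf_isClassFunction _ _ _ _ _

theorem SzChData.chReg_cl (S : SzChData G s) [Fintype (S.D →* ℂˣ)] [Fintype (S.A →* ℂˣ)]
    [Fintype (S.B →* ℂˣ)] : Cfsg.IsClassFunction G S.chReg := by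
  unfold SzChData.chReg
  exact h6_cf_add (h6_cf_add (h6_cf_add (h6_cf_add (h6_cf_add S.chOne_cl
    (h6_cf_smul _ S.chSt_cl)) (h6_cf_smul _ (h6_cf_sum _ _ (fun l _ => S.chX_cl l))))
    (h6_cf_smul _ (h6_cf_sum _ _ (fun l _ => S.chY_cl l))))
    (h6_cf_smul _ (h6_cf_sum _ _ (fun l _ => S.chZ_cl l)))) (h6_cf_smul _ S.chW_cl)

theorem SzChData.chReg_apply (S : SzChData G s) [Fintype (S.D →* ℂˣ)] [Fintype (S.A →* ℂˣ)]
    [Fintype (S.B →* ℂˣ)] (g : G) : S.chReg g =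
      S.chOne g + (4 * (s : ℂ) ^ 4) * S.chSt g +
      ((4 * (s : ℂ) ^ 4 + 1) / 2) * ∑ l ∈ Finset.univ.erase (1 : S.D →* ℂˣ), S.chX l g +
      ((2 * (s : ℂ) ^ 2 - 1) * (2 * (s : ℂ) ^ 2 - 2 * s + 1) / 4) *
        ∑ α ∈ Finset.univ.erase (1 : S.A →* ℂˣ), S.chY α g +
      ((2 * (s : ℂ) ^ 2 - 1) * (2 * (s : ℂ) ^ 2 + 2 * s + 1) / 4) *
        ∑ β ∈ Finset.univ.erase (1 : S.B →* ℂˣ), S.chZ β g +
      ((s : ℂ) * (2 * (s : ℂ) ^ 2 - 1)) * S.chW g := by
  unfold SzChData.chReg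
  simp only [Pi.add_apply, Pi.smul_apply, smul_eq_mul, Finset.sum_apply]

theorem SzChData.chReg_eq (S : SzChData G s) [Fintype (S.D →* ℂˣ)] [Fintype (S.A →* ℂˣ)]
    [Fintype (S.B →* ℂˣ)] : S.chReg = (Nat.card G : ℂ) • chDelta G := by
  refine S.cf_ext S.chReg_cl (h6_cf_smul _ chDelta_isClassFunction) ?_ ?_ ?_ ?_ ?_
  · rw [S.chReg_apply]
    simp only [Pi.smul_apply, smul_eq_mul, chDelta_one, S.chOne_one, S.chSt_one, S.chX_one,
      S.chY_one, S.chZ_one, S.chW_one, h6_sum_erase_const S.commD, h6_sum_erase_const S.commA,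
      h6_sum_erase_const S.commB, S.cG, S.cD, S.cA, S.cB]
    simp only [Nat.cast_mul, szc_subC1 S.hs, szc_subC2 S.hs]
    push_cast
    ring
  · intro u hu
    have hu1 : (u : G) ≠ 1 := fun h => hu (Subtype.ext h)
    rw [S.chReg_apply]
    have e1 : S.chOne (u : G) = 1 := by rw [S.chOne_eq]
    have e2 : S.chSt (u : G) = S.uf 0 0 u := by
      unfold SzChData.chSt
      exact S.cf_U _ _ _ _ (S.uf_adm _ _) u hu
    have e3 : ∀ l, S.chX l (u : G) = S.uf 1 1 u := by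
      intro l
      unfold SzChData.chX
      exact S.cf_U _ _ _ _ (S.uf_adm _ _) u hu
    have e4 : ∀ l, S.chY l (u : G) = S.uf (2 * (s : ℂ) - 1) (-1) u := by
      intro l
      unfold SzChData.chY
      exact S.cf_U _ _ _ _ (S.uf_adm _ _) u hu
    have e5 : ∀ l, S.chZ l (u : G) = S.uf (-(2 * (s : ℂ)) - 1) (-1) u := by
      intro l
      unfold SzChData.chZ
      exact S.cf_U _ _ _ _ (S.uf_adm _ _) u hu
    have e6 : S.chW (u : G) = S.uf (-(2 * (s : ℂ))) 0 u := by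
      unfold SzChData.chW
      exact S.cf_U _ _ _ _ (S.uf_adm _ _) u hu
    simp only [e1, e2, e3, e4, e5, e6, Pi.smul_apply, smul_eq_mul, chDelta_of_ne hu1,
      h6_sum_erase_const S.commD, h6_sum_erase_const S.commA, h6_sum_erase_const S.commB,
      S.cD, S.cA, S.cB]
    by_cases hz : (u : G) ∈ S.Z
    · simp only [S.uf_Z _ _ hu hz]
      ring
    · simp only [S.uf_nZ _ _ hz]
      ring
  · intro u hu
    have hu1 : (u : G) ≠ 1 := fun h => hu (Subtype.ext h)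
    rw [S.chReg_apply]
    have e1 : S.chOne (u : G) = 1 := by rw [S.chOne_eq]
    have e2 : S.chSt (u : G) = 1 := by
      unfold SzChData.chSt
      rw [S.cf_D _ _ _ _ (tiC_adm _ _) u hu, tiC_of_ne _ _ hu]
    have e3 : ∀ l, S.chX l (u : G) = tiXi S.D l u := by
      intro l
      unfold SzChData.chX
      rw [S.cf_D _ _ _ _ (tiX_adm _ _ _) u hu, tiX_of_ne _ _ _ hu, one_mul]
    have e4 : ∀ l, S.chY l (u : G) = 0 := by
      intro l
      unfold SzChData.chY
      rw [S.cf_D _ _ _ _ (tiC_adm _ _) u hu, tiC_of_ne _ _ hu]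
    have e5 : ∀ l, S.chZ l (u : G) = 0 := by
      intro l
      unfold SzChData.chZ
      rw [S.cf_D _ _ _ _ (tiC_adm _ _) u hu, tiC_of_ne _ _ hu]
    have e6 : S.chW (u : G) = 0 := by
      unfold SzChData.chW
      rw [S.cf_D _ _ _ _ (tiC_adm _ _) u hu, tiC_of_ne _ _ hu]
    simp only [e1, e2, e3, e4, e5, e6, Pi.smul_apply, smul_eq_mul, chDelta_of_ne hu1,
      tiXi_hom_sum_erase S.D S.commD u hu, S.cND, S.cD, S.qD, Finset.sum_const_zero]
    ring
  · intro u hu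
    have hu1 : (u : G) ≠ 1 := fun h => hu (Subtype.ext h)
    rw [S.chReg_apply]
    have e1 : S.chOne (u : G) = 1 := by rw [S.chOne_eq]
    have e2 : S.chSt (u : G) = -1 := by
      unfold SzChData.chSt
      rw [S.cf_A _ _ _ _ (tiC_adm _ _) u hu, tiC_of_ne _ _ hu]
    have e3 : ∀ l, S.chX l (u : G) = 0 := by
      intro l
      unfold SzChData.chX
      rw [S.cf_A _ _ _ _ (tiC_adm _ _) u hu, tiC_of_ne _ _ hu]
    have e4 : ∀ l, S.chY l (u : G) = -tiXi S.A l u := by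
      intro l
      unfold SzChData.chY
      rw [S.cf_A _ _ _ _ (tiX_adm _ _ _) u hu, tiX_of_ne _ _ _ hu, neg_one_mul]
    have e5 : ∀ l, S.chZ l (u : G) = 0 := by
      intro l
      unfold SzChData.chZ
      rw [S.cf_A _ _ _ _ (tiC_adm _ _) u hu, tiC_of_ne _ _ hu]
    have e6 : S.chW (u : G) = 2 := by
      unfold SzChData.chW
      rw [S.cf_A _ _ _ _ (tiC_adm _ _) u hu, tiC_of_ne _ _ hu]
    simp only [e1, e2, e3, e4, e5, e6, Pi.smul_apply, smul_eq_mul, chDelta_of_ne hu1,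
      Finset.sum_neg_distrib, tiXi_hom_sum_erase S.A S.commA u hu, S.cNA, S.cA, S.qA,
      Finset.sum_const_zero]
    ring
  · intro u hu
    have hu1 : (u : G) ≠ 1 := fun h => hu (Subtype.ext h)
    rw [S.chReg_apply]
    have e1 : S.chOne (u : G) = 1 := by rw [S.chOne_eq]
    have e2 : S.chSt (u : G) = -1 := by
      unfold SzChData.chSt
      rw [S.cf_B _ _ _ _ (tiC_adm _ _) u hu, tiC_of_ne _ _ hu]
    have e3 : ∀ l, S.chX l (u : G) = 0 := by
      intro l
      unfold SzChData.chX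
      rw [S.cf_B _ _ _ _ (tiC_adm _ _) u hu, tiC_of_ne _ _ hu]
    have e4 : ∀ l, S.chY l (u : G) = 0 := by
      intro l
      unfold SzChData.chY
      rw [S.cf_B _ _ _ _ (tiC_adm _ _) u hu, tiC_of_ne _ _ hu]
    have e5 : ∀ l, S.chZ l (u : G) = -tiXi S.B l u := by
      intro l
      unfold SzChData.chZ
      rw [S.cf_B _ _ _ _ (tiX_adm _ _ _) u hu, tiX_of_ne _ _ _ hu, neg_one_mul]
    have e6 : S.chW (u : G) = -2 := by
      unfold SzChData.chW
      rw [S.cf_B _ _ _ _ (tiC_adm _ _) u hu, tiC_of_ne _ _ hu]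
    simp only [e1, e2, e3, e4, e5, e6, Pi.smul_apply, smul_eq_mul, chDelta_of_ne hu1,
      Finset.sum_neg_distrib, tiXi_hom_sum_erase S.B S.commB u hu, S.cNB, S.cB, S.qB,
      Finset.sum_const_zero]
    ring

end SzCh9

end Cfsg.Agent.Helper6
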