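import Mathlib
import Cfsg.Agent.Helper6.SzCh9
import Cfsg.Prelude.Def_DegreeGraph

/-!
# The character degrees of a group with a Suzuki-type partition
-/

set_option autoImplicit false

namespace Cfsg.Agent.Helper6

open scoped ComplexConjugate
open Classical

section SzCh10

variable {G : Type*} [Group G] [Fintype G] {s : ℕ}

omit [Fintype G] in
theorem h6_charDegree_of_one {χ : G → ℂ} {n : ℕ} (h : χ 1 = (n : ℂ)) :
    Cfsg.charDegree χ = n := by
  unfold Cfsg.charDegree
  rw [h, Complex.natCast_re, Nat.floor_natCast]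

theorem h6_mult_le_one {θ : G → ℂ} (hθ : θ ∈ Helper73.genSpanZ G)
    (h2 : Cfsg.classInner θ θ = 2) (χ : Cfsg.IrrCharacter G) (n : ℤ)
    (hn : Cfsg.classInner θ χ = n) : n ≤ 1 := by
  have : Fintype (Cfsg.IrrCharacter G) := Fintype.ofFinite _
  have hcl := Helper73.isClassFunction_of_mem_genSpanZ hθ
  have hm : ∀ χ : Cfsg.IrrCharacter G, ∃ n : ℤ, Cfsg.classInner θ χ = (n : ℂ) :=
    fun χ => Helper73.classInner_int_of_mem_genSpanZ hθ χ
  choose m hm using hm
  have h1 := Helper15.classInner_eq_sum (θ := θ) (θ' := θ) hcl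
  rw [h2] at h1
  have h3 : (2 : ℂ) = ((∑ χ : Cfsg.IrrCharacter G, m χ * m χ : ℤ) : ℂ) := by
    rw [h1, Int.cast_sum]
    apply Finset.sum_congr rfl
    intro χ _
    rw [hm χ, map_intCast, Int.cast_mul]
  have h4 : ∑ χ : Cfsg.IrrCharacter G, m χ * m χ = 2 := by exact_mod_cast h3.symm
  have h5 : m χ * m χ ≤ ∑ χ : Cfsg.IrrCharacter G, m χ * m χ :=
    Finset.single_le_sum (f := fun χ => m χ * m χ) (fun χ _ => mul_self_nonneg (m χ))
      (Finset.mem_univ χ)
  have h6 : m χ = n := by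
    have h7 := hm χ
    rw [hn] at h7
    exact_mod_cast h7.symm
  rw [h6, h4] at h5
  nlinarith

theorem h6_exists_hom_ne_one {K : Type*} [Group K] [Finite K]
    (hcomm : ∀ a b : K, a * b = b * a) (hK : 1 < Nat.card K) : ∃ l : K →* ℂˣ, l ≠ 1 := by
  have : Finite (K →* ℂˣ) := Helper80.finite_hom
  let _ : Fintype (K →* ℂˣ) := Fintype.ofFinite _
  have h1 : 1 < Fintype.card (K →* ℂˣ) := by rw [h6_card_hom_comm hcomm]; exact hK
  have : Nontrivial (K →* ℂˣ) := Fintype.one_lt_card_iff_nontrivial.1 h1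
  exact exists_ne 1

theorem SzChData.chOne_irr (S : SzChData G s) : Cfsg.IsIrrCharacter G S.chOne := by
  rw [S.chOne_eq]
  exact Helper80.trivial_isIrrCharacter

theorem SzChData.degree_of_other (S : SzChData G s) (χ : Cfsg.IrrCharacter G)
    (h1 : (χ : G → ℂ) ≠ S.chOne) (h2 : (χ : G → ℂ) ≠ S.chSt)
    (h3 : ∀ l : S.D →* ℂˣ, l ≠ 1 → (χ : G → ℂ) ≠ S.chX l)
    (h4 : ∀ l : S.A →* ℂˣ, l ≠ 1 → (χ : G → ℂ) ≠ S.chY l)
    (h5 : ∀ l : S.B →* ℂˣ, l ≠ 1 → (χ : G → ℂ) ≠ S.chZ l) :
    Cfsg.charDegree (χ : G → ℂ) = s * (2 * s ^ 2 - 1) := by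
  have : Finite (S.D →* ℂˣ) := Helper80.finite_hom
  have : Finite (S.A →* ℂˣ) := Helper80.finite_hom
  have : Finite (S.B →* ℂˣ) := Helper80.finite_hom
  let _ : Fintype (S.D →* ℂˣ) := Fintype.ofFinite _
  let _ : Fintype (S.A →* ℂˣ) := Fintype.ofFinite _
  let _ : Fintype (S.B →* ℂˣ) := Fintype.ofFinite _
  have hreg := S.chReg_eq
  have key : Cfsg.classInner S.chReg χ =
      ((s : ℂ) * (2 * (s : ℂ) ^ 2 - 1)) * Cfsg.classInner S.chW χ := by
    unfold SzChData.chReg
    rw [Helper15.classInner_add_left, Helper15.classInner_add_left,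
      Helper15.classInner_add_left, Helper15.classInner_add_left,
      Helper15.classInner_add_left, Helper15.classInner_smul_left,
      Helper15.classInner_smul_left, Helper15.classInner_smul_left,
      Helper15.classInner_smul_left, Helper15.classInner_smul_left,
      Helper15.classInner_sum_left, Helper15.classInner_sum_left,
      Helper15.classInner_sum_left,
      Helper15.irr_inner_ne S.chOne_irr χ.2 (Ne.symm h1),
      Helper15.irr_inner_ne S.chSt_irr χ.2 (Ne.symm h2),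
      Finset.sum_eq_zero (fun l hl => Helper15.irr_inner_ne
        (S.chX_irr l (Finset.ne_of_mem_erase hl)) χ.2
        (Ne.symm (h3 l (Finset.ne_of_mem_erase hl)))),
      Finset.sum_eq_zero (fun l hl => Helper15.irr_inner_ne
        (S.chY_irr l (Finset.ne_of_mem_erase hl)) χ.2
        (Ne.symm (h4 l (Finset.ne_of_mem_erase hl)))),
      Finset.sum_eq_zero (fun l hl => Helper15.irr_inner_ne
        (S.chZ_irr l (Finset.ne_of_mem_erase hl)) χ.2
        (Ne.symm (h5 l (Finset.ne_of_mem_erase hl))))]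
    ring
  rw [hreg, Helper15.classInner_smul_left, classInner_chDelta] at key
  obtain ⟨n, hn⟩ := Helper73.classInner_int_of_mem_genSpanZ S.chW_gen χ
  have hle := h6_mult_le_one S.chW_gen S.chW_norm χ n hn
  have hχ1 := Helper80.irr_one_eq χ
  have hdpos := Helper80.irr_degree_pos χ
  rw [hn, hχ1, Complex.conj_natCast] at key
  have hG : (Nat.card G : ℂ) ≠ 0 := by exact_mod_cast Nat.card_pos.ne'
  rw [← mul_assoc, mul_inv_cancel₀ hG, one_mul] at key
  have key2 : (Cfsg.charDegree (χ : G → ℂ) : ℤ) = (s : ℤ) * (2 * (s : ℤ) ^ 2 - 1) * n := by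
    exact_mod_cast key
  have hs := S.hs
  have hs2 : 0 < (s : ℤ) * (2 * (s : ℤ) ^ 2 - 1) := by
    have h6 : (2 : ℤ) ≤ s := by exact_mod_cast hs
    have h7 : 0 < 2 * (s : ℤ) ^ 2 - 1 := by nlinarith
    have h8 : 0 < (s : ℤ) := by linarith
    exact mul_pos h8 h7
  have hn1 : n = 1 := by
    have h6 : 0 < (s : ℤ) * (2 * (s : ℤ) ^ 2 - 1) * n := by
      rw [← key2]
      exact_mod_cast hdpos
    have h7 : 0 < n := by
      by_contra hcon
      push Not at hcon
      nlinarith
    omega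
  rw [hn1, mul_one] at key2
  have h9 : ((s * (2 * s ^ 2 - 1) : ℕ) : ℤ) = (s : ℤ) * (2 * (s : ℤ) ^ 2 - 1) := by
    rw [Nat.cast_mul, szc_sub1 S.hs]
  rw [← h9] at key2
  exact_mod_cast key2

/-- the character degrees of a group with a Suzuki-type partition -/
theorem SzChData.charDegrees_eq (S : SzChData G s) :
    Cfsg.charDegrees G = {1, 4 * s ^ 4, 4 * s ^ 4 + 1, (2 * s ^ 2 - 1) * (2 * s ^ 2 - 2 * s + 1),
      (2 * s ^ 2 - 1) * (2 * s ^ 2 + 2 * s + 1), s * (2 * s ^ 2 - 1)} := by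
  have hs := S.hs
  have hs4 : 4 ≤ s ^ 2 := by nlinarith
  ext d
  simp only [Cfsg.charDegrees, Set.mem_ofPred_eq, Set.mem_insert_iff, Set.mem_singleton_iff]
  constructor
  · rintro ⟨χ, rfl⟩
    by_cases h1 : (χ : G → ℂ) = S.chOne
    · left
      rw [h1]
      exact h6_charDegree_of_one (by rw [S.chOne_one]; simp)
    by_cases h2 : (χ : G → ℂ) = S.chSt
    · right; left
      rw [h2]
      exact h6_charDegree_of_one S.chSt_one
    by_cases h3 : ∃ l : S.D →* ℂˣ, l ≠ 1 ∧ (χ : G → ℂ) = S.chX l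
    · obtain ⟨l, -, h⟩ := h3
      right; right; left
      rw [h]
      exact h6_charDegree_of_one (S.chX_one l)
    by_cases h4 : ∃ l : S.A →* ℂˣ, l ≠ 1 ∧ (χ : G → ℂ) = S.chY l
    · obtain ⟨l, -, h⟩ := h4
      right; right; right; left
      rw [h]
      exact h6_charDegree_of_one (S.chY_one l)
    by_cases h5 : ∃ l : S.B →* ℂˣ, l ≠ 1 ∧ (χ : G → ℂ) = S.chZ l
    · obtain ⟨l, -, h⟩ := h5
      right; right; right; right; left
      rw [h]
      exact h6_charDegree_of_one (S.chZ_one l)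
    right; right; right; right; right
    push Not at h3 h4 h5
    exact S.degree_of_other χ h1 h2 h3 h4 h5
  · rintro (h | h | h | h | h | h)
    · refine ⟨⟨S.chOne, S.chOne_irr⟩, ?_⟩
      rw [h]
      exact h6_charDegree_of_one (χ := S.chOne) (n := 1) (by rw [S.chOne_one]; simp)
    · exact ⟨⟨S.chSt, S.chSt_irr⟩, by rw [h]; exact h6_charDegree_of_one S.chSt_one⟩
    · obtain ⟨l, hl⟩ := h6_exists_hom_ne_one S.commD (by rw [S.cardD]; omega)
      exact ⟨⟨S.chX l, S.chX_irr l hl⟩, by rw [h]; exact h6_charDegree_of_one (S.chX_one l)⟩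
    · obtain ⟨l, hl⟩ := h6_exists_hom_ne_one S.commA (by rw [S.cardA]; omega)
      exact ⟨⟨S.chY l, S.chY_irr l hl⟩, by rw [h]; exact h6_charDegree_of_one (S.chY_one l)⟩
    · obtain ⟨l, hl⟩ := h6_exists_hom_ne_one S.commB (by
        rw [S.cardB]
        have h6 : 2 * s < 2 * s ^ 2 := by nlinarith
        omega)
      exact ⟨⟨S.chZ l, S.chZ_irr l hl⟩, by rw [h]; exact h6_charDegree_of_one (S.chZ_one l)⟩
    · have hW0 : S.chW ≠ 0 := by
        intro h0
        have h6 := S.chW_one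
        rw [h0, Pi.zero_apply] at h6
        have h7 : (2 * s * (2 * s ^ 2 - 1) : ℕ) = 0 := by exact_mod_cast h6.symm
        have h8 : 0 < 2 * s * (2 * s ^ 2 - 1) := Nat.mul_pos (by omega) S.d_pos
        omega
      obtain ⟨χ, hχ⟩ := Helper15.exists_constituent S.chW_cl hW0
      refine ⟨χ, ?_⟩
      rw [h]
      apply S.degree_of_other χ
      · intro h1
        apply hχ
        rw [h1]
        exact S.chW_chOne
      · intro h2
        apply hχ
        rw [h2]
        exact S.chW_chSt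
      · intro l hl h3
        apply hχ
        rw [h3]
        exact S.chW_chX l hl
      · intro l hl h3
        apply hχ
        rw [h3]
        exact S.chW_chY l hl
      · intro l hl h3
        apply hχ
        rw [h3]
        exact S.chW_chZ l hl

end SzCh10

end Cfsg.Agent.Helper6
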