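import Mathlib
import Cfsg.Agent.Helper6.SzCh10
import Cfsg.Agent.Helper6.SzFix
import Cfsg.Agent.Helper60.SzOvoid3
import Cfsg.Agent.Helper76.CentralChar
import Cfsg.Agent.Helper81.BlockDefect

/-!
# Characters of the Sylow `2`-subgroup of the Suzuki group

Every irreducible character of the translation subgroup that is nontrivial on the centre has
degree divisible by `2^m`.
-/

set_option autoImplicit false

namespace Cfsg.Agent.Helper6

open scoped ComplexConjugate
open Classical

universe v

section SzCh11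

variable {F : Type v} [Field F] [Fintype F] {m : ℕ} [CharP F 2]
variable (hF : Fintype.card F = 2 ^ (2 * m + 1))

/-- elements of the translation subgroup -/
noncomputable def uoE (a b : F) : Helper60.Uo hF :=
  ⟨Helper60.tG hF a b, Helper60.tG_mem_Uo hF a b⟩

theorem uoE_mul (a b a' b' : F) :
    uoE hF a b * uoE hF a' b' = uoE hF (a + a') (b + b' + szS F m a * a') :=
  Subtype.ext (Helper60.tG_mul hF a b a' b')

theorem uoE_zero : uoE hF (0 : F) 0 = 1 := Subtype.ext (Helper60.tG_zero hF)

theorem uoE_inj {a b a' b' : F} (h : uoE hF a b = uoE hF a' b') : a = a' ∧ b = b' :=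
  Helper60.tG_inj hF (congrArg Subtype.val h)

theorem uoE_surj (u : Helper60.Uo hF) : ∃ a b, u = uoE hF a b := by
  obtain ⟨a, b, h⟩ := u.2
  exact ⟨a, b, Subtype.ext h⟩

/-- the coordinates on the translation subgroup -/
noncomputable def uoEquiv : (F × F) ≃ Helper60.Uo hF :=
  Equiv.ofBijective (fun x => uoE hF x.1 x.2) ⟨by
    rintro ⟨a, b⟩ ⟨a', b'⟩ h
    obtain ⟨h1, h2⟩ := uoE_inj hF h
    exact Prod.ext h1 h2, by
    intro u
    obtain ⟨a, b, h⟩ := uoE_surj hF u
    exact ⟨(a, b), h.symm⟩⟩

theorem uo_sum [Fintype (Helper60.Uo hF)] (f : Helper60.Uo hF → ℂ) :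
    ∑ u : Helper60.Uo hF, f u = ∑ a : F, ∑ b : F, f (uoE hF a b) := by
  rw [← Equiv.sum_comp (uoEquiv hF) f, Fintype.sum_prod_type]
  rfl

theorem uo_sumR [Fintype (Helper60.Uo hF)] (f : Helper60.Uo hF → ℝ) :
    ∑ u : Helper60.Uo hF, f u = ∑ a : F, ∑ b : F, f (uoE hF a b) := by
  rw [← Equiv.sum_comp (uoEquiv hF) f, Fintype.sum_prod_type]
  rfl

/-- the first coordinate -/
noncomputable def uoA (u : Helper60.Uo hF) : F := ((uoEquiv hF).symm u).1

theorem uoA_uoE (a b : F) : uoA hF (uoE hF a b) = a := by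
  unfold uoA
  have h : uoE hF a b = uoEquiv hF (a, b) := rfl
  rw [h, Equiv.symm_apply_apply]

/-- conjugation in the translation subgroup -/
theorem uoE_conj (c d a b : F) :
    uoE hF c d * uoE hF a b * (uoE hF c d)⁻¹ =
      uoE hF a (b + (szS F m a * c + szS F m c * a)) := by
  have h2 : (2 : F) = 0 := sz_two
  rw [mul_inv_eq_iff_eq_mul, uoE_mul, uoE_mul]
  congr 1
  · ring
  · linear_combination (-(szS F m a * c)) * h2

/-- the centre as a homomorphism -/
noncomputable def uoZ : Multiplicative F →* Helper60.Uo hF where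
  toFun b := uoE hF 0 (Multiplicative.toAdd b)
  map_one' := uoE_zero hF
  map_mul' x y := by
    rw [uoE_mul]
    simp

theorem uoZ_center (z : Multiplicative F) : uoZ hF z ∈ Subgroup.center (Helper60.Uo hF) := by
  rw [Subgroup.mem_center_iff]
  intro g
  obtain ⟨a, b, rfl⟩ := uoE_surj hF g
  show uoE hF a b * uoE hF 0 _ = uoE hF 0 _ * uoE hF a b
  rw [uoE_mul, uoE_mul]
  simp [add_comm]

theorem uo_card : Nat.card (Helper60.Uo hF) = 2 ^ (2 * (2 * m + 1)) := by
  rw [Helper60.card_Uo, hF, ← pow_mul]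
  congr 1
  ring

/-- the dichotomy for irreducible characters of the translation subgroup -/
theorem uo_irr_cases [Fintype (Helper60.Uo hF)] (φ : Cfsg.IrrCharacter (Helper60.Uo hF)) :
    (∀ a b y : F, (φ : Helper60.Uo hF → ℂ) (uoE hF a (b + y)) =
      (φ : Helper60.Uo hF → ℂ) (uoE hF a b)) ∨
    ((∑ y : F, (φ : Helper60.Uo hF → ℂ) (uoE hF 0 y) = 0) ∧
      2 ^ m ∣ Cfsg.charDegree (φ : Helper60.Uo hF → ℂ)) := by
  have h2 : (2 : F) = 0 := sz_two
  obtain ⟨c, hc⟩ := Helper76.exists_central_scalar (uoZ hF) (uoZ_center hF) φ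
  have h1 := Helper76.irr_one_ne_zero φ
  obtain ⟨c1, cmul⟩ := Helper76.scalar_mul (uoZ hF) (φ : Helper60.Uo hF → ℂ) h1 c hc
  obtain ⟨f, hf⟩ : ∃ f : F → ℂ, ∀ y, f y = c (Multiplicative.ofAdd y) := ⟨_, fun _ => rfl⟩
  have f0 : f 0 = 1 := by rw [hf]; exact c1
  have fadd : ∀ x y, f (x + y) = f x * f y := by
    intro x y
    rw [hf, hf, hf]
    exact cmul _ _
  have fsq : ∀ x, f x * f x = 1 := by
    intro x
    rw [← fadd, CharTwo.add_self_eq_zero, f0]
  have feq : ∀ x y, f (x + y) = 1 → f x = f y := by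
    intro x y h
    rw [fadd] at h
    calc f x = f x * (f y * f y) := by rw [fsq, mul_one]
      _ = (f x * f y) * f y := by ring
      _ = f y := by rw [h, one_mul]
  have hφ : ∀ a b y, (φ : Helper60.Uo hF → ℂ) (uoE hF a (b + y)) =
      f y * (φ : Helper60.Uo hF → ℂ) (uoE hF a b) := by
    intro a b y
    have h3 := hc (Multiplicative.ofAdd y) (uoE hF a b)
    have e : uoE hF a b * uoZ hF (Multiplicative.ofAdd y) = uoE hF a (b + y) := by
      show uoE hF a b * uoE hF 0 y = _
      rw [uoE_mul]
      simp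
    rw [e] at h3
    rw [hf]
    exact h3
  by_cases hf1 : ∀ y, f y = 1
  · left
    intro a b y
    rw [hφ, hf1, one_mul]
  · right
    push Not at hf1
    obtain ⟨y₀, hy₀⟩ := hf1
    have hsum : ∑ y : F, f y = 0 := by
      have h3 : ∑ y : F, f y = f y₀ * ∑ y : F, f y := by
        rw [Finset.mul_sum]
        calc ∑ y : F, f y = ∑ y : F, f (y₀ + y) :=
              (Equiv.sum_comp (Equiv.addLeft y₀) f).symm
          _ = ∑ y : F, f y₀ * f y := Finset.sum_congr rfl (fun y _ => fadd _ _)
      have h4 : (f y₀ - 1) * ∑ y : F, f y = 0 := by rw [sub_mul, one_mul, ← h3, sub_self]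
      rcases mul_eq_zero.1 h4 with h5 | h5
      · exact absurd (sub_eq_zero.1 h5) hy₀
      · exact h5
    constructor
    · have h3 : ∀ y : F, (φ : Helper60.Uo hF → ℂ) (uoE hF 0 y) =
          f y * (φ : Helper60.Uo hF → ℂ) (uoE hF 0 0) := by
        intro y
        have h4 := hφ 0 0 y
        rwa [zero_add] at h4
      rw [Finset.sum_congr rfl (fun y _ => h3 y), ← Finset.sum_mul, hsum, zero_mul]
    · -- vanishing
      have hvan : ∀ a b c : F, (φ : Helper60.Uo hF → ℂ) (uoE hF a b) ≠ 0 →
          f (szS F m a * c + szS F m c * a) = 1 := by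
        intro a b c hne
        have h3 := Helper76.irr_conj φ (uoE hF a b) (uoE hF c 0)
        rw [uoE_conj, hφ] at h3
        have h4 : (f (szS F m a * c + szS F m c * a) - 1) *
            (φ : Helper60.Uo hF → ℂ) (uoE hF a b) = 0 := by
          rw [sub_mul, one_mul, h3, sub_self]
        rcases mul_eq_zero.1 h4 with h5 | h5
        · exact sub_eq_zero.1 h5
        · exact absurd h5 hne
      have hsurj : Function.Surjective (szS F m) :=
        Finite.injective_iff_surjective.1 (szS F m).injective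
      have huniq : ∀ a a' : F, a ≠ 0 → a' ≠ 0 →
          (∀ c, f (szS F m a * c + szS F m c * a) = 1) →
          (∀ c, f (szS F m a' * c + szS F m c * a') = 1) → a' = a := by
        intro a a' ha ha' h3 h4
        obtain ⟨ρ, hρ⟩ : ∃ ρ : F, a' = ρ * a := ⟨a' * a⁻¹, by field_simp⟩
        have h5 : ∀ c, f ((ρ ^ 2 + ρ) * a * szS F m c) = 1 := by
          intro c
          have e1 : f (szS F m a' * c) = f (szS F m c * a') := feq _ _ (h4 c)
          have e2 : f (szS F m a * (szS F m ρ * c)) = f (szS F m (szS F m ρ * c) * a) :=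
            feq _ _ (h3 (szS F m ρ * c))
          have e3 : szS F m a' * c = szS F m a * (szS F m ρ * c) := by
            rw [hρ, map_mul]
            ring
          have e4 : szS F m (szS F m ρ * c) * a = ρ ^ 2 * a * szS F m c := by
            rw [map_mul, szS_szS hF]
            ring
          have e5 : szS F m c * a' = ρ * a * szS F m c := by
            rw [hρ]
            ring
          rw [e3, e2, e4, e5] at e1
          have e6 : (ρ ^ 2 + ρ) * a * szS F m c = ρ ^ 2 * a * szS F m c + ρ * a * szS F m c := by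
            ring
          rw [e6, fadd, e1, fsq]
        have h6 : ρ ^ 2 + ρ = 0 := by
          by_contra hne
          apply hy₀
          obtain ⟨c, hc'⟩ := hsurj (y₀ * ((ρ ^ 2 + ρ) * a)⁻¹)
          have h7 := h5 c
          rw [hc'] at h7
          have hκ : (ρ ^ 2 + ρ) * a ≠ 0 := mul_ne_zero hne ha
          have h8 : (ρ ^ 2 + ρ) * a * (y₀ * ((ρ ^ 2 + ρ) * a)⁻¹) = y₀ := by
            rw [mul_comm y₀, ← mul_assoc, mul_inv_cancel₀ hκ, one_mul]
          rwa [h8] at h7
        have h7 : ρ * (ρ + 1) = 0 := by linear_combination h6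
        rcases mul_eq_zero.1 h7 with h8 | h8
        · exfalso
          apply ha'
          rw [hρ, h8, zero_mul]
        · have h9 : ρ = 1 := by linear_combination h8 - h2
          rw [hρ, h9, one_mul]
      have hsupp : ∃ a₀ : F, ∀ a b : F, (φ : Helper60.Uo hF → ℂ) (uoE hF a b) ≠ 0 →
          a = 0 ∨ a = a₀ := by
        by_cases hex : ∃ a b : F, a ≠ 0 ∧ (φ : Helper60.Uo hF → ℂ) (uoE hF a b) ≠ 0
        · obtain ⟨a₀, b₀, ha₀, hb₀⟩ := hex
          refine ⟨a₀, fun a b hab => ?_⟩
          by_cases ha : a = 0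
          · left; exact ha
          · right
            exact huniq a₀ a ha₀ ha (fun c => hvan a₀ b₀ c hb₀) (fun c => hvan a b c hab)
        · refine ⟨0, fun a b hab => ?_⟩
          left
          by_contra ha
          exact hex ⟨a, b, ha, hab⟩
      obtain ⟨a₀, ha₀⟩ := hsupp
      -- the norm
      have hnorm := Helper15.irr_inner_self φ.2
      unfold Cfsg.classInner at hnorm
      have hU : (Nat.card (Helper60.Uo hF) : ℂ) ≠ 0 := by exact_mod_cast Nat.card_pos.ne'
      have hnorm2 : ∑ u : Helper60.Uo hF, (φ : Helper60.Uo hF → ℂ) u *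
          conj ((φ : Helper60.Uo hF → ℂ) u) = (Nat.card (Helper60.Uo hF) : ℂ) := by
        rw [inv_mul_eq_iff_eq_mul₀ hU, mul_one] at hnorm
        exact hnorm
      have hnorm3 : ∑ u : Helper60.Uo hF, ‖(φ : Helper60.Uo hF → ℂ) u‖ ^ 2 =
          (Nat.card (Helper60.Uo hF) : ℝ) := by
        apply Complex.ofReal_injective
        rw [Complex.ofReal_sum, Complex.ofReal_natCast, ← hnorm2]
        refine Finset.sum_congr rfl fun u _ => ?_
        rw [Complex.mul_conj']
        push_cast
        rfl
      rw [uo_sumR hF] at hnorm3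
      set d := Cfsg.charDegree (φ : Helper60.Uo hF → ℂ) with hd
      have hbound : ∀ u : Helper60.Uo hF, ‖(φ : Helper60.Uo hF → ℂ) u‖ ^ 2 ≤ (d : ℝ) ^ 2 := by
        intro u
        have h3 := Helper80.isCharacter_norm_le (Helper80.isCharacter_of_irr φ.2) u
        have h4 : 0 ≤ ‖(φ : Helper60.Uo hF → ℂ) u‖ := norm_nonneg _
        exact pow_le_pow_left₀ h4 h3 2
      have hq : (0 : ℝ) ≤ (Fintype.card F : ℝ) * (d : ℝ) ^ 2 := by positivity
      have hinner : ∀ a : F, ∑ b : F, ‖(φ : Helper60.Uo hF → ℂ) (uoE hF a b)‖ ^ 2 ≤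
          (if a = 0 then (Fintype.card F : ℝ) * (d : ℝ) ^ 2 else 0) +
          (if a = a₀ then (Fintype.card F : ℝ) * (d : ℝ) ^ 2 else 0) := by
        intro a
        by_cases ha : a = 0 ∨ a = a₀
        · have h3 : ∑ b : F, ‖(φ : Helper60.Uo hF → ℂ) (uoE hF a b)‖ ^ 2 ≤
              (Fintype.card F : ℝ) * (d : ℝ) ^ 2 := by
            calc ∑ b : F, ‖(φ : Helper60.Uo hF → ℂ) (uoE hF a b)‖ ^ 2
                ≤ ∑ _b : F, (d : ℝ) ^ 2 := Finset.sum_le_sum (fun b _ => hbound _)
              _ = (Fintype.card F : ℝ) * (d : ℝ) ^ 2 := by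
                rw [Finset.sum_const, Finset.card_univ, nsmul_eq_mul]
          rcases ha with ha | ha
          · rw [if_pos ha]
            by_cases ha' : a = a₀
            · rw [if_pos ha']; linarith
            · rw [if_neg ha']; linarith
          · rw [if_pos ha]
            by_cases ha' : a = 0
            · rw [if_pos ha']; linarith
            · rw [if_neg ha']; linarith
        · push Not at ha
          rw [if_neg ha.1, if_neg ha.2]
          have h3 : ∑ b : F, ‖(φ : Helper60.Uo hF → ℂ) (uoE hF a b)‖ ^ 2 = 0 := by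
            apply Finset.sum_eq_zero
            intro b _
            have h4 : (φ : Helper60.Uo hF → ℂ) (uoE hF a b) = 0 := by
              by_contra hne
              rcases ha₀ a b hne with h5 | h5
              · exact ha.1 h5
              · exact ha.2 h5
            rw [h4]
            simp
          rw [h3]
          simp
      have htotal : (Nat.card (Helper60.Uo hF) : ℝ) ≤
          2 * ((Fintype.card F : ℝ) * (d : ℝ) ^ 2) := by
        rw [← hnorm3]
        calc ∑ a : F, ∑ b : F, ‖(φ : Helper60.Uo hF → ℂ) (uoE hF a b)‖ ^ 2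
            ≤ ∑ a : F, ((if a = 0 then (Fintype.card F : ℝ) * (d : ℝ) ^ 2 else 0) +
                (if a = a₀ then (Fintype.card F : ℝ) * (d : ℝ) ^ 2 else 0)) :=
              Finset.sum_le_sum (fun a _ => hinner a)
          _ = 2 * ((Fintype.card F : ℝ) * (d : ℝ) ^ 2) := by
              rw [Finset.sum_add_distrib, Finset.sum_ite_eq' Finset.univ (0 : F),
                Finset.sum_ite_eq' Finset.univ a₀]
              simp
              ring
      rw [Helper60.card_Uo] at htotal
      have hqpos : (0 : ℝ) < (Fintype.card F : ℝ) := by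
        exact_mod_cast Fintype.card_pos
      have h3 : (Fintype.card F : ℝ) ≤ 2 * (d : ℝ) ^ 2 := by
        push_cast at htotal
        have h4 : (Fintype.card F : ℝ) * (Fintype.card F : ℝ) ≤
            (Fintype.card F : ℝ) * (2 * (d : ℝ) ^ 2) := by nlinarith
        exact le_of_mul_le_mul_left h4 hqpos
      have h4 : Fintype.card F ≤ 2 * d ^ 2 := by exact_mod_cast h3
      rw [hF] at h4
      have h5 : (2 ^ m) ^ 2 ≤ d ^ 2 := by
        have e : 2 ^ (2 * m + 1) = 2 * (2 ^ m) ^ 2 := by ring
        omega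
      have h6 : 2 ^ m ≤ d := by
        by_contra hlt
        push Not at hlt
        have : d ^ 2 < (2 ^ m) ^ 2 := Nat.pow_lt_pow_left hlt (by norm_num)
        omega
      have h7 : d ∣ Nat.card (Helper60.Uo hF) := Helper81.charDegree_dvd_card φ
      rw [uo_card] at h7
      obtain ⟨k, -, hk⟩ := (Nat.dvd_prime_pow Nat.prime_two).1 h7
      rw [hk] at h6 ⊢
      exact pow_dvd_pow 2 ((Nat.pow_le_pow_iff_right (by norm_num)).1 h6)

end SzCh11

end Cfsg.Agent.Helper6
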