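import Mathlib
import Cfsg.Agent.Helper6.SzCh11

/-!
# Generalized characters of the Sylow `2`-subgroup of the Suzuki group
-/

set_option autoImplicit false

namespace Cfsg.Agent.Helper6

open scoped ComplexConjugate
open Classical

universe v

section SzCh12

variable {F : Type v} [Field F] [Fintype F] {m : ℕ} [CharP F 2]
variable (hF : Fintype.card F = 2 ^ (2 * m + 1))

/-- the centre of the translation subgroup -/
def szZs : Subgroup (Cfsg.Sz F m) where
  carrier := {g | ∃ b : F, g = Helper60.tG hF 0 b}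
  mul_mem' := by
    rintro g h ⟨b, rfl⟩ ⟨b', rfl⟩
    exact ⟨b + b', by rw [Helper60.tG_mul]; simp⟩
  one_mem' := ⟨0, (Helper60.tG_zero hF).symm⟩
  inv_mem' := by
    rintro g ⟨b, rfl⟩
    exact ⟨b, by rw [Helper60.tG_inv]; simp⟩

theorem mem_szZs_iff (a b : F) : Helper60.tG hF a b ∈ szZs hF ↔ a = 0 := by
  constructor
  · rintro ⟨b', h⟩
    exact (Helper60.tG_inj hF h).1
  · rintro rfl
    exact ⟨b, rfl⟩

theorem szZs_le : szZs hF ≤ Helper60.Uo hF := by
  rintro g ⟨b, rfl⟩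
  exact Helper60.tG_mem_Uo hF 0 b

theorem szZs_card : Nat.card (szZs hF) = Fintype.card F := by
  have e : F ≃ szZs hF := Equiv.ofBijective (fun b => ⟨Helper60.tG hF 0 b, ⟨b, rfl⟩⟩) ⟨by
      intro b b' h
      exact (Helper60.tG_inj hF (congrArg Subtype.val h)).2, by
      rintro ⟨g, b, rfl⟩
      exact ⟨b, rfl⟩⟩
  rw [← Nat.card_congr e, Nat.card_eq_fintype_card]

theorem uo_mem_szZs_iff (u : Helper60.Uo hF) : (u : Cfsg.Sz F m) ∈ szZs hF ↔ uoA hF u = 0 := by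
  obtain ⟨a, b, rfl⟩ := uoE_surj hF u
  rw [uoA_uoE]
  exact mem_szZs_iff hF a b

/-- the function with value `q` on the centre and `0` elsewhere -/
noncomputable def uoZf : Helper60.Uo hF → ℂ :=
  fun u => if uoA hF u = 0 then (Fintype.card F : ℂ) else 0

theorem uoZf_cl : Cfsg.IsClassFunction (Helper60.Uo hF) (uoZf hF) := by
  intro g h
  obtain ⟨a, b, rfl⟩ := uoE_surj hF g
  obtain ⟨c, d, rfl⟩ := uoE_surj hF h
  rw [uoE_conj]
  unfold uoZf
  rw [uoA_uoE, uoA_uoE]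

theorem uoZf_inner [Fintype (Helper60.Uo hF)] (φ : Helper60.Uo hF → ℂ) :
    Cfsg.classInner (uoZf hF) φ =
      (Fintype.card F : ℂ)⁻¹ * conj (∑ y : F, φ (uoE hF 0 y)) := by
  unfold Cfsg.classInner
  rw [uo_sum hF, Helper60.card_Uo]
  have h1 : ∀ a : F, ∑ b : F, uoZf hF (uoE hF a b) * conj (φ (uoE hF a b)) =
      if a = 0 then (Fintype.card F : ℂ) * conj (∑ y : F, φ (uoE hF 0 y)) else 0 := by
    intro a
    unfold uoZf
    simp only [uoA_uoE]
    by_cases ha : a = 0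
    · subst ha
      simp only [if_true]
      rw [map_sum, Finset.mul_sum]
    · simp [ha]
  rw [Finset.sum_congr rfl (fun a _ => h1 a), Finset.sum_ite_eq' Finset.univ (0 : F)]
  have hq : (Fintype.card F : ℂ) ≠ 0 := by exact_mod_cast Fintype.card_ne_zero
  simp only [Finset.mem_univ, if_true]
  push_cast
  field_simp

/-- the inner products of `uoZf` with irreducible characters -/
theorem uoZf_irr [Fintype (Helper60.Uo hF)] (φ : Cfsg.IrrCharacter (Helper60.Uo hF)) :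
    Cfsg.classInner (uoZf hF) (φ : Helper60.Uo hF → ℂ) =
        (Cfsg.charDegree (φ : Helper60.Uo hF → ℂ) : ℂ) ∨
      (Cfsg.classInner (uoZf hF) (φ : Helper60.Uo hF → ℂ) = 0 ∧
        2 ^ m ∣ Cfsg.charDegree (φ : Helper60.Uo hF → ℂ)) := by
  have hq : (Fintype.card F : ℂ) ≠ 0 := by exact_mod_cast Fintype.card_ne_zero
  rcases uo_irr_cases hF φ with h | ⟨h1, h2⟩
  · left
    rw [uoZf_inner]
    have h3 : ∀ y : F, (φ : Helper60.Uo hF → ℂ) (uoE hF 0 y) =
        (Cfsg.charDegree (φ : Helper60.Uo hF → ℂ) : ℂ) := by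
      intro y
      have h4 := h 0 0 y
      rw [zero_add, uoE_zero, Helper80.irr_one_eq] at h4
      exact h4
    rw [Finset.sum_congr rfl (fun y _ => h3 y), Finset.sum_const, Finset.card_univ,
      nsmul_eq_mul, map_mul, Complex.conj_natCast, Complex.conj_natCast, ← mul_assoc,
      inv_mul_cancel₀ hq, one_mul]
  · right
    refine ⟨?_, h2⟩
    rw [uoZf_inner, h1, map_zero, mul_zero]

theorem uoZf_gen : uoZf hF ∈ Helper73.genSpanZ (Helper60.Uo hF) := by
  let _ : Fintype (Helper60.Uo hF) := Fintype.ofFinite _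
  apply Helper73.mem_genSpanZ_of_classInner_int (uoZf_cl hF)
  intro φ
  rcases uoZf_irr hF φ with h | ⟨h, -⟩
  · exact ⟨(Cfsg.charDegree (φ : Helper60.Uo hF → ℂ) : ℤ), by rw [h]; simp⟩
  · exact ⟨0, by rw [h]; simp⟩

/-- the sum of the irreducible characters nontrivial on the centre -/
noncomputable def uoTf : Helper60.Uo hF → ℂ :=
  (((2 ^ m : ℕ) : ℂ)⁻¹) • ((Nat.card (Helper60.Uo hF) : ℂ) • chDelta (Helper60.Uo hF) +
    (-1 : ℂ) • uoZf hF)

theorem uoTf_gen : uoTf hF ∈ Helper73.genSpanZ (Helper60.Uo hF) := by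
  let _ : Fintype (Helper60.Uo hF) := Fintype.ofFinite _
  have hcl : Cfsg.IsClassFunction (Helper60.Uo hF) (uoTf hF) := by
    unfold uoTf
    exact h6_cf_smul _ (h6_cf_add (h6_cf_smul _ chDelta_isClassFunction)
      (h6_cf_smul _ (uoZf_cl hF)))
  apply Helper73.mem_genSpanZ_of_classInner_int hcl
  intro φ
  have hU : (Nat.card (Helper60.Uo hF) : ℂ) ≠ 0 := by exact_mod_cast Nat.card_pos.ne'
  have hs : ((2 ^ m : ℕ) : ℂ) ≠ 0 := by
    have : (2 ^ m : ℕ) ≠ 0 := by positivity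
    exact_mod_cast this
  have key : Cfsg.classInner (uoTf hF) (φ : Helper60.Uo hF → ℂ) =
      ((2 ^ m : ℕ) : ℂ)⁻¹ * ((Cfsg.charDegree (φ : Helper60.Uo hF → ℂ) : ℂ) -
        Cfsg.classInner (uoZf hF) (φ : Helper60.Uo hF → ℂ)) := by
    unfold uoTf
    rw [Helper15.classInner_smul_left, Helper15.classInner_add_left,
      Helper15.classInner_smul_left, Helper15.classInner_smul_left, classInner_chDelta,
      Helper80.irr_one_eq, Complex.conj_natCast, ← mul_assoc, mul_inv_cancel₀ hU]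
    ring
  rcases uoZf_irr hF φ with h | ⟨h, hdvd⟩
  · exact ⟨0, by rw [key, h]; simp⟩
  · obtain ⟨k, hk⟩ := hdvd
    refine ⟨(k : ℤ), ?_⟩
    rw [key, h, hk, sub_zero]
    push_cast
    field_simp

include hF in
omit [Field F] [CharP F 2] in
theorem sz_q_cast :
    (Fintype.card F : ℂ) = 2 * ((2 ^ m : ℕ) : ℂ) ^ 2 := by
  rw [hF]
  push_cast
  ring

theorem uo_genZ : ∃ θ : Helper60.Uo hF → ℂ, θ ∈ Helper73.genSpanZ (Helper60.Uo hF) ∧
    (∀ u : Helper60.Uo hF, (u : Cfsg.Sz F m) ∈ szZs hF → θ u = 2 * ((2 ^ m : ℕ) : ℂ) ^ 2) ∧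
    (∀ u : Helper60.Uo hF, (u : Cfsg.Sz F m) ∉ szZs hF → θ u = 0) := by
  refine ⟨uoZf hF, uoZf_gen hF, ?_, ?_⟩
  · intro u hu
    rw [uo_mem_szZs_iff] at hu
    unfold uoZf
    rw [if_pos hu, sz_q_cast hF]
  · intro u hu
    rw [uo_mem_szZs_iff] at hu
    unfold uoZf
    rw [if_neg hu]

theorem uo_genT : ∃ θ : Helper60.Uo hF → ℂ, θ ∈ Helper73.genSpanZ (Helper60.Uo hF) ∧
    θ 1 = 2 * ((2 ^ m : ℕ) : ℂ) * (2 * ((2 ^ m : ℕ) : ℂ) ^ 2 - 1) ∧
    (∀ u : Helper60.Uo hF, u ≠ 1 → (u : Cfsg.Sz F m) ∈ szZs hF →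
      θ u = -(2 * ((2 ^ m : ℕ) : ℂ))) ∧
    (∀ u : Helper60.Uo hF, (u : Cfsg.Sz F m) ∉ szZs hF → θ u = 0) := by
  have hs : ((2 ^ m : ℕ) : ℂ) ≠ 0 := by
    have : (2 ^ m : ℕ) ≠ 0 := by positivity
    exact_mod_cast this
  have hcard : (Nat.card (Helper60.Uo hF) : ℂ) = (2 * ((2 ^ m : ℕ) : ℂ) ^ 2) ^ 2 := by
    rw [Helper60.card_Uo, Nat.cast_pow, sz_q_cast hF]
  refine ⟨uoTf hF, uoTf_gen hF, ?_, ?_, ?_⟩
  · have h1 : uoA hF (1 : Helper60.Uo hF) = 0 := by
      rw [← uoE_zero hF, uoA_uoE]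
    unfold uoTf uoZf
    simp only [Pi.smul_apply, Pi.add_apply, smul_eq_mul, chDelta_one, h1, if_true]
    rw [hcard, sz_q_cast hF]
    field_simp
    ring
  · intro u hu hz
    rw [uo_mem_szZs_iff] at hz
    unfold uoTf uoZf
    simp only [Pi.smul_apply, Pi.add_apply, smul_eq_mul, chDelta_of_ne hu, hz, if_true]
    rw [sz_q_cast hF]
    field_simp
    ring
  · intro u hz
    have hu : u ≠ 1 := by
      intro h
      apply hz
      rw [h]
      exact (szZs hF).one_mem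
    rw [uo_mem_szZs_iff] at hz
    unfold uoTf uoZf
    simp only [Pi.smul_apply, Pi.add_apply, smul_eq_mul, chDelta_of_ne hu, if_neg hz]
    ring

end SzCh12

end Cfsg.Agent.Helper6
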