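import Mathlib
import Cfsg.Agent.Helper6.SzCh12
import Cfsg.Agent.Helper6.SzFix

/-!
# The Suzuki-type partition of the Suzuki group
-/

set_option autoImplicit false

namespace Cfsg.Agent.Helper6

open scoped ComplexConjugate
open Classical

universe v

section SzCh13gen

variable {G : Type*} [Group G]

/-- a subgroup that is the centraliser of each of its non-identity elements is a TI-subgroup -/
theorem h6_ti_of_cent (H : Subgroup G)
    (hcent : ∀ z ∈ H, z ≠ 1 → Subgroup.centralizer ({z} : Set G) = H) :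
    Cfsg.IsTISubset (H : Set G) := by
  intro g hg x hx hgx
  by_contra hx1
  apply hg
  have h1 : g * x * g⁻¹ ≠ 1 := fun h => hx1 (conj_eq_one_iff.1 h)
  have h2 := hcent _ hgx h1
  rw [ti_cent_conj, hcent x hx hx1] at h2
  rw [Subgroup.mem_normalizer_iff_map_conj_eq]
  exact h2

end SzCh13gen

section SzCh13

variable {F : Type v} [Field F] [Fintype F] {m : ℕ} [CharP F 2]

theorem tG_conj_tG (hF : Fintype.card F = 2 ^ (2 * m + 1)) (c d a b : F) :
    Helper60.tG hF c d * Helper60.tG hF a b * (Helper60.tG hF c d)⁻¹ =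
      Helper60.tG hF a (b + (szS F m a * c + szS F m c * a)) :=
  congrArg Subtype.val (uoE_conj hF c d a b)

/-- the centraliser of a non-identity translation consists of translations -/
theorem sz_cent_Uo (hm : 1 ≤ m) (hF : Fintype.card F = 2 ^ (2 * m + 1)) :
    ∀ z ∈ Helper60.Uo hF, z ≠ 1 →
      Subgroup.centralizer ({z} : Set (Cfsg.Sz F m)) ≤ Helper60.Uo hF := by
  have h2 : (2 : F) = 0 := sz_two
  rintro z ⟨a, b, rfl⟩ hz1 c hc
  rw [Subgroup.mem_centralizer_singleton_iff] at hc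
  have hab : ¬ (a = 0 ∧ b = 0) := by
    rintro ⟨rfl, rfl⟩
    exact hz1 (Helper60.tG_zero hF)
  have hconj : Helper60.tG hF a b = c * Helper60.tG hF a b * c⁻¹ := by
    rw [hc]
    group
  have hcB := Helper60.Uo_TI hF hab hconj
  obtain ⟨c', d', t, rfl⟩ := (Helper60.mem_Bo_iff hF hm).1 hcB
  have e1 : Helper60.tG hF c' d' * Helper60.dG hF t * Helper60.tG hF a b *
      (Helper60.tG hF c' d' * Helper60.dG hF t)⁻¹ =
      Helper60.tG hF c' d' * (Helper60.dG hF t * Helper60.tG hF a b * (Helper60.dG hF t)⁻¹) *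
        (Helper60.tG hF c' d')⁻¹ := by group
  rw [e1, Helper60.dG_conj_tG, tG_conj_tG] at hconj
  obtain ⟨h3, h4⟩ := Helper60.tG_inj hF hconj
  have ht : t = 1 := by
    by_cases ha : a = 0
    · subst ha
      have hb : b ≠ 0 := fun hb => hab ⟨rfl, hb⟩
      simp only [mul_zero, map_zero, zero_mul, add_zero] at h4
      have h5 : (szS F m (t : F) * (t : F)) ^ 2 = 1 := by
        have h6 : (szS F m (t : F) ^ 2 * (t : F) ^ 2 - 1) * b = 0 := by
          linear_combination -h4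
        rcases mul_eq_zero.1 h6 with h7 | h7
        · linear_combination h7
        · exact absurd h7 hb
      have h6 : szS F m (t : F) * (t : F) = 1 := by
        have h7 : (szS F m (t : F) * (t : F) - 1) ^ 2 = 0 := by
          linear_combination h5 - (szS F m (t : F) * (t : F)) * h2 + h2
        exact sub_eq_zero.1 ((pow_eq_zero_iff two_ne_zero).1 h7)
      have h7 : szS F m (t : F) * (t : F) = szS F m 1 * 1 := by
        rw [map_one, mul_one]
        exact h6
      exact Units.ext (sz_sigma_mul_inj hF h7)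
    · have h5 : ((t : F) ^ 2 - 1) * a = 0 := by linear_combination -h3
      rcases mul_eq_zero.1 h5 with h6 | h6
      · have h7 : ((t : F) - 1) ^ 2 = 0 := by linear_combination h6 - (t : F) * h2 + h2
        exact Units.ext (sub_eq_zero.1 ((pow_eq_zero_iff two_ne_zero).1 h7))
      · exact absurd h6 ha
  rw [ht, Helper60.dG_one, mul_one]
  exact Helper60.tG_mem_Uo hF c' d'

theorem sz_ti_Uo (hm : 1 ≤ m) (hF : Fintype.card F = 2 ^ (2 * m + 1)) :
    Cfsg.IsTISubset ((Helper60.Uo hF : Subgroup (Cfsg.Sz F m)) : Set (Cfsg.Sz F m)) := by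
  intro g hg x hx hgx
  by_contra hx1
  apply hg
  rw [Helper60.normalizer_Uo hF hm]
  obtain ⟨a', b', rfl⟩ := hx
  obtain ⟨a, b, hab⟩ := hgx
  refine Helper60.Uo_TI hF ?_ hab.symm
  rintro ⟨rfl, rfl⟩
  rw [Helper60.tG_zero] at hab
  exact hx1 (conj_eq_one_iff.1 hab)

theorem sz_cent_DG (hm : 1 ≤ m) (hF : Fintype.card F = 2 ^ (2 * m + 1)) :
    ∀ z ∈ (szDG (m := m) hF).range, z ≠ 1 →
      Subgroup.centralizer ({z} : Set (Cfsg.Sz F m)) = (szDG hF).range := by
  rintro z ⟨t, rfl⟩ hz1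
  have ht : t ≠ 1 := by
    rintro rfl
    exact hz1 (map_one _)
  exact sz_centralizer_dG hm hF ht

theorem sz_pow_eq (m : ℕ) : 2 ^ (2 * m + 1) = 2 * (2 ^ m) ^ 2 := by ring

/-- the Suzuki group has a Suzuki-type partition -/
theorem sz_chData (hm : 1 ≤ m) (hF : Fintype.card F = 2 ^ (2 * m + 1))
    [Fintype (Cfsg.Sz F m)] : Nonempty (SzChData (Cfsg.Sz F m) (2 ^ m)) := by
  obtain ⟨g₁, g₂, hg₁, hg₂, hc₁, hc₂, hN₁, hN₂, hall⟩ := sz_tori_main hm hF
  have hti := szE_tiData hm hF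
  have hs2 : 2 ≤ 2 ^ m := by
    calc 2 = 2 ^ 1 := by norm_num
      _ ≤ 2 ^ m := Nat.pow_le_pow_right (by norm_num) hm
  have hcA : ∀ z ∈ Subgroup.centralizer ({g₁} : Set (Cfsg.Sz F m)), z ≠ 1 →
      Subgroup.centralizer ({z} : Set (Cfsg.Sz F m)) =
        Subgroup.centralizer ({g₁} : Set (Cfsg.Sz F m)) :=
    fun z hz hz1 => ti_cent_eq hti hg₁ hz hz1
  have hcB : ∀ z ∈ Subgroup.centralizer ({g₂} : Set (Cfsg.Sz F m)), z ≠ 1 →
      Subgroup.centralizer ({z} : Set (Cfsg.Sz F m)) =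
        Subgroup.centralizer ({g₂} : Set (Cfsg.Sz F m)) :=
    fun z hz hz1 => ti_cent_eq hti hg₂ hz hz1
  refine ⟨{
    U := Helper60.Uo hF
    Z := szZs hF
    D := (szDG hF).range
    A := Subgroup.centralizer ({g₁} : Set (Cfsg.Sz F m))
    B := Subgroup.centralizer ({g₂} : Set (Cfsg.Sz F m))
    hs := hs2
    cardG := ?_
    cardU := ?_
    cardZ := ?_
    cardD := ?_
    cardA := ?_
    cardB := ?_
    cardNU := ?_
    cardND := ?_
    cardNA := ?_
    cardNB := ?_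
    tiU := sz_ti_Uo hm hF
    tiD := h6_ti_of_cent _ (sz_cent_DG hm hF)
    tiA := h6_ti_of_cent _ hcA
    tiB := h6_ti_of_cent _ hcB
    ZU := szZs_le hF
    Znorm := ?_
    centU := sz_cent_Uo hm hF
    centD := fun z hz hz1 => le_of_eq (sz_cent_DG hm hF z hz hz1)
    centA := fun z hz hz1 => le_of_eq (hcA z hz hz1)
    centB := fun z hz hz1 => le_of_eq (hcB z hz hz1)
    commD := ?_
    commA := ?_
    commB := ?_
    cover := ?_
    genZ := uo_genZ hF
    genT := uo_genT hF }⟩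
  · rw [sz_card hm hF, hF, sz_pow_eq]
    ring
  · rw [Helper60.card_Uo, hF, sz_pow_eq]
    ring
  · rw [szZs_card, hF, sz_pow_eq]
  · rw [szDG_range_card, sz_pow_eq]
  · rw [hc₁, sz_pow_eq]
    ring
  · rw [hc₂, sz_pow_eq]
    congr 2
    ring
  · rw [Helper60.normalizer_Uo hF hm, card_Bo hm hF, hF, sz_pow_eq]
    ring
  · rw [sz_normalizer_D_card hm hF, sz_pow_eq]
  · rw [hN₁, hc₁, sz_pow_eq]
    ring
  · rw [hN₂, hc₂, sz_pow_eq]
    congr 3
    ring
  · intro x hx z hz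
    rw [Helper60.normalizer_Uo hF hm] at hx
    obtain ⟨c, d, t, rfl⟩ := (Helper60.mem_Bo_iff hF hm).1 hx
    obtain ⟨y, rfl⟩ := hz
    rw [Helper60.Bo_conj_center']
    exact ⟨_, rfl⟩
  · rintro ⟨a, s, rfl⟩ ⟨b, t, rfl⟩
    apply Subtype.ext
    show szDG hF s * szDG hF t = szDG hF t * szDG hF s
    rw [← map_mul, ← map_mul, mul_comm]
  · rintro ⟨a, ha⟩ ⟨b, hb⟩
    apply Subtype.ext
    exact hti.cent_comm g₁ hg₁ a b (Subgroup.mem_centralizer_singleton_iff.1 ha)
      (Subgroup.mem_centralizer_singleton_iff.1 hb)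
  · rintro ⟨a, ha⟩ ⟨b, hb⟩
    apply Subtype.ext
    exact hti.cent_comm g₂ hg₂ a b (Subgroup.mem_centralizer_singleton_iff.1 ha)
      (Subgroup.mem_centralizer_singleton_iff.1 hb)
  · intro g hg
    rcases sz_trichotomy hm hF hg with hE | ⟨y, a, b, hab, e⟩ | ⟨y, t, ht, e⟩
    · rcases hall g hE with h | h
      · obtain ⟨x, c, hc, hc1, rfl⟩ := (ti_mem_cl_iff hti hg₁).1 h
        refine ⟨x⁻¹, Or.inr (Or.inr (Or.inl ?_))⟩
        have e : x⁻¹ * (x * c * x⁻¹) * x⁻¹⁻¹ = c := by group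
        rw [e]
        exact hc
      · obtain ⟨x, c, hc, hc1, rfl⟩ := (ti_mem_cl_iff hti hg₂).1 h
        refine ⟨x⁻¹, Or.inr (Or.inr (Or.inr ?_))⟩
        have e : x⁻¹ * (x * c * x⁻¹) * x⁻¹⁻¹ = c := by group
        rw [e]
        exact hc
    · exact ⟨y, Or.inl (by rw [e]; exact Helper60.tG_mem_Uo hF a b)⟩
    · exact ⟨y, Or.inr (Or.inl (by rw [e]; exact ⟨t, rfl⟩))⟩

end SzCh13

end Cfsg.Agent.Helper6
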