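import Mathlib

/-!
# The arithmetic of the character degree graph of the Suzuki groups
-/

set_option autoImplicit false

namespace Cfsg.Agent.Helper6

section SzCh14

theorem szc_prime_two_pow {p k : ℕ} (hp : p.Prime) (h : p ∣ 2 ^ k) : p = 2 :=
  (Nat.prime_dvd_prime_iff_eq hp Nat.prime_two).1 (hp.dvd_of_dvd_pow h)

theorem szc_graph_num {m s D A₁ A₂ : ℕ} (hm : 1 ≤ m) (hs : s = 2 ^ m) (cd : Set ℕ)
    (hcd : cd = {1, 4 * s ^ 4, A₁ * A₂, D * A₂, D * A₁, s * D}) :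
    {p : ℕ | p.Prime ∧ ∃ d ∈ cd, p ∣ d} =
        {r : ℕ | r.Prime ∧ (r = 2 ∨ r ∣ D * (A₁ * A₂))} ∧
    ∀ r t : ℕ, (r ≠ t ∧ r.Prime ∧ t.Prime ∧ ∃ d ∈ cd, r * t ∣ d) ↔
      (r ≠ t ∧ r.Prime ∧ t.Prime ∧ ((r ∣ D * (A₁ * A₂) ∧ t ∣ D * (A₁ * A₂)) ∨
        (r = 2 ∧ t ∣ D) ∨ (t = 2 ∧ r ∣ D))) := by
  have h4 : 4 * s ^ 4 = 2 ^ (4 * m + 2) := by
    rw [hs]
    ring
  have h2s : 2 ∣ s := by
    rw [hs]
    exact dvd_pow_self 2 (by omega)
  have hmem : ∀ d : ℕ, d ∈ cd ↔ d = 1 ∨ d = 4 * s ^ 4 ∨ d = A₁ * A₂ ∨ d = D * A₂ ∨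
      d = D * A₁ ∨ d = s * D := by
    intro d
    rw [hcd]
    simp only [Set.mem_insert_iff, Set.mem_singleton_iff]
  have hsplit : ∀ p : ℕ, p.Prime → p ∣ D * (A₁ * A₂) → p ∣ D ∨ p ∣ A₁ ∨ p ∣ A₂ := by
    intro p hp h
    rcases (hp.dvd_mul).1 h with h | h
    · exact Or.inl h
    · rcases (hp.dvd_mul).1 h with h | h
      · exact Or.inr (Or.inl h)
      · exact Or.inr (Or.inr h)
  have hsD : ∀ p : ℕ, p.Prime → p ∣ s * D → p = 2 ∨ p ∣ D := by
    intro p hp h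
    rcases (hp.dvd_mul).1 h with h | h
    · left
      rw [hs] at h
      exact szc_prime_two_pow hp h
    · exact Or.inr h
  constructor
  · ext p
    simp only [Set.mem_ofPred_eq]
    constructor
    · rintro ⟨hp, d, hd, hpd⟩
      refine ⟨hp, ?_⟩
      rcases (hmem d).1 hd with rfl | rfl | rfl | rfl | rfl | rfl
      · exact absurd (Nat.dvd_one.1 hpd) hp.one_lt.ne'
      · left
        rw [h4] at hpd
        exact szc_prime_two_pow hp hpd
      · right
        exact dvd_mul_of_dvd_right hpd D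
      · right
        exact hpd.trans (mul_dvd_mul_left D (dvd_mul_left A₂ A₁))
      · right
        exact hpd.trans (mul_dvd_mul_left D (dvd_mul_right A₁ A₂))
      · rcases hsD p hp hpd with h | h
        · exact Or.inl h
        · exact Or.inr (dvd_mul_of_dvd_left h _)
    · rintro ⟨hp, h | h⟩
      · refine ⟨hp, 4 * s ^ 4, (hmem _).2 (Or.inr (Or.inl rfl)), ?_⟩
        rw [h, h4]
        exact dvd_pow_self 2 (by omega)
      · refine ⟨hp, ?_⟩
        rcases hsplit p hp h with h | h | h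
        · exact ⟨D * A₂, (hmem _).2 (Or.inr (Or.inr (Or.inr (Or.inl rfl)))),
            dvd_mul_of_dvd_left h _⟩
        · exact ⟨D * A₁, (hmem _).2 (Or.inr (Or.inr (Or.inr (Or.inr (Or.inl rfl))))),
            dvd_mul_of_dvd_right h _⟩
        · exact ⟨D * A₂, (hmem _).2 (Or.inr (Or.inr (Or.inr (Or.inl rfl)))),
            dvd_mul_of_dvd_right h _⟩
  · intro r t
    constructor
    · rintro ⟨hne, hr, ht, d, hd, hrt⟩
      refine ⟨hne, hr, ht, ?_⟩
      have hrd : r ∣ d := (dvd_mul_right r t).trans hrt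
      have htd : t ∣ d := (dvd_mul_left t r).trans hrt
      rcases (hmem d).1 hd with rfl | rfl | rfl | rfl | rfl | rfl
      · exact absurd (Nat.dvd_one.1 hrd) hr.one_lt.ne'
      · exfalso
        rw [h4] at hrd htd
        exact hne ((szc_prime_two_pow hr hrd).trans (szc_prime_two_pow ht htd).symm)
      · left
        exact ⟨dvd_mul_of_dvd_right hrd D, dvd_mul_of_dvd_right htd D⟩
      · left
        exact ⟨hrd.trans (mul_dvd_mul_left D (dvd_mul_left A₂ A₁)),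
          htd.trans (mul_dvd_mul_left D (dvd_mul_left A₂ A₁))⟩
      · left
        exact ⟨hrd.trans (mul_dvd_mul_left D (dvd_mul_right A₁ A₂)),
          htd.trans (mul_dvd_mul_left D (dvd_mul_right A₁ A₂))⟩
      · rcases hsD r hr hrd with h | h
        · rcases hsD t ht htd with h' | h'
          · exact absurd (h.trans h'.symm) hne
          · exact Or.inr (Or.inl ⟨h, h'⟩)
        · rcases hsD t ht htd with h' | h'
          · exact Or.inr (Or.inr ⟨h', h⟩)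
          · exact Or.inl ⟨dvd_mul_of_dvd_left h _, dvd_mul_of_dvd_left h' _⟩
    · rintro ⟨hne, hr, ht, h⟩
      refine ⟨hne, hr, ht, ?_⟩
      have hcop : Nat.Coprime r t := (Nat.coprime_primes hr ht).2 hne
      rcases h with ⟨h1, h2⟩ | ⟨h1, h2⟩ | ⟨h1, h2⟩
      · rcases hsplit r hr h1 with h | h | h
        · rcases hsplit t ht h2 with h' | h' | h'
          · exact ⟨D * A₂, (hmem _).2 (Or.inr (Or.inr (Or.inr (Or.inl rfl)))),
              hcop.mul_dvd_of_dvd_of_dvd (dvd_mul_of_dvd_left h _) (dvd_mul_of_dvd_left h' _)⟩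
          · exact ⟨D * A₁, (hmem _).2 (Or.inr (Or.inr (Or.inr (Or.inr (Or.inl rfl))))),
              hcop.mul_dvd_of_dvd_of_dvd (dvd_mul_of_dvd_left h _) (dvd_mul_of_dvd_right h' _)⟩
          · exact ⟨D * A₂, (hmem _).2 (Or.inr (Or.inr (Or.inr (Or.inl rfl)))),
              hcop.mul_dvd_of_dvd_of_dvd (dvd_mul_of_dvd_left h _) (dvd_mul_of_dvd_right h' _)⟩
        · rcases hsplit t ht h2 with h' | h' | h'
          · exact ⟨D * A₁, (hmem _).2 (Or.inr (Or.inr (Or.inr (Or.inr (Or.inl rfl))))),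
              hcop.mul_dvd_of_dvd_of_dvd (dvd_mul_of_dvd_right h _) (dvd_mul_of_dvd_left h' _)⟩
          · exact ⟨D * A₁, (hmem _).2 (Or.inr (Or.inr (Or.inr (Or.inr (Or.inl rfl))))),
              hcop.mul_dvd_of_dvd_of_dvd (dvd_mul_of_dvd_right h _) (dvd_mul_of_dvd_right h' _)⟩
          · exact ⟨A₁ * A₂, (hmem _).2 (Or.inr (Or.inr (Or.inl rfl))),
              hcop.mul_dvd_of_dvd_of_dvd (dvd_mul_of_dvd_left h _) (dvd_mul_of_dvd_right h' _)⟩
        · rcases hsplit t ht h2 with h' | h' | h'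
          · exact ⟨D * A₂, (hmem _).2 (Or.inr (Or.inr (Or.inr (Or.inl rfl)))),
              hcop.mul_dvd_of_dvd_of_dvd (dvd_mul_of_dvd_right h _) (dvd_mul_of_dvd_left h' _)⟩
          · exact ⟨A₁ * A₂, (hmem _).2 (Or.inr (Or.inr (Or.inl rfl))),
              hcop.mul_dvd_of_dvd_of_dvd (dvd_mul_of_dvd_right h _) (dvd_mul_of_dvd_left h' _)⟩
          · exact ⟨D * A₂, (hmem _).2 (Or.inr (Or.inr (Or.inr (Or.inl rfl)))),
              hcop.mul_dvd_of_dvd_of_dvd (dvd_mul_of_dvd_right h _) (dvd_mul_of_dvd_right h' _)⟩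
      · refine ⟨s * D, (hmem _).2 (Or.inr (Or.inr (Or.inr (Or.inr (Or.inr rfl))))), ?_⟩
        rw [h1]
        exact mul_dvd_mul h2s h2
      · refine ⟨s * D, (hmem _).2 (Or.inr (Or.inr (Or.inr (Or.inr (Or.inr rfl))))), ?_⟩
        rw [h1, mul_comm]
        exact mul_dvd_mul h2s h2

theorem szc_factor {s : ℕ} (hs : 1 ≤ s) :
    (2 * s ^ 2) ^ 2 + 1 = (2 * s ^ 2 + 2 * s + 1) * (2 * s ^ 2 - 2 * s + 1) := by
  have h : 2 * s ≤ 2 * s ^ 2 := by nlinarith
  apply Nat.cast_injective (R := ℤ)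
  push_cast [Nat.cast_sub h]
  ring

end SzCh14

end Cfsg.Agent.Helper6
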